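import Mathlib

/-!
Weight spaces of families of endomorphisms; counting lemmas for lower bounds on the degrees of
representations in cross characteristic.
-/

set_option autoImplicit false

namespace Cfsg.Lib.Conj

open Module Polynomial

section Wt
variable {K M ι : Type*} [Field K] [AddCommGroup M] [Module K M]

/-- The weight space of a family of endomorphisms. -/
def wt (f : ι → End K M) (χ : ι → K) : Submodule K M := ⨅ i, (f i).eigenspace (χ i)

theorem mem_wt {f : ι → End K M} {χ : ι → K} {x : M} : x ∈ wt f χ ↔ ∀ i, f i x = χ i • x := by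
  simp [wt, Submodule.mem_iInf]

theorem wt_indep (f : ι → End K M) : iSupIndep (wt f) := by
  classical
  rw [iSupIndep_iff_finsetSum_eq_zero_imp_eq_zero]
  intro s
  induction s using Finset.induction_on with
  | empty => simp
  | insert a s ha ih =>
    intro v hv h0
    rw [Finset.sum_insert ha] at h0
    have h1 : ∀ χ ∈ s, v χ = 0 := by
      intro χ hχ
      obtain ⟨i, hi⟩ := Function.ne_iff.1 (ne_of_mem_of_not_mem hχ ha)
      have h2 := ih (fun c => (c i - a i) • v c)
        (fun c hc => Submodule.smul_mem _ _ (hv c (Finset.mem_insert_of_mem hc))) (by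
          have h3 := congrArg (f i - a i • (1 : End K M)) h0
          rw [map_add, map_sum, map_zero, LinearMap.sub_apply,
            mem_wt.1 (hv a (Finset.mem_insert_self _ _)) i] at h3
          simp only [LinearMap.smul_apply, End.one_apply, sub_self, zero_add] at h3
          rw [← h3]
          refine Finset.sum_congr rfl fun c hc => ?_
          rw [LinearMap.sub_apply, mem_wt.1 (hv c (Finset.mem_insert_of_mem hc)) i, sub_smul]
          rfl) χ hχ
      exact (smul_eq_zero.1 h2).resolve_left (sub_ne_zero.2 hi)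
    intro χ hχ
    rcases Finset.mem_insert.1 hχ with rfl | hχ
    · rwa [Finset.sum_eq_zero h1, add_zero] at h0
    · exact h1 χ hχ

theorem card_mul_le_finrank [FiniteDimensional K M] {J : Type*} [Finite J] {W : J → Submodule K M}
    (hW : iSupIndep W) {d : ℕ} (hd : ∀ j, d ≤ finrank K (W j)) : Nat.card J * d ≤ finrank K M := by
  classical
  let _ := Fintype.ofFinite J
  have h1 := LinearMap.finrank_le_finrank_of_injective hW.dfinsupp_lsum_injective
  have h2 : finrank K (Π₀ j, W j) = ∑ j, finrank K (W j) := finrank_directSum K fun j => W j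
  rw [h2] at h1
  refine le_trans ?_ h1
  rw [Nat.card_eq_fintype_card, ← Finset.card_univ, ← smul_eq_mul]
  exact Finset.card_nsmul_le_sum _ _ _ fun j _ => hd j

theorem card_mul_le_of_wt [FiniteDimensional K M] (f : ι → End K M) {J : Type*} [Finite J]
    {c : J → ι → K} (hc : Function.Injective c) {d : ℕ} (hd : ∀ j, d ≤ finrank K (wt f (c j))) :
    Nat.card J * d ≤ finrank K M :=
  card_mul_le_finrank ((wt_indep f).comp hc) hd

theorem iSup_wt [IsAlgClosed K] [FiniteDimensional K M] (f : ι → End K M)
    (hc : ∀ i j, Commute (f i) (f j)) {n : ℕ} (hn : (n : K) ≠ 0) (hf : ∀ i, f i ^ n = 1) :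
    ⨆ χ, wt f χ = ⊤ := by
  have hs : ∀ i, (f i).IsSemisimple := fun i =>
    End.isSemisimple_of_squarefree_aeval_eq_zero (separable_X_pow_sub_C 1 hn one_ne_zero).squarefree
      (by simp [hf])
  have h := End.iSup_iInf_maxGenEigenspace_eq_top_of_iSup_maxGenEigenspace_eq_top_of_commute f
    (fun i j _ => hc i j) fun i => End.iSup_maxGenEigenspace_eq_top _
  simpa only [wt, (hs _).isFinitelySemisimple.maxGenEigenspace_eq_eigenspace] using h

theorem exists_wt [IsAlgClosed K] [FiniteDimensional K M] (f : ι → End K M)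
    (hc : ∀ i j, Commute (f i) (f j)) {n : ℕ} (hn : (n : K) ≠ 0) (hf : ∀ i, f i ^ n = 1) {i : ι}
    (h : f i ≠ 1) : ∃ χ, wt f χ ≠ ⊥ ∧ χ i ≠ 1 := by
  by_contra! H
  refine h (LinearMap.ext fun x => ?_)
  have hx : x ∈ ⨆ χ, wt f χ := iSup_wt f hc hn hf ▸ Submodule.mem_top
  refine Submodule.iSup_induction _ (motive := fun x => f i x = (1 : End K M) x) hx
    (fun χ y hy => ?_) (by simp) fun y z hy hz => by rw [map_add, map_add, hy, hz]
  by_cases h0 : wt f χ = ⊥
  · rw [h0, Submodule.mem_bot] at hy; simp [hy]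
  · rw [mem_wt.1 hy i, H χ h0, one_smul]; rfl

/-- The Heisenberg bound. -/
theorem heis [FiniteDimensional K M] [Nontrivial M] {G J : Type*} [Group G] [Finite J]
    (R : G →* End K M) (a : J → G) (c : J → J → K)
    (h : ∀ s t, R (a s * a t * (a s)⁻¹) = c t s • R (a t)) (hc : Function.Injective c) :
    Nat.card J ≤ finrank K M ^ 2 := by
  let f : J → End K (End K M) := fun s => LinearMap.mulLeftRight K (R (a s), R (a s)⁻¹)
  have h1 := card_mul_le_of_wt f hc (d := 1) fun t => by
    rw [Nat.one_le_iff_ne_zero, Ne, Submodule.finrank_eq_zero, Submodule.eq_bot_iff]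
    intro H
    have h2 := H (R (a t)) (mem_wt.2 fun s => by
      rw [← h, map_mul, map_mul]; rfl)
    have h3 : R (a t) * R (a t)⁻¹ = 1 := by rw [← map_mul, mul_inv_cancel, map_one]
    rw [h2, zero_mul] at h3
    exact zero_ne_one h3
  rwa [mul_one, finrank_linearMap, ← sq] at h1

/-- Conjugate weights: the index of any overgroup of the stabiliser bounds the degree. -/
theorem index_mul_le [FiniteDimensional K M] {H : Type*} [Group H] [Finite H] [MulAction H ι]
    (R : H →* End K M) (f : ι → End K M) (hf : ∀ g i, R g * f i = f (g • i) * R g) (χ : ι → K)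
    (S : Subgroup H) (hS : ∀ g : H, (∀ i, χ (g • i) = χ i) → g ∈ S) :
    S.index * finrank K (wt f χ) ≤ finrank K M := by
  refine card_mul_le_of_wt f (J := H ⧸ S) (c := fun j i => χ (j.out⁻¹ • i)) (fun j k hjk => ?_)
    fun j => ?_
  · rw [← j.out_eq, ← k.out_eq]
    refine QuotientGroup.eq.2 (hS _ fun i => ?_)
    have := congrFun hjk (k.out • i)
    simpa [mul_smul] using this
  · refine LinearMap.finrank_le_finrank_of_injective
      (f := (R j.out).restrict (p := wt f χ) fun x hx => mem_wt.2 fun i => ?_) fun x y hxy => ?_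
    · have := LinearMap.congr_fun (hf j.out (j.out⁻¹ • i)) x
      rw [smul_inv_smul, End.mul_apply, End.mul_apply, mem_wt.1 hx, map_smul] at this
      exact this.symm
    · have h1 := congrArg (fun z => R j.out⁻¹ z) (congrArg Subtype.val hxy)
      simp only [LinearMap.restrict_coe_apply, ← End.mul_apply, ← map_mul, inv_mul_cancel,
        map_one, End.one_apply] at h1
      exact Subtype.ext h1

end Wt

/-- Double counting bound for the index of a subgroup. -/
theorem orbit_mul_le {H Y J : Type*} [Group H] [Finite H] [MulAction H Y] (S : Subgroup H) (y : Y)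
    (g : J → H) (hg : ∀ j, g j • y = y) (hi : ∀ i j, g i * (g j)⁻¹ ∈ S → i = j) {L : Set Y}
    (hL : L.Finite) (hS : ∀ s ∈ S, s • y ∈ L) :
    (MulAction.orbit H y).ncard * Nat.card J ≤ S.index * L.ncard := by
  set T := MulAction.stabilizer H y
  have h1 := Subgroup.relIndex_mul_index (inf_le_left : T ⊓ S ≤ T)
  have h2 := Subgroup.relIndex_mul_index (inf_le_right : T ⊓ S ≤ S)
  rw [Subgroup.inf_relIndex_left] at h1
  rw [Subgroup.inf_relIndex_right] at h2
  have h3 : T.relIndex S ≤ L.ncard := by
    have : T.subgroupOf S = MulAction.stabilizer S y := by ext; simp [T, Subgroup.mem_subgroupOf]; rfl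
    rw [Subgroup.relIndex, this, MulAction.index_stabilizer]
    refine Set.ncard_le_ncard ?_ hL
    rintro _ ⟨s, rfl⟩
    exact hS s.1 s.2
  have h4 : Nat.card J ≤ S.relIndex T := by
    refine Nat.card_le_card_of_injective (fun j => (QuotientGroup.mk ⟨(g j)⁻¹, inv_mem (hg j)⟩ :
      T ⧸ S.subgroupOf T)) fun i j hij => hi i j ?_
    simpa [Subgroup.mem_subgroupOf] using QuotientGroup.eq.1 hij
  rw [← MulAction.index_stabilizer]
  calc T.index * Nat.card J ≤ T.index * S.relIndex T := Nat.mul_le_mul_left _ h4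
    _ = S.index * T.relIndex S := by rw [mul_comm, h1, mul_comm, h2]
    _ ≤ _ := Nat.mul_le_mul_left _ h3

section Char
variable {F K : Type*} [Field F] [Finite F] [Field K]

theorem exists_mulShift {ψ : AddChar F K} (hψ : ψ ≠ 1) (φ : AddChar F K) :
    ∃ a, ∀ s, φ s = ψ (s * a) := by
  let _ := Fintype.ofFinite F
  have h1 := AddChar.to_mulShift_inj_of_isPrimitive (AddChar.IsPrimitive.of_ne_one hψ)
  have h2 := (linearIndependent_monoidHom (Multiplicative F) K).comp _
    (AddChar.toMonoidHomEquiv (A := F) (M := K)).injective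
  have := h2.finite
  have h3 := h2.cardinalMk_le_finrank
  rw [finrank_fintype_fun_eq_card, ← Nat.cast_card, Nat.cast_le, ← Nat.card_eq_fintype_card] at h3
  obtain ⟨a, ha⟩ := (h1.bijective_of_nat_card_le h3).2 φ
  exact ⟨a, fun s => by rw [← ha, mul_comm]; rfl⟩

omit [Finite F] in
theorem eq_of_addChar {ψ : AddChar F K} (hψ : ψ ≠ 1) {a b : F} (h : ∀ s, ψ (s * a) = ψ (s * b)) :
    a = b :=
  AddChar.to_mulShift_inj_of_isPrimitive (AddChar.IsPrimitive.of_ne_one hψ)
    (DFunLike.ext _ _ fun s => by simpa [mul_comm] using h s)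

omit [Finite F] in
theorem exists_symm_addChar {ψ : AddChar F K} (hψ : ψ ≠ 1) {σ : F →+* F} (hσ : ∀ a, σ (σ a) = a) :
    ∃ φ : AddChar F K, φ ≠ 1 ∧ ∀ a, φ (σ a) = φ a := by
  by_cases h : ∀ a, σ a = a
  · exact ⟨ψ, hψ, fun a => by rw [h]⟩
  have h1 : ∃ x, x + σ x ≠ 0 := by
    by_contra! H
    refine h fun a => ?_
    have h2 := H 1
    have h3 := H a
    rw [map_one] at h2
    linear_combination h3 - a * h2
  obtain ⟨x, hx⟩ := h1
  obtain ⟨t, ht⟩ := AddChar.ne_one_iff.1 hψ
  refine ⟨(ψ.mulShift (t / (x + σ x))).compAddMonoidHom (AddMonoidHom.id F + (σ : F →+ F)),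
    AddChar.ne_one_iff.2 ⟨x, ?_⟩, fun a => by simp [hσ, add_comm]⟩
  simpa [div_mul_cancel₀ _ hx] using ht

end Char

/-- A trivial irreducible representation has degree at most one. -/
theorem le_one_of_trivial {G K : Type*} [Group G] [Field K] {k : ℕ}
    {R : Representation K G (Fin k → K)} (hR : R.IsIrreducible) (h : ∀ g, R g = 1) : k ≤ 1 := by
  by_contra! hk
  let v : Fin k → K := Pi.single ⟨0, by omega⟩ 1
  have hv : v ≠ 0 := fun h => by simpa [v] using congrFun h ⟨0, by omega⟩
  let S : Subrepresentation R := ⟨Submodule.span K {v}, fun g u hu => by simpa [h] using hu⟩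
  rcases hR.eq_bot_or_eq_top S with h3 | h3
  · exact hv (Submodule.span_singleton_eq_bot.1 (congrArg Subrepresentation.toSubmodule h3))
  · have h4 := finrank_span_singleton (K := K) hv
    rw [show Submodule.span K {v} = ⊤ from congrArg Subrepresentation.toSubmodule h3] at h4
    simp at h4
    omega

end Cfsg.Lib.Conj
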