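import Cfsg.Agent.Lib.CAut.DescP
import Cfsg.Agent.Lib.CAut.DescL
import Cfsg.Agent.Lib.Core.PCore
import Cfsg.Agent.S0033

/-!
Local balance in almost simple classical groups: general tools.
-/

set_option autoImplicit false

namespace Cfsg.Lib.Conj

open Module Cfsg.Lib.Forms Cfsg.Lib.Forms.Form Cfsg.Lib.CAut Cfsg.Lib.CAut.Sem

section group
variable {A : Type*} [Group A] {p : ℕ} {I N : Subgroup A} {x : A}

/-- `N` is a `p'`-subgroup of `C(x)` normalised by `C_I(x)` -/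
structure Bal (p : ℕ) (I : Subgroup A) (x : A) (N : Subgroup A) : Prop where
  comm : ∀ y ∈ N, Commute y x
  cop : ∀ y ∈ N, (orderOf y).Coprime p
  nm : ∀ l ∈ I, Commute l x → ∀ y ∈ N, l * y * l⁻¹ ∈ N

theorem commute_conj_iff {K : Type*} [Group K] (hZ : Subgroup.center K = ⊥) {x : MulAut K} {k : K} :
    Commute (MulAut.conj k) x ↔ x k = k := by
  have h1 : x * MulAut.conj k * x⁻¹ = MulAut.conj (x k) := MulEquiv.ext fun y => by simp
  have h2 : Function.Injective (MulAut.conj : K → MulAut K) :=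
    (MonoidHom.ker_eq_bot_iff _).1 (by
      rw [eq_bot_iff, ← hZ]
      intro k hk
      refine Subgroup.mem_center_iff.2 fun g => ?_
      have := DFunLike.congr_fun (MonoidHom.mem_ker.1 hk) g
      simp only [MulAut.conj_apply, MulAut.one_apply] at this
      exact (mul_inv_eq_iff_eq_mul.1 this).symm)
  rw [← h2.eq_iff, ← h1, mul_inv_eq_iff_eq_mul, commute_iff_eq, eq_comm]

theorem orderOf_conj {K : Type*} [Group K] (hZ : Subgroup.center K = ⊥) (k : K) :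
    orderOf (MulAut.conj k) = orderOf k :=
  orderOf_injective _ ((MonoidHom.ker_eq_bot_iff _).1 (by
      rw [eq_bot_iff, ← hZ]
      intro k hk
      refine Subgroup.mem_center_iff.2 fun g => ?_
      have := DFunLike.congr_fun (MonoidHom.mem_ker.1 hk) g
      simp only [MulAut.conj_apply, MulAut.one_apply] at this
      exact (mul_inv_eq_iff_eq_mul.1 this).symm)) k

theorem bal_iff {K : Type*} [Group K] [Finite K] [Nontrivial K] (hZ : Subgroup.center K = ⊥)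
    {A : Subgroup (MulAut K)} (hinn : ∀ k : K, MulAut.conj k ∈ A) [hp : Fact p.Prime] {x : MulAut K}
    (hord : orderOf x = p) {P : Prop} (h1 : ¬ p ∣ Nat.card K → P)
    (h2 : (∃ y ∈ Inn K, Commute y x ∧ orderOf y = p) → ∀ N, Bal p (Inn K) x N → N = ⊥) :
    pPrimeCore p ↥(A ⊓ Subgroup.centralizer {x}) ≠ ⊥ ↔
      P ∧ Nat.Coprime p (Nat.card ↥(MonoidHom.eqLocus x.toMonoidHom (MonoidHom.id K))) := by
  haveI : Finite (MulAut K) := Finite.of_injective _ (DFunLike.coe_injective (F := K ≃* K))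
  rw [hp.out.coprime_iff_not_dvd]
  constructor
  · intro h
    have h3 : ¬ p ∣ Nat.card ↥(MonoidHom.eqLocus x.toMonoidHom (MonoidHom.id K)) := fun h3 => by
      obtain ⟨k, hk⟩ := exists_prime_orderOf_dvd_card' p h3
      refine h (Subgroup.map_eq_bot_iff_of_injective _ (Subgroup.subtype_injective _) |>.1
        (h2 ⟨_, ⟨k.1, rfl⟩, (commute_conj_iff hZ).2 k.2, by
          rw [orderOf_conj hZ, Subgroup.orderOf_coe, hk]⟩ _ ⟨?_, ?_, ?_⟩))
      · rintro _ ⟨y, -, rfl⟩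
        exact (Subgroup.mem_centralizer_singleton_iff.1 y.2.2)
      · rintro _ ⟨y, hy, rfl⟩
        rw [Subgroup.subtype_apply, Subgroup.orderOf_coe]
        exact (Core.coprime_card_pPrimeCore p _).coprime_dvd_left
          (Subgroup.orderOf_dvd_natCard _ hy)
      · rintro _ ⟨l, rfl⟩ hl _ ⟨y, hy, rfl⟩
        exact ⟨_, (inferInstance : (pPrimeCore p _).Normal).conj_mem y hy
          ⟨_, hinn l, Subgroup.mem_centralizer_singleton_iff.2 hl⟩, rfl⟩
    refine ⟨h1 fun h4 => h3 ?_, h3⟩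
    have h5 : IsPGroup p (Subgroup.zpowers x) := IsPGroup.of_card (n := 1) (by simp [hord])
    have h6 := (Nat.modEq_zero_iff_dvd).1 ((h5.card_modEq_card_fixedPoints K).symm.trans h4.modEq_zero_nat)
    convert h6 using 1
    refine Nat.card_congr (Equiv.subtypeEquivRight fun k => ⟨fun hk => ?_, fun hk => hk ⟨x, Subgroup.mem_zpowers x⟩⟩)
    rintro ⟨_, n, rfl⟩
    exact (commute_conj_iff hZ).1 (((commute_conj_iff hZ).2 hk).zpow_right n)
  · rintro ⟨-, h⟩ h3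
    have h4 := Core.eq_bot_of_pPrimeCore_eq_bot h3 (N := (Inn K).subgroupOf _) (by
      rw [Nat.coprime_comm, hp.out.coprime_iff_not_dvd]
      intro h4
      obtain ⟨y, hk⟩ := exists_prime_orderOf_dvd_card' p h4
      obtain ⟨k, h6⟩ : ∃ k, MulAut.conj k = y.1.1 := y.2
      have h5 := Subgroup.mem_centralizer_singleton_iff.1 y.1.2.2
      rw [← Subgroup.orderOf_coe, ← Subgroup.orderOf_coe, ← h6, orderOf_conj hZ] at hk
      rw [← h6] at h5
      exact h (hk ▸ Subgroup.orderOf_dvd_natCard _ ((commute_conj_iff hZ).1 h5)))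
    haveI := Cfsg.Agent.S0033.result x (fun k hk => by
      have h5 : (⟨_, hinn k, Subgroup.mem_centralizer_singleton_iff.2 ((commute_conj_iff hZ).2 hk)⟩ :
        ↥(A ⊓ Subgroup.centralizer {x})) ∈ (Inn K).subgroupOf _ := ⟨k, rfl⟩
      rw [h4, Subgroup.mem_bot, Subtype.ext_iff] at h5
      exact orderOf_eq_one_iff.1 ((orderOf_conj hZ k).symm.trans (orderOf_eq_one_iff.2 h5))) p hp.out hord
    exact Group.IsNilpotent.center_ne_bot K hZ

theorem Bal.conj (h : Bal p I x N) [hI : I.Normal] (α : A) :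
    Bal p I (α * x * α⁻¹) (N.map (MulAut.conj α).toMonoidHom) := by
  refine ⟨?_, ?_, ?_⟩
  · rintro _ ⟨y, hy, rfl⟩
    exact (h.comm y hy).map (MulAut.conj α)
  · rintro _ ⟨y, hy, rfl⟩
    exact ((MulAut.conj α).orderOf_eq y).symm ▸ h.cop y hy
  · rintro l hl hc _ ⟨y, hy, rfl⟩
    refine ⟨_, h.nm _ (hI.conj_mem l hl α⁻¹) ?_ y hy, by simp [mul_assoc]⟩
    simpa [mul_assoc] using hc.map (MulAut.conj α⁻¹)

/-- transport of the conclusion along conjugation -/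
theorem bal_of_conj [hI : I.Normal] {α : A}
    (h : (∃ y ∈ I, Commute y (α * x * α⁻¹) ∧ orderOf y = p) → ∀ N, Bal p I (α * x * α⁻¹) N → N = ⊥) :
    (∃ y ∈ I, Commute y x ∧ orderOf y = p) → ∀ N, Bal p I x N → N = ⊥ :=
  fun ⟨y, h1, h2, h3⟩ N hN => (Subgroup.map_eq_bot_iff_of_injective _ (MulAut.conj α).injective).1
    (h ⟨_, hI.conj_mem y h1 α, h2.map (MulAut.conj α), ((MulAut.conj α).orderOf_eq y).trans h3⟩ _
      (hN.conj α))

/-- a subgroup of `C_I(x)` normalised by `N ∩ I` and meeting `N` trivially -/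
structure Piece (I : Subgroup A) (x : A) (N L : Subgroup A) : Prop where
  le : L ≤ I
  comm : ∀ l ∈ L, Commute l x
  nm : ∀ y ∈ N, y ∈ I → ∀ l ∈ L, y * l * y⁻¹ ∈ L
  core : ∀ y ∈ N, y ∈ L → y = 1

theorem Bal.eq_bot (h : Bal p I x N) [hI : I.Normal] (S : Set (Subgroup A))
    (hS : ∀ L ∈ S, Piece I x N L) (hC : ∀ y ∈ N, (∀ L ∈ S, ∀ l ∈ L, Commute y l) → y = 1) : N = ⊥ := by
  have h1 : ∀ L ∈ S, ∀ y ∈ N, ∀ l ∈ L, y * l * y⁻¹ * l⁻¹ ∈ N := fun L hL y hy l hl => by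
    simpa only [mul_assoc] using
      mul_mem hy (h.nm l ((hS L hL).le hl) ((hS L hL).comm l hl) _ (inv_mem hy))
  have h2 : ∀ y ∈ N, y ∈ I → y = 1 := fun y hy hy' => hC y hy fun L hL l hl =>
    commutatorElement_eq_one_iff_commute.1 ((hS L hL).core _ (h1 L hL y hy l hl)
      (mul_mem ((hS L hL).nm y hy hy' l hl) (inv_mem hl)))
  exact eq_bot_iff.2 fun y hy => hC y hy fun L hL l hl =>
    commutatorElement_eq_one_iff_commute.1 (h2 _ (h1 L hL y hy l hl)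
      (mul_mem (hI.conj_mem l ((hS L hL).le hl) y) (inv_mem ((hS L hL).le hl))))

/-- the pull-back of `N` is normal -/
theorem Bal.normal_comap (h : Bal p I x N) {X : Type*} [Group X] {φ : X →* A} (h1 : ∀ g, φ g ∈ I)
    (h2 : ∀ g, Commute (φ g) x) : (N.comap φ).Normal :=
  ⟨fun n hn g => by simpa using h.nm _ (h1 g) (h2 g) _ hn⟩

theorem Bal.not_dvd (h : Bal p I x N) [hp : Fact p.Prime] {r k : ℕ} [hr : Fact r.Prime] (hpr : p ≠ r)
    {g : A} (hg : g ^ r ^ k ∈ N) : ¬ p ∣ orderOf g := fun h1 => by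
  have h2 : orderOf g ∣ r ^ k * orderOf (g ^ r ^ k) :=
    orderOf_dvd_of_pow_eq_one (by rw [pow_mul, pow_orderOf_eq_one])
  rcases (Nat.Prime.dvd_mul hp.out).1 (h1.trans h2) with h3 | h3
  · exact hpr ((Nat.prime_dvd_prime_iff_eq hp.out hr.out).1 (hp.out.dvd_of_dvd_pow h3))
  · exact hp.out.one_lt.ne' ((h.cop _ hg).symm.eq_one_of_dvd h3)

theorem exists_pow_mem_of_sup {X : Type*} [Group X] {M U : Subgroup X} [M.Normal] {r : ℕ}
    (hU : ∀ u ∈ U, ∃ k, u ^ r ^ k = 1) {g : X} (hg : g ∈ M ⊔ U) : ∃ k, g ^ r ^ k ∈ M := by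
  obtain ⟨m, hm, u, hu, rfl⟩ := Subgroup.mem_sup_of_normal_left.1 hg
  obtain ⟨k, hk⟩ := hU u hu
  refine ⟨k, (QuotientGroup.eq_one_iff _).1 ?_⟩
  rw [QuotientGroup.mk_pow, QuotientGroup.mk_mul, (QuotientGroup.eq_one_iff _).2 hm, one_mul,
    ← QuotientGroup.mk_pow, hk, QuotientGroup.mk_one]

theorem eq_one_of_pow_of_coprime {y : A} {n : ℕ} (h : y ^ n = 1) (hc : (orderOf y).Coprime n) : y = 1 :=
  orderOf_eq_one_iff.1 (hc.eq_one_of_dvd (orderOf_dvd_of_pow_eq_one h))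

end group

section core
variable {A : Type*} [Group A] {p : ℕ} {I N : Subgroup A} {x : A}
variable {F : Type*} [Field F] {σ : F →+* F} {K : Kind σ} {V : Type*} [AddCommGroup V] [Module F V]
  {D : Form K V} [FiniteDimensional F V]

theorem eichAt_le_of_map {H : Subgroup D.E} {a b : V} {n : D.E} (hn : n ∈ H) {c : F} (hc : c ≠ 0)
    (h : n.1.1 a = c • b) (ha : (D.eichAt a).subgroupOf D.E ≤ H) : (D.eichAt b).subgroupOf D.E ≤ H :=
  fun k hk => by
    have h1 : n⁻¹ * k * n⁻¹⁻¹ ∈ H := ha (by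
      have := conj_mem_eichAt (n⁻¹).1 ((eichAt_smul hc).ge hk)
      rwa [← h, Subgroup.coe_inv, isom_inv_apply] at this)
    simpa [mul_assoc] using mul_mem (mul_mem hn h1) (inv_mem hn)

theorem even_orderOf_of_swap {X : Type*} [Group X] {ι : X →* D.isom} {φ : X →* A}
    (hφ : ∀ g, φ g = 1 → IsScal (ι g)) {g : X} {a b : V} (hab : b ∉ F ∙ a) {c c' : F}
    (h1 : (ι g).1 a = c • b) (h2 : (ι g).1 b = c' • a) : Even (orderOf (φ g)) := by
  by_contra h
  obtain ⟨k, hk⟩ := Nat.not_even_iff_odd.1 h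
  obtain ⟨t, ht⟩ := hφ (g ^ (2 * k + 1)) (by rw [map_pow, ← hk, pow_orderOf_eq_one])
  have h3 : (ι g ^ 2).1 b = (c' * c) • b := by
    rw [sq, isom_mul_apply, h2, map_smul, h1, smul_smul]
  have h4 := ht b
  rw [map_pow, pow_succ', isom_mul_apply, pow_mul, pow_apply_of_smul h3, map_smul, h2] at h4
  have h5 : t ≠ 0 := fun h0 => by
    have := ht b
    rw [h0, zero_smul, LinearEquiv.map_eq_zero_iff] at this
    exact hab (by simp [this])
  exact hab (Submodule.mem_span_singleton.2 ⟨t⁻¹ * ((c' * c) ^ k * c'), by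
    rw [mul_smul, mul_smul, h4, smul_smul, inv_mul_cancel₀ h5, one_smul]⟩)

/-- a non-central normal subgroup together with a unipotent subgroup swaps two points -/
theorem exists_swap (hD : D.Nondeg) (hR : D.Rich 3) {e f : V} (hef : D.IsHyp e f)
    (M : Subgroup D.E) (hM : ¬ M ≤ Subgroup.center _) :
    ∃ a b : V, D.Q a = 0 ∧ b ∉ F ∙ a ∧ ∃ g ∈ M ⊔ (D.eichAt a).subgroupOf D.E, ∃ c c' : F,
      g.1.1 a = c • b ∧ g.1.1 b = c' • a := by
  obtain ⟨n, hn, hn'⟩ := SetLike.not_le_iff_exists.1 hM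
  rw [hef.mem_center_iff hD hR eich_mem_E] at hn'
  obtain ⟨a, ha, ha'⟩ : ∃ a, D.Q a = 0 ∧ n.1.1 a ∉ F ∙ a := by
    by_contra hc
    push Not at hc
    exact hn' (hef.exists_smul_of_fix_points hD hR _ hc)
  set H := M ⊔ (D.eichAt a).subgroupOf D.E
  have hb : D.Q (n.1.1 a) = 0 := by simpa using ha
  have h1 : (D.eichAt (n.1.1 a)).subgroupOf D.E ≤ H :=
    eichAt_le_of_map (Subgroup.mem_sup_left hn) one_ne_zero (one_smul _ _).symm le_sup_right
  refine ⟨a, _, ha, ha', ?_⟩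
  by_cases h : D.B a (n.1.1 a) = 0
  · have ha0 : a ≠ 0 := by rintro rfl; simp at ha'
    have hab : a ∉ F ∙ n.1.1 a := fun h' => by
      obtain ⟨c, hc⟩ := Submodule.mem_span_singleton.1 h'
      have hc0 : c ≠ 0 := by rintro rfl; exact ha0 (by simpa using hc.symm)
      exact ha' (Submodule.mem_span_singleton.2 ⟨c⁻¹, by
        nth_rewrite 1 [← hc]; rw [smul_smul, inv_mul_cancel₀ hc0, one_smul]⟩)
    obtain ⟨z, hz, hz'⟩ := hD.exists_perp_B_eq ha' 1
    obtain ⟨w, hw, hw'⟩ := hD.exists_perp_B_eq hab (-1)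
    rw [mem_perp_span_singleton] at hz hw
    obtain ⟨d, hd⟩ := exists_isEich ha hz
    obtain ⟨d', hd'⟩ := exists_isEich hb hw
    have h2 : (D.eich _ _ _ hd).1 (n.1.1 a) = n.1.1 a + a := by
      rw [D.eich_apply_of_perp hd h, hz', one_smul]
    have h3 : (D.eich _ _ _ hd').1 a = a - n.1.1 a := by
      rw [D.eich_apply_of_perp hd' (D.eq_zero_symm h), hw', neg_one_smul, sub_eq_add_neg]
    have h4 : (⟨_, eich_mem_E _ _ _ hd⟩ : D.E) ∈ H := Subgroup.mem_sup_right (eich_mem_eichAt hd)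
    refine ⟨_, mul_mem h4 (mul_mem (h1 (x := ⟨_, eich_mem_E _ _ _ hd'⟩) (eich_mem_eichAt hd')) h4),
      -1, 1, ?_, ?_⟩
    · simp only [Subgroup.coe_mul, LinearEquiv.mul_apply, D.eich_apply_self hd, h3, map_sub, h2]
      module
    · simp only [Subgroup.coe_mul, LinearEquiv.mul_apply, D.eich_apply_self hd,
        D.eich_apply_self hd', h3, map_add, h2, add_sub_cancel, one_smul]
  · have h2 : D.B (n.1.1 a) (n.1.1 (n.1.1 a)) ≠ 0 := by rwa [B_isom]
    obtain ⟨d, hd, h3⟩ := D.exists_eich_map (x := n.1.1 (n.1.1 a))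
      (y := (D.B (n.1.1 a) (n.1.1 (n.1.1 a)) / D.B (n.1.1 a) a) • a) hb
      (by rw [D.B_smul_right, div_mul_cancel₀ _ (D.ne_zero_symm h)]) h2
      (by rw [D.Q_smul_of_Q ha, Q_isom, hb])
    exact ⟨_, mul_mem (h1 (x := ⟨_, eich_mem_E _ _ _ hd⟩) (eich_mem_eichAt hd))
      (Subgroup.mem_sup_left hn), 1, _, (D.eich_apply_self hd).trans (one_smul _ _).symm, h3⟩

theorem normal_le_center_or_sup (hD : D.Nondeg) (hR : D.Rich 5) {e f : V} (hef : D.IsHyp e f)
    (M : Subgroup D.E) [M.Normal] :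
    M ≤ Subgroup.center _ ∨ M ⊔ (D.eichAt e).subgroupOf D.E = ⊤ :=
  (hef.normal_le_center_or hD hR eich_mem_E M).imp_right fun h => by
    refine eq_top_iff.2 fun g _ => ?_
    have : D.E ≤ (M ⊔ (D.eichAt e).subgroupOf D.E).map D.E.subtype := E_le fun y z d hd => by
      by_cases h0 : y = 0
      · subst h0
        have : D.eich 0 z d hd = 1 := isom_ext fun x => by simp [eich_apply]
        exact this ▸ one_mem _
      obtain ⟨n, hn, c, hc, h1⟩ := h e y hef.Q_e hef.e_ne_zero hd.Q_e h0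
      exact ⟨⟨_, eich_mem_E _ _ _ hd⟩, eichAt_le_of_map (Subgroup.mem_sup_left hn) hc h1 le_sup_right
        (eich_mem_eichAt hd), rfl⟩
    obtain ⟨k, hk, h1⟩ := this g.2
    exact (Subtype.ext h1 : k = g) ▸ hk

variable {r : ℕ} [Fact r.Prime] [CharP F r]

omit [FiniteDimensional F V] in
theorem unip_subgroupOf {a : V} (ha : D.Q a = 0) :
    ∀ u ∈ (D.eichAt a).subgroupOf D.E, ∃ k, u ^ r ^ k = 1 := fun _ hu =>
  let ⟨k, hk⟩ := unip_of_mem (isPGroup_eichAt r ha) hu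
  ⟨k, Subtype.ext hk⟩

theorem Bal.core (h : Bal p I x N) [Fact p.Prime] (hpr : p ≠ r) (hD : D.Nondeg) (hR : D.Rich 3)
    {e f : V} (hef : D.IsHyp e f) {φ : D.E →* A} (hφ : ∀ g, φ g = 1 ↔ IsScal g.1)
    (h1 : ∀ g, φ g ∈ I) (h2 : ∀ g, Commute (φ g) x)
    (hp : p = 2 ∨ (D.Rich 5 ∧ ∃ g, p ∣ orderOf (φ g))) : ∀ y ∈ N, y ∈ φ.range → y = 1 := by
  haveI := h.normal_comap h1 h2
  have h3 : N.comap φ ≤ Subgroup.center _ := by
    by_contra hc
    rcases hp with rfl | ⟨hR', g, hg⟩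
    · obtain ⟨a, b, ha, hab, g, hg, c, c', h4, h5⟩ := exists_swap hD hR hef _ hc
      obtain ⟨k, hk⟩ := exists_pow_mem_of_sup (unip_subgroupOf (r := r) ha) hg
      exact h.not_dvd hpr (k := k) (by simpa using hk)
        (even_orderOf_of_swap (ι := D.E.subtype) (fun g => (hφ g).1) hab h4 h5).two_dvd
    · obtain ⟨k, hk⟩ := exists_pow_mem_of_sup (unip_subgroupOf (r := r) hef.Q_e)
        (((normal_le_center_or_sup hD hR' hef _).resolve_left hc).ge (Subgroup.mem_top g))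
      exact h.not_dvd hpr (k := k) (by simpa using hk) hg
  rintro _ hy ⟨g, rfl⟩
  exact (hφ g).2 ((hef.mem_center_iff hD hR eich_mem_E g).1 (h3 hy))

theorem two_dvd_card [Finite F] {X : Type*} [Group X] (j : X ≃* D.E) (hD : Std D) :
    2 ∣ Nat.card (X ⧸ Subgroup.center X) := by
  obtain ⟨e, f, hef⟩ := hD.hyp
  obtain ⟨a, b, -, hab, g, -, c, c', h4, h5⟩ := exists_swap hD.nondeg hD.rich hef ⊤ fun h => by
    obtain ⟨g, hg, c, hc, h1⟩ := hD.nondeg.exists_mem_map_smul eich_mem_E hD.rich hef.Q_e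
      hef.e_ne_zero hef.Q_f hef.f_ne_zero
    obtain ⟨t, ht⟩ := (hef.mem_center_iff hD.nondeg hD.rich eich_mem_E ⟨g, hg⟩).1 (h trivial)
    have := congrArg (D.B e) (h1.symm.trans (ht e))
    simp [hef.B_ef, hef.B_ee, hc] at this
  exact (even_orderOf_of_swap (ι := D.E.subtype) (φ := (QuotientGroup.mk' _).comp j.symm.toMonoidHom)
    (fun g hg => by
      simpa using (mem_center_iff_isScal j hD _).1 ((QuotientGroup.eq_one_iff _).1 hg))
    hab h4 h5).two_dvd.trans (orderOf_dvd_natCard _)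

end core

section cent
variable {F₀ F : Type*} [Field F₀] [Field F] {V V₀ : Type*} [AddCommGroup V] [Module F V]
  [AddCommGroup V₀] [Module F₀ V₀] {f : F₀ →+* F} {j : V₀ →+ V} [FiniteDimensional F₀ V₀]
  {σ₀ : F₀ →+* F₀} {K₀ : Kind σ₀} {D₀ : Form K₀ V₀}

theorem ext_id : Ext (RingHom.id F) (AddMonoidHom.id V) :=
  ⟨fun _ _ => rfl, by simp, rfl⟩

theorem hom_ext_id [FiniteDimensional F V] (g : V ≃ₗ[F] V) : (ext_id (F := F)).hom g = g :=
  LinearEquiv.ext fun x => (ext_id (F := F)).hom_apply g x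

theorem exists_bx (h : Ext f j) (D₀ : Form K₀ V₀) :
    ∃ bx : V₀ → V →ₗ[F] F, ∀ x y, bx x (j y) = f (D₀.B x y) :=
  ⟨fun x => (h.basis (finBasis F₀ V₀)).constr F fun i => f (D₀.B x (finBasis F₀ V₀ i)), fun x y => by
    rw [h.eq_sum (finBasis F₀ V₀) y]
    conv_rhs => rw [← (finBasis F₀ V₀).sum_repr y]
    simp only [map_sum, map_smul, Basis.constr_basis, smul_eq_mul, map_mul]⟩

omit [FiniteDimensional F₀ V₀] in
theorem isHyp_smul {e e' : V₀} (h : D₀.IsHyp e e') {c : F₀} (hc : c ≠ 0) :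
    D₀.IsHyp ((σ₀ c)⁻¹ • e) (c • e') ∧ D₀.hp ((σ₀ c)⁻¹ • e) (c • e') = D₀.hp e e' :=
  ⟨⟨D₀.Q_smul_of_Q h.Q_e _, D₀.Q_smul_of_Q h.Q_f _, by simp [h.B_ef, K₀.σσ, hc]⟩,
    Submodule.ext fun x => by simp [mem_hp, hc]⟩

variable (h : Ext f j) (hD : D₀.Nondeg) (h3 : 3 ≤ finrank F₀ V₀)
include h hD

theorem mem_span_of_bx {bx : V₀ → V →ₗ[F] F} (hb : ∀ x y, bx x (j y) = f (D₀.B x y)) {e e' : V₀}
    (hef : D₀.IsHyp e e') {v : V} (h4 : ∀ z, D₀.B e z = 0 → bx z v = 0) : ∃ c : F, v = c • j e := by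
  have hε : f K₀.ε * f K₀.ε = 1 := by rw [← map_mul, K₀.ε_mul, map_one]
  refine ⟨f K₀.ε * bx e' v, sub_eq_zero.1 ((h.basis (finBasis F₀ V₀)).ext_elem fun i => ?_)⟩
  obtain ⟨x, hx⟩ := hD.exists_rep ((finBasis F₀ V₀).coord i)
  have h5 : (h.basis (finBasis F₀ V₀)).coord i =
      bx (x - D₀.B e x • e') + f (σ₀ (D₀.B e x)) • bx e' :=
    h.lin_ext fun y => by simp [hb, h.repr, hx]
  rw [← Basis.coord_apply, h5]
  have h6 : D₀.B e (x - D₀.B e x • e') = 0 := by simp [hef.B_ef]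
  generalize x - D₀.B e x • e' = z at h6
  simp only [LinearMap.add_apply, LinearMap.smul_apply, map_sub, map_smul, hb, hef.B_fe, smul_eq_mul,
    h4 _ h6, D₀.eq_zero_symm h6, map_zero]
  simp only [Finsupp.coe_zero, Pi.zero_apply]
  linear_combination -(f (σ₀ (D₀.B e x)) * bx e' v) * hε

omit hD in
theorem hom_eich {bx : V₀ → V →ₗ[F] F} (hb : ∀ x y, bx x (j y) = f (D₀.B x y)) {e z : V₀} {d : F₀}
    (hd : D₀.IsEich e z d) (v : V) : h.hom (D₀.eich e z d hd).1 v =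
      v + bx z v • j e - (f K₀.ε * bx e v) • (j z + f d • j e) :=
  DFunLike.congr_fun (h.lin_ext (g := h.hom (D₀.eich e z d hd).1)
    (g' := LinearMap.id + (bx z).smulRight (j e) - (f K₀.ε • bx e).smulRight (j z + f d • j e))
    fun x => by simp [h.hom_apply, eich_apply, h.smul, hb, -smul_add, map_add j]) v

include h3

theorem mem_span_of_fixed {e : V₀} (he : D₀.Q e = 0) (he0 : e ≠ 0) {v : V}
    (hv : ∀ z d hd, h.hom (D₀.eich e z d hd).1 v = v) : ∃ c : F, v = c • j e := by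
  obtain ⟨bx, hb⟩ := exists_bx h D₀
  obtain ⟨e', hef⟩ := hD.exists_isHyp he he0
  have h1 : ∀ z d, D₀.IsEich e z d → bx z v • j e = (f K₀.ε * bx e v) • (j z + f d • j e) :=
    fun z d hd => by linear_combination (norm := module) (hv z d hd).symm.trans (hom_eich h hb hd v) |>.symm
  have h2 : bx e v = 0 := by
    haveI : Nontrivial (D₀.hp e e') :=
      Module.nontrivial_of_finrank_pos (R := F₀) (by have := hef.finrank_hp; omega)
    obtain ⟨w, hw⟩ := exists_ne (0 : D₀.hp e e')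
    obtain ⟨y, hy, hy'⟩ := hef.exists_B_ne_zero hD w.2 (by simpa using hw)
    obtain ⟨d, hd⟩ := exists_isEich he (D₀.mem_hp.1 w.2).1
    have := congrArg (bx y) (h1 w d hd)
    simpa [hb, D₀.eq_zero_symm (D₀.mem_hp.1 hy).1, hy', K₀.ε_ne_zero] using this
  refine mem_span_of_bx h hD hb hef fun z hz => ?_
  obtain ⟨d, hd⟩ := exists_isEich he hz
  simpa [h2, (map_ne_zero_iff _ h.injective).2 he0] using h1 z d hd

/-- An additive map commuting with the Eichler elements of a rational form is a scalar on the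
rational points. -/
theorem exists_smul_of_comm_ext {e e' : V₀} (hef : D₀.IsHyp e e') (θ : V →+ V)
    (hθ : ∀ e z d hd v, θ (h.hom (D₀.eich e z d hd).1 v) = h.hom (D₀.eich e z d hd).1 (θ v)) :
    ∃ c : F, ∀ x, θ (j x) = c • j x := by
  obtain ⟨bx, hb⟩ := exists_bx h D₀
  have h1 : ∀ u, D₀.Q u = 0 → ∃ c : F, θ (j u) = c • j u := fun u hu => by
    by_cases h0 : u = 0
    · exact ⟨0, by simp [h0]⟩
    exact mem_span_of_fixed h hD h3 hu h0 fun z d hd => by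
      rw [← hθ, h.hom_apply, D₀.eich_apply_self]
  have h2 : ∀ {u u'}, D₀.IsHyp u u' → ∀ c : F, θ (j u') = c • j u' → ∀ w ∈ D₀.hp u u',
      ∃ t : F, θ (j w) = c • j w + t • j u := fun {u u'} hu c hc w hw => by
    have hw' := Submodule.smul_mem _ K₀.ε hw
    obtain ⟨d, hd⟩ := exists_isEich hu.Q_e (D₀.mem_hp.1 hw').1
    obtain ⟨t, ht⟩ := h1 _ (D₀.Q_smul_of_Q hu.Q_e (K₀.ε * d))
    have := hθ _ _ _ hd (j u')
    rw [hc, map_smul, h.hom_apply, hu.eich_f hw', smul_add, smul_smul, smul_smul, K₀.ε_mul, one_smul,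
      map_sub, map_add, map_sub, map_add, ht, hc, h.smul] at this
    exact ⟨(c - t) * f (K₀.ε * d), by linear_combination (norm := module) -this⟩
  haveI : Nontrivial (D₀.hp e e') :=
    Module.nontrivial_of_finrank_pos (R := F₀) (by have := hef.finrank_hp; omega)
  obtain ⟨w₀, hw₀⟩ := exists_ne (0 : D₀.hp e e')
  obtain ⟨y, hy, hy'⟩ := hef.exists_B_ne_zero hD w₀.2 (by simpa using hw₀)
  have h4 : ∀ {u u'}, D₀.IsHyp u u' → D₀.hp u u' = D₀.hp e e' →
      θ (j u') = (bx y (θ (j w₀)) / f (D₀.B y w₀)) • j u' := fun {u u'} hu hh => by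
    obtain ⟨c, hc⟩ := h1 _ hu.Q_f
    obtain ⟨t, ht⟩ := h2 hu c hc w₀ (hh.ge w₀.2)
    rw [hc, ht]
    simp [hb, D₀.eq_zero_symm (D₀.mem_hp.1 (hh.ge hy)).1, hy']
  have h5 : ∀ {u u'}, D₀.IsHyp u u' → D₀.hp u u' = D₀.hp e e' → ∀ c : F₀,
      θ (j (c • u')) = (bx y (θ (j w₀)) / f (D₀.B y w₀)) • j (c • u') := fun {u u'} hu hh c => by
    by_cases hc : c = 0
    · simp [hc]
    exact h4 (isHyp_smul hu hc).1 ((isHyp_smul hu hc).2.trans hh)
  refine ⟨bx y (θ (j w₀)) / f (D₀.B y w₀), fun x => ?_⟩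
  obtain ⟨w, hw, hx⟩ := hef.exists_comb x
  obtain ⟨t, ht⟩ := h2 hef _ (h4 hef rfl) w hw
  obtain ⟨t', ht'⟩ := h2 hef.symm _ (h4 hef.symm IsHyp.hp_symm) w (IsHyp.hp_symm.ge hw)
  have h6 : t' = 0 := by
    simpa [hb, hef.B_ee, hef.B_ef] using (congrArg (bx e) (add_left_cancel (ht.symm.trans ht'))).symm
  rw [hx, map_add, map_add, map_add, map_add, ht', h6, h5 hef rfl, mul_comm, mul_smul,
    h5 hef.symm IsHyp.hp_symm]
  module

end cent

section ext
variable {F₀ F : Type*} [Field F₀] [Field F] {V V₀ : Type*} [AddCommGroup V] [Module F V]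
  [AddCommGroup V₀] [Module F₀ V₀] {f : F₀ →+* F} {j : V₀ →+ V}
  {σ₀ : F₀ →+* F₀} {K₀ : Kind σ₀} {D₀ : Form K₀ V₀}
variable {A : Type*} [Group A] {p : ℕ} {I N : Subgroup A} {x : A} {Γ : Subgroup (Sem F V)}
  {act : Γ →* A} {r : ℕ} [Fact r.Prime] [CharP F r]

theorem commute_of_unip [Nontrivial V] (h : IsAct act) {b u : Γ} (hu : u.1.s = 1) {k : ℕ}
    (hk : u ^ r ^ k = 1) (hc : Commute (act b) (act u)) : Commute b u := by
  obtain ⟨c, h1⟩ := (h.ker (b * u * b⁻¹ * u⁻¹)).1 (by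
    simp only [map_mul, map_inv]; exact commutatorElement_eq_one_iff_commute.2 hc)
  have h2 : b.1 * u.1 * b.1⁻¹ = scal c * u.1 := by simp [← h1]
  have h3 : u.1 ^ r ^ k = 1 := congrArg Subtype.val hk
  have h4 := congrArg (· ^ r ^ k) h2
  simp only [conj_pow, h3, (Commute.symm (scal_comm_of_s hu c)).mul_pow, mul_one, mul_inv_cancel,
    ← map_pow] at h4
  have h5 : c = 1 := Units.ext (eq_one_of_pow_char_pow r (k := k)
    (congrArg Units.val (scal_injective (h4.symm.trans (map_one _).symm))))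
  rw [h5, map_one, one_mul, mul_inv_eq_iff_eq_mul] at h2
  exact Subtype.ext h2

omit [Fact r.Prime] [CharP F r] in
theorem Fix.pow_eq_one [Finite F] {s t : F ≃+* F} (h : Fix f s) (ht : ∀ y, t (f y) = f y) :
    t ^ orderOf s = 1 := by
  obtain ⟨g, hg⟩ := IsCyclic.exists_generator (α := (Subgroup.closure {s, t} : Subgroup (F ≃+* F)))
  have h1 : ∀ u ∈ Subgroup.closure {s, t}, ∀ y, u (f y) = f y := fun u hu => by
    induction hu using Subgroup.closure_induction with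
    | mem u hu => rcases hu with rfl | rfl; exacts [h.map, ht]
    | one => exact fun _ => rfl
    | mul u v _ _ hu hv => exact fun y => (congrArg u (hv y)).trans (hu y)
    | inv u _ hu => exact fun y => u.symm_apply_eq.2 (hu y).symm
  have h2 : Fix f g.1 := fun y => ⟨fun hy => (h y).1 (by
    obtain ⟨n, hn⟩ := hg ⟨s, Subgroup.subset_closure (by simp)⟩
    rw [show s = g.1 ^ n from (congrArg Subtype.val hn).symm]
    exact zpow_mem (show g.1 ∈ MulAction.stabilizer _ y from hy) n), by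
    rintro ⟨y, rfl⟩; exact h1 _ g.2 y⟩
  haveI := Finite.of_injective f f.injective
  have h3 := Nat.pow_right_injective two_le_card (h.card_eq.symm.trans h2.card_eq)
  obtain ⟨n, hn⟩ := hg ⟨t, Subgroup.subset_closure (by simp)⟩
  rw [show t = g.1 ^ n from (congrArg Subtype.val hn).symm, h3, ← zpow_natCast, ← zpow_mul, mul_comm,
    zpow_mul, zpow_natCast, pow_orderOf_eq_one, one_zpow]

variable [FiniteDimensional F₀ V₀] (h : Ext f j) (hΓ : ∀ g : D₀.E, lin (h.hom g.1.1) ∈ Γ)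

/-- the rational Eichler group as a group of semilinear maps -/
noncomputable def extHom : D₀.E →* Γ :=
  (lin.comp (h.hom.comp (D₀.isom.subtype.comp D₀.E.subtype))).codRestrict _ hΓ

theorem coe_extHom (g : D₀.E) : (extHom h hΓ g).1 = lin (h.hom g.1.1) := rfl

theorem extHom_mem {φ : Γ →* A} (H : ∀ e z d hd, φ (extHom h hΓ ⟨_, eich_mem_E e z d hd⟩) ∈ I)
    (g : D₀.E) : φ (extHom h hΓ g) ∈ I := by
  have : D₀.E ≤ (I.comap (φ.comp (extHom h hΓ))).map D₀.E.subtype :=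
    E_le fun e z d hd => ⟨_, H e z d hd, rfl⟩
  obtain ⟨k, hk, h1⟩ := this g.2
  exact (Subtype.ext h1 : k = g) ▸ hk

variable [Nontrivial V] (hA : IsAct act) (hD : D₀.Nondeg) (h3 : 3 ≤ finrank F₀ V₀) {e e' : V₀}
  (hef : D₀.IsHyp e e')
include hA

theorem act_extHom_eq_one (g : D₀.E) : act (extHom h hΓ g) = 1 ↔ IsScal g.1 :=
  (hA.ker _).trans (Iff.trans ⟨fun ⟨c, hc⟩ => mem_range_scal.1 ⟨c, hc.symm⟩,
    fun H => let ⟨c, hc⟩ := mem_range_scal.2 H; ⟨c, hc.symm⟩⟩ h.hom_eq_smul_iff)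

include hD h3 hef

theorem piece_ext [Fact p.Prime] (hN : Bal p I x N) (hpr : p ≠ r) (hK : KNat K₀)
    (hI : ∀ g, act (extHom h hΓ g) ∈ I) (hx : ∀ g, Commute (act (extHom h hΓ g)) x)
    (hnm : ∀ y ∈ N, y ∈ I → ∃ g₀ : V₀ ≃ₗ[F₀] V₀, lin g₀ ∈ Gam D₀ ∧ ∃ hg, y = act ⟨lin (h.hom g₀), hg⟩)
    (hp : p = 2 ∨ (D₀.Rich 5 ∧ ∃ g, p ∣ orderOf (act (extHom h hΓ g)))) :
    Piece I x N (act.comp (extHom h hΓ)).range := by
  haveI := f.charP f.injective r
  refine ⟨by rintro _ ⟨g, rfl⟩; exact hI g, by rintro _ ⟨g, rfl⟩; exact hx g, ?_,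
    hN.core hpr hD (Or.inr h3) hef (act_extHom_eq_one h hΓ hA) hI hx hp⟩
  rintro y hy hy' _ ⟨g, rfl⟩
  obtain ⟨g₀, h1, h2, rfl⟩ := hnm y hy hy'
  refine ⟨⟨_, cjI_mem_E hK hD ⟨_, h1⟩ g.2⟩, ?_⟩
  rw [MonoidHom.comp_apply, MonoidHom.comp_apply, ← map_inv, ← map_mul, ← map_mul]
  exact congrArg act (Subtype.ext (by simp [coe_extHom, coe_cjI, cj_lin]))

include r in
theorem exists_smul_of_commute {b : Γ} (hb : ∀ g, Commute (act b) (act (extHom h hΓ g))) :
    (∀ t, b.1.s (f t) = f t) ∧ ∃ c : Fˣ, ∀ x, b.1.g (j x) = (c : F) • j x := by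
  haveI := f.charP f.injective r
  obtain ⟨c, hc⟩ := exists_smul_of_comm_ext h hD h3 hef b.1.g.toAddMonoidHom fun u z d hd v => by
    obtain ⟨k, hk⟩ := unip_eich r hd
    exact congrArg (fun a : Γ => a.1.g v) (commute_of_unip (r := r) hA (k := k) rfl (by
      rw [← map_pow]; exact (congrArg _ (Subtype.ext hk)).trans (map_one _))
      (hb ⟨_, eich_mem_E u z d hd⟩))
  have h1 : j e ≠ 0 := (map_ne_zero_iff _ h.injective).2 hef.e_ne_zero
  have h2 : c ≠ 0 := by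
    rintro rfl
    exact h1 (by simpa using hc e)
  refine ⟨fun t => smul_left_injective F (smul_ne_zero h2 h1) ?_, Units.mk0 c h2, hc⟩
  have h4 : b.1.g (j (t • e)) = _ := hc (t • e)
  rw [h.smul, b.1.smul, show b.1.g (j e) = _ from hc e, smul_comm c] at h4
  exact h4

include r in
theorem pow_eq_one_of_commute {n : ℕ} (hs : ∀ s : F ≃+* F, (∀ t, s (f t) = f t) → s ^ n = 1) {b : Γ}
    (hb : ∀ g, Commute (act b) (act (extHom h hΓ g))) : act b ^ n = 1 := by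
  obtain ⟨h1, c, h2⟩ := exists_smul_of_commute (r := r) h hΓ hA hD h3 hef hb
  have h4 : ((⟨_, hA.mem c⁻¹⟩ : Γ) * b) ^ n = 1 := Subtype.ext (h.sem_ext
    ((pow_s _ n).trans (hs _ h1)) fun x => by
      change ((scal c⁻¹ * b.1) ^ n).g (j x) = j x
      clear hs
      induction n with
      | zero => rfl
      | succ n ih => rwa [pow_succ, mul_g, mul_g, h2, scal_g, smul_smul, Units.inv_mul, one_smul])
  have h5 := congrArg act h4
  rwa [map_pow, map_mul, hA.scal, one_mul, map_one] at h5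

theorem Bal.eq_bot_of_ext [Fact p.Prime] [I.Normal] (hN : Bal p I x N) (hpr : p ≠ r) (hK : KNat K₀)
    (hI : ∀ g, act (extHom h hΓ g) ∈ I) (hx : ∀ g, Commute (act (extHom h hΓ g)) x)
    (hnm : ∀ y ∈ N, y ∈ I → ∃ g₀ : V₀ ≃ₗ[F₀] V₀, lin g₀ ∈ Gam D₀ ∧ ∃ hg, y = act ⟨lin (h.hom g₀), hg⟩)
    (hp : p = 2 ∨ (D₀.Rich 5 ∧ ∃ g, p ∣ orderOf (act (extHom h hΓ g))))
    (hs : ∀ s : F ≃+* F, (∀ t, s (f t) = f t) → s ^ p = 1)
    (hr : ∀ y ∈ N, (∀ g, Commute y (act (extHom h hΓ g))) → y ∈ act.range) : N = ⊥ :=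
  hN.eq_bot {_} (fun _ hL => hL ▸ piece_ext h hΓ hA hD h3 hef hN hpr hK hI hx hnm hp) fun y hy H => by
    obtain ⟨b, rfl⟩ := hr y hy fun g => H _ rfl _ ⟨g, rfl⟩
    exact eq_one_of_pow_of_coprime
      (pow_eq_one_of_commute (r := r) h hΓ hA hD h3 hef hs fun g => H _ rfl _ ⟨g, rfl⟩) (hN.cop _ hy)

end ext

section lift
universe u
variable {F₀ F : Type*} [Field F₀] [Field F] {V : Type u} {V₀ : Type*} [AddCommGroup V] [Module F V]
  [AddCommGroup V₀] [Module F₀ V₀] {f : F₀ →+* F} {j : V₀ →+ V}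
  {σ₀ : F₀ →+* F₀} {K₀ : Kind σ₀} {D₀ : Form K₀ V₀} {σ : F →+* F} {K : Kind σ} {D : Form K V} {μ : F}
  {p : ℕ} [FiniteDimensional F₀ V₀]

variable (D₀ p) in
/-- an element of order `p` among projective similarities gives one in `E` -/
def HasP : Prop := ∀ a : (gfld D₀).ker, (∃ c, a.1.1 ^ p = scal c) → (¬ ∃ c, a.1.1 = scal c) →
  ∃ g : D₀.E, IsScal (g.1 ^ p) ∧ ¬ IsScal g.1

theorem isomHom_eich_mem (L : Lift f j D₀ D μ) {e z : V₀} {d : F₀} (hd : D₀.IsEich e z d) :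
    L.isomHom (D₀.eich e z d hd) ∈ D.E := by
  have h1 : D.IsEich (j e) (μ • j z) (μ * f d) := ⟨by simpa [L.ne, hd.Q_e] using (L.Q e).symm,
    by simpa [hd.B_ez] using (L.B e z).symm, by
      rw [L.kext.nat.tr_mul _ _ L.σ_eq, ← L.kext.tr, hd.tr_d, L.Q, D.Q_smul, L.σ_eq, mul_assoc]⟩
  convert eich_mem_E _ _ _ h1 using 1
  refine isom_ext fun v => (hom_eich L.ext (bx := fun x => μ • D.B (j x)) (fun x y => (L.B x y).symm)
    hd v).trans ?_
  simp only [eich_apply, LinearMap.smul_apply, smul_eq_mul, D.B_smul_left, L.σ_eq, L.kext.ε]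
  module

variable [Finite F] [FiniteDimensional F V]

omit [FiniteDimensional F₀ V₀] in
theorem gact_glin_mem {X : Type*} [Group X] (e : X ≃* D.E) (hD : Std D) {g : D.isom} (hg : g ∈ D.E) :
    gact e hD (glin D g) ∈ Inn (X ⧸ Subgroup.center X) :=
  (gact_mem_Inn_iff e hD _).2 ⟨1, g, hg, by simp [coe_glin]⟩

/-- `I` is the image of `E` -/
structure IsInn {A : Type*} [Group A] (act : Gam D →* A) (I : Subgroup A) : Prop where
  std : Std D
  isAct : IsAct act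
  normal : I.Normal
  mem : ∀ g ∈ D.E, act (glin D g) ∈ I
  ex : ∀ y ∈ I, ∃ g ∈ D.E, y = act (glin D g)

omit [FiniteDimensional F₀ V₀] in
theorem isInn_gact {X : Type*} [Group X] (e : X ≃* D.E) (hD : Std D) : IsInn (gact e hD) (Inn _) :=
  ⟨hD, isAct_gact e hD, inferInstance, fun _ => gact_glin_mem e hD, by
    rintro _ ⟨k, rfl⟩
    obtain ⟨s, rfl⟩ := QuotientGroup.mk_surjective k
    exact ⟨_, (e s).2, (gact_lin e hD s).symm⟩⟩

variable {A : Type*} [Group A] {act : Gam D →* A} {I : Subgroup A} {r : ℕ} [Fact r.Prime] [CharP F r]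
  [hp : Fact p.Prime]

omit [FiniteDimensional F V] in
theorem bal_lift (hI : IsInn act I) (L : Lift f j D₀ D μ) {a : Gam D} (hf : Fix f a.1.s)
    (hj : ∀ x, a.1.g (j x) = j x) (ha : a ^ orderOf a.1.s = 1) (ho : orderOf a.1.s = p) (hpr : p ≠ r)
    (h3 : 3 ≤ finrank F V) (hyp : ∃ u u', D₀.IsHyp u u') (hq : p = 2 ∨ (D₀.Rich 5 ∧ HasP D₀ p))
    (hr : ∀ y, Commute y (act a) → (∀ g ∈ D₀.E, Commute y (act (glin D (L.isomHom g)))) → y ∈ act.range)
    (hy : ∃ y ∈ I, Commute y (act a) ∧ orderOf y = p) (N : Subgroup A) (hN : Bal p I (act a) N) :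
    N = ⊥ := by
  have hD := hI.std.nondeg
  haveI := hI.std.nontrivial
  haveI := hI.normal
  obtain ⟨u, u', hyp⟩ := hyp
  have hA := hI.isAct
  have hΓ : ∀ g : D₀.E, lin (L.ext.hom g.1.1) ∈ Gam D := fun g => lin_mem_Gam (L.isomHom g.1)
  have h0 : ∀ g, extHom L.ext hΓ g = glin D (L.isomHom g.1) := fun _ => rfl
  have key : ∀ y ∈ I, Commute y (act a) → ∃ g₀, y = act (L.hom hD g₀).1 := by
    intro y hy hc
    obtain ⟨g, -, rfl⟩ := hI.ex y hy
    obtain ⟨c, g₀, h1⟩ := (L.commute_iff hD hA hf hj ha ⟨glin D g, rfl⟩).1 hc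
    exact ⟨g₀, by rw [show glin D g = _ from congrArg Subtype.val h1, Subgroup.coe_mul, map_mul,
      show act (gscal D c) = 1 from hA.scal c, one_mul]⟩
  refine hN.eq_bot_of_ext L.ext hΓ hA (L.nondeg hD) (L.ext.rank ▸ h3) hyp hpr
    L.kext.nat₀ (extHom_mem _ _ fun u z d hd => hI.mem _ (isomHom_eich_mem L hd))
    (fun g => Commute.map (show Commute (extHom L.ext hΓ g) a from
      Subtype.ext (L.ext.commute_hom hj g.1.1)) act) (fun y hy hy' => ?_)
    (hq.imp_right fun ⟨h1, h2⟩ => ⟨h1, ?_⟩) (fun s hs => ho ▸ Fix.pow_eq_one hf hs)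
    fun y hy H => hr y (hN.comm y hy) fun g hg => h0 ⟨g, hg⟩ ▸ H ⟨g, hg⟩
  · obtain ⟨g₀, rfl⟩ := key y hy' (hN.comm y hy)
    exact ⟨g₀.1.1.toLin g₀.2, (lin_toLin _ g₀.2).symm ▸ g₀.1.2, (L.hom hD g₀).1.2, rfl⟩
  · obtain ⟨y, h3, h4, h5⟩ := hy
    obtain ⟨g₀, rfl⟩ := key y h3 h4
    obtain ⟨g, h6, h7⟩ := h2 g₀ ((L.act_hom_eq_one hD hA (g₀ ^ p)).1 (by
      rw [map_pow, Subgroup.coe_pow, map_pow, ← h5, pow_orderOf_eq_one]))
      fun h => hp.out.one_lt.ne' (h5.symm.trans (orderOf_eq_one_iff.2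
        ((L.act_hom_eq_one hD hA g₀).2 h)))
    refine ⟨g, (orderOf_eq_prime ?_ (mt (act_extHom_eq_one _ hΓ hA g).1 h7)).symm.dvd⟩
    rw [← map_pow, ← map_pow]
    exact (act_extHom_eq_one _ hΓ hA (g ^ p)).2 h6

theorem bal_field (hI : IsInn act I) {a : Gam D} (hs : a.1.s ≠ 1) (ho : orderOf (act a) = p)
    (hpr : p ≠ r) (hK : KExt f K₀ K) (hf : Fix f a.1.s)
    (H : ∀ D₀ : Form K₀ (Fin (finrank F V) → F₀), D₀.Nondeg →
      (∃ u u', D₀.IsHyp u u') ∧ (p = 2 ∨ (D₀.Rich 5 ∧ HasP D₀ p)))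
    (hr : ∀ j μ (D₀ : Form K₀ (Fin (finrank F V) → F₀)) (L : Lift f j D₀ D μ) y,
      (∀ g ∈ D₀.E, Commute y (act (glin D (L.isomHom g)))) → y ∈ act.range) :
    (∃ y ∈ I, Commute y (act a) ∧ orderOf y = p) → ∀ N, Bal p I (act a) N → N = ⊥ := by
  haveI := hI.std.nontrivial
  obtain ⟨u, h1, h2, h3⟩ := hI.isAct.exists_scaled hs hp.out ho
  obtain ⟨j, μ, D₀, L, hj⟩ := exists_lift_of_pow hK hI.std.nondeg (b := gscal D u * a) hf h3
  rw [← h1]
  exact bal_lift hI L (a := gscal D u * a) hf hj h3 (hI.isAct.orderOf_s hs hp.out ho) hpr hI.std.three_le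
    (H _ (L.nondeg hI.std.nondeg)).1 (H _ (L.nondeg hI.std.nondeg)).2 fun y _ => hr j μ D₀ L y

end lift

section hasP
universe u
variable {F : Type*} [Field F] {V : Type u} [AddCommGroup V] [Module F V] [FiniteDimensional F V]
  {p : ℕ} [hp : Fact p.Prime]

omit [FiniteDimensional F V] in
theorem hasP_of_pow [Nontrivial V] {σ : F →+* F} {K : Kind σ} {D : Form K V} {n : ℕ}
    (hn : ¬ p ∣ n) (h : ∀ a : (gfld D).ker, ∃ c, ∃ g ∈ D.E, a.1.1 ^ n = scal c * lin g.1) :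
    HasP D p := fun a ⟨c, h1⟩ h2 => by
  obtain ⟨c', g, hg, h3⟩ := h a
  have h4 : ∀ k : D.isom, IsScal k ↔ lin k.1 ∈ (scal : Fˣ →* Sem F V).range := fun k =>
    (mem_range_scal (a := lin k.1)).symm
  have h5 : (a.1.1 : _ ⧸ (scal : Fˣ →* Sem F V).range) ^ n = lin g.1 := by
    rw [← QuotientGroup.mk_pow, h3, QuotientGroup.mk_mul,
      (QuotientGroup.eq_one_iff (scal c')).2 (MonoidHom.mem_range.2 ⟨c', rfl⟩), one_mul]
  have h6 : (a.1.1 : _ ⧸ (scal : Fˣ →* Sem F V).range) ^ p = 1 :=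
    (QuotientGroup.eq_one_iff _).2 ⟨c, h1.symm⟩
  refine ⟨⟨g, hg⟩, (h4 _).2 ((QuotientGroup.eq_one_iff _).1 ?_), fun h7 => h2 ?_⟩
  · rw [Subgroup.coe_pow, map_pow, QuotientGroup.mk_pow, ← h5, ← pow_mul, mul_comm, pow_mul, h6, one_pow]
  · rw [(QuotientGroup.eq_one_iff _).2 ((h4 _).1 h7)] at h5
    obtain ⟨c, hc⟩ := (QuotientGroup.eq_one_iff _).1 (eq_one_of_pow_of_coprime h5
      (((hp.out.coprime_iff_not_dvd).2 hn).coprime_dvd_left (orderOf_dvd_of_pow_eq_one h6)))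
    exact ⟨c, hc.symm⟩

omit [FiniteDimensional F V] hp in
theorem exists_sq_eq {K : Kind (RingHom.id F)} {D : Form K V} (a : (gfld D).ker) :
    ∃ c, ∃ g : D.isom, a.1.1 ^ 2 = scal c * lin g.1 := by
  obtain ⟨u, g, h⟩ := IsSim.exists_eq_scal_mul (a := a * a) ((isSim_mult a.1).mul (isSim_mult a.1))
    (c := mult a.1) (by rw [show a.1.1.s = 1 from a.2]; rfl)
  exact ⟨u, g, (sq _).trans (congrArg (·.1.1) h)⟩

theorem not_dvd_two_pow (h2 : p ≠ 2) (k : ℕ) : ¬ p ∣ 2 ^ k := fun h =>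
  h2 ((Nat.prime_dvd_prime_iff_eq hp.out Nat.prime_two).1 (hp.out.dvd_of_dvd_pow h))

theorem hasP_alt [Nontrivial V] {D : Form (altKind F) V} (hD : D.Nondeg) (h2 : p ≠ 2) : HasP D p :=
  hasP_of_pow (not_dvd_two_pow h2 1) fun a =>
    let ⟨c, g, h⟩ := exists_sq_eq a
    ⟨c, g, (Symp.E_eq_top hD).ge trivial, h⟩

theorem hasP_quad [Finite F] {D : Form (quadKind F) V} (hD : D.Nondeg) (hn : 5 ≤ finrank F V)
    (h2 : p ≠ 2) : HasP D p :=
  haveI := (std_quad hD hn).nontrivial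
  hasP_of_pow (not_dvd_two_pow h2 2) fun a =>
    let ⟨c, g, h⟩ := exists_sq_eq a
    ⟨c ^ 2, g ^ 2, (mem_E_iff hD hn).2 ⟨by simp, by simp⟩, by
      rw [sq 2, pow_mul, h, (Commute.symm (scal_comm_of_s (lin_s g.1) c)).mul_pow]; simp⟩

variable {σ : F →+* F} {q : ℕ} {h : Forms.IsConj σ q} {D : Form h.kind V}

omit hp in
theorem exists_quasi (hD : D.Nondeg) [Nontrivial V] {c : F} (hc : c * σ c = 1) (hp : c ^ p = 1) :
    ∃ a, D.B a a ≠ 0 ∧ ∀ k : (D.restrict (D.perp (F ∙ a))).isom, k ^ p = 1 → ∃ g : D.isom,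
      g ^ p = 1 ∧ (D.det g : F) = c * (D.restrict _).det k ∧ g.1 a = c • a ∧
        ∀ x : D.perp (F ∙ a), g.1 x = k.1 x := by
  obtain ⟨a, ha⟩ := Herm.exists_Q_eq hD (map_one σ)
  have h1 : D.B a a ≠ 0 := Herm.B_ne_zero (ha ▸ one_ne_zero)
  refine ⟨a, h1, fun k hk => ⟨glue (isOrthCompl_span_singleton h1) ((D.restrict _).scalar c hc, k), ?_, ?_,
    glue_apply_left _ _ ⟨a, Submodule.mem_span_singleton_self a⟩, glue_apply_right _ _⟩⟩
  · rw [← map_pow, Prod.pow_mk, hk, show (D.restrict _).scalar c hc ^ p = 1 from isom_ext fun x => by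
      rw [pow_apply_of_smul (scalar_apply c hc x), hp, one_smul, isom_one_apply]]
    exact map_one _
  · rw [det_glue, Units.val_mul, det_of_smul (scalar_apply c hc),
      finrank_span_singleton (by rintro rfl; simp at h1), pow_one]

theorem hasP_herm (hD : D.Nondeg) (hn : 3 ≤ finrank F V) (h2 : p ≠ 2) : HasP D p := by
  haveI : Nontrivial V := Module.nontrivial_of_finrank_pos (R := F) (by omega)
  haveI := h.finite
  by_cases hq : p ∣ q + 1
  · rintro - - -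
    obtain ⟨c, hc⟩ := exists_prime_orderOf_dvd_card' (G := Fˣ) p
      (by rw [Nat.card_units, h.card_sub_one]; exact hq.mul_right _)
    have h1 : ∀ c : Fˣ, c ^ p = 1 → (c : F) ^ p = 1 ∧ (c : F) * σ c = 1 := fun c hc => by
      obtain ⟨k, hk⟩ := hq
      have : (c : F) ^ p = 1 := by rw [← Units.val_pow_eq_pow_val, hc, Units.val_one]
      exact ⟨this, by rw [h.norm_eq, hk, pow_mul, this, one_pow]⟩
    have h3 := h1 c (hc ▸ pow_orderOf_eq_one c)
    have h4 := h1 c⁻¹ (by rw [inv_pow, ← hc, pow_orderOf_eq_one, inv_one])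
    obtain ⟨a, ha, H⟩ := exists_quasi hD h3.2 h3.1
    haveI : Nontrivial (D.perp (F ∙ a)) := Module.nontrivial_of_finrank_pos (R := F)
      (by have := finrank_perp_span_singleton ha; omega)
    obtain ⟨b, hb, H'⟩ := exists_quasi (nondeg_perp_singleton hD ha) h4.2 h4.1
    obtain ⟨k, h5, h6, h7, -⟩ := H' 1 (one_pow _)
    obtain ⟨g, h8, h9, h10, h11⟩ := H k h5
    refine ⟨⟨g, (Herm.E_eq hD hn).ge (Units.ext (by simp [h9, h6]))⟩, h8 ▸ isScal_one, ?_⟩
    rintro ⟨t, ht⟩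
    have h12 : t = c := smul_left_injective F (by rintro rfl; simp at ha) ((ht a).symm.trans h10)
    have h13 : t = (c⁻¹ : Fˣ) := smul_left_injective F (m := (b : V))
      (fun h => hb (by simp [h])) ((ht b).symm.trans ((h11 b).trans (congrArg Subtype.val h7)))
    refine not_dvd_two_pow h2 1 (hc ▸ orderOf_dvd_of_pow_eq_one ?_)
    rw [pow_one, sq, mul_eq_one_iff_eq_inv]
    exact Units.ext (h12.symm.trans h13)
  · refine hasP_of_pow hq fun a => ?_
    obtain ⟨x, hx⟩ := exists_ne (0 : V)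
    obtain ⟨u, g, h1⟩ := exists_scal_mul_herm' h ⟨x, hD.exists_ne_zero hx⟩ a
    refine ⟨u ^ (q + 1), g ^ (q + 1), (Herm.E_eq hD hn).ge (Units.ext ?_), ?_⟩
    · rw [map_pow, Units.val_pow_eq_pow_val, ← h.norm_eq, hD.det_mul_σ_det, Units.val_one]
    · rw [show a.1.1 = scal u * lin g.1 from congrArg (·.1.1) h1,
        (Commute.symm (scal_comm_of_s (lin_s g.1) u)).mul_pow]; simp

end hasP

section fam
universe u
variable {F : Type*} [Field F] [Finite F] {V : Type u} [AddCommGroup V] [Module F V]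
  [FiniteDimensional F V] {p r : ℕ} [hp : Fact p.Prime] [Fact r.Prime] [CharP F r]
  {A : Type*} [Group A] {I : Subgroup A}

theorem bal_field_quad {D : Form (quadKind F) V} {act : Gam D →* A} (hI : IsInn act I)
    (hn : 5 ≤ finrank F V) {a : Gam D} (hs : a.1.s ≠ 1) (ho : orderOf (act a) = p) (hpr : p ≠ r)
    (hr : Function.Surjective act) :
    (∃ y ∈ I, Commute y (act a) ∧ orderOf y = p) → ∀ N, Bal p I (act a) N → N = ⊥ :=
  bal_field hI hs ho hpr (kext_quad _) (fix_subfield _) (fun _ hD =>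
    ⟨Quad.exists_isHyp hD (by simp; omega), or_iff_not_imp_left.2 fun h =>
      ⟨Or.inr (by simpa), hasP_quad hD (by simpa) h⟩⟩) fun _ _ _ _ y _ => hr y

theorem bal_field_herm {σ : F →+* F} {q : ℕ} {h : Forms.IsConj σ q} {D : Form h.kind V}
    {act : Gam D →* A} (hI : IsInn act I) {a : Gam D} (hs : a.1.s ≠ 1) (ho : orderOf (act a) = p)
    (hpr : p ≠ r) (h2 : p ≠ 2) (hr : Function.Surjective act) :
    (∃ y ∈ I, Commute y (act a) ∧ orderOf y = p) → ∀ N, Bal p I (act a) N → N = ⊥ := by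
  obtain ⟨σ₀, q₀, h₀, -, hK⟩ := exists_kext_herm h (fix_subfield a.1.s)
    (hI.isAct.orderOf_s hs hp.out ho ▸ hp.out.odd_of_ne_two h2)
  have := hI.std.three_le
  exact bal_field hI hs ho hpr hK (fix_subfield _) (fun _ hD =>
    ⟨Herm.exists_isHyp hD (by simp; omega), Or.inr ⟨Herm.rich _ _, hasP_herm hD (by simpa) h2⟩⟩)
    fun _ _ _ _ y _ => hr y

theorem corr_self {σ : F →+* F} {K : Kind σ} {D : Form K V} {X : Type*} [Group X] (e : X ≃* D.E)
    (hD : Std D) {y : MulAut (X ⧸ Subgroup.center X)} {k : D.isom} (hk : k ∈ D.E)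
    (h : Commute y (gact e hD (glin D k))) : (corr e e hD hD y).R k k := by
  obtain ⟨s, hs⟩ := e.surjective ⟨k, hk⟩
  obtain rfl : (e s).1 = k := congrArg Subtype.val hs
  rw [show gact e hD (glin D (e s).1) = _ from gact_lin e hD s] at h
  exact ⟨s, s, rfl, rfl, (commute_conj_iff (center_quotient_eq_bot e hD)).1 h.symm⟩

theorem mem_range_gact_alt {D : Form (altKind F) V} {X : Type*} [Group X] (e : X ≃* D.E) (hD : Std D)
    {F₀ V₀ : Type*} [Field F₀] [AddCommGroup V₀] [Module F₀ V₀] [FiniteDimensional F₀ V₀] {f : F₀ →+* F}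
    {j : V₀ →+ V} {D₀ : Form (altKind F₀) V₀} {μ : F} (L : Lift f j D₀ D μ)
    {y : MulAut (X ⧸ Subgroup.center X)}
    (H : ∀ g ∈ D₀.E, Commute y (gact e hD (glin D (L.isomHom g)))) : y ∈ (gact e hD).range := by
  have hD₀ := L.nondeg hD.nondeg
  have h3 := hD.three_le
  obtain ⟨u, u', hu⟩ := Symp.exists_isHyp hD₀ (by rw [L.ext.rank]; omega)
  have h0 : j u ≠ 0 := (map_ne_zero_iff _ L.ext.injective).2 hu.e_ne_zero
  refine (mem_range_gact_or e hD y (alt_Q _ _) h0).resolve_right ?_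
  rintro ⟨U, hU, ⟨-, h1, -⟩, h2⟩
  have h4 : ∀ w, D₀.B u w = 0 → ∀ v ∈ U, D.B (j w) v • j w ∈ U := fun w hw v hv => by
    have h5 : D₀.IsEich w 0 1 := Symp.isEich (D₀.B_zero_right w) 1
    have h7 := (h2 _ _ (corr_self e hD (isomHom_eich_mem L h5) (H _ (eich_mem_E w 0 1 h5))) ⟨1, by
        rw [L.isomHom_apply, D₀.eich_apply_of_perp _ (D₀.eq_zero_symm hw)]; simp⟩ v).1 hv
    have h8 := sub_mem h7 hv
    have h9 : (L.isomHom (D₀.eich w 0 1 h5)).1 v = _ := hom_eich L.ext (bx := fun x => μ • D.B (j x))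
      (fun x y => (L.B x y).symm) h5 v
    rw [h9] at h8
    simpa [L.ne, smul_smul] using Submodule.smul_mem _ μ⁻¹ h8
  obtain ⟨v, hv, hv'⟩ : ∃ v ∈ U, v ∉ F ∙ j u := SetLike.not_le_iff_exists.1 fun h => by
    have := Submodule.finrank_mono h
    have := hD.nondeg.finrank_perp U
    rw [finrank_span_singleton h0] at *
    rw [h1] at this
    omega
  obtain ⟨w, hw, hw'⟩ : ∃ w, D₀.B u w = 0 ∧ D.B (j w) v ≠ 0 := by
    by_contra hc
    push Not at hc
    obtain ⟨c, hc⟩ := mem_span_of_bx L.ext hD₀ (bx := fun x => μ • D.B (j x))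
      (fun x y => (L.B x y).symm) hu (v := v) fun z hz => by simp [hc z hz]
    exact hv' (Submodule.mem_span_singleton.2 ⟨c, hc.symm⟩)
  have h5 : ∀ z, D₀.B u z = 0 → j z ∈ U := fun z hz => by
    by_cases h : D.B (j z) v = 0
    · have h6 := (U.smul_mem_iff (by simpa [h] using hw')).1 (h4 (z + w) (by simp [hz, hw]) v hv)
      simpa using sub_mem h6 ((U.smul_mem_iff hw').1 (h4 w hw v hv))
    · exact (U.smul_mem_iff h).1 (h4 z hz v hv)
  haveI : Nontrivial (D₀.hp u u') := Module.nontrivial_of_finrank_pos (R := F₀)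
    (by have := hu.finrank_hp; have := L.ext.rank; omega)
  obtain ⟨z, hz⟩ := exists_ne (0 : D₀.hp u u')
  obtain ⟨z', h6, h7⟩ := hu.exists_B_ne_zero hD₀ z.2 (by simpa using hz)
  exact h7 (f.injective (by
    rw [L.B, hU.le_perp (h5 _ (D₀.mem_hp.1 z.2).1) _ (h5 _ (D₀.mem_hp.1 h6).1), mul_zero, map_zero]))

theorem bal_field_alt {D : Form (altKind F) V} {X : Type*} [Group X] (e : X ≃* D.E) (hD : Std D)
    {a : Gam D} (hs : a.1.s ≠ 1) (ho : orderOf (gact e hD a) = p) (hpr : p ≠ r) :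
    (∃ y ∈ Inn _, Commute y (gact e hD a) ∧ orderOf y = p) →
      ∀ N, Bal p (Inn _) (gact e hD a) N → N = ⊥ := by
  have := hD.three_le
  haveI : Nonempty (Fin (finrank F V)) := ⟨⟨0, by omega⟩⟩
  exact bal_field (isInn_gact e hD) hs ho hpr (kext_alt _) (fix_subfield _) (fun _ hD =>
    ⟨Symp.exists_isHyp hD (by simp; omega), or_iff_not_imp_left.2 fun h =>
      ⟨Symp.rich _ _, hasP_alt hD h⟩⟩) fun _ _ _ L _ => mem_range_gact_alt e hD L

omit [Finite F] [FiniteDimensional F V] in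
theorem orderOf_act_pi {ι : Type*} {Γ : Subgroup (Sem F (ι → F))} {act : Γ →* A} (hA : IsAct act)
    {s : F ≃+* F} (hs : s ≠ 1) (ho : orderOf s = p) (h : pi ι s ∈ Γ) : orderOf (act ⟨_, h⟩) = p :=
  orderOf_eq_prime (by
    rw [← map_pow, show (⟨_, h⟩ : Γ) ^ p = 1 from Subtype.ext (ho ▸ pi_pow_orderOf ι s), map_one])
    fun h1 => let ⟨_, hc⟩ := (hA.ker _).1 h1; hs (congrArg Sem.s hc)

omit [Finite F] [FiniteDimensional F V] in
theorem exists_conj_eq_of_coset {σ : F →+* F} {K : Kind σ} {D : Form K V} {act : Gam D →* A}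
    {a b : Gam D} (hs : a.1.s = b.1.s) (ho : orderOf (act a) = p)
    (H : ∀ δ ∈ (gfld D).ker.map act, orderOf (δ * act b) = p →
      IsConjUnder ((gfld D).ker.map act) (act b) (δ * act b)) : ∃ α, α * act a * α⁻¹ = act b := by
  obtain ⟨h, -, h1⟩ := H (act (a * b⁻¹)) ⟨_, by
    rw [SetLike.mem_coe, MonoidHom.mem_ker, map_mul, map_inv, gfld_apply, gfld_apply, hs,
      mul_inv_cancel], rfl⟩ (by simpa using ho)
  exact ⟨h⁻¹, by rw [show act a = h * act b * h⁻¹ by simpa using h1]; group⟩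

omit hp in
theorem mem_of_index_two {H : Subgroup A} {δ x : A} (h : ∀ β, β ∈ H ∨ δ * β ∈ H) (hx : Odd (orderOf x)) :
    x ∈ H := by
  have h1 : ∀ β, β * β ∈ H := fun β => by
    by_contra hc
    have h2 := (h β).resolve_left fun h => hc (mul_mem h h)
    have h3 := (h β⁻¹).resolve_left fun h => hc (by simpa using inv_mem (mul_mem h h))
    exact hc (by simpa [mul_assoc] using mul_mem (inv_mem h3) h2)
  obtain ⟨k, hk⟩ := hx
  have h2 : x = (x * x) ^ (k + 1) := by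
    rw [← sq, ← pow_mul, show 2 * (k + 1) = orderOf x + 1 by omega, pow_succ, pow_orderOf_eq_one, one_mul]
  exact h2 ▸ pow_mem (h1 x) _

end fam

end Cfsg.Lib.Conj
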