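import Cfsg.Agent.Lib.Conj.Gra

/-!
Local balance for linear and unitary groups.
-/

set_option autoImplicit false

namespace Cfsg.Lib.Conj

open Module Cfsg.Lib.Forms Cfsg.Lib.Forms.Form Cfsg.Lib.CAut Cfsg.Lib.CAut.Sem

universe u

section bilin
variable {F₀ F : Type*} [Field F₀] [Field F] {V : Type u} {V₀ : Type*} [AddCommGroup V] [Module F V]
  [AddCommGroup V₀] [Module F₀ V₀] {f : F₀ →+* F} {j : V₀ →+ V} {b : LinearMap.BilinForm F₀ V₀}
  {A : Type*} [Group A] {I N : Subgroup A} {x : A} {r : ℕ} [Fact r.Prime] [CharP F r]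
  [FiniteDimensional F₀ V₀] [Nontrivial V]

theorem Bal.eq_bot_of_bilin [Finite F₀] [I.Normal] {Γ : Subgroup (Sem F V)} {act : Γ →* A}
    (hN : Bal 2 I x N) (h : Ext f j) (hA : IsAct act) (hb : Rf b) (h3 : 3 ≤ finrank F₀ V₀) (hr2 : 2 ≠ r)
    (hΓ : ∀ g ∈ simB b, lin (h.hom g) ∈ Γ)
    (H1 : ∀ g (hg : g ∈ isoB b), LinearEquiv.det g = 1 →
      act ⟨_, hΓ g (isoB_le hg)⟩ ∈ I ∧ Commute (act ⟨_, hΓ g (isoB_le hg)⟩) x)
    (H2 : ∀ y ∈ I, Commute y x → ∃ g hg, y = act ⟨_, hΓ g hg⟩)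
    (hs : ∀ s : F ≃+* F, (∀ t, s (f t) = f t) → s ^ 2 = 1) (hr : ∀ y ∈ N, y ∈ act.range) : N = ⊥ := by
  haveI := f.charP f.injective r
  haveI := Module.nontrivial_of_finrank_pos (R := F₀) (M := V₀) (by omega)
  have h2 : (2 : F₀) ≠ 0 := fun h2 => hr2 ((Nat.prime_dvd_prime_iff_eq Fact.out Nat.prime_two).1
    ((CharP.cast_eq_zero_iff F₀ r 2).1 h2)).symm
  have key : ∀ {K₀ : Kind (RingHom.id F₀)} {D₀ : Form K₀ V₀}, D₀.Nondeg → KNat K₀ →
      (∃ e e', D₀.IsHyp e e') → isoB b = D₀.isom → (∀ g ∈ simB b, lin g ∈ Gam D₀) → N = ⊥ :=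
    fun {_ D₀} hD hK ⟨e, e', he⟩ h4 h5 => hN.eq_bot_of_ext h (fun g => hΓ _ (isoB_le (h4.ge g.1.2))) hA hD h3
      he hr2 hK (fun g => (H1 _ (h4.ge g.1.2) (E_le_ker_det g.2)).1)
      (fun g => (H1 _ (h4.ge g.1.2) (E_le_ker_det g.2)).2)
      (fun y hy hy' => let ⟨g, hg, h6⟩ := H2 y hy' (hN.comm y hy); ⟨g, h5 g hg, _, h6⟩) (Or.inl rfl) hs
      fun y hy _ => hr y hy
  rcases hb.symm_or with h4 | ⟨-, h4⟩
  · obtain ⟨D, hD, rfl⟩ := hb.exists_quad h2 h4
    exact key hD knat_quad (Quad.exists_isHyp hD h3) (isoB_quad D h2)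
      fun g hg => hg.imp fun _ => (simB_iff_quad h2).1
  · obtain ⟨D, hD, rfl⟩ := hb.exists_alt h4
    exact key hD knat_alt (Symp.exists_isHyp hD (by omega)) (isoB_alt D)
      fun g hg => hg.imp fun _ => simB_iff_alt.1

omit [Nontrivial V] in
theorem bal_graph_herm [Finite F] [FiniteDimensional F V] {s : F ≃+* F} {q : ℕ}
    {h : Forms.IsConj (s : F →+* F) q} {D : Form h.kind V} {act : Gam D →* A} (hI : IsInn act I)
    (hsurj : Function.Surjective act) {a : Gam D} (hs : a.1.s ≠ 1) (ho : orderOf (act a) = 2)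
    (hr2 : 2 ≠ r) (N : Subgroup A) (hN : Bal 2 I (act a) N) : N = ⊥ := by
  haveI := hI.std.nontrivial
  haveI := hI.normal
  have hA := hI.isAct
  have hD := hI.std.nondeg
  have h3 := hI.std.three_le
  have hf := fix_subfield s
  obtain ⟨u, h4, h5, h6⟩ := hA.exists_scaled hs Nat.prime_two ho
  obtain ⟨j, μ, b, hb, R⟩ := exists_RU hf (V₀ := Fin (finrank F V) → FixedPoints.subfield (Subgroup.zpowers s) F) hD (by simp) (h5.trans
    (eq_of_orderOf_two (hA.orderOf_s hs Nat.prime_two ho) (orderOf_isConj h))) h6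
  haveI : Nonempty (Fin (finrank F V)) := ⟨⟨0, by omega⟩⟩
  rw [← h4] at hN
  refine hN.eq_bot_of_bilin R.ext hA hb (by simpa) hr2 (fun g hg => (R.hom ⟨g, hg⟩).2)
    (fun g hg h7 => ⟨?_, (R.commute_iff hf hA hb rfl).2 ⟨1, ⟨g, isoB_le hg⟩, by simp; rfl⟩⟩)
    (fun y hy hc => ?_) (fun t ht => orderOf_isConj h ▸ Fix.pow_eq_one hf ht) fun y _ => hsurj y
  · have h8 := R.isSim_map R hg
    rw [map_one, one_mul, div_self R.ne] at h8
    refine hI.mem ⟨_, h8.mem_isom rfl⟩ ((Herm.E_eq hD h3).ge (Units.ext ?_))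
    refine (LinearEquiv.coe_det _).trans ((R.ext.det_hom g).trans ?_)
    rw [← LinearEquiv.coe_det, h7, Units.val_one, map_one, Units.val_one]
  · obtain ⟨k, -, rfl⟩ := hI.ex y hy
    obtain ⟨c, g, h7⟩ := (R.commute_iff hf hA hb rfl).1 hc
    exact ⟨g.1, g.2, by rw [h7, map_mul, show act (gscal D c) = 1 from hA.scal c, one_mul]; rfl⟩

end bilin

section psl
open Matrix Linear
variable {F₀ F : Type*} [Field F₀] [Field F] {n : ℕ} {f : F₀ →+* F} {p r : ℕ} [hp : Fact p.Prime]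
  [Fact r.Prime] [CharP F r]

local notation "tv" => SpecialLinearGroup.transvection

theorem exists_dvd_orderOf_sl [Finite F] (hn : 2 ≤ n) {A : Type*} [Group A]
    {φ : SpecialLinearGroup (Fin n) F →* A} (hφ : ∀ g, φ g = 1 → g.toGL ∈ Subgroup.center _)
    (h : p = 2 ∨ p ∣ Nat.card F - 1) : ∃ g, p ∣ orderOf (φ g) := by
  haveI := Fin.nontrivial_iff_two_le.2 hn
  obtain ⟨i, k, hik⟩ := exists_pair_ne (Fin n)
  let D : Form (altKind F) (Fin n → F) := ofAlt 0 fun _ => rfl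
  let ι : SpecialLinearGroup (Fin n) F →* D.isom :=
    (slIota _ F).codRestrict _ fun _ => ⟨fun _ _ => rfl, fun _ => rfl⟩
  have h0 : ∀ g x, (ι g).1 x = g • x := fun _ _ => rfl
  have h1 : ∀ g, φ g = 1 → IsScal (ι g) := fun g hg => isSc_iff.2 (mem_center_iff_scal.1 (hφ g hg))
  by_cases h2 : p = 2
  · refine ⟨tv hik 1 * tv hik.symm (-1) * tv hik 1, h2 ▸ (even_orderOf_of_swap h1 (a := Pi.single i 1)
      (b := Pi.single k 1) (c := -1) (c' := 1) (fun h => ?_) ?_ ?_).two_dvd⟩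
    · obtain ⟨c, hc⟩ := Submodule.mem_span_singleton.1 h
      simpa [hik] using congrFun hc k
    all_goals
      funext l
      simp only [h0, mul_smul, sl_transvection_smul_apply]
      by_cases h3 : l = i
      · simp [h3, hik, hik.symm]
      · by_cases h4 : l = k <;> simp [h3, h4, hik, hik.symm]
  obtain ⟨c, hc⟩ := exists_prime_orderOf_dvd_card' (G := Fˣ) p
    (by rw [Nat.card_units]; exact h.resolve_left h2)
  refine ⟨SpecialLinearGroup.diag2n hik c c.ne_zero, ?_⟩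
  set m := orderOf (φ (SpecialLinearGroup.diag2n hik c c.ne_zero))
  obtain ⟨t, ht⟩ := h1 (SpecialLinearGroup.diag2n hik (c : F) c.ne_zero ^ m) (by rw [map_pow, pow_orderOf_eq_one])
  have h3 : ∀ l (u : F), (if l = i then (c : F) else if l = k then (c : F)⁻¹ else 1) = u → u ^ m = t :=
    fun l u hu => by
      have := ht (Pi.single l 1)
      rw [map_pow, pow_apply_of_smul (c := u) (funext fun l' => by
        by_cases h : l' = l <;> simp [h0, sl_diag2n_smul_apply, h, hu])] at this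
      simpa using congrFun this l
  have h4 : c ^ (2 * m) = 1 := Units.ext (by
    rw [two_mul, pow_add, Units.val_mul, Units.val_pow_eq_pow_val, Units.val_one]
    nth_rewrite 1 [h3 i c (by simp), ← h3 k (c : F)⁻¹ (by simp [hik.symm])]
    simp)
  exact ((Nat.Prime.dvd_mul hp.out).1 (hc ▸ orderOf_dvd_of_pow_eq_one h4)).resolve_left
    fun h => not_dvd_two_pow h2 1 (by simpa)

omit hp
variable [Finite F]

omit [Fact r.Prime] [CharP F r] in
theorem center_psl : Subgroup.center (ProjectiveSpecialLinearGroup (Fin n) F) = ⊥ :=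
  eq_bot_iff.2 fun k hk => by
    obtain ⟨k, rfl⟩ := QuotientGroup.mk_surjective k
    have h1 : k.toGL ∈ Subgroup.center _ := ker_pslConj.le ((pslConj_toGL k).trans (MulEquiv.ext fun g =>
      mul_inv_eq_iff_eq_mul.2 (Subgroup.mem_center_iff.1 hk g).symm))
    exact (QuotientGroup.eq_one_iff k).2 (Subgroup.mem_center_iff.2 fun g =>
      SpecialLinearGroup.toGL_injective (by simpa using Subgroup.mem_center_iff.1 h1 g.toGL))

omit [Fact r.Prime] [CharP F r] in
theorem two_dvd_card_psl (hn : 2 ≤ n) : 2 ∣ Nat.card (ProjectiveSpecialLinearGroup (Fin n) F) :=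
  let ⟨_, h⟩ := exists_dvd_orderOf_sl (p := 2) hn (φ := QuotientGroup.mk' _) (fun g hg =>
    ker_pslConj.le ((pslConj_toGL g).trans ((congrArg MulAut.conj hg).trans (map_one _)))) (Or.inl rfl)
  h.trans (orderOf_dvd_natCard _)

include r in
theorem exists_field_of_fix (hn : 2 ≤ n) {y : MulAut (ProjectiveSpecialLinearGroup (Fin n) F)}
    (h : ∀ (i k : Fin n) (hik : i ≠ k) c, y (tv hik (f c) :) = (tv hik (f c) :)) :
    ∃ s : F ≃+* F, (∀ c, s (f c) = f c) ∧ y = pslField _ F s := by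
  haveI := Fin.nontrivial_iff_two_le.2 hn
  obtain ⟨α, rfl⟩ := centerQuotAut_sl_surjective y
  have h1 : ∀ i k (hik : i ≠ k) c, α (tv hik (f c)) = tv hik (f c) := fun i k hik c =>
    sl_eq_of_mk_eq (p := r) (h i k hik c) (by rw [← map_pow, (isTv_transvection hik _).pow_char, map_one])
      (isTv_transvection hik _).pow_char
  obtain ⟨g, s, rfl | ⟨h3, rfl⟩⟩ := sl_aut_factor α
  · simp only [MulAut.mul_apply, slField_transvection] at h1
    have hg : g ∈ Subgroup.center _ := by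
      obtain ⟨t, ht⟩ := mem_range_scalar_of_commute_single (M := g.1) fun i k hik => by
        have h2 : g.1 * (1 + single i k (s (f 1))) * g⁻¹.1 = 1 + single i k (f 1) :=
          congrArg Subtype.val (h1 i k hik 1)
        rw [map_one, map_one, Units.mul_inv_eq_iff_eq_mul, mul_add, add_mul, mul_one, one_mul,
          add_right_inj] at h2
        exact h2.symm
      exact Subgroup.mem_center_iff.2 fun k => Units.ext (by
        rw [Units.val_mul, Units.val_mul, ← ht]; exact (scalar_commute t (mul_comm t) _).eq.symm)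
    rw [slConj_eq_one_of_mem_center hg] at h1 ⊢
    obtain ⟨i, k, hik⟩ := exists_pair_ne (Fin n)
    exact ⟨s, fun c => transvection_injective hik (h1 i k hik c), by rw [one_mul]; rfl⟩
  · have h2 : ∀ i k, i ≠ k → ∀ l, l ≠ k → g.1 l i = 0 := fun i k hik l hl => by
      have h2 := h1 k i hik.symm 1
      rw [MulAut.mul_apply, MulAut.mul_apply, slInvT_transvection, slField_transvection] at h2
      have h3 : g.1 * (1 + single i k (s (-f 1))) * g⁻¹.1 = 1 + single k i (f 1) := congrArg Subtype.val h2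
      rw [map_one, Units.mul_inv_eq_iff_eq_mul, mul_add, add_mul, mul_one, one_mul, add_right_inj] at h3
      simpa [hl] using congrFun₂ h3 l k
    obtain ⟨k, hk⟩ := exists_col_ne_zero g.det_ne_zero ⟨0, by omega⟩
    obtain ⟨l, h4, h5⟩ := exists_third_index (by simpa) ⟨0, by omega⟩ k
    exact (hk (h2 _ l h4.symm k h5.symm)).elim

omit [Fact r.Prime] [CharP F r]

theorem field_commute (hn : 2 ≤ n) {s : F ≃+* F} (hf : Fix f s) (g : GL (Fin n) F₀) :
    Commute (pslConj _ F (GeneralLinearGroup.map f g)) (pslField _ F s) := by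
  rw [← slAct_lin, ← hom_glEquiv, ← slAct_pi]
  exact Commute.map (Subtype.ext ((ext_pi f _).commute_hom hf.pi_comp _).eq) _

theorem exists_of_field_commute (hn : 2 ≤ n) {s : F ≃+* F} (hf : Fix f s) {g : GL (Fin n) F}
    (H : Commute (pslConj _ F g) (pslField _ F s)) :
    ∃ g₀, pslConj _ F g = pslConj _ F (GeneralLinearGroup.map f g₀) := by
  haveI := Fin.nontrivial_iff_two_le.2 hn
  rw [← slAct_lin, ← slAct_pi, (isAct_slAct hn).commute_iff (Subtype.ext (pi_pow_orderOf _ s)) rfl] at H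
  obtain ⟨u, H⟩ := H
  obtain ⟨k, hk⟩ := (ext_pi f _).exists_hom_eq (a := pi _ s) hf hf.pi_comp
    (g := glEquiv _ F (GeneralLinearGroup.scalar _ u * g))
    (by rw [map_mul, map_mul, lin_scalar]; exact congrArg Subtype.val H)
  obtain ⟨k, rfl⟩ := (glEquiv _ F₀).surjective k
  rw [hom_glEquiv, (glEquiv _ F).apply_eq_iff_eq] at hk
  exact ⟨k, (pslConj_eq_iff.2 ⟨u, hk⟩).symm⟩

theorem pslConj_map_eq_one (hn : 2 ≤ n) {g : GL (Fin n) F₀} :
    pslConj _ F (GeneralLinearGroup.map f g) = 1 ↔ g ∈ Subgroup.center _ := by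
  haveI := Fin.nontrivial_iff_two_le.2 hn
  rw [← MonoidHom.mem_ker, ker_pslConj, mem_center_iff_scal, mem_center_iff_scal, ← hom_glEquiv,
    ← isSc_iff, ← isSc_iff]
  exact (ext_pi f _).hom_eq_smul_iff

variable [Fact r.Prime] [CharP F r]

theorem bal_field_psl [hp : Fact p.Prime] (hn : 2 ≤ n) {s : F ≃+* F} (hf : Fix f s) (ho : orderOf s = p) (hpr : p ≠ r) :
    (∃ y ∈ Inn _, Commute y (pslField (Fin n) F s) ∧ orderOf y = p) →
      ∀ N, Bal p (Inn _) (pslField (Fin n) F s) N → N = ⊥ := by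
  rintro ⟨_, ⟨y, rfl⟩, h1, h2⟩ N hN
  haveI := f.charP f.injective r
  haveI := Finite.of_injective _ f.injective
  set φ := (pslConj (Fin n) F).comp ((GeneralLinearGroup.map f).comp SpecialLinearGroup.toGL)
  have h3 : ∀ g, φ g = MulAut.conj (SpecialLinearGroup.map f g : ProjectiveSpecialLinearGroup _ F) :=
    fun g => Eq.trans (congrArg (pslConj _ F) (Units.ext (by rfl))) (pslConj_toGL (SpecialLinearGroup.map f g))
  have h4 : ∀ g, φ g ∈ Inn _ := fun g => ⟨_, (h3 g).symm⟩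
  have h5 : ∀ g, Commute (φ g) _ := fun g => field_commute hn hf _
  have h6 : ∀ y ∈ Inn _, Commute y (pslField (Fin n) F s) →
      ∃ g₀, y = pslConj _ F (GeneralLinearGroup.map f g₀) := fun y hy hc => by
    obtain ⟨g, rfl⟩ := Inn_le_range_pslConj hy
    exact exists_of_field_commute hn hf hc
  refine hN.eq_bot {φ.range} (fun _ hL => hL ▸ ⟨?_, ?_, fun y hy hy' => ?_, ?_⟩) fun y hy H => ?_
  · rintro _ ⟨g, rfl⟩; exact h4 g
  · rintro _ ⟨g, rfl⟩; exact h5 g
  · rintro _ ⟨g, rfl⟩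
    obtain ⟨k, rfl⟩ := h6 y hy' (hN.comm y hy)
    exact ⟨slConj _ _ k g, by simp [φ, toGL_slConj]⟩
  · rintro _ hy ⟨g, rfl⟩
    haveI := hN.normal_comap h4 h5
    rcases sl_normal_le_center_or_commutator_le (N.comap φ) with h | h
    · refine (pslConj_map_eq_one hn).2 (ker_pslConj.le ((pslConj_toGL g).trans ?_))
      rw [(QuotientGroup.eq_one_iff g).2 (h hy), map_one]
    obtain ⟨k, hk⟩ : ∃ k, p ∣ orderOf (φ k) := by
      by_cases h7 : p ∣ Nat.card F₀ - 1
      · exact exists_dvd_orderOf_sl hn (fun g => (pslConj_map_eq_one hn).1) (Or.inr h7)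
      obtain ⟨k, hk⟩ := h6 _ ⟨y, rfl⟩ h1
      obtain ⟨k', hk'⟩ : ∃ k' : SpecialLinearGroup (Fin n) F₀, k'.toGL = k ^ (Nat.card F₀ - 1) :=
        ⟨⟨(k ^ (Nat.card F₀ - 1)).1, by rw [← GeneralLinearGroup.val_det_apply, map_pow, ← Nat.card_units,
          pow_card_eq_one', Units.val_one]⟩, Units.ext rfl⟩
      refine ⟨k', ?_⟩
      rw [show φ k' = MulAut.conj y ^ _ by rw [hk, ← map_pow, ← map_pow, ← hk']; rfl,
        Nat.Coprime.orderOf_pow (h2 ▸ hp.out.coprime_iff_not_dvd.2 h7), h2]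
    refine (hN.not_dvd hpr (k := 1) (g := φ k) ?_ hk).elim
    rw [pow_one, ← map_pow]
    refine h ((Abelianization.ker_of (G := SpecialLinearGroup (Fin n) F₀)).le (MonoidHom.mem_ker.2 ?_))
    rw [map_pow]
    exact sl_transvection_induction (fun k => Abelianization.of k ^ r = 1) (by simp) (fun i k h c => by
      rw [← map_pow, (isTv_transvection h c).pow_char, map_one])
      (fun _ _ h h' => by rw [map_mul, mul_pow, h, h', one_mul]) k
  · obtain ⟨t, h7, rfl⟩ := exists_field_of_fix (r := r) (f := f) hn (y := y) fun i k hik c => by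
      have := (commute_conj_iff center_psl).1 (h3 _ ▸ (H _ rfl _ ⟨tv hik c, rfl⟩).symm)
      rwa [show SpecialLinearGroup.map f (tv hik c) = tv hik (f c) from Subtype.ext (by
        simp [SpecialLinearGroup.transvection_coe, Matrix.map_add])] at this
    exact eq_one_of_pow_of_coprime (by rw [← map_pow, ← ho, Fix.pow_eq_one hf h7, map_one]) (hN.cop _ hy)

omit [Fact r.Prime] [CharP F r] in
theorem mem_range_slAct {y : MulAut (ProjectiveSpecialLinearGroup (Fin n) F)} (h : (orderOf y).Coprime 2) :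
    y ∈ (slAct (Fin n) F).range :=
  mem_of_index_two (δ := pslInvT _ F) (fun β => by
    obtain ⟨g, s, rfl | ⟨-, rfl⟩⟩ := psl_aut_factor β
    · exact Or.inl ⟨_, slAct_sm g s⟩
    · exact Or.inr ⟨_, (slAct_sm _ s).trans (by rw [mul_assoc (pslConj _ F g), ← mul_assoc,
        pslInvT_mul_pslConj, ← pslInvT_mul_pslField, mul_assoc, ← mul_assoc (pslInvT _ F),
        pslInvT_mul_self, one_mul])⟩) (Nat.coprime_two_right.1 h)

omit [Finite F] [Fact r.Prime] [CharP F r] in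
theorem slAct_hom (g : (Fin n → F) ≃ₗ[F] (Fin n → F)) :
    slAct _ F ⟨lin (ext_id.hom g), trivial⟩ = pslConj _ F ((glEquiv _ F).symm g) := by
  rw [← slAct_lin, MulEquiv.apply_symm_apply, hom_ext_id]

omit [Fact r.Prime] [CharP F r] in
theorem pslConj_symm_mem {g : (Fin n → F) ≃ₗ[F] (Fin n → F)} (h : LinearEquiv.det g = 1) :
    pslConj _ F ((glEquiv _ F).symm g) ∈ Inn _ :=
  pslConj_mem_Inn_iff.2 (by
    rw [MonoidHom.mem_ker, detMod, MonoidHom.comp_apply, ← det_glEquiv, MulEquiv.apply_symm_apply, h,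
      map_one])

theorem bal_graph_psl (hn : 3 ≤ n) (hr2 : 2 ≠ r) {g : GL (Fin n) F}
    (ho : orderOf (pslConj _ F g * pslInvT _ F) = 2) (N : Subgroup _)
    (hN : Bal 2 (Inn _) (pslConj _ F g * pslInvT _ F) N) : N = ⊥ := by
  haveI : Nonempty (Fin n) := ⟨⟨0, by omega⟩⟩
  obtain ⟨ε, -, h⟩ := repL_sq.1 (ho ▸ pow_orderOf_eq_one _)
  have key : ∀ k, Commute (pslConj _ F ((glEquiv _ F).symm k)) (pslConj _ F g * pslInvT _ F) ↔
      k ∈ simB (toBilin' g⁻¹.1) := fun k =>
    mul_inv_eq_iff_eq_mul.symm.trans (repL_key.trans (by rw [MulEquiv.apply_symm_apply]; rfl))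
  refine hN.eq_bot_of_bilin ext_id (isAct_slAct (by omega))
    ⟨(Nondegenerate.toBilin' (nondegenerate_of_det_ne_zero g⁻¹.det_ne_zero)).1, ε, h⟩ (by simpa) hr2
    (fun _ _ => trivial) (fun k hk h1 => slAct_hom k ▸ ⟨pslConj_symm_mem h1, (key k).2 (isoB_le hk)⟩)
    (fun y hy hc => ?_) (fun s hs => by rw [show s = 1 from RingEquiv.ext hs, one_pow])
    fun y hy => mem_range_slAct (hN.cop y hy)
  obtain ⟨k, rfl⟩ := Inn_le_range_pslConj hy
  obtain ⟨k, rfl⟩ := (glEquiv _ F).symm.surjective k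
  exact ⟨k, (key k).1 hc, (slAct_hom k).symm⟩

theorem bal_gf_psl (hn : 3 ≤ n) (hr2 : 2 ≠ r) {s : F ≃+* F} {q : ℕ} (h : Forms.IsConj (s : F →+* F) q)
    (N : Subgroup _) (hN : Bal 2 (Inn _) (pslField (Fin n) F s * pslInvT _ F) N) : N = ⊥ := by
  haveI : Nonempty (Fin n) := ⟨⟨0, by omega⟩⟩
  have hD := stdHerm_nondeg h (Fin n)
  obtain ⟨e, e', he⟩ := Herm.exists_isHyp hD (by simp; omega)
  refine hN.eq_bot_of_ext (Γ := ⊤) ext_id (fun _ => trivial) (isAct_slAct (by omega)) hD (by simpa) he hr2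
    (knat_herm h) (fun g => (slAct_hom g.1.1).symm ▸ pslConj_symm_mem (E_le_ker_det g.2))
    (fun g => ?_) (fun y hy hy' => ?_) (Or.inl rfl)
    (fun s hs => by rw [show s = 1 from RingEquiv.ext hs, one_pow]) fun y hy _ =>
      mem_range_slAct (hN.cop y hy)
  · refine (slAct_hom g.1.1).symm ▸ (gf_commute_iff h (by omega) _).2
      ⟨1, (guEquiv h n).symm g.1, map_one _, (glEquiv _ F).injective ?_⟩
    rw [one_mul, MulEquiv.apply_symm_apply]
    exact (congrArg Subtype.val ((guEquiv h n).apply_symm_apply g.1)).symm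
  · obtain ⟨k, rfl⟩ := Inn_le_range_pslConj hy'
    obtain ⟨z, g, h1, rfl⟩ := (gf_commute_iff h (by omega) _).1 (hN.comm _ hy)
    refine ⟨_, lin_mem_Gam (guEquiv h n g), trivial, ?_⟩
    rw [map_mul, h1, one_mul, slAct_hom]
    exact congrArg _ ((glEquiv _ F).symm_apply_apply _).symm

end psl

end Cfsg.Lib.Conj
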