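import Cfsg.Agent.Lib.Conj.BalG
import Cfsg.Agent.Lib.Conj.SS
import Mathlib.Algebra.QuadraticAlgebra.NormDeterminant

/-!
Involutory graph automorphisms of even-dimensional orthogonal groups.
-/

set_option autoImplicit false

namespace Cfsg.Lib.Conj

open Module Cfsg.Lib.Forms Cfsg.Lib.Forms.Form Cfsg.Lib.CAut Cfsg.Lib.CAut.Sem

universe u v

section gen
variable {F : Type*} [Field F] {V : Type u} [AddCommGroup V] [Module F V] {A : Type*} [Group A]

theorem exists_conj_eq_scal {Γ : Subgroup (Sem F V)} {act : Γ →* A} [Nontrivial V] (hA : IsAct act)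
    {a b : Γ} (ha : a.1.s = 1) {c : Fˣ} (hc : a.1 ^ 2 = scal c) (hb : b.1.s c = c)
    (h : Commute (act b) (act a)) : ∃ u : Fˣ, (u = 1 ∨ u = -1) ∧ b.1 * a.1 * b.1⁻¹ = scal u * a.1 := by
  obtain ⟨u, h1⟩ := (hA.ker (b * a * b⁻¹ * a⁻¹)).1 (by
    simp only [map_mul, map_inv]; exact commutatorElement_eq_one_iff_commute.2 h)
  have h2 : b.1 * a.1 * b.1⁻¹ = scal u * a.1 := by simp [← h1]
  have h3 := congrArg (· ^ 2) h2
  simp only [conj_pow, hc, (Commute.symm (scal_comm_of_s ha u)).mul_pow, conj_scal, ← map_pow,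
    ← map_mul] at h3
  rw [scal_injective.eq_iff, show Units.map (b.1.s : F →* F) c = c from Units.ext hb, right_eq_mul] at h3
  exact ⟨u, by simpa only [Units.ext_iff, Units.val_pow_eq_pow_val, Units.val_one, Units.val_neg,
    _root_.sq_eq_one_iff] using h3, h2⟩

theorem exists_commute_of_odd {Γ : Subgroup (Sem F V)} {act : Γ →* A} [Nontrivial V] (hA : IsAct act)
    {a b : Γ} (ha : a.1.s = 1) {c : Fˣ} (hc : a.1 ^ 2 = scal c) (hb : b.1.s c = c)
    (h : Commute (act b) (act a)) (ho : (orderOf (act b)).Coprime 2) :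
    ∃ k, act (b ^ k) = act b ∧ Commute (b ^ k) a := by
  obtain ⟨u, h1, h2⟩ := exists_conj_eq_scal hA ha hc hb h
  obtain ⟨k, hk⟩ := exists_pow_eq_self_of_coprime ho.symm
  refine ⟨2 * k, by rw [pow_mul, map_pow, map_pow, hk], ?_⟩
  rw [pow_mul]
  refine Commute.pow_left (Subtype.ext (mul_inv_eq_iff_eq_mul.1 ?_)) k
  have h3 : b.1 * scal u * b.1⁻¹ = scal u := by
    rw [conj_scal]; congr 1; rcases h1 with rfl | rfl <;> exact Units.ext (by simp)
  have h4 : (scal u : Sem F V) * scal u = 1 := by rw [← map_mul]; rcases h1 with rfl | rfl <;> simp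
  calc _ = b.1 * (b.1 * a.1 * b.1⁻¹) * b.1⁻¹ := by simp [sq, mul_assoc]
    _ = b.1 * scal u * b.1⁻¹ * (b.1 * a.1 * b.1⁻¹) := by nth_rewrite 1 [h2]; group
    _ = _ := by rw [h3, h2, ← mul_assoc, h4, one_mul]

theorem sq_of_scal {K : Kind (RingHom.id F)} {D : Form K V} [Nontrivial V] (hD : D.Nondeg) {g : D.isom}
    {t : F} (h : ∀ x, g.1 x = t • x) : t ^ 2 = 1 := by
  obtain ⟨x, hx⟩ := exists_ne (0 : V)
  obtain ⟨y, hy⟩ := hD.exists_ne_zero hx
  have := B_isom g x y
  rw [h, h, B_smul_left, B_smul_right, ← mul_assoc] at this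
  exact (sq t).trans (mul_right_cancel₀ hy (this.trans (one_mul _).symm))

variable {σ : F →+* F} {K : Kind σ} {D : Form K V} {V' : Type u} [AddCommGroup V'] [Module F V']
  {D' : Form K V'}

theorem isomCongr_mem_E {e : V ≃ₗ[F] V'} (h : IsIsometry D D' e) {g : D.isom} (hg : g ∈ D.E) :
    isomCongr e h g ∈ D'.E :=
  (E_le (G := D'.E.comap (isomCongr e h).toMonoidHom) fun _ _ _ hu =>
    show isomCongr e h _ ∈ D'.E from (isomCongr_eich h hu ⟨(h.Q_map _).trans hu.Q_e,
      (h.B_map _ _).trans hu.B_ez, hu.tr_d.trans (h.Q_map _).symm⟩).symm ▸ eich_mem_E _ _ _ _) hg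

theorem exists_gact_congr {X X' : Type*} [Group X] [Group X'] (j : X ≃* D.E) (j' : X' ≃* D'.E) (hD : Std D)
    (hD' : Std D') {e : V ≃ₗ[F] V'} (h : IsIsometry D D' e) :
    ∃ ψ : X ⧸ Subgroup.center X ≃* X' ⧸ Subgroup.center X', ∀ a : Gam D, ∃ a' : Gam D',
      a'.1.s = a.1.s ∧ MulAut.congr ψ (gact j hD a) = gact j' hD' a' := by
  let ε : D.E ≃* D'.E := { (isomCongr e h).toEquiv.subtypeEquiv fun g => ⟨isomCongr_mem_E h, fun H => by
    simpa using (isomCongr e h).symm_apply_apply g ▸ isomCongr_mem_E h.symm H⟩ with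
      map_mul' := fun _ _ => Subtype.ext (map_mul (isomCongr e h) _ _) }
  refine ⟨Linear.quotientCenterCongr (j.trans (ε.trans j'.symm)), fun a =>
    ⟨⟨congr e a.1, _, isSim_congr h (isSim_mult a).ne (isSim_mult a).B (isSim_mult a).Q⟩, rfl,
      MulEquiv.ext fun y => ?_⟩⟩
  obtain ⟨y, rfl⟩ := (Linear.quotientCenterCongr (j.trans (ε.trans j'.symm))).surjective y
  obtain ⟨s, rfl⟩ := QuotientGroup.mk_surjective y
  have h1 := gact_mk j hD a s (j.symm ⟨_, cjI_mem_E hD.nat hD.nondeg a (j s).2⟩) (by simp)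
  rw [MulAut.congr_apply, MulEquiv.trans_apply, MulEquiv.trans_apply, MulEquiv.symm_apply_apply, h1]
  exact (gact_mk j' hD' _ _ _ (isom_ext fun x => by simp [ε, coe_cjI, cj_apply, congr_g, ← map_inv])).symm

end gen

section piece
variable {F : Type*} [Field F] [Finite F] {V : Type u} [AddCommGroup V] [Module F V] [FiniteDimensional F V]
  {D : Form (quadKind F) V} {A : Type*} [Group A] {act : Gam D →* A} {I N : Subgroup A}
  {r : ℕ} [Fact r.Prime] [CharP F r]
  {K W : Type*} [Field K] [Finite K] [CharP K r] [AddCommGroup W] [Module K W] [FiniteDimensional K W]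
  {D₀ : Form (quadKind K) W}

theorem mem_E_of_odd (hD : D.Nondeg) (hn : 5 ≤ finrank F V) {g : D.isom} {n : ℕ} (h : Odd n)
    (hg : g ^ n = 1) : g ∈ D.E := by
  have : ∀ φ : D.isom →* ℤˣ, φ g = 1 := fun φ => by
    rcases Int.units_eq_one_or (φ g) with h1 | h1
    · exact h1
    · have := congrArg φ hg
      rw [map_pow, h1, h.neg_one_pow, map_one] at this
      exact absurd this (by decide)
  exact (mem_E_iff hD hn).2 ⟨this _, this _⟩

variable (act) in
/-- the image of `E` of a smaller form -/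
abbrev pc (ι : D₀.isom →* D.isom) : D₀.E →* A := act.comp ((glin D).comp (ι.comp D₀.E.subtype))

theorem piece_of_hom (hI : IsInn act I) (hn : 5 ≤ finrank F V) {a : Gam D} (ha : a.1.s = 1) {c : Fˣ}
    (hc : a.1 ^ 2 = scal c) (hN : Bal 2 I (act a) N) (hr2 : 2 ≠ r) (hD₀ : D₀.Nondeg) (h3 : 3 ≤ finrank K W)
    (ι : D₀.isom →* D.isom) (h1 : ∀ g ∈ D₀.E, IsScal (ι g) ↔ IsScal g)
    (h2 : ∀ g, Commute (glin D (ι g)) a)
    (h4 : ∀ g : D.isom, Commute (glin D g) a → ∃ k, ∀ e, g * ι e * g⁻¹ = ι (k * e * k⁻¹)) :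
    Piece I (act a) N (pc act ι).range := by
  haveI := hI.std.nontrivial
  obtain ⟨e, f, hef⟩ := Quad.exists_isHyp hD₀ h3
  have h5 : ∀ g, pc act ι g ∈ I := fun g => hI.mem _ ((E_le (G := D.E.comap ι) fun u z d hd => by
    obtain ⟨k, hk⟩ := unip_eich r hd
    exact mem_E_of_odd hI.std.nondeg hn ((Fact.out : r.Prime).odd_of_ne_two hr2.symm).pow
      (by rw [← map_pow, hk, map_one])) g.2)
  have h6 : ∀ g, Commute (pc act ι g) (act a) := fun g => (h2 g.1).map act
  refine ⟨by rintro _ ⟨g, rfl⟩; exact h5 g, by rintro _ ⟨g, rfl⟩; exact h6 g, fun y hy hy' => ?_,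
    hN.core hr2 hD₀ (Or.inr h3) hef (fun g => Iff.trans ((hI.isAct.ker _).trans
      (isSc_iff (g := (ι g).1)).symm) (h1 _ g.2)) h5 h6 (Or.inl rfl)⟩
  rintro _ ⟨g, rfl⟩
  obtain ⟨k, -, rfl⟩ := hI.ex y hy'
  obtain ⟨n, h7, h8⟩ := exists_commute_of_odd hI.isAct ha hc rfl (hN.comm _ hy) (hN.cop _ hy)
  rw [← map_pow] at h7 h8
  obtain ⟨l, hl⟩ := h4 _ h8
  refine ⟨⟨_, normal_E.conj_mem _ g.2 l⟩, ?_⟩
  rw [← h7]
  simpa using congrArg (fun z => act (glin D z)) (hl g).symm

omit [Finite F] [FiniteDimensional F V] in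
include r in
theorem exists_smul_of_pc [Nontrivial V] (hA : IsAct act) (hD₀ : D₀.Nondeg) (h3 : 3 ≤ finrank K W)
    {ι : D₀.isom →* D.isom} {j : W →+ V} (hj : Function.Injective j) (h1 : ∀ g w, (ι g).1 (j w) = j (g.1 w))
    {b : Gam D} {θ : W →+ W} (hθ : ∀ w, b.1.g (j w) = j (θ w)) (H : ∀ g, Commute (act b) (pc act ι g)) :
    ∃ c : K, ∀ w, θ w = c • w := by
  obtain ⟨e, f, hef⟩ := Quad.exists_isHyp hD₀ h3
  refine exists_smul_of_comm_ext ext_id hD₀ h3 hef θ fun u z d hd v => hj ?_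
  obtain ⟨k, hk⟩ := unip_eich r hd
  have := congrArg (fun a : Gam D => a.1.g (j v)) (commute_of_unip (r := r) hA (k := k) rfl (by
    rw [← map_pow]; exact (congrArg _ (Subtype.ext hk)).trans (map_one _)) (H ⟨_, eich_mem_E u z d hd⟩)).eq
  rw [hom_ext_id, ← hθ, ← h1, ← h1, ← hθ]
  exact this

end piece

section inv
variable {F : Type*} [Field F] {V : Type u} [AddCommGroup V] [Module F V] {D : Form (quadKind F) V}
  {g : D.isom}

theorem orth_eig_inv (h2 : (2 : F) ≠ 0) (hg : g ^ 2 = 1) {c : F} (hc : c = 1 ∨ c = -1) :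
    D.IsOrthCompl (eig (nat D g) c) (eig (nat D g) (-c)) := by
  have h1 : c * c = 1 := by rcases hc with rfl | rfl <;> simp
  have h3 : ∀ v, g.1 (g.1 v) = v := fun v => congrArg (fun k : D.isom => k.1 v) ((sq g).symm.trans hg)
  refine ⟨⟨Submodule.disjoint_def.2 fun v h h' => ?_, codisjoint_iff.2 (eq_top_iff.2 fun v _ =>
    Submodule.mem_sup.2 ⟨(2 : F)⁻¹ • (v + c • g.1 v), ?_, (2 : F)⁻¹ • (v - c • g.1 v), ?_, ?_⟩)⟩,
    fun v hv w hw => ?_⟩
  · have := congrArg (c • ·) ((mem_eig.1 h).symm.trans (mem_eig.1 h'))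
    simp only [smul_smul, smul_neg, h1, one_smul, neg_smul] at this
    exact (smul_eq_zero.1 ((two_smul F v).trans (eq_neg_iff_add_eq_zero.1 this))).resolve_left h2
  · rw [mem_eig]
    change g.1 _ = _
    rw [map_smul, map_add, map_smul, h3]
    linear_combination (norm := module) (-(2 : F)⁻¹ * 1) • congrArg (· • g.1 v) h1
  · rw [mem_eig]
    change g.1 _ = _
    rw [map_smul, map_sub, map_smul, h3]
    linear_combination (norm := module) (-(2 : F)⁻¹ * 1) • congrArg (· • g.1 v) h1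
  · rw [← smul_add, add_add_sub_cancel, ← two_smul F, smul_smul, inv_mul_cancel₀ h2, one_smul]
  · have := B_isom g w v
    rw [show g.1 w = _ from mem_eig.1 hw, show g.1 v = _ from mem_eig.1 hv] at this
    simp only [B_smul_left, B_smul_right, RingHom.id_apply] at this
    exact (mul_eq_zero.1 (by linear_combination -this - D.B w v * h1)).resolve_left h2

theorem map_mem_eig {b : Gam D} (hb : Commute b (glin D g)) {c : F} (hc : c = 1 ∨ c = -1) {v : V}
    (hv : v ∈ eig (nat D g) c) : b.1.g v ∈ eig (nat D g) c := by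
  have h1 : b.1.g (g.1 v) = g.1 (b.1.g v) := congrArg (fun a : Gam D => a.1.g v) hb.eq
  rw [show g.1 v = _ from mem_eig.1 hv, b.1.smul] at h1
  exact mem_eig.2 (h1.symm.trans (by rcases hc with rfl | rfl <;> simp))

variable [FiniteDimensional F V]

theorem odd_eig (h2 : (2 : F) ≠ 0) (hg : g ^ 2 = 1) (hd : D.det g = -1) (hn : Even (finrank F V)) {c : F}
    (hc : c = 1 ∨ c = -1) : Odd (finrank F (eig (nat D g) c)) := by
  have h := (orth_eig_inv h2 hg (Or.inl rfl)).compl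
  have h1 := det_isCompl h (eig_inv _ _) (eig_inv _ _)
  rw [show (nat D g).restrict (eig_inv _ 1) = (1 : F) • LinearMap.id from
    LinearMap.ext (restrict_eig_apply _ _), show (nat D g).restrict (eig_inv _ (-1)) = (-1 : F) • LinearMap.id
    from LinearMap.ext (restrict_eig_apply _ _)] at h1
  have h3 : Odd (finrank F (eig (nat D g) (-1))) := Nat.not_even_iff_odd.1 fun h3 => h2 (by
    have := (coe_det g).trans h1
    simp [hd, h3.neg_one_pow] at this
    linear_combination -this)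
  rw [← Submodule.finrank_add_eq_of_isCompl h, Nat.even_add] at hn
  rcases hc with rfl | rfl
  · exact Nat.not_even_iff_odd.1 fun h => Nat.not_even_iff_odd.2 h3 (hn.1 h)
  · exact h3

variable [Finite F] {A : Type*} [Group A] {act : Gam D →* A} {I : Subgroup A} {r : ℕ} [Fact r.Prime]
  [CharP F r]

theorem bal_inv (hI : IsInn act I) (hs : Function.Surjective act) (hn : 5 ≤ finrank F V)
    (hev : Even (finrank F V)) (hr2 : 2 ≠ r) (hg : g ^ 2 = 1) (hd : D.det g = -1) (N : Subgroup A)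
    (hN : Bal 2 I (act (glin D g)) N) : N = ⊥ := by
  haveI := hI.std.nontrivial
  haveI := hI.normal
  have hD := hI.std.nondeg
  have h2 : (2 : F) ≠ 0 := fun h2 => hr2 ((Nat.prime_dvd_prime_iff_eq Fact.out Nat.prime_two).1
    ((CharP.cast_eq_zero_iff F r 2).1 h2)).symm
  have hc : (glin D g).1 ^ 2 = scal 1 := by
    rw [← Subgroup.coe_pow, ← map_pow, hg, map_one, map_one]; rfl
  have hm : ∀ {c : F}, c = 1 ∨ c = -1 → -c = 1 ∨ -c = -1 := by rintro _ (rfl | rfl) <;> simp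
  refine hN.eq_bot {L | ∃ c, ∃ hc : c = 1 ∨ c = -1, 3 ≤ finrank F (eig (nat D g) c) ∧
    L = (pc act (extend (orth_eig_inv h2 hg hc))).range} ?_ fun y hy H => ?_
  · rintro _ ⟨c, h1, h3, rfl⟩
    set h := orth_eig_inv h2 hg h1
    refine piece_of_hom hI hn rfl hc hN hr2 (h.nondeg_left hD) h3 _ (fun k hk => ⟨fun ⟨t, ht⟩ =>
      ⟨t, fun w => Subtype.ext ((extend_apply_left h k w).symm.trans (ht w))⟩, fun ⟨t, ht⟩ => ?_⟩)
      (fun k => Commute.map (h.isom_ext (fun w hw => ?_) fun w hw => ?_) _) fun k hk => ?_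
    · obtain ⟨n, h4⟩ := odd_eig h2 hg hd hev h1
      haveI := Module.nontrivial_of_finrank_pos (R := F) (M := eig (nat D g) c) (by omega)
      have h5 := (det_of_smul ht).symm.trans (congrArg Units.val (E_le_ker_det hk))
      rw [h4, pow_succ, pow_mul, sq_of_scal (h.nondeg_left hD) ht, one_pow, one_mul] at h5
      rw [show k = 1 from isom_ext fun w => by rw [ht, h5]; simp [isom_one_apply], map_one]
      exact isScal_one
    · rw [isom_mul_apply, isom_mul_apply, show g.1 w = _ from mem_eig.1 hw, map_smul,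
        extend_apply_left h k ⟨w, hw⟩]
      exact (mem_eig.1 (k.1 ⟨w, hw⟩).2).symm
    · rw [isom_mul_apply, isom_mul_apply, extend_apply_right h k hw, extend_apply_right h k (w := g.1 w) (eig_inv _ _ w hw)]
    · have h4 := mem_stab_of_mapsTo D (g := k) fun v => map_mem_eig hk h1
      have h5 := mem_stab_of_mapsTo D (g := k) fun v => map_mem_eig hk (hm h1)
      refine ⟨D.res _ ⟨k, h4⟩, fun e => ?_⟩
      nth_rewrite 1 2 [← glue_res h k h4 h5]
      simp [extend, ← map_mul, ← map_inv]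
  obtain ⟨b, rfl⟩ := hs y
  obtain ⟨n, h3, h4⟩ := exists_commute_of_odd hI.isAct rfl hc (map_one _) (hN.comm _ hy) (hN.cop _ hy)
  rw [← h3] at hy H ⊢
  generalize b ^ n = b at *
  have h5 : ∀ c, c = 1 ∨ c = -1 → 3 ≤ finrank F (eig (nat D g) c) → ∃ t : F, ∀ w ∈ eig (nat D g) c,
      b.1.g w = t • w := fun c h1 h3 => by
    obtain ⟨t, ht⟩ := exists_smul_of_pc (r := r) hI.isAct ((orth_eig_inv h2 hg h1).nondeg_left hD) h3
      (j := (Submodule.subtype _).toAddMonoidHom) Subtype.val_injective (extend_apply_left _)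
      (θ := (b.1.g.toAddMonoidHom.comp (Submodule.subtype _).toAddMonoidHom).codRestrict _
        fun w => map_mem_eig h4 h1 w.2) (fun _ => rfl) fun k => H _ ⟨c, h1, h3, rfl⟩ _ ⟨k, rfl⟩
    exact ⟨t, fun w hw => congrArg Subtype.val (ht ⟨w, hw⟩)⟩
  have h6 : b.1.s = 1 := by
    obtain ⟨c, h1, h3⟩ : ∃ c, (c = 1 ∨ c = -1) ∧ 3 ≤ finrank F (eig (nat D g) c) := by
      have := Submodule.finrank_add_eq_of_isCompl (orth_eig_inv h2 hg (Or.inl rfl)).compl
      by_contra! h
      have := h 1 (Or.inl rfl)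
      have := h (-1) (Or.inr rfl)
      omega
    obtain ⟨t, ht⟩ := h5 c h1 h3
    haveI := Module.nontrivial_of_finrank_pos (R := F) (M := eig (nat D g) c) (by omega)
    obtain ⟨w, hw⟩ := exists_ne (0 : eig (nat D g) c)
    refine RingEquiv.ext fun x => smul_left_injective F (m := b.1.g w) (by simpa) ?_
    change b.1.s x • b.1.g w = x • b.1.g w
    rw [← b.1.smul, ht _ w.2, ht _ (Submodule.smul_mem _ x w.2), smul_comm]
  have h7 : ∀ c, c = 1 ∨ c = -1 → ∀ w ∈ eig (nat D g) c, b.1.g (b.1.g w) = (mult b : F) • w := by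
    intro c h1
    obtain ⟨k, hk⟩ := odd_eig h2 hg hd hev h1
    obtain ⟨t, ht⟩ : ∃ t : F, ∀ w ∈ eig (nat D g) c, b.1.g w = t • w := by
      rcases Nat.eq_zero_or_pos k with rfl | h
      · obtain ⟨t, ht, -⟩ := LinearMap.existsUnique_eq_smul_id_of_finrank_eq_one hk
          ((b.1.toLin h6).toLinearMap.restrict fun w => map_mem_eig h4 h1)
        exact ⟨t, fun w hw => congrArg Subtype.val (LinearMap.congr_fun ht ⟨w, hw⟩)⟩
      · exact h5 c h1 (by omega)
    intro w hw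
    by_cases h0 : w = 0
    · simp [h0]
    obtain ⟨z, hz⟩ := ((orth_eig_inv h2 hg h1).nondeg_left hD).exists_ne_zero (x := ⟨w, hw⟩) (by simpa)
    have := (isSim_mult b).B w z
    rw [ht w hw, ht z z.2, h6] at this
    rw [ht w hw, ht _ (Submodule.smul_mem _ t hw), smul_smul]
    congr 1
    refine mul_right_cancel₀ hz ?_
    simpa [mul_assoc] using this
  refine eq_one_of_pow_of_coprime ?_ (hN.cop _ hy)
  rw [← map_pow]
  refine (hI.isAct.ker _).2 ⟨mult b, ext_g fun v => ?_⟩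
  obtain ⟨w, w', rfl⟩ := (orth_eig_inv h2 hg (Or.inl rfl)).exists_add v
  simp [sq, h7 1 (Or.inl rfl) w w.2, h7 (-1) (Or.inr rfl) w' w'.2]

end inv

section sqrt
variable {F : Type v} [Field F] {V : Type u} [AddCommGroup V] [Module F V] {D : Form (quadKind F) V}
  {a : Gam D} {c : Fˣ}

open QuadraticAlgebra

theorem selfadj (ha : a.1.s = 1) (hc : a.1 ^ 2 = scal c) {ε : F} (hε : ε * ε = 1) (hs : IsSim D a.1 (ε * c))
    (x y : V) : D.B (a.1.g x) y = ε * D.B x (a.1.g y) := by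
  have h1 := hs.B x (a.1.g y)
  rw [show a.1.g (a.1.g y) = _ from congrArg (·.g y) ((sq a.1).symm.trans hc), scal_g, B_smul_right,
    ha] at h1
  exact mul_left_cancel₀ c.ne_zero (h1.trans (by simp; ring))

theorem fact_qa (hc : ¬ IsSquare (c : F)) : Fact (∀ r : F, r ^ 2 ≠ c + 0 * r) :=
  ⟨fun r h => hc ⟨r, by rw [← sq, h]; simp⟩⟩

/-- the structure of a quadratic space over `F(√c)` -/
theorem exists_qa [Fact (∀ r : F, r ^ 2 ≠ c + 0 * r)] (hD : D.Nondeg) (h2 : (2 : F) ≠ 0) (ha : a.1.s = 1)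
    (hc : a.1 ^ 2 = scal c) (hs : IsSim D a.1 c) :
    ∃ (_ : Module (QuadraticAlgebra F c 0) V) (_ : IsScalarTower F (QuadraticAlgebra F c 0) V)
      (D₀ : Form (quadKind (QuadraticAlgebra F c 0)) V), D₀.Nondeg ∧
      (∀ (z : QuadraticAlgebra F c 0) x, z • x = z.re • x + z.im • a.1.g x) ∧
      ∀ x y, D₀.B x y = ⟨D.B x (a.1.g y), D.B x y⟩ := by
  have h1 : ∀ x y, D.B (a.1.g x) y = D.B x (a.1.g y) := fun x y => by
    simpa using selfadj ha hc (one_mul 1) (by simpa) x y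
  have h3 : ∀ x, a.1.g (a.1.g x) = (c : F) • x := fun x => congrArg (·.g x) ((sq a.1).symm.trans hc)
  have h4 : ∀ (t : F) x, a.1.g (t • x) = t • a.1.g x := (a.1.toLin ha).map_smul
  letI : Module (QuadraticAlgebra F c 0) V := Module.compHom V (lift (A := End F V)
    ⟨a.1.toLin ha, LinearMap.ext fun x => by simpa using h3 x⟩).toRingHom
  have h5 : ∀ (z : QuadraticAlgebra F c 0) x, z • x = z.re • x + z.im • a.1.g x := fun _ _ => rfl
  haveI : IsScalarTower F (QuadraticAlgebra F c 0) V := ⟨fun t z x => by simp [h5, mul_smul]⟩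
  let b : LinearMap.BilinForm (QuadraticAlgebra F c 0) V := LinearMap.mk₂ _
    (fun x y => ⟨D.B x (a.1.g y), D.B x y⟩) (fun _ _ _ => by ext <;> simp)
    (fun z x y => by ext <;> simp [h5, h1, h3] <;> ring) (fun _ _ _ => by ext <;> simp)
    (fun z x y => by ext <;> simp [h5, h4, h3] <;> ring)
  have hb : ∀ x y, b x y = b y x := fun x y => by
    ext
    · exact (quad_symm D _ _).trans (h1 y x)
    · exact quad_symm D _ _
  obtain ⟨D₀, h6, h7⟩ := Rf.exists_quad (b := b) ⟨fun x hx => hD x fun y => congrArg im (hx y), 1,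
    fun x y => (hb y x).trans (one_mul _).symm⟩ (fun h => h2 (by simpa using congrArg re h)) hb
  exact ⟨_, inferInstance, D₀, h6, h5, fun x y => by rw [h7]; rfl⟩

theorem det_eq_norm_pow {K : Type*} [Field K] [Algebra F K] [Module K V] [IsScalarTower F K V]
    [FiniteDimensional K V] {g : V →ₗ[F] V} {z : K} (h : ∀ x, g x = z • x) :
    LinearMap.det g = Algebra.norm F z ^ finrank K V := by
  rw [show g = (z • LinearMap.id : V →ₗ[K] V).restrictScalars F from LinearMap.ext h,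
    LinearMap.det_restrictScalars, LinearMap.det_smul, LinearMap.det_id, mul_one, map_pow]

variable [Finite F] [FiniteDimensional F V]

instance finite_qa (c : F) : Finite (QuadraticAlgebra F c 0) := Module.finite_of_finite F

theorem det_qa (hD : D.Nondeg) (h2 : (2 : F) ≠ 0) (ha : a.1.s = 1) (hc : a.1 ^ 2 = scal c)
    (hs : IsSim D a.1 c) (hc' : ¬ IsSquare (c : F)) {m : ℕ} (hm : finrank F V = 2 * m) (h : 2 ≤ m) :
    LinearMap.det (a.1.toLin ha : V →ₗ[F] V) = (-c) ^ m ∧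
      ∃ v, D.Q v ≠ 0 ∧ D.B v (a.1.g v) = 0 := by
  haveI := fact_qa hc'
  obtain ⟨_, _, D₀, h1, h3, h4⟩ := exists_qa hD h2 ha hc hs
  haveI := Module.Finite.of_restrictScalars_finite F (QuadraticAlgebra F c 0) V
  have h5 := finrank_mul_finrank F (QuadraticAlgebra F c 0) V
  rw [finrank_eq_two, hm, mul_right_inj' two_ne_zero] at h5
  constructor
  · rw [det_eq_norm_pow (z := (ω : QuadraticAlgebra F c 0)) (fun x => by simp [h3]), h5,
      show Algebra.norm F (ω : QuadraticAlgebra F c 0) = _ from det_toLinearMap_eq_norm ω]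
    simp [norm_def]
  · obtain ⟨v, hv⟩ := Quad.exists_Q_eq h1 (by omega) ω
    have := (h4 v v).symm.trans (quad_B_self D₀ v)
    rw [hv, quad_B_self] at this
    exact ⟨v, fun h => h2 (by simpa [h] using (congrArg im this).symm), by simpa using congrArg re this⟩

variable {A : Type*} [Group A] {act : Gam D →* A} {I : Subgroup A} {r : ℕ} [Fact r.Prime] [CharP F r]

theorem bal_sqrt (hI : IsInn act I) (hs : Function.Surjective act) (hn : 5 ≤ finrank F V) (hr2 : 2 ≠ r)
    (ha : a.1.s = 1) (hc : a.1 ^ 2 = scal c) (hs' : IsSim D a.1 c) (hc' : ¬ IsSquare (c : F))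
    (N : Subgroup A) (hN : Bal 2 I (act a) N) : N = ⊥ := by
  haveI := hI.std.nontrivial
  haveI := hI.normal
  have hD := hI.std.nondeg
  have h2 : (2 : F) ≠ 0 := fun h2 => hr2 ((Nat.prime_dvd_prime_iff_eq Fact.out Nat.prime_two).1
    ((CharP.cast_eq_zero_iff F r 2).1 h2)).symm
  haveI := fact_qa hc'
  obtain ⟨_, _, D₀, h1, h3, h4⟩ := exists_qa hD h2 ha hc hs'
  haveI := Module.Finite.of_restrictScalars_finite F (QuadraticAlgebra F c 0) V
  haveI := charP_of_injective_algebraMap (algebraMap F (QuadraticAlgebra F c 0)).injective r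
  have h5 := finrank_mul_finrank F (QuadraticAlgebra F c 0) V
  rw [finrank_eq_two] at h5
  have h6 : ∀ x, a.1.g x = (ω : QuadraticAlgebra F c 0) • x := fun x => by simp [h3]
  have h7 : ∀ g : D₀.isom, IsIsometry D D g.1 := fun g => by
    have : ∀ x y, D.B (g.1 x) (g.1 y) = D.B x y := fun x y => by
      simpa [h4] using congrArg im (B_isom g x y)
    exact ⟨this, fun x => mul_left_cancel₀ h2 (by rw [← quad_B_self, this, quad_B_self])⟩
  refine hN.eq_bot {_} (fun _ hL => hL ▸ piece_of_hom hI hn ha hc hN hr2 h1 (by omega) (D₀.resHom D h7)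
    (fun k _ => ⟨fun ⟨t, ht⟩ => ⟨algebraMap _ _ t, fun x => (ht x).trans (algebraMap_smul _ t x).symm⟩,
      fun ⟨t, ht⟩ => ?_⟩) (fun k => Subtype.ext (ext_g fun x => ?_)) fun k hk => ?_) fun y hy H => ?_
  · rcases sq_eq_one_iff.1 (sq_of_scal h1 ht) with rfl | rfl
    · exact ⟨1, fun x => (ht x).trans (by simp)⟩
    · exact ⟨-1, fun x => (ht x).trans (by simp)⟩
  · change k.1 (a.1.g x) = a.1.g (k.1 x)
    rw [h6, h6, map_smul]
  · have h8 : ∀ x, k.1 (a.1.g x) = a.1.g (k.1 x) := fun x => congrArg (fun b : Gam D => b.1.g x) hk.eq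
    have h9 : ∀ x y, D₀.B (k.1 x) (k.1 y) = D₀.B x y := fun x y => by rw [h4, h4, ← h8, B_isom, B_isom]
    exact ⟨⟨{ k.1.toAddEquiv with map_smul' := fun z x => by simp [h3, h8] }, h9, fun x =>
      mul_left_cancel₀ (fun h => h2 (by simpa using congrArg re h))
        ((quad_B_self D₀ _).symm.trans ((h9 x x).trans (quad_B_self D₀ x)))⟩, fun e => isom_ext fun _ => rfl⟩
  obtain ⟨b, rfl⟩ := hs y
  obtain ⟨t, ht⟩ := exists_smul_of_pc (r := r) hI.isAct h1 (by omega) (j := AddMonoidHom.id V)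
    Function.injective_id (fun _ _ => rfl) (θ := b.1.g.toAddMonoidHom) (fun _ => rfl)
    fun k => H _ rfl _ ⟨k, rfl⟩
  replace ht : ∀ x, b.1.g x = t • x := ht
  obtain ⟨w, hw⟩ := exists_ne (0 : V)
  have h8 : b.1.s = 1 := RingEquiv.ext fun x => smul_left_injective F (m := b.1.g w) (by simpa) (by
    change b.1.s x • b.1.g w = x • b.1.g w
    rw [← b.1.smul, ht, ht, smul_comm])
  refine eq_one_of_pow_of_coprime ?_ (hN.cop _ hy)
  rw [← map_pow]
  refine (hI.isAct.ker _).2 ⟨mult b, ext_g fun x => hD.ext fun y => ?_⟩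
  have h9 := (isSim_mult b).B x y
  have h10 := congrArg im ((D₀.B_smul_left t (t • x) y).trans (D₀.B_smul_right t (t • x) y).symm)
  simp only [h4, ht, h8] at h9 h10
  simpa [sq, ht, h10] using h9

end sqrt

section cases
variable {F : Type v} [Field F] [Finite F] {V : Type u} [AddCommGroup V] [Module F V] [FiniteDimensional F V]
  {D : Form (quadKind F) V} {hD : D.Nondeg} {m : ℕ} {τ : (gfld D).ker →* ℤˣ} {A : Type*} [Group A]
  {act : Gam D →* A}

omit [Finite F] in
theorem det_of_skew (hD : D.Nondeg) (h2 : (2 : F) ≠ 0) (hm : finrank F V = 2 * m) {s : V →ₗ[F] V}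
    (h1 : ∀ x y, D.B (s x) y = -D.B x (s y)) (h3 : ∀ x, s x = 0 → x = 0) {g : V ≃ₗ[F] V} {κ : F}
    (hg : IsSim D (lin g) κ) (h4 : ∀ x, g (s x) = s (g x)) : LinearMap.det (g : V →ₗ[F] V) = κ ^ m := by
  have h5 : LinearMap.IsAlt (D.B ∘ₗ s) := fun x => (mul_eq_zero.1 (by
    have := h1 x x
    rw [quad_symm D x] at this
    change 2 * D.B (s x) x = 0
    linear_combination this)).resolve_left h2
  exact SimB.det_alt (b := D.B ∘ₗ s) ⟨fun x hx => h3 x (hD _ hx), -1, fun x y => by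
    simpa using (LinearMap.IsAlt.neg h5 x y).symm⟩ h5 hm ⟨hg.ne, fun x y => by simpa [← h4] using hg.B (s x) y⟩

theorem graph_cases (hn : 5 ≤ finrank F V) (hm : finrank F V = 2 * m) (hτ : IsTau hD m τ) (h2 : (2 : F) ≠ 0)
    (hA : IsAct act) {a : (gfld D).ker} (h1 : τ a ≠ 1) (ho : act a ^ 2 = 1) :
    (∃ g : D.isom, act a = act (glin D g) ∧ g ^ 2 = 1 ∧ D.det g = -1) ∨
      ∃ c : Fˣ, ¬ IsSquare (c : F) ∧ a.1.1 ^ 2 = scal c ∧ IsSim D a.1.1 c ∧ Odd m := by
  have hS := std_quad hD hn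
  haveI := hS.nontrivial
  obtain ⟨c, hc⟩ := (hA.ker (a.1 ^ 2)).1 ((map_pow _ _ _).trans ho)
  have ha : a.1.1.s = 1 := a.2
  have h3 := hτ.det h2 a
  rw [(Int.units_eq_one_or _).resolve_left h1, sdet_apply] at h3
  have h4 : (mult a.1 : F) * mult a.1 = c * c := by
    have := hS.mult_mul a.1 a.1
    rw [← sq, show a.1 ^ 2 = gscal D c from Subtype.ext hc, hS.mult_gscal, ha] at this
    exact this.symm
  have h5 := isSim_mult a.1
  have h0 : ∀ {x : F}, x ≠ 0 → x ≠ ((-1 : ℤˣ) : ℤ) * x := fun hx h => h2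
    (mul_right_cancel₀ hx (by simp at h; linear_combination h))
  rcases mul_self_eq_mul_self_iff.1 h4 with h | h <;> rw [h] at h3 h5
  · by_cases h6 : IsSquare (c : F)
    · obtain ⟨u, g, h7⟩ := exists_scal_mul_of_isSquare hD hn ha (h ▸ h6)
      have h8 := congrArg (fun b => (mult b : F)) h7
      have h9 : a.1.1 = scal u * lin g.1 := congrArg Subtype.val h7
      simp only [hS.mult_mul, hS.mult_gscal, hS.mult_glin, h, Units.val_one, map_one, mul_one,
        RingHom.id_apply] at h8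
      refine Or.inl ⟨g, by rw [h7, map_mul, show act (gscal D u) = 1 from hA.scal u, one_mul],
        Subtype.ext (lin_injective ?_), ?_⟩
      · rw [Subgroup.coe_pow, h9, (Commute.symm (scal_comm_of_s (lin_s g.1) u)).mul_pow, ← map_pow,
          show u ^ 2 = c from Units.ext ((sq _).trans h8.symm), mul_eq_left] at hc
        simpa using hc
      · refine (hD.det_eq_one_or g).resolve_left fun h10 => h1 ?_
        rw [show a = ⟨gscal D u, rfl⟩ * ⟨glin D g, rfl⟩ from Subtype.ext h7, map_mul, hτ.gscal, hτ.glin,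
          (dickson_eq_one_iff_det hD h2 g).2 h10, one_mul]
    · refine Or.inr ⟨c, h6, hc, h5, Nat.not_even_iff_odd.1 fun h7 => ?_⟩
      rw [(det_qa hD h2 ha hc h5 h6 hm (by omega)).1, h7.neg_pow] at h3
      exact h0 (pow_ne_zero _ c.ne_zero) h3
  · rw [det_of_skew hD h2 hm (s := a.1.1.toLin ha) (fun x y => by
      simpa using selfadj ha hc (ε := -1) (by simp) (by simpa) x y) (by simp) ((lin_toLin _ ha).symm ▸ h5)
      fun _ => rfl] at h3
    exact (h0 (pow_ne_zero _ h5.ne) h3).elim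

variable {I : Subgroup A} {p r : ℕ} [hp : Fact p.Prime] [Fact r.Prime] [CharP F r]

theorem bal_even (hI : IsInn act I) (hs : Function.Surjective act) (hn : 5 ≤ finrank F V)
    (hm : finrank F V = 2 * m) (hτ : IsTau hD m τ) {a : Gam D} (ho : orderOf (act a) = p) (hpr : p ≠ r)
    (h : act a ∉ (act.comp (tin τ)).range) : (a.1.s = 1 → p = 2) ∧
    ((∃ y ∈ I, Commute y (act a) ∧ orderOf y = p) → ∀ N, Bal p I (act a) N → N = ⊥) := by
  by_cases ha : a.1.s = 1
  swap
  · exact ⟨fun h => (ha h).elim, bal_field_quad hI hn ha ho hpr hs⟩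
  have h1 : τ ⟨a, ha⟩ ≠ 1 := fun h1 => h ⟨⟨⟨a, ha⟩, h1⟩, rfl⟩
  obtain rfl : p = 2 := by
    by_contra h2
    obtain ⟨c, hc⟩ := (hI.isAct.ker (a ^ p)).1 (by rw [map_pow, ← ho, pow_orderOf_eq_one])
    have := hτ.gscal c
    rw [show (⟨gscal D c, rfl⟩ : (gfld D).ker) = ⟨a, ha⟩ ^ p from Subtype.ext (Subtype.ext hc.symm), map_pow,
      (Int.units_eq_one_or _).resolve_left h1, (hp.out.odd_of_ne_two h2).neg_one_pow] at this
    exact absurd this (by decide)
  refine ⟨fun _ => rfl, fun _ => ?_⟩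
  rcases graph_cases hn hm hτ (fun h2 => hpr ((Nat.prime_dvd_prime_iff_eq Fact.out Nat.prime_two).1
    ((CharP.cast_eq_zero_iff F r 2).1 h2)).symm) hI.isAct h1 (ho ▸ pow_orderOf_eq_one _) with
    ⟨g, h3, h4, h5⟩ | ⟨c, h3, h4, h5, -⟩
  · exact h3 ▸ bal_inv hI hs hn ⟨m, by omega⟩ hpr h4 h5
  · exact bal_sqrt hI hs hn hpr ha h4 h5 h3

end cases

theorem aniso_of_odd {F₀ F : Type*} [Field F₀] [Field F] {f : F₀ →+* F} {s : F ≃+* F} (hf : Fix f s)
    (hs : Odd (orderOf s)) {a b : F₀} (h : ∀ z₁ z₂, z₁ ^ 2 + a * z₁ * z₂ + b * z₂ ^ 2 = 0 → z₁ = 0 ∧ z₂ = 0)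
    (z₁ z₂ : F) (H : z₁ ^ 2 + f a * z₁ * z₂ + f b * z₂ ^ 2 = 0) : z₁ = 0 ∧ z₂ = 0 := by
  by_cases h0 : z₂ = 0
  · simpa [h0] using H
  obtain ⟨z, rfl⟩ : ∃ z, z₁ = z * z₂ := ⟨z₁ / z₂, by field_simp⟩
  have h1 : z ^ 2 + f a * z + f b = 0 := mul_right_cancel₀ (pow_ne_zero 2 h0) (by linear_combination H)
  have h2 := congrArg s h1
  simp only [map_add, map_mul, map_pow, hf.map, map_zero] at h2
  have h3 : s z = z := by
    rcases mul_eq_zero.1 (by linear_combination h2 - h1 : (s z - z) * (s z + z + f a) = 0) with h3 | h3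
    · exact sub_eq_zero.1 h3
    have h4 := congrArg s h3
    simp only [map_add, hf.map, map_zero] at h4
    obtain ⟨k, hk⟩ := exists_pow_eq_self_of_coprime (Nat.coprime_two_left.2 hs)
    exact hk ▸ pow_mem (show s ^ 2 ∈ MulAction.stabilizer _ z from by
      change s (s z) = z; linear_combination h4 - h3) k
  obtain ⟨y, rfl⟩ := (hf z).1 h3
  exact (one_ne_zero (h y 1 (f.injective (by simpa using h1))).2).elim

end Cfsg.Lib.Conj
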