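import Cfsg.Agent.Lib.Conj.Bal
import Cfsg.Agent.Lib.Forms.Disc
import Cfsg.Agent.S0304

/-!
Reflexive bilinear forms, their similarity groups and projective quotients.
-/

set_option autoImplicit false

namespace Cfsg.Lib.Conj

open Module Cfsg.Lib.Forms Cfsg.Lib.Forms.Form Cfsg.Lib.CAut Cfsg.Lib.CAut.Sem

universe u
variable {F : Type*} [Field F] {V : Type u} {V' V'' : Type*} [AddCommGroup V] [Module F V]
  [AddCommGroup V'] [Module F V'] [AddCommGroup V''] [Module F V'']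
  {b : LinearMap.BilinForm F V} {b' : LinearMap.BilinForm F V'} {b'' : LinearMap.BilinForm F V''}

section bil

variable (b b') in
/-- `g` is a similarity with multiplier `κ` -/
def SimB (g : V ≃ₗ[F] V') (κ : F) : Prop := κ ≠ 0 ∧ ∀ x y, b' (g x) (g y) = κ * b x y

theorem SimB.trans {g : V ≃ₗ[F] V'} {g' : V' ≃ₗ[F] V''} {κ κ' : F} (h : SimB b b' g κ)
    (h' : SimB b' b'' g' κ') : SimB b b'' (g.trans g') (κ' * κ) :=
  ⟨mul_ne_zero h'.1 h.1, fun x y => by simp [h.2, h'.2, mul_assoc]⟩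

theorem SimB.symm {g : V ≃ₗ[F] V'} {κ : F} (h : SimB b b' g κ) : SimB b' b g.symm κ⁻¹ :=
  ⟨inv_ne_zero h.1, fun x y => by simp [eq_inv_mul_iff_mul_eq₀ h.1, ← h.2]⟩

theorem simB_one : SimB b b 1 1 := ⟨one_ne_zero, fun x y => by simp⟩

theorem SimB.mul {g g' : V ≃ₗ[F] V} {κ κ' : F} (h : SimB b b g κ) (h' : SimB b b g' κ') :
    SimB b b (g * g') (κ * κ') := h'.trans h

variable (V) in
/-- scalar maps -/
abbrev smE : Fˣ →* (V ≃ₗ[F] V) := DistribMulAction.toModuleAut F V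

theorem smE_apply (c : Fˣ) (x : V) : smE V c x = (c : F) • x := rfl

theorem simB_smE (c : Fˣ) : SimB b b (smE V c) (c ^ 2) :=
  ⟨by simp, fun x y => by simp [Units.smul_def, sq, mul_assoc]⟩

theorem det_smE [FiniteDimensional F V] (c : Fˣ) :
    LinearMap.det (smE V c : V →ₗ[F] V) = c ^ finrank F V := by
  rw [show (smE V c : V →ₗ[F] V) = (c : F) • LinearMap.id from rfl, LinearMap.det_smul, LinearMap.det_id,
    mul_one]

variable (b) in
/-- the similarity group -/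
def simB : Subgroup (V ≃ₗ[F] V) where
  carrier := {g | ∃ κ, SimB b b g κ}
  mul_mem' := fun ⟨_, h⟩ ⟨_, h'⟩ => ⟨_, h.mul h'⟩
  one_mem' := ⟨1, simB_one⟩
  inv_mem' := fun ⟨_, h⟩ => ⟨_, h.symm⟩

variable (b) in
/-- the isometry group -/
def isoB : Subgroup (V ≃ₗ[F] V) where
  carrier := {g | SimB b b g 1}
  mul_mem' h h' := by simpa using SimB.mul h h'
  one_mem' := simB_one
  inv_mem' h := inv_one (G := F) ▸ SimB.symm h

theorem mem_isoB {g : V ≃ₗ[F] V} : g ∈ isoB b ↔ ∀ x y, b (g x) (g y) = b x y :=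
  ⟨fun h x y => (h.2 x y).trans (one_mul _), fun h => ⟨one_ne_zero, fun x y => (h x y).trans (one_mul _).symm⟩⟩

theorem isoB_le : isoB b ≤ simB b := fun _ h => Exists.intro 1 h

theorem smE_mem (c : Fˣ) : smE V c ∈ simB b := Exists.intro _ (simB_smE c)

variable (b b') in
/-- the two forms are similar -/
def Sim : Prop := ∃ g κ, SimB b b' g κ

theorem Sim.symm (h : Sim b b') : Sim b' b := let ⟨_, _, h⟩ := h; ⟨_, _, h.symm⟩

theorem Sim.trans (h : Sim b b') (h' : Sim b' b'') : Sim b b'' :=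
  let ⟨_, _, h⟩ := h; let ⟨_, _, h'⟩ := h'; ⟨_, _, h.trans h'⟩

theorem Sim.isAlt (h : Sim b b') (ha : b.IsAlt) : b'.IsAlt :=
  let ⟨g, _, h⟩ := h.symm; fun x => by simpa [h.1, ha.self_eq_zero] using (h.2 x x).symm

variable (b) in
/-- a nondegenerate reflexive form -/
structure Rf : Prop where
  nd : ∀ x, (∀ y, b x y = 0) → x = 0
  sym : ∃ ε, ∀ x y, b y x = ε * b x y

theorem Rf.of_sim (hb : Rf b) (h : Sim b b') : Rf b' := by
  obtain ⟨g, κ, h⟩ := h.symm
  obtain ⟨ε, hε⟩ := hb.sym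
  refine ⟨fun x hx => g.map_eq_zero_iff.1 (hb.nd _ fun y => ?_), ε, fun x y => mul_left_cancel₀ h.1 ?_⟩
  · rw [← g.apply_symm_apply y, h.2, hx, mul_zero]
  · rw [← h.2, hε, h.2, mul_left_comm]

theorem exists_sim [FiniteDimensional F V] [FiniteDimensional F V'] (h : finrank F V' = finrank F V) :
    ∃ b' : LinearMap.BilinForm F V', Sim b' b :=
  let e := LinearEquiv.ofFinrankEq V' V h
  ⟨b.comp e e, e, 1, one_ne_zero, fun _ _ => (one_mul _).symm⟩

theorem Rf.exists_ne [Nontrivial V] (hb : Rf b) : ∃ x y, b x y ≠ 0 := by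
  obtain ⟨x, hx⟩ := _root_.exists_ne (0 : V)
  exact ⟨x, not_forall.1 (mt (hb.nd x) hx)⟩

theorem Rf.nondegenerate (hb : Rf b) : b.Nondegenerate :=
  ⟨hb.nd, fun y hy => hb.nd y fun x => let ⟨_, h⟩ := hb.sym; by rw [h, hy, mul_zero]⟩

theorem Rf.eps_sq [Nontrivial V] (hb : Rf b) {ε : F} (h : ∀ x y, b y x = ε * b x y) : ε * ε = 1 :=
  let ⟨x, y, h1⟩ := hb.exists_ne
  mul_right_cancel₀ h1 (by rw [mul_assoc, ← h, ← h, one_mul])

theorem Rf.symm_or [Nontrivial V] (hb : Rf b) : (∀ x y, b x y = b y x) ∨ ((2 : F) ≠ 0 ∧ b.IsAlt) := by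
  obtain ⟨ε, h⟩ := hb.sym
  by_cases h1 : ε = 1
  · exact Or.inl fun x y => by rw [h, h1, one_mul]
  obtain rfl := (mul_self_eq_one_iff.1 (hb.eps_sq h)).resolve_left h1
  have h2 : (2 : F) ≠ 0 := fun h2 => h1 (by linear_combination -h2)
  exact Or.inr ⟨h2, fun x => (mul_eq_zero.1 (by linear_combination h x x)).resolve_left h2⟩

theorem SimB.unique [Nontrivial V] (hb : Rf b) {g : V ≃ₗ[F] V'} {κ κ' : F} (h : SimB b b' g κ)
    (h' : SimB b b' g κ') : κ = κ' :=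
  let ⟨x, y, h1⟩ := hb.exists_ne
  mul_right_cancel₀ h1 ((h.2 x y).symm.trans (h'.2 x y))

theorem SimB.det_sq [FiniteDimensional F V] (hb : Rf b) {g : V ≃ₗ[F] V} {κ : F} (h : SimB b b g κ) :
    LinearMap.det (g : V →ₗ[F] V) ^ 2 = κ ^ finrank F V := by
  let e := Module.finBasis F V
  have h0 := (LinearMap.BilinForm.nondegenerate_iff_det_ne_zero e).1 hb.nondegenerate
  have h1 : b.comp g g = κ • b := LinearMap.ext₂ h.2
  have h2 := congrArg Matrix.det (LinearMap.BilinForm.toMatrix_comp e e b g g)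
  rw [h1, map_smul, Matrix.det_smul, Matrix.det_mul, Matrix.det_mul, Matrix.det_transpose,
    LinearMap.det_toMatrix, Fintype.card_fin] at h2
  exact mul_right_cancel₀ h0 (by rw [h2]; ring)

/-- dividing a similarity by a square root of its multiplier -/
theorem SimB.div {g : V ≃ₗ[F] V} {c : Fˣ} (h : SimB b b g (c ^ 2)) : smE V c⁻¹ * g ∈ isoB b := by
  by_contra hc
  exact hc (by simpa using (simB_smE c⁻¹).mul h : SimB b b (smE V c⁻¹ * g) 1)

end bil

section piso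
variable {S S' : Subgroup (V ≃ₗ[F] V)} {Y Y' : Type*} [Group Y] [Group Y']

/-- `g` is a scalar -/
def IsSc (g : V ≃ₗ[F] V) : Prop := ∃ c : F, ∀ x, g x = c • x

theorem isSc_iff [Nontrivial V] {g : V ≃ₗ[F] V} : IsSc g ↔ ∃ c, lin g = scal c :=
  (mem_range_scal (a := lin g)).symm.trans (exists_congr fun _ => eq_comm)

variable (S Y) in
/-- `Y` is `S` modulo scalars -/
def PIso : Prop := ∃ θ : S →* Y, Function.Surjective θ ∧ ∀ g, θ g = 1 ↔ IsSc g.1

theorem PIso.nonempty (h : PIso S Y) (h' : PIso S Y') : Nonempty (Y ≃* Y') :=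
  let ⟨θ, h1, h2⟩ := h; let ⟨θ', h3, h4⟩ := h'
  ⟨equivOfKerEq θ θ' h1 h3 (Subgroup.ext fun g => (h2 g).trans (h4 g).symm)⟩

theorem PIso.of_le (h : PIso S Y) (hle : S' ≤ S) (H : ∀ g ∈ S, ∃ c, smE V c * g ∈ S')
    (hc : ∀ c, smE V c ∈ S) : PIso S' Y := by
  obtain ⟨θ, h1, h2⟩ := h
  refine ⟨θ.comp (Subgroup.inclusion hle), fun y => ?_, fun g => h2 _⟩
  obtain ⟨g, rfl⟩ := h1 y
  obtain ⟨c, h3⟩ := H g g.2
  exact ⟨⟨_, h3⟩, (map_mul θ ⟨_, hc c⟩ g).trans (by rw [(h2 _).2 ⟨c, fun _ => rfl⟩, one_mul])⟩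

theorem PIso.equiv (h : PIso S Y) (H : ∀ k ∈ S, IsSc k → k = 1) : Nonempty (Y ≃* S) :=
  h.nonempty ⟨MonoidHom.id _, fun g => ⟨g, rfl⟩, fun g =>
    ⟨fun h => ⟨1, fun x => by simp [show g = 1 from h]⟩, fun h => Subtype.ext (H _ g.2 h)⟩⟩

theorem PIso.congr {T : Subgroup (V' ≃ₗ[F] V')} (e : V ≃ₗ[F] V')
    (he : ∀ g, g ∈ S ↔ e.symm.trans (g.trans e) ∈ T) (h : PIso S Y) : PIso T Y := by
  obtain ⟨θ, h1, h2⟩ := h
  refine ⟨θ.comp (MonoidHom.mk' (fun g => ⟨e.trans (g.1.trans e.symm), (he _).2 (by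
    convert g.2; ext; simp)⟩) fun g k => Subtype.ext (LinearEquiv.ext fun x => by simp)), fun y => ?_,
    fun g => (h2 _).trans (exists_congr fun c => ⟨fun h x => ?_, fun h x => by simp [h]⟩)⟩
  · obtain ⟨g, rfl⟩ := h1 y
    exact ⟨⟨_, (he _).1 g.2⟩, congrArg θ (Subtype.ext (LinearEquiv.ext fun x => by simp))⟩
  · simpa using congrArg e (h (e.symm x))

theorem PIso.of_sim (h : PIso (simB b) Y) (H : Sim b b') : PIso (simB b') Y :=
  let ⟨e, _, H⟩ := H
  h.congr e fun g => show (∃ _, _) ↔ ∃ _, _ from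
    ⟨fun ⟨_, h⟩ => ⟨_, H.symm.trans (h.trans H)⟩, fun ⟨_, h⟩ =>
      ⟨_, by convert H.trans (h.trans H.symm); ext; simp⟩⟩

theorem pIso_projQuot {ι : Type} [Fintype ι] [DecidableEq ι] [Nonempty ι] {G : Subgroup (GL ι F)}
    {T : Subgroup ((ι → F) ≃ₗ[F] (ι → F))} (h : ∀ g, g ∈ G ↔ glEquiv ι F g ∈ T) :
    PIso T (projQuot G) :=
  ⟨(QuotientGroup.mk' _).comp (subgroupEquivOfIff _ G T h).symm.toMonoidHom,
    (QuotientGroup.mk'_surjective _).comp (MulEquiv.surjective _), fun g => by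
      obtain ⟨g, rfl⟩ := (subgroupEquivOfIff _ G T h).surjective g
      simp only [MonoidHom.comp_apply, MulEquiv.coe_toMonoidHom, MulEquiv.symm_apply_apply,
        QuotientGroup.mk'_apply, QuotientGroup.eq_one_iff, Subgroup.mem_subgroupOf]
      exact lin_eq_scal_iff.symm.trans isSc_iff.symm⟩

theorem PIso.card_eq [Finite F] [Nontrivial V] (hb : Rf b) (h : PIso (simB b) Y)
    (H : ∀ κ ≠ 0, ∃ g, SimB b b g κ) : Nat.card Y = Nat.card (isoB b) := by
  obtain ⟨θ, h1, h2⟩ := h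
  let μ : simB b →* Fˣ := MonoidHom.mk' (fun g => Units.mk0 g.2.choose g.2.choose_spec.1) fun g k =>
    Units.ext ((g * k).2.choose_spec.unique hb (g.2.choose_spec.mul k.2.choose_spec))
  have h3 : Function.Surjective μ := fun κ =>
    let ⟨g, hg⟩ := H κ κ.ne_zero
    ⟨⟨g, _, hg⟩, Units.ext ((Exists.choose_spec (⟨_, hg⟩ : g ∈ simB b)).unique hb hg)⟩
  have h4 : μ.ker = (isoB b).subgroupOf _ := Subgroup.ext fun g =>
    ⟨fun h => show SimB b b g.1 1 from (show g.2.choose = 1 from congrArg Units.val h) ▸ g.2.choose_spec,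
      fun h => Units.ext (g.2.choose_spec.unique hb h)⟩
  have h5 : θ.ker = ((smE V).codRestrict (simB b) smE_mem).range :=
    Subgroup.ext fun g => (h2 g).trans (isSc_iff.trans (exists_congr fun c =>
      ⟨fun h => Subtype.ext (lin_injective h).symm, fun h => h ▸ rfl⟩))
  have h6 := (card_eq_range_mul_ker θ).symm.trans (card_eq_range_mul_ker μ)
  rw [card_range_of_surjective h1, card_range_of_surjective h3, h4, h5,
    Nat.card_congr (Subgroup.subgroupOfEquivOfLe isoB_le).toEquiv,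
    ← Nat.card_congr (MonoidHom.ofInjective fun c c' h => scal_injective (V := V)
      (congrArg (lin ·.1) h)).toEquiv, mul_comm] at h6
  exact Nat.eq_of_mul_eq_mul_left Nat.card_pos h6

end piso

section forms
variable {K : Kind (RingHom.id F)} {m : ℕ}

theorem rf_of_form {D : Form K V} (hD : D.Nondeg) : Rf D.B := ⟨hD, K.ε, D.symm⟩

theorem Rf.exists_alt (hb : Rf b) (ha : b.IsAlt) : ∃ D : Form (altKind F) V, D.Nondeg ∧ D.B = b :=
  ⟨ofAlt b ha, hb.nd, rfl⟩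

theorem Rf.exists_quad (hb : Rf b) (h2 : (2 : F) ≠ 0) (hs : ∀ x y, b x y = b y x) :
    ∃ D : Form (quadKind F) V, D.Nondeg ∧ D.B = b :=
  have h : (ofSymm ((2 : F)⁻¹ • b) fun x y => by simp [hs x y]).B = b :=
    LinearMap.ext₂ fun x y => by simp [ofSymm_B, h2]
  ⟨_, fun x hx => hb.nd x (h ▸ hx), h⟩

theorem simB_iff_alt {D : Form (altKind F) V} {g : V ≃ₗ[F] V} {κ : F} :
    SimB D.B D.B g κ ↔ IsSim D (lin g) κ :=
  ⟨fun h => isSim_alt h.1 h.2, fun h => ⟨h.ne, h.B⟩⟩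

theorem SimB.Q {D : Form (quadKind F) V} {D' : Form (quadKind F) V'} (h2 : (2 : F) ≠ 0) {g : V ≃ₗ[F] V'}
    {κ : F} (h : SimB D.B D'.B g κ) (x : V) : D'.Q (g x) = κ * D.Q x :=
  mul_left_cancel₀ h2 (by rw [← quad_B_self, h.2, quad_B_self, mul_left_comm])

theorem simB_iff_quad {D : Form (quadKind F) V} (h2 : (2 : F) ≠ 0) {g : V ≃ₗ[F] V} {κ : F} :
    SimB D.B D.B g κ ↔ IsSim D (lin g) κ :=
  ⟨fun h => isSim_quad h.1 (h.Q h2), fun h => ⟨h.ne, h.B⟩⟩

theorem isoB_alt (D : Form (altKind F) V) : isoB D.B = D.isom :=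
  Subgroup.ext fun _ => mem_isoB.trans Symp.mem_isom.symm

theorem isoB_quad (D : Form (quadKind F) V) (h2 : (2 : F) ≠ 0) : isoB D.B = D.isom :=
  Subgroup.ext fun _ => ⟨fun h => mem_isom_quad.2 fun x => (SimB.Q h2 h x).trans (one_mul _),
    fun h => mem_isoB.2 h.B_map⟩

theorem sim_of_iso {D : Form K V} {D' : Form K V'} (h : D.Iso D') : Sim D.B D'.B :=
  let ⟨e, he⟩ := h
  ⟨e, 1, one_ne_zero, fun x y => (he.B_map x y).trans (one_mul _).symm⟩

theorem Sim.hasTS_iff {D : Form (quadKind F) V} {D' : Form (quadKind F) V'} (h : Sim D.B D'.B)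
    (h2 : (2 : F) ≠ 0) {k : ℕ} : D.HasTS k ↔ D'.HasTS k :=
  let ⟨e, _, h⟩ := h
  (hasTS_qsmul h.1).symm.trans (IsIsometry.hasTS_iff (e := e) ⟨h.2, h.Q h2⟩)

theorem not_isAlt_quad [Nontrivial V] {D : Form (quadKind F) V} (hD : D.Nondeg) (h2 : (2 : F) ≠ 0) :
    ¬ LinearMap.IsAlt D.B := fun h =>
  let ⟨x, hx⟩ := hD.quad_exists_Q_ne_zero
  quad_B_ne_zero h2 hx (h x)

theorem pIso_symp (hm : 1 ≤ m) : PIso (simB (fSymp F m).B) (PGSp m F) :=
  haveI : Nonempty (Fin m) := ⟨⟨0, hm⟩⟩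
  pIso_projQuot fun _ => lin_mem_Gam_symp.symm.trans (exists_congr fun _ => simB_iff_alt.symm)

theorem pIso_quad {ι : Type} [Fintype ι] [DecidableEq ι] [Nonempty ι] {D : Form (quadKind F) (ι → F)}
    {Q : (ι → F) → F} (hQ : D.Q = Q) (h2 : (2 : F) ≠ 0) : PIso (simB D.B) (PGO F Q) :=
  pIso_projQuot fun _ => (lin_mem_Gam_quad hQ).symm.trans (exists_congr fun _ => (simB_iff_quad h2).symm)

theorem exists_unit_sq [Finite F] (h2 : (2 : F) = 0) {κ : F} (h : κ ≠ 0) : ∃ c : Fˣ, κ = c ^ 2 :=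
  let ⟨c, hc⟩ := isSquare_of_two_eq_zero h2 κ
  ⟨Units.mk0 c (left_ne_zero_of_mul (hc ▸ h)), hc.trans (sq c).symm⟩

theorem sq_inj_two (h2 : (2 : F) = 0) {x y : F} (h : x ^ 2 = y ^ 2) : x = y :=
  sub_eq_zero.1 (pow_eq_zero_iff two_ne_zero |>.1 (by linear_combination h + (y ^ 2 - x * y) * h2))

theorem PIso.equiv_isoB [Finite F] [Nontrivial V] {Y : Type*} [Group Y] (h : PIso (simB b) Y) (hb : Rf b)
    (h2 : (2 : F) = 0) : Nonempty (Y ≃* isoB b) :=
  (h.of_le isoB_le (fun _ ⟨_, hg⟩ => let ⟨c, hc⟩ := exists_unit_sq h2 hg.1; ⟨c⁻¹, SimB.div (hc ▸ hg)⟩)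
    smE_mem).equiv fun k hk ⟨c, hc⟩ => LinearEquiv.ext fun x => by
      obtain ⟨y, z, h1⟩ := hb.exists_ne
      have h3 := mem_isoB.1 hk y z
      rw [hc, sq_inj_two h2 (x := c) (y := 1) (mul_right_cancel₀ h1 (by simpa [hc, sq, mul_assoc] using h3))]
      simp

theorem pgo_odd_two [Fintype F] (h2 : (2 : F) = 0) (m : ℕ) :
    Nonempty (PGO F (quadFormOdd m F) ≃* (fSymp F m).isom) := by
  haveI : CharP F 2 := CharTwo.of_one_ne_zero_of_two_eq_zero one_ne_zero h2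
  obtain ⟨e⟩ := Cfsg.Agent.S0304.result (F := F) m
  obtain ⟨e'⟩ := ((pIso_projQuot (T := (Gam (fOdd F m)).comap (lin (F := F))) fun _ =>
    (lin_mem_Gam_quad fOdd_Q).symm).of_le (S' := (fOdd F m).isom) (fun g hg => lin_mem_Gam ⟨g, hg⟩)
    (fun g ⟨_, hg⟩ => let ⟨c, hc⟩ := exists_unit_sq h2 hg.ne; ⟨c⁻¹, mem_isom_quad.2 fun x => by
      have : (fOdd F m).Q (g x) = _ := hg.Q x
      simp [Units.smul_def, quad_Q_smul, this, hc]⟩) scal_mem_Gam).equiv
    fun k hk ⟨c, hc⟩ => LinearEquiv.ext fun x => by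
      have h3 := mem_isom_quad.1 hk (Pi.single (.inl ()) 1)
      rw [hc, quad_Q_smul] at h3
      rw [hc, sq_inj_two h2 (x := c) (y := 1) (by simpa [fOdd_Q, quadFormOdd] using h3)]
      simp
  exact ⟨e'.trans ((oIso _ fOdd_Q).symm.trans (e.trans (spEquiv F m)))⟩

variable [FiniteDimensional F V] [FiniteDimensional F V']

theorem SimB.det_conj {e : V ≃ₗ[F] V'} {μ κ : F} (he : SimB b b' e μ) {g : V ≃ₗ[F] V}
    (h : SimB b b g κ) : ∃ g', SimB b' b' g' κ ∧
      LinearMap.det (g' : V' →ₗ[F] V') = LinearMap.det (g : V →ₗ[F] V) :=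
  ⟨e.symm.trans (g.trans e), by simpa [he.1, mul_comm μ] using he.symm.trans (h.trans he),
    LinearMap.det_conj _ e⟩

theorem sim_alt (hb : Rf b) (hb' : Rf b') (ha : b.IsAlt) (ha' : b'.IsAlt)
    (h : finrank F V = finrank F V') : Sim b b' :=
  sim_of_iso (Symp.iso (D := ofAlt b ha) (D' := ofAlt b' ha') hb.nd hb'.nd h)

theorem Rf.even (hb : Rf b) (ha : b.IsAlt) : ∃ m, finrank F V = 2 * m :=
  Symp.exists_finrank_eq (D := ofAlt b ha) hb.nd

theorem exists_mult_alt (hb : Rf b) (ha : b.IsAlt) (hm : finrank F V = 2 * m) {κ : F} (h : κ ≠ 0) :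
    ∃ g, SimB b b g κ ∧ LinearMap.det (g : V →ₗ[F] V) = κ ^ m := by
  obtain ⟨e, μ, he⟩ := sim_alt (rf_of_form (fSymp_nondeg m)) hb (Symp.B_self _) ha
    ((finrank_plus m).trans hm.symm)
  obtain ⟨g, h1, h2⟩ := he.det_conj (κ := κ) (g := glEquiv _ F (Linear.glDiag _ F
    (Sum.elim (fun _ => Units.mk0 κ h) 1))) ⟨h, fun x y => by
      simp only [fSymp_B', glEquiv_apply, Linear.coe_glDiag, Matrix.mulVec_diagonal, Finset.mul_sum]
      exact Finset.sum_congr rfl fun i _ => by simp; ring⟩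
  exact ⟨g, h1, by simp [h2, glEquiv_toLinearMap, Linear.coe_glDiag]⟩

theorem SimB.det_alt (hb : Rf b) (ha : b.IsAlt) (hm : finrank F V = 2 * m) {g : V ≃ₗ[F] V} {κ : F}
    (h : SimB b b g κ) : LinearMap.det (g : V →ₗ[F] V) = κ ^ m := by
  obtain ⟨k, h1, h2⟩ := exists_mult_alt hb ha hm h.1
  have h3 := Symp.det_eq_one (D := ofAlt b ha) hb.nd ⟨k⁻¹ * g, Symp.mem_isom.2 fun x y => by
    simpa [h.1] using (SimB.mul h1.symm h).2 x y⟩
  change LinearEquiv.det (k⁻¹ * g) = 1 at h3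
  rw [map_mul, map_inv, inv_mul_eq_one] at h3
  rw [← h2, ← LinearEquiv.coe_det, ← h3, LinearEquiv.coe_det]

variable [Finite F]

theorem exists_mult_even {D : Form (quadKind F) V} (hD : D.Nondeg) (hm : finrank F V = 2 * m) {κ : F}
    (h : κ ≠ 0) : ∃ g, SimB D.B D.B g κ :=
  let ⟨a, h1, h2⟩ := exists_isSim_even hD hm 1 h
  ⟨a.toLin h2, h, fun x y => by simpa [h2] using h1.B x y⟩

theorem sim_odd (h2 : (2 : F) ≠ 0) (hb : Rf b) (hb' : Rf b') (hm : finrank F V = 2 * m + 1)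
    (hm' : finrank F V' = 2 * m + 1) : Sim b b' := by
  haveI := Module.nontrivial_of_finrank_pos (R := F) (M := V) (by omega)
  haveI := Module.nontrivial_of_finrank_pos (R := F) (M := V') (by omega)
  obtain ⟨D, hD, rfl⟩ := hb.exists_quad h2 (hb.symm_or.resolve_right fun h => by
    have := hb.even h.2; omega)
  obtain ⟨D', hD', rfl⟩ := hb'.exists_quad h2 (hb'.symm_or.resolve_right fun h => by
    have := hb'.even h.2; omega)
  obtain ⟨c, hc, e, he⟩ := Quad.exists_iso_qsmul hD hD' hm hm'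
  exact ⟨e, c, hc, he.B_map⟩

end forms

section two
variable (h2 : (2 : F) = 0)

/-- an alternating form plus the square of a linear form -/
def bOf (D : Form (altKind F) V) (l : V →ₗ[F] F) : LinearMap.BilinForm F V :=
  D.B + LinearMap.BilinForm.linMulLin l l

theorem bOf_apply (D : Form (altKind F) V) (l : V →ₗ[F] F) (x y : V) :
    bOf D l x y = D.B x y + l x * l y := rfl

variable {D : Form (altKind F) V} {D' : Form (altKind F) V'} {l : V →ₗ[F] F} {u : V}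
include h2

theorem mem_isoB_bOf {g : V ≃ₗ[F] V} : g ∈ isoB (bOf D l) ↔ g ∈ D.isom ∧ ∀ x, l (g x) = l x := by
  rw [mem_isoB, Symp.mem_isom]
  refine ⟨fun h => ?_, fun h x y => by simp [bOf_apply, h.1, h.2]⟩
  have h1 : ∀ x, l (g x) = l x := fun x => sq_inj_two h2 (by simpa [bOf_apply, Symp.B_self, sq] using h x x)
  exact ⟨fun x y => by simpa [bOf_apply, h1] using h x y, h1⟩

theorem bOf_symm (x y : V) : bOf D l y x = 1 * bOf D l x y := by
  rw [bOf_apply, bOf_apply, Symp.B_symm]; linear_combination -D.B x y * h2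

theorem rf_bOf (hD : D.Nondeg) (u : V) : Rf (bOf D (D.B u)) :=
  ⟨fun x hx => by
    have h1 : D.B u x = 0 := by
      simpa [bOf_apply, Symp.B_self] using (bOf_symm h2 (D := D) (l := D.B u) x u).trans (by simp [hx])
    exact hD x fun y => by simpa [bOf_apply, h1] using hx y, 1, bOf_symm h2⟩

omit h2 in
theorem not_isAlt_bOf (hD : D.Nondeg) (hu : u ≠ 0) : ¬ (bOf D (D.B u)).IsAlt := fun h =>
  hu (hD u fun x => by simpa [bOf_apply, Symp.B_self] using h x)

theorem isoB_bOf_equiv (hD : D.Nondeg) (hu : u ≠ 0) :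
    Nonempty (isoB (bOf D (D.B u)) ≃* Subgroup.centralizer {Symp.tv D u 1}) := by
  have h1 : ∀ g : D.isom, g ∈ Subgroup.centralizer {Symp.tv D u 1} ↔ ∀ x, D.B u (g.1 x) = D.B u x := by
    intro g
    rw [Subgroup.mem_centralizer_singleton_iff, ← mul_inv_eq_iff_eq_mul, Symp.conj_tv]
    refine Iff.trans ⟨fun h => ?_, fun h => by rw [h]⟩ (show g.1 u = u ↔ _ from
      ⟨fun h x => by rw [← B_isom g u x, h], fun h => g⁻¹.1.injective (hD.ext fun x => by
        rw [isom_inv_apply, ← B_isom_right, h])⟩)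
    have h3 : ∀ x, D.B (g.1 u) x • g.1 u = D.B u x • u := fun x => by
      simpa [Symp.tv_apply] using congrArg (·.1 x) h
    refine hD.ext fun x => sq_inj_two h2 ?_
    simpa [Symp.B_symm D x, sq] using congrArg (D.B x) (h3 x)
  exact ⟨(MulEquiv.subgroupCongr (Subgroup.ext fun g => by
    simp only [mem_isoB_bOf h2, Subgroup.mem_map, h1]
    exact ⟨fun h => ⟨⟨g, h.1⟩, h.2, rfl⟩, by rintro ⟨g, h, rfl⟩; exact ⟨g.2, h⟩⟩)).trans
    (Subgroup.equivMapOfInjective _ _ D.isom.subtype_injective).symm⟩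

/-- the standard form of odd dimension -/
abbrev bOdd (D : Form (altKind F) V) : LinearMap.BilinForm F (F × V) :=
  bOf (D.comap (LinearMap.snd F F V)) (LinearMap.fst F F V)

variable [FiniteDimensional F V] [FiniteDimensional F V']

omit h2 in
theorem sim_bOf (hD : D.Nondeg) (hD' : D'.Nondeg) (h : finrank F V = finrank F V') (hu : u ≠ 0) {u' : V'}
    (hu' : u' ≠ 0) : Sim (bOf D (D.B u)) (bOf D' (D'.B u')) := by
  obtain ⟨e, he⟩ := Symp.iso hD hD' h
  obtain ⟨g, hg⟩ := Symp.exists_map hD' (e.map_ne_zero_iff.2 hu) hu'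
  exact ⟨e.trans g.1, 1, one_ne_zero, fun x y => by simp [bOf_apply, ← hg, he.B_map]⟩

theorem isoB_bOdd_equiv (hD : D.Nondeg) : Nonempty (isoB (bOdd D) ≃* D.isom) := by
  refine ⟨(MulEquiv.ofBijective ((MonoidHom.mk' (fun k : D.isom => (LinearEquiv.refl F F).prodCongr k.1)
    fun _ _ => rfl).codRestrict _ fun k => (mem_isoB_bOf h2).2
      ⟨Symp.mem_isom.2 fun x y => B_isom k _ _, fun _ => rfl⟩) ⟨fun k k' h => isom_ext fun x =>
        congrArg (fun g => (g.1 (0, x)).2) h, fun ⟨g, hg⟩ => ?_⟩).symm⟩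
  obtain ⟨h1, h3⟩ := (mem_isoB_bOf h2).1 hg
  have h4 : ∀ x y, D.B (g x).2 (g y).2 = D.B x.2 y.2 := Symp.mem_isom.1 h1
  let k := D.mkIsom hD (LinearMap.snd F F V ∘ₗ g.toLinearMap ∘ₗ LinearMap.inr F F V)
    (alt_isIsometry fun x y => h4 (0, x) (0, y))
  refine ⟨k, Subtype.ext (LinearEquiv.ext fun x => Prod.ext (h3 x).symm (hD.ext fun y => ?_))⟩
  obtain ⟨y, rfl⟩ := k.1.surjective y
  exact (h4 (0, x.2) (0, y)).trans (h4 x (0, y)).symm

variable [Finite F]

theorem Rf.two_cases (hb : Rf b) : (∃ (D : Form (altKind F) V) (u : V), D.Nondeg ∧ b = bOf D (D.B u)) ∨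
    ∃ m, finrank F V = 2 * m + 1 ∧ Sim (bOdd (fSymp F m)) b := by
  rcases subsingleton_or_nontrivial V with h | h
  · exact Or.inl ⟨ofAlt 0 fun _ => rfl, 0, fun x _ => Subsingleton.elim _ _, Subsingleton.elim _ _⟩
  have hs := hb.symm_or.resolve_right fun h => h.1 h2
  obtain ⟨l, hl⟩ := exists_sq_eq_of_additive h2 (φ := fun x => b x x)
    (fun x y => by simp [hs y x]; linear_combination b x y * h2) fun c x => by simp; ring
  obtain ⟨w, rfl⟩ := (b.toDual hb.nondegenerate).surjective l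
  simp only [LinearMap.BilinForm.toDual_def] at hl
  let D := ofAlt (b + LinearMap.BilinForm.linMulLin (b w) (b w)) fun x => by
    simp [← hl x, ← sq]; linear_combination b w x ^ 2 * h2
  have hD : ∀ x y, D.B x y = b x y + b w x * b w y := fun _ _ => rfl
  by_cases hw : b w w = 0
  · refine Or.inl ⟨D, w, fun x hx => ?_, LinearMap.ext₂ fun x y => ?_⟩
    · have h1 : b w x = 0 := by simpa [hD, hw, hs x] using hx w
      exact hb.nd x fun y => by simpa [hD, h1] using hx y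
    · simp only [bOf_apply, hD, hw]; linear_combination -(b w x * b w y) * h2
  have h1 : b w w = 1 := mul_left_cancel₀ hw (by linear_combination hl w)
  let e : (F × LinearMap.ker (b w)) ≃ₗ[F] V := LinearEquiv.ofLinear
    ((LinearMap.toSpanSingleton F V w).coprod (Submodule.subtype _))
    ((b w).prod ((LinearMap.id - (b w).smulRight w).codRestrict _ fun x => by simp [h1]))
    (LinearMap.ext fun x => by simp) (LinearMap.ext fun x => Prod.ext (by simp [h1, x.2.2.out])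
      (Subtype.ext (by simp [h1, x.2.2.out])))
  have he : ∀ x y, b (e x) (e y) = 1 * bOdd (D.restrict (LinearMap.ker (b w))) x y := fun x y => by
    simp [e, bOf_apply, comap_B, restrict_B, hD, h1, x.2.2.out, y.2.2.out, hs x.2.1 w, mul_comm, add_comm]
  have h3 : (D.restrict (LinearMap.ker (b w))).Nondeg := fun x hx => by
    have := hb.nd (e (0, x)) fun y => by
      rw [← e.apply_symm_apply y, he]; simp [bOf_apply, comap_B, hx]
    simpa using this
  obtain ⟨m, hm⟩ := Symp.exists_finrank_eq h3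
  obtain ⟨e', he'⟩ := (Symp.iso_fSymp h3 hm).symm
  exact Or.inr ⟨m, by rw [← e.finrank_eq, Module.finrank_prod, hm, finrank_self, add_comm],
    Sim.trans ⟨(LinearEquiv.refl F F).prodCongr e', 1, one_ne_zero, fun x y => by
      simp [bOf_apply, comap_B, he'.B_map]⟩ ⟨e, 1, one_ne_zero, he⟩⟩

end two

end Cfsg.Lib.Conj
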