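import Cfsg.Agent.Lib.Conj.ClsN

/-! Splitting off a single block of an isometry; class numbers of unitary groups. -/

set_option autoImplicit false

namespace Cfsg.Lib.Conj

open Module Cfsg.Lib.Forms Cfsg.Lib.Forms.Form Cfsg.Lib.Known Cfsg.Lib.Linear Polynomial Finset

variable {F : Type*} [Field F] {σ : F →+* F} {K : Kind σ} {V V' : Type*}
  [AddCommGroup V] [Module F V] [AddCommGroup V'] [Module F V']

section Single

variable {w : End F V} {a : F[X] × ℕ}

theorem single_cyc (h : HasED w {a}) : ∃ v, Cyc w v := by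
  obtain ⟨e, he⟩ := HasED.elim (ι := Unit) (d := fun _ => a) h
  refine ⟨e.symm fun _ => 1, fun u => ?_⟩
  obtain ⟨φ, hφ⟩ := AdjoinRoot.mk_surjective (e u ())
  refine ⟨φ, e.injective ((aeval_intertwine e.toLinearMap he φ _).trans (funext fun _ => ?_))⟩
  simpa [aeval_mdl_apply] using hφ

theorem single_comm (h : HasED w {a}) {b c : End F V} (hb : Commute b w) (hc : Commute c w) :
    Commute b c := (single_cyc h).elim fun _ hv => hv.commute hb hc

theorem single_local (h : HasED w {a}) {b : End F V} (hb : Commute b w) : IsUnit b ∨ IsNilpotent b := by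
  obtain ⟨v, hv⟩ := single_cyc h
  obtain ⟨φ, rfl⟩ := hv.exists_aeval hb
  by_cases h1 : a.1 ∣ φ
  · exact .inr ⟨a.2, by rw [← map_pow, h.aeval_eq_zero_iff]; simpa using pow_dvd_pow_of_dvd h1 _⟩
  · exact .inl ((h.isUnit_aeval_iff φ).2 (by simpa using h1))

theorem single_det [Finite F] (h : HasED w {a}) {c : F} (hc : c ≠ 0) :
    ∃ b : End F V, IsUnit b ∧ Commute b w ∧ LinearMap.det b = c ^ a.2 := by
  have := Fintype.ofFinite F
  obtain ⟨h1, h2, h3⟩ := h.1 a (Multiset.mem_singleton_self a)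
  obtain ⟨u, hu, h4⟩ := exists_norm_eq_pow h1 h2 (Nat.one_le_iff_ne_zero.1 h3) c hc
  obtain ⟨b, k1, k2, k3⟩ := h.exists_comm_det (Multiset.mem_singleton_self a) u hu
  exact ⟨b, k1, k2, k3.trans h4⟩

theorem exists_fin_hasED {s : Multiset (F[X] × ℕ)} (hs : IsED s) :
    ∃ (n : ℕ) (y : End F (Fin n → F)), HasED y s :=
  ⟨edDeg s, exists_end_hasED hs (by simp)⟩

theorem exists_block [Finite F] [FiniteDimensional F V] (hσ : ∀ a, σ (σ a) = a) {x : End F V}
    (hd : SelfDual σ x) (ha : a ∈ edOf x) :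
    ∃ (m n : ℕ) (w : End F (Fin m → F)) (y : End F (Fin n → F)), HasED w {a} ∧ SelfDual σ y ∧
      ((SelfDual σ w ∧ Sim (w.prodMap y) x) ∨ ∃ (B : (Fin m → F) →ₛₗ[σ] (Fin m → F) →ₗ[F] F)
        (z : End F (Fin m → F)), Function.Bijective B ∧ (∀ u v, B (z u) (w v) = B u v) ∧
          Sim ((z.prodMap w).prodMap y) x) := by
  have hs := hasED_edOf x
  have h0 := hs.isUnit_iff.1 hd.isUnit
  have h1 := (selfDual_iff_dd hσ hd.isUnit hs).1 hd
  generalize edOf x = s at *
  obtain ⟨t, rfl⟩ := Multiset.exists_cons_of_mem ha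
  obtain ⟨m, w, hw⟩ := exists_fin_hasED (s := {a}) (by simpa [IsED] using hs.1 a ha)
  have hu : IsUnit w := hw.isUnit_iff.2 (by simpa using h0 a ha)
  have key : ∀ u ≤ t, u.map (dd σ) = u → ∃ (n : ℕ) (y : End F (Fin n → F)), HasED y u ∧ SelfDual σ y :=
    fun u hu h => by
      have h2 := fun b hb => Multiset.mem_cons_of_mem (a := b) (b := a) (Multiset.mem_of_le hu hb)
      obtain ⟨n, y, hy⟩ := exists_fin_hasED (s := u) fun b hb => hs.1 b (h2 b hb)
      exact ⟨n, y, hy, (selfDual_iff_dd hσ (hy.isUnit_iff.2 fun b hb => h0 b (h2 b hb)) hy).2 h⟩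
  by_cases h : dd σ a = a
  · obtain ⟨n, y, k1, k2⟩ := key t le_rfl (by simpa [h] using h1)
    exact ⟨m, n, w, y, hw, k2, .inl ⟨(selfDual_iff_dd hσ hu hw).2 (by simpa using h),
      (hasED_prod hw k1).sim hs⟩⟩
  · have h2 : dd σ a ∈ t := by
      have : dd σ a ∈ a ::ₘ t := h1 ▸ Multiset.mem_map_of_mem _ ha
      simpa [h] using this
    obtain ⟨u, rfl⟩ := Multiset.exists_cons_of_mem h2
    rw [Multiset.map_cons, Multiset.map_cons, show dd σ (dd σ a) = a from
      Prod.ext (pd_pd hσ (hs.1 a ha).1) rfl, Multiset.cons_swap, Multiset.cons_inj_right,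
      Multiset.cons_inj_right] at h1
    obtain ⟨n, y, k1, k2⟩ := key u (Multiset.le_cons_self _ _) h1
    obtain ⟨B, hB⟩ := exists_perfect (Fin m → F) (Function.Involutive.surjective hσ)
    obtain ⟨z, -, -, hz⟩ := exists_dual_end hB hu
    refine ⟨m, n, w, y, hw, k2, .inr ⟨B, z, hB, hz,
      (hasED_prod (hasED_prod (hasED_dual hσ hB hu hz hw) hw) k1).sim ?_⟩⟩
    rw [Multiset.cons_swap] at hs
    simpa [add_assoc] using hs

theorem exists_dual_comm [FiniteDimensional F V] {B : V →ₛₗ[σ] V →ₗ[F] F} (hB : Function.Bijective B)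
    {z b : End F V} (hz : ∀ u v, B (z u) (w v) = B u v) (hb : IsUnit b) (hw : IsUnit w) (hc : Commute b w) :
    ∃ b' : End F V, (∀ u v, B (b' u) (b v) = B u v) ∧ Commute (b'.prodMap b) (z.prodMap w) ∧
      σ (LinearMap.det b') * LinearMap.det b = 1 := by
  obtain ⟨b', k1, -, k2⟩ := exists_dual_end hB hb
  refine ⟨b', k2, ?_, by rw [← det_ladj hB b, ← map_mul, ← map_mul, k1, map_one, map_one]⟩
  rw [commute_iff_eq, LinearMap.prodMap_mul, LinearMap.prodMap_mul, hc.eq, end_ext hB (f := b' * z)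
    (g := z * b') fun u v => ?_]
  obtain ⟨v, rfl⟩ := ((End.isUnit_iff _).1 (hb.mul hw)).2 v
  simp only [End.mul_apply]
  rw [k2, hz, ← End.mul_apply b, hc.eq, End.mul_apply, hz, k2]

theorem IsoC.exists_comm [FiniteDimensional F V] [FiniteDimensional F V'] {W : Type*} [AddCommGroup W]
    [Module F W] [FiniteDimensional F W] {D : Form K V} {D' : Form K V'} {E : Form K W} {y : End F V'}
    {g : E.isom} (h : IsoC (D.prod D') (w.prodMap y) E (nat E g)) (z : D.isom) (hz : Commute (nat D z) w) :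
    ∃ (e : (V × V') ≃ₗ[F] W) (he : IsIsometry (D.prod D') E e),
      isomCongr e he (D.prodHom D' (z, 1)) * g = g * isomCongr e he (D.prodHom D' (z, 1)) := by
  obtain ⟨e, he, h⟩ := h
  refine ⟨e, he, isom_ext fun v => ?_⟩
  obtain ⟨v, rfl⟩ := e.surjective v
  have := LinearMap.congr_fun hz.eq v.1
  simp only [nat_apply, End.mul_apply, LinearEquiv.coe_coe] at h this
  simp [isom_mul_apply, isomCongr_apply, ← h, prodHom_apply, this, isom_one_apply]

end Single

section Herm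

variable {q : ℕ} {h : IsConj σ q}

theorem herm_comm_det_pow [Finite F] [FiniteDimensional F V] {D : Form h.kind V} (hD : D.Nondeg) (g : D.isom)
    {a : F[X] × ℕ} (ha : a ∈ edOf (nat D g)) {c : F} (hc : c * σ c = 1) :
    ∃ z : D.isom, z * g = g * z ∧ (D.det z : F) = c ^ a.2 := by
  obtain ⟨m, n, w, y, h1, h2, H⟩ := exists_block h.σσ (selfDual_of_isIsometry hD g.2) ha
  obtain ⟨E', k1, k2⟩ := h2.exists_herm h
  have key : ∀ {W : Type _} [AddCommGroup W] [Module F W] [FiniteDimensional F W] (E : Form h.kind W)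
      (hE : E.Nondeg) (w z : End F W), IsIsometry E E w → Sim (w.prodMap y) (nat D g) → Commute z w →
      (∀ u v, E.B (z u) (z v) = E.B u v) → LinearMap.det z = c ^ a.2 →
      ∃ z : D.isom, z * g = g * z ∧ (D.det z : F) = c ^ a.2 := fun E hE w z k3 k4 k5 k6 k7 => by
    obtain ⟨e, he, k⟩ := (isoC_herm (hE.prod k1) hD (isIsometry_prodMap k3 k2) g.2 k4).exists_comm
      (E.mkIsom hE z (herm_isIsometry k6)) k5
    exact ⟨_, k, by rw [det_isomCongr, det_prodHom, map_one, mul_one, coe_det]; exact k7⟩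
  obtain ⟨μ, hμ, rfl⟩ := h.exists_div_eq hc
  obtain ⟨b, b1, b2, b3⟩ := single_det h1 hμ
  rcases H with ⟨h3, h4⟩ | ⟨B, z, h3, h4, h5⟩
  · obtain ⟨E, k3, k4⟩ := h3.exists_herm h
    have b4 := commute_adj k3 k4.B_map b2
    obtain ⟨z, z1, z2, z3⟩ := exists_div_adj k3 b1 (single_comm h1 b2 b4)
    refine key E k3 w z k4 h4 (z3 _ b2.symm b4.symm).symm z2 ?_
    have := congrArg LinearMap.det z1
    rw [map_mul, det_adj, b3] at this
    rw [mul_pow, inv_pow, ← map_pow, eq_mul_inv_iff_mul_eq₀ (by simp [hμ]), this]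
  · obtain ⟨b', k3, k4, k5⟩ := exists_dual_comm h3 h4 b1 (h1.isUnit_iff.2 (by
      simpa using (hasED_edOf _).isUnit_iff.1 (isUnit_of_isIsometry hD g.2.B_map) a ha)) b2
    refine key (dbl h.kind B) (dbl_nondeg_of_bij h3) _ _ (dbl_isIsometry h4) h5 k4
      (dbl_isIsometry k3).B_map ?_
    have := congrArg σ k5
    rw [map_mul, h.σσ, map_one, b3] at this
    rw [LinearMap.det_prodMap, b3, mul_pow, inv_pow, ← map_pow, eq_inv_of_mul_eq_one_left this, mul_comm]

theorem pd_iff_coeff {u : F[X]} (hm : u.Monic) (h0 : u.coeff 0 ≠ 0) : pd σ u = u ↔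
    ∀ k ≤ u.natDegree, σ (u.coeff (u.natDegree - k)) = σ (u.coeff 0) * u.coeff k := by
  rw [pd_eq_self_iff hm h0, Polynomial.ext_iff]
  simp only [coeff_reflect, coeff_map, coeff_C_mul]
  refine ⟨fun H k hk => by rw [← H, revAt_le hk], fun H k => ?_⟩
  by_cases hk : k ≤ u.natDegree
  · rw [revAt_le hk, H k hk]
  · simp [revAt_eq_self_of_lt (not_le.1 hk), coeff_eq_zero_of_natDegree_lt (not_le.1 hk)]

theorem norm_coeff_zero {u : F[X]} (hm : u.Monic) (h0 : u.coeff 0 ≠ 0) (hd : pd σ u = u) :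
    σ (u.coeff 0) * u.coeff 0 = 1 := by
  simpa [hm.coeff_natDegree] using ((pd_iff_coeff hm h0).1 hd 0 (Nat.zero_le _)).symm

end Herm

end Cfsg.Lib.Conj
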