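import Cfsg.Agent.Lib.Conj.Jord

/-! Orders of centralisers of unipotent elements of `GL` and `GU`. -/

set_option autoImplicit false

namespace Cfsg.Lib.Conj

open Cfsg.Lib.Forms Cfsg.Lib.Forms.Form Cfsg.Lib.Known Module LinearMap Finset

universe u

variable {F : Type*} [Field F] {V : Type u} {X Y : Type*} [AddCommGroup V] [Module F V] [AddCommGroup X] [Module F X]
  [AddCommGroup Y] [Module F Y]

theorem inj_one_add_comm {f : X →ₗ[F] Y} {g : Y →ₗ[F] X} (h : ∀ y, y + f (g y) = 0 → y = 0) (x : X)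
    (hx : x + g (f x) = 0) : x = 0 := by
  have := h (f x) (by rw [← map_add, hx, map_zero])
  simpa [this] using hx

theorem card_fiber (L : X →ₗ[F] Y) (hL : Function.Surjective L) (P : Y → Prop) :
    Nat.card {x // P (L x)} = Nat.card (ker L) * Nat.card {y // P y} := by
  obtain ⟨s, hs⟩ := hL.hasRightInverse
  rw [← Nat.card_prod]
  exact Nat.card_congr ⟨fun x => (⟨x.1 - s (L x.1), by simp [hs _]⟩, ⟨_, x.2⟩),
    fun z => ⟨z.1.1 + s z.2.1, by simpa [mem_ker.1 z.1.2, hs _] using z.2.2⟩, fun x => by simp,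
    fun z => by simp [mem_ker.1 z.1.2, hs _]⟩

/-- The order of `GL_m(q)`. -/
def glOrd (q m : ℕ) : ℕ := ∏ j : Fin m, (q ^ m - q ^ (j : ℕ))

variable [FiniteDimensional F V] [FiniteDimensional F X] [FiniteDimensional F Y]

theorem card_one_add [Finite F] (c : Y →ₗ[F] X) {r m : ℕ} (hr : finrank F (ker c) = r) (hm : finrank F Y = r + m)
    (hX : finrank F X = r + m) : Nat.card {h : X →ₗ[F] Y // ∀ y, y + h (c y) = 0 → y = 0} =
      Nat.card F ^ (r * (r + 2 * m)) * glOrd (Nat.card F) m := by
  have h1 : finrank F (range c) = m := by have := c.finrank_range_add_finrank_ker; omega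
  let L : (X →ₗ[F] Y) →ₗ[F] End F (range c) :=
    (lcomp F _ (range c).subtype) ∘ₗ (llcomp F _ _ _ c.rangeRestrict)
  have hL : Function.Surjective L := fun e => by
    obtain ⟨a, ha⟩ := (range c).subtype.exists_leftInverse_of_injective (Submodule.ker_subtype _)
    obtain ⟨b, hb⟩ := c.rangeRestrict.exists_rightInverse_of_surjective c.range_rangeRestrict
    exact ⟨b ∘ₗ e ∘ₗ a, LinearMap.ext fun v =>
      (LinearMap.congr_fun hb _).trans (congrArg e (LinearMap.congr_fun ha v))⟩
  have h2 := L.finrank_range_add_finrank_ker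
  rw [range_eq_top.2 hL, finrank_top, finrank_linearMap, finrank_linearMap, h1, hm, hX] at h2
  rw [Nat.card_congr (Equiv.subtypeEquivRight (p := fun h : X →ₗ[F] Y => ∀ y, y + h (c y) = 0 → y = 0)
    (q := fun h => ∀ v, v + L h v = 0 → v = 0) fun h =>
    ⟨inj_one_add_comm (f := h ∘ₗ (range c).subtype) (g := c.rangeRestrict),
      inj_one_add_comm (g := h ∘ₗ (range c).subtype) (f := c.rangeRestrict)⟩),
    card_fiber L hL fun e => ∀ v, v + e v = 0 → v = 0, Module.natCard_eq_pow_finrank (K := F),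
    show finrank F (ker L) = r * (r + 2 * m) by nlinarith, glOrd, ← card_linAut h1]
  congr 1
  refine (Nat.card_congr (Equiv.ofBijective (fun g => ⟨g.toLinearMap - 1, by simp⟩) ⟨fun a b h => ?_, fun e => ?_⟩)).symm
  · exact LinearEquiv.toLinearMap_injective (sub_left_injective (congrArg Subtype.val h))
  · exact ⟨.ofInjectiveEndo (1 + e.1) ((injective_iff_map_eq_zero _).2 e.2), Subtype.ext (add_sub_cancel_left _ _)⟩

/-- The number of Jordan blocks of size `> i`. -/
noncomputable def aa (N : End F V) (i : ℕ) : ℕ := finrank F ↥(ker N ⊓ range (N ^ i))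

omit [FiniteDimensional F V] in
theorem aa_restrict (N : End F V) (h : ∀ v ∈ range N, N v ∈ range N) (i : ℕ) :
    aa (N.restrict h) i = aa N (i + 1) := by
  rw [aa, aa, ← Submodule.finrank_map_subtype_eq]
  refine congrArg (fun S : Submodule F V => finrank F S) (Submodule.ext fun v => ?_)
  simp only [Submodule.mem_map, Submodule.mem_inf, mem_ker, mem_range, End.pow_restrict i h, pow_succ]
  constructor
  · rintro ⟨w, ⟨h1, ⟨_, z, rfl⟩, rfl⟩, rfl⟩
    exact ⟨congrArg Subtype.val h1, z, rfl⟩
  · rintro ⟨h1, z, rfl⟩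
    exact ⟨_, ⟨Subtype.ext (by exact h1), ⟨_, z, rfl⟩, rfl⟩, rfl⟩

omit [FiniteDimensional F V] in
theorem aa_zero (N : End F V) : aa N 0 = finrank F (ker N) := by
  rw [aa, pow_zero, End.one_eq_id, range_id, inf_top_eq]

theorem aa_succ_le (N : End F V) (i : ℕ) : aa N (i + 1) ≤ aa N i :=
  Submodule.finrank_mono (inf_le_inf_left _ (by rw [pow_succ]; exact range_comp_le_range _ _))

theorem exists_unit_lift {N : End F V} (h : ∀ v ∈ range N, N v ∈ range N) (b : (End F (range N))ˣ)
    (hb : ∀ v, b.1 (N.restrict h v) = N.restrict h (b.1 v)) :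
    ∃ a : End F V, IsUnit a ∧ a * N = N * a ∧ ∀ v : range N, a v = b.1 v := by
  obtain ⟨a, ha, ha'⟩ : ∃ a : End F V, a * N = N * a ∧ ∀ v : range N, a v = b.1 v := by
    obtain ⟨U, hU⟩ := (range N).exists_isCompl
    obtain ⟨s, hs⟩ := N.rangeRestrict.exists_rightInverse_of_surjective N.range_rangeRestrict
    let a := ofIsCompl hU ((range N).subtype ∘ₗ b.1) (s ∘ₗ b.1 ∘ₗ N.rangeRestrict ∘ₗ U.subtype)
    have h1 : ∀ v : range N, a v = b.1 v := fun v => ofIsCompl_apply_left hU v
    refine ⟨a, LinearMap.ext fun v => ?_, h1⟩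
    obtain ⟨w, u, rfl⟩ := Submodule.existsUnique_add_of_isCompl hU v |>.imp fun _ h => h.imp fun _ h => h.1
    have h2 : a (N u) = N (a u) := (h1 ⟨_, u, rfl⟩).trans (by
      rw [ofIsCompl_apply_right hU u]; exact (congrArg Subtype.val (LinearMap.congr_fun hs _)).symm)
    have h3 : a (N w) = N (a w) := (h1 ⟨_, w, rfl⟩).trans (by rw [h1]; exact congrArg Subtype.val (hb w))
    simp [h2, h3]
  obtain ⟨n, hn, h0⟩ := (a.eventually_isCompl_ker_pow_range_pow.and (Filter.eventually_ge_atTop 1)).exists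
  let p := Submodule.projection _ _ hn
  have h1 : ∀ (n : ℕ) (v : range N), (a ^ n) v = (b ^ n).1 v := fun n => by
    induction n with
    | zero => simp
    | succ n ih => exact fun v => by rw [pow_succ, pow_succ, End.mul_apply, ha', ih]; rfl
  have h3 : ∀ v ∈ range N, p v = 0 := fun v hv => (Submodule.projection_apply_eq_zero_iff hn).2
    ⟨(b ^ n)⁻¹.1 ⟨v, hv⟩, by rw [h1, ← End.mul_apply, Units.mul_inv]; rfl⟩
  have h4 : ∀ v, N (p v) = 0 := fun v => by
    have h5 : (a ^ n) (N (p v)) = 0 := by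
      rw [← End.mul_apply, (Commute.pow_left ha n).eq, End.mul_apply,
        mem_ker.1 (Submodule.projection_apply_mem hn v), map_zero]
    rw [← Submodule.projection_apply_of_mem_left hn (mem_ker.2 h5)]
    exact h3 _ ⟨_, rfl⟩
  have h5 : ∀ v, a (N v) = N (a v) := LinearMap.congr_fun ha
  refine ⟨p + a * (1 - p), isUnit_of_inj fun v hv => ?_, LinearMap.ext fun v => ?_, fun v => ?_⟩
  · have h6 : a (v - p v) ∈ range (a ^ n) := by
      obtain ⟨w, hw⟩ := Submodule.sub_projection_mem hn v
      exact ⟨a w, by rw [← hw, ← End.mul_apply, ← End.mul_apply, pow_mul_comm']⟩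
    have h7 : p v = 0 := (Submodule.disjoint_def.1 hn.disjoint) _ (Submodule.projection_apply_mem hn v)
      ((eq_neg_of_add_eq_zero_left hv).symm ▸ neg_mem h6)
    refine (Submodule.disjoint_def.1 hn.disjoint) _ ?_ ((Submodule.projection_apply_eq_zero_iff hn).1 h7)
    obtain ⟨n, rfl⟩ := Nat.exists_eq_add_of_le' h0
    rw [mem_ker, pow_succ, End.mul_apply, show a v = 0 by simpa [h7] using hv, map_zero]
  · simp [h3 _ ⟨v, rfl⟩, h4, ← h5]
  · simp [h3 _ v.2, ha']

/-- The order of the centraliser. -/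
def cf (q : ℕ) (c a : ℕ → ℕ) (n : ℕ) : ℕ :=
  ∏ i ∈ range n, q ^ (a (i + 1) * (a (i + 1) + 2 * (a i - a (i + 1)))) * c (a i - a (i + 1))

omit [FiniteDimensional F V] in
theorem restrict_pow_eq_zero {N : End F V} (h : ∀ v ∈ range N, N v ∈ range N) {n : ℕ} (hn : N ^ (n + 1) = 0) :
    N.restrict h ^ n = 0 := by
  rw [End.pow_restrict n h]
  ext ⟨_, v, rfl⟩
  exact LinearMap.congr_fun ((pow_succ N n).symm.trans hn) v

theorem card_cent_GL [Finite F] (n : ℕ) (u : (End F V)ˣ) (hn : (u.1 - 1) ^ n = 0) :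
    Nat.card (Subgroup.centralizer {u}) = cf (Nat.card F) (glOrd (Nat.card F)) (aa (u.1 - 1)) n := by
  induction n generalizing V with
  | zero =>
    haveI := subsingleton_of_zero_eq_one (hn.symm.trans (pow_zero _))
    simp [cf]
  | succ n ih =>
  set N := u.1 - 1 with hN
  have hC : ∀ g : (End F V)ˣ, g ∈ Subgroup.centralizer {u} ↔ g.1 * N = N * g.1 := fun g => by
    rw [Subgroup.mem_centralizer_singleton_iff, ← Units.val_inj]; simp [hN, mul_sub, sub_mul]
  have h : ∀ v ∈ range N, N v ∈ range N := fun v _ => ⟨v, rfl⟩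
  let f : Subgroup.centralizer {u} →* End F (range N) :=
    { toFun g := g.1.1.restrict (by rintro _ ⟨v, rfl⟩; exact ⟨_, (LinearMap.congr_fun ((hC _).1 g.2) v).symm⟩)
      map_one' := rfl
      map_mul' _ _ := rfl }
  let u' := f.toHomUnits ⟨u, Subgroup.mem_centralizer_singleton_iff.2 rfl⟩
  have h1 : u'.1 - 1 = N.restrict h := rfl
  have h2 : f.toHomUnits.range = Subgroup.centralizer {u'} := by
    ext b
    rw [Subgroup.mem_centralizer_singleton_iff]
    constructor
    · rintro ⟨g, rfl⟩
      rw [← map_mul, ← map_mul]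
      exact congrArg _ (Subtype.ext (Subgroup.mem_centralizer_singleton_iff.1 g.2))
    · intro hb
      obtain ⟨a, h3, h4, h5⟩ := exists_unit_lift h b (LinearMap.congr_fun (f := b.1 * N.restrict h)
        (g := N.restrict h * b.1) (by rw [← h1, mul_sub, sub_mul, ← Units.val_mul, hb]; simp))
      exact ⟨⟨h3.unit, (hC _).2 h4⟩, Units.ext (LinearMap.ext fun v => Subtype.ext (h5 v))⟩
  have h3 := aa_succ_le N 0
  have h4 := aa_zero N
  rw [← f.toHomUnits.ker.card_mul_index, Subgroup.index_ker, h2, ih u' (h1 ▸ restrict_pow_eq_zero h hn), h1, cf, cf,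
    prod_range_succ', mul_comm, ← card_one_add ((range N).mkQ ∘ₗ (ker N).subtype)]
  · simp only [aa_restrict]
    congr 1
    let i : ((V ⧸ range N) →ₗ[F] ker N) → End F V := fun k => 1 + (ker N).subtype ∘ₗ k ∘ₗ (range N).mkQ
    have a1 : ∀ k (v : range N), i k v = v := fun k v => by simp [i, (Submodule.Quotient.mk_eq_zero (range N)).2 v.2]
    have a2 : ∀ k, i k * N = N * i k := fun k => LinearMap.ext fun v => (a1 k ⟨_, v, rfl⟩).trans (by simp [i])
    refine (Nat.card_congr (Equiv.ofBijective (fun k => ⟨⟨(isUnit_of_inj (x := i k.1)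
      (inj_one_add_comm (f := k.1 ∘ₗ (range N).mkQ) (g := (ker N).subtype) k.2)).unit, (hC _).2 (a2 _)⟩,
      Units.ext (LinearMap.ext fun v => Subtype.ext (a1 _ v))⟩) ⟨fun a b h => ?_, fun g => ?_⟩)).symm
    · ext v
      simpa [i] using LinearMap.congr_fun (congrArg (·.1.1.1) h) v
    · have h5 : ∀ v, g.1.1.1 (N v) = N v := fun v =>
        congrArg Subtype.val (LinearMap.congr_fun (congrArg Units.val g.2) ⟨_, v, rfl⟩)
      refine ⟨⟨(range N).liftQ ((g.1.1.1 - 1).codRestrict _ fun v => ?_) ?_, fun y hy => Subtype.ext ?_⟩, ?_⟩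
      · simp [← End.mul_apply N, ← (hC _).1 g.1.2, h5]
      · rintro _ ⟨v, rfl⟩
        exact Subtype.ext (by simp [h5])
      · exact inj_of_isUnit g.1.1.isUnit (by simpa using congrArg Subtype.val hy)
      · ext v
        simp [i]
  · rw [ker_comp, Submodule.ker_mkQ, ← Submodule.finrank_map_subtype_eq, Submodule.map_comap_subtype, aa, zero_add,
      pow_one]
  · omega
  · have := (range N).finrank_quotient_add_finrank
    have := N.finrank_range_add_finrank_ker
    omega

theorem card_fix_herm {σ : F →+* F} {q : ℕ} {h : IsConj σ q} {D : Form h.kind V} (hD : D.Nondeg) (W : Submodule F V)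
    {r m : ℕ} (hr : finrank F ↥(D.perp W ⊓ W) = r) (hm : finrank F (D.perp W) = r + m) :
    Nat.card (D.fix W) = q ^ (r * (r + 2 * m)) * guOrder q m := by
  haveI := h.finite
  obtain ⟨U, h1, h2⟩ := IsModularLattice.exists_disjoint_and_sup_eq (inf_le_right : D.perp W ⊓ W ≤ W)
  have hU : U ≤ W := h2 ▸ le_sup_right
  have h3 : Disjoint U (D.perp U) := Submodule.disjoint_def.2 fun u hu hu' => Submodule.disjoint_def.1 h1 u
    ⟨by rw [← h2, D.perp_sup]; exact ⟨fun w hw => (D.mem_perp'.1 hw.1) u (hU hu), hu'⟩, hU hu⟩ hu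
  have h4 := (hD.isOrthCompl h3).symm
  have h5 : D.perp W ⊓ W ≤ D.perp U := inf_le_left.trans (D.perp_anti hU)
  have h6 := card_fix_sup h4 hD ((D.perp W ⊓ W).comap (D.perp U).subtype)
  rw [Submodule.map_comap_subtype, inf_eq_right.2 h5, h2] at h6
  obtain ⟨T, hT, h7, -, h8⟩ := (Herm.isTS (D := D.restrict (D.perp U)) (U := (D.perp W ⊓ W).comap _)
    fun u hu v hv => hv.1 u hu.2).exists_card_fix (h4.nondeg_left hD)
      ((Submodule.comapSubtypeEquivOfLe h5).finrank_eq.trans hr)
  have := hD.finrank_perp U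
  have := hD.finrank_perp W
  have := Submodule.finrank_sup_add_finrank_inf_eq (D.perp W ⊓ W) U
  rw [h2, h1.eq_bot, finrank_bot] at this
  rw [h6, h8, Herm.card_isom hT, h.card_ker_tr, h.card, show finrank F T = m by omega, ← pow_mul q 2 (_ + _), mul_add 2,
    Nat.two_mul_div_two_of_even (Nat.even_mul_pred_self r)]
  rcases r with _ | r
  · simp
  · rw [Nat.add_sub_cancel]; ring

theorem card_cent_herm {σ : F →+* F} {q : ℕ} {h : IsConj σ q} (n : ℕ) {D : Form h.kind V} (hD : D.Nondeg) (x : D.isom)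
    (hn : ((x.1 : End F V) - 1) ^ n = 0) :
    Nat.card (Subgroup.centralizer {x}) = cf q (guOrder q) (aa ((x.1 : End F V) - 1)) n := by
  induction n generalizing V with
  | zero =>
    haveI := subsingleton_of_zero_eq_one (hn.symm.trans (pow_zero _))
    haveI : Subsingleton D.isom := ⟨fun a b => nat_injective D (Subsingleton.elim _ _)⟩
    simp [cf]
  | succ n ih =>
  set N := (x.1 : End F V) - 1 with hN
  have hN' : ∀ v, N v = x.1 v - v := fun _ => rfl
  have hC : ∀ g : D.isom, g ∈ Subgroup.centralizer {x} ↔ ∀ v, g.1 (N v) = N (g.1 v) := fun g => by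
    rw [Subgroup.mem_centralizer_singleton_iff]
    exact ⟨fun h v => by rw [hN', hN', map_sub, ← isom_mul_apply, h, isom_mul_apply],
      fun h => isom_ext fun v => by simpa [hN'] using h v⟩
  have hW : ∀ v ∈ range N, N v ∈ range N := fun v _ => ⟨v, rfl⟩
  have hle : Subgroup.centralizer {x} ≤ D.stab (range N) := fun g hg => D.mem_stab_of_mapsTo (by
    rintro _ ⟨v, rfl⟩; exact ⟨_, ((hC g).1 hg v).symm⟩)
  have hp : D.perp (ker N) = range N := by simpa using perp_ker_pow hD x.2.B_map 1
  obtain ⟨a, ha⟩ : ∃ a, σ a ≠ a := by simpa using DFunLike.ne_iff.1 h.ne_id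
  let T : End F V := a • 1 - σ a • (x⁻¹.1 : End F V)
  have hT : ∀ v, T v = 0 → v = 0 := fun v hv => by
    have h1 : a • N v = (σ a - a) • v := by
      have := congrArg x.1 (sub_eq_zero.1 hv)
      simp only [LinearMap.smul_apply, End.one_apply, map_smul, LinearEquiv.coe_coe, isom_apply_inv] at this
      rw [hN', smul_sub, this, sub_smul]
    have h2 : ∀ k, a ^ k • (N ^ k) v = (σ a - a) ^ k • v := fun k => by
      induction k with
      | zero => simp
      | succ k ih => rw [pow_succ, pow_succ, pow_succ', mul_smul, mul_smul, End.mul_apply, ← map_smul, h1, map_smul,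
          smul_comm, ih]
    simpa [hn, sub_eq_zero, ha] using (h2 (n + 1)).symm
  have hTN : ∀ v, T (N v) = N (T v) := fun v => by simp [T, hN', smul_sub]; abel
  have hM : ∀ u v, D.B (T (N u)) v = D.B u (T (N v)) := fun u v => by
    simp [T, hN', h.σσ, B_isom_left x, B_isom_right x]; ring
  have hr : ∀ w : range N, ∃ u, T (N u) = w := fun ⟨_, v, rfl⟩ => by
    obtain ⟨u, rfl⟩ := (End.isUnit_iff _).1 (isUnit_of_inj hT) |>.2 v
    exact ⟨u, hTN u⟩
  let M : V →ₗ[F] range N := (T ∘ₗ N).codRestrict _ fun v => ⟨_, (hTN v).symm⟩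
  obtain ⟨s, hs⟩ := M.exists_rightInverse_of_surjective
    (range_eq_top.2 fun w => (hr w).imp fun _ h => Subtype.ext h)
  have hs : ∀ w, T (N (s w)) = w := fun w => congrArg Subtype.val (LinearMap.congr_fun hs w)
  have hB : ∀ u (w : range N), D.B (s (M u)) w = D.B u w := fun u w => by
    rw [← hs w, ← hM, ← hM, hs]; rfl
  let D' : Form h.kind (range N) := ofHerm h.σσ (.inl h.ne_id) ((D.B.comp s).compl₂ (range N).subtype)
    ⟨fun w w' => by
      change σ (D.B (s w) w') = D.B (s w') w
      rw [herm_symm, ← hs w', hM, hs]⟩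
  have hD'B : ∀ u (w : range N), D'.B (M u) w = D.B u w := hB
  have hM' : ∀ w, M (s w) = w := fun w => Subtype.ext (hs w)
  have hD' : D'.Nondeg := fun w hw => Subtype.ext (hD _ fun v => by rw [← hs w, hM]; exact hw (M v))
  let f := (D.resLin (range N)).comp (Subgroup.inclusion hle)
  have hf : ∀ g u, f g (M u) = M (g.1.1 u) := fun g u => Subtype.ext (by
    change g.1.1 (T (N u)) = T (N (g.1.1 u))
    have := (Commute.inv_right (Subgroup.mem_centralizer_singleton_iff.1 g.2)).eq
    rw [← (hC _).1 g.2]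
    simp only [T, LinearMap.sub_apply, LinearMap.smul_apply, End.one_apply, map_sub, map_smul, LinearEquiv.coe_coe]
    rw [← isom_mul_apply, this, isom_mul_apply])
  have hi : ∀ g, f g ∈ D'.isom := fun g => herm_isIsometry fun w w' => by
    rw [← hM' w, hf, hD'B, hD'B]; exact g.1.2.B_map _ _
  let x' : D'.isom := ⟨_, hi ⟨x, Subgroup.mem_centralizer_singleton_iff.2 rfl⟩⟩
  have h1 : (x'.1 : End F _) - 1 = N.restrict hW := rfl
  have h2 : f.range = (Subgroup.centralizer {x'}).map D'.isom.subtype := by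
    ext b
    constructor
    · rintro ⟨g, rfl⟩
      refine ⟨⟨_, hi g⟩, Subgroup.mem_centralizer_singleton_iff.2 (Subtype.ext ?_), rfl⟩
      exact (map_mul f _ _).symm.trans ((congrArg f (Subtype.ext (Subgroup.mem_centralizer_singleton_iff.1 g.2))).trans
        (map_mul f _ _))
    · rintro ⟨b, hb, rfl⟩
      have hb := Subgroup.mem_centralizer_singleton_iff.1 hb
      have h3 : ∀ w w' : range N, w'.1 = T w → (b.1 w').1 = T (b.1 w) := fun w w' h3 => by
        rw [show w' = a • w - σ a • x'⁻¹.1 w from Subtype.ext h3, map_sub, map_smul, map_smul, ← isom_mul_apply,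
          (Commute.inv_right hb).eq]
        rfl
      have h4 : ∀ w : range N, b.1 (M w) = M (b.1 w) := fun w => Subtype.ext ((h3 (x'.1 w - w) _ rfl).trans (by
        rw [map_sub, ← isom_mul_apply, hb]; rfl))
      obtain ⟨g, hg⟩ := hD.witt (range N) ((range N).subtype ∘ₗ b.1.toLinearMap)
        (Subtype.val_injective.comp b.1.injective) (herm_isIsometry fun w w' => by
          have := b.2.B_map (M w) w'
          rwa [h4, hD'B, hD'B] at this)
      refine ⟨⟨g, (hC g).2 fun u => ?_⟩, LinearEquiv.ext fun w => Subtype.ext (hg w)⟩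
      have h5 : b.1 (M u) = M (g.1 u) := hD'.ext fun w => by
        obtain ⟨w, rfl⟩ := b.1.surjective w
        rw [b.2.B_map, hD'B, hD'B, ← g.2.B_map, hg]; rfl
      refine sub_eq_zero.1 (hT _ ?_)
      rw [map_sub, hg ⟨_, u, rfl⟩, sub_eq_zero]
      exact (h3 ⟨_, u, rfl⟩ (M u) rfl).symm.trans (congrArg Subtype.val h5)
  have h3 := aa_succ_le N 0
  have h4 := aa_zero N
  have h5 : D.perp (range N) = ker N := by rw [← hp, hD.perp_perp]
  rw [← f.ker.card_mul_index, Subgroup.index_ker, h2, Subgroup.card_subtype, ih hD' x' (h1 ▸ restrict_pow_eq_zero hW hn),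
    h1, cf, cf, prod_range_succ', mul_comm, ← card_fix_herm hD (range N) (by rw [h5, aa, zero_add, pow_one])
      (by rw [h5]; omega)]
  simp only [aa_restrict]
  congr 1
  exact Nat.card_congr ⟨fun g => ⟨g.1.1, fun w hw => congrArg Subtype.val (LinearEquiv.congr_fun g.2 ⟨w, hw⟩)⟩,
    fun g => ⟨⟨g.1, (hC _).2 fun v => (g.2 _ ⟨v, rfl⟩).trans (sub_eq_zero.1 ((map_sub N _ _).symm.trans (h5.le
      fun w hw => by rw [map_sub, ← g.1.2.B_map w v, g.2 w hw, sub_self])))⟩,
      LinearEquiv.ext fun w => Subtype.ext (g.2 _ w.2)⟩, fun _ => rfl, fun _ => rfl⟩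

theorem aa_jordan {x : End F V} {t : ℕ} {d : Fin t → ℕ} (h : HasED x (unipOf F (univ.val.map d))) (i : ℕ) :
    aa (x - 1) i = (univ.filter fun k => i < d k).card := by
  have h1 := finrank_comap ((x - 1) ^ i) (ker (x - 1))
  rw [← ker_comp, ← End.mul_eq_comp, ← pow_succ', finrank_ker_of_hasED h, finrank_ker_of_hasED h, edCnt_unipOf,
    edCnt_unipOf, Multiset.map_map, Multiset.map_map, ← sum_eq_multiset_sum, ← sum_eq_multiset_sum] at h1
  rw [aa, card_filter, ← add_right_inj, ← h1, ← sum_add_distrib]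
  exact sum_congr rfl fun k _ => by simp only [Function.comp]; split_ifs <;> omega

theorem cf_jordan (q : ℕ) (c : ℕ → ℕ) (hc : c 0 = 1) {t : ℕ} {d : Fin t → ℕ} (hd : ∀ k, 1 ≤ d k) :
    cf q c (fun i => (univ.filter fun k => i < d k).card) (univ.sup d) =
      q ^ (2 * (∑ i ∈ range (univ.sup d + 1), ∑ j ∈ range (univ.sup d + 1), if i < j then
        i * (univ.filter fun k => d k = i).card * (univ.filter fun k => d k = j).card else 0) +
        ∑ i ∈ range (univ.sup d + 1), (i - 1) * (univ.filter fun k => d k = i).card ^ 2) *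
      ∏ i ∈ range (univ.sup d + 1), c (univ.filter fun k => d k = i).card := by
  have hB : ∀ k, d k ≤ univ.sup d := fun k => le_sup (mem_univ k)
  generalize univ.sup d = B at hB
  set m : ℕ → ℕ := fun i => (univ.filter fun k => d k = i).card with hm
  have h0 : m 0 = 0 := by simpa [hm] using fun k => by have := hd k; omega
  have h1 : ∀ i, (univ.filter fun k => i < d k).card = ∑ j ∈ range (B + 1), if i < j then m j else 0 := fun i => by
    rw [card_eq_sum_card_fiberwise (f := d) (t := range (B + 1)) fun k _ => by simpa [Nat.lt_succ_iff] using hB k]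
    refine sum_congr rfl fun j _ => ?_
    rw [filter_filter]
    split_ifs with h
    · exact congrArg card (filter_congr fun k _ => by omega)
    · simpa using fun k => by omega
  have h2 : ∀ i, (univ.filter fun k => i < d k).card = (univ.filter fun k => i + 1 < d k).card + m (i + 1) := fun i => by
    simp only [hm, card_filter, ← sum_add_distrib]
    exact sum_congr rfl fun k _ => by split_ifs <;> omega
  rw [cf, prod_mul_distrib, prod_pow_eq_pow_sum, prod_range_succ' (fun i => c (m i)), h0, hc, mul_one]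
  congr 2
  · have h3 : ∑ i ∈ range B, (univ.filter fun k => i < d k).card ^ 2 =
        ∑ i ∈ range (B + 1), ∑ j ∈ range (B + 1), min i j * m i * m j := by
      simp only [h1, sq, sum_mul_sum]
      rw [sum_comm]
      refine sum_congr rfl fun i hi => ?_
      rw [sum_comm]
      refine sum_congr rfl fun j hj => ?_
      simp only [ite_mul, mul_ite, mul_zero, zero_mul, ← ite_and, ← lt_min_iff, ← sum_filter, sum_const, smul_eq_mul]
      rw [mul_assoc, show (range B).filter (· < min j i) = range (min i j) from by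
        ext; simp at hi hj ⊢; omega, card_range]
    have h4 : ∑ i ∈ range (B + 1), ∑ j ∈ range (B + 1), min i j * m i * m j =
        2 * (∑ i ∈ range (B + 1), ∑ j ∈ range (B + 1), if i < j then i * m i * m j else 0) +
          ∑ i ∈ range (B + 1), i * m i ^ 2 := by
      rw [two_mul]
      nth_rewrite 2 [sum_comm]
      simp only [← sum_add_distrib]
      refine sum_congr rfl fun i hi => ?_
      rw [← sum_ite_eq_of_mem (range (B + 1)) i (fun j => i * m j ^ 2) hi, ← sum_add_distrib]
      refine sum_congr rfl fun j _ => ?_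
      rcases lt_trichotomy i j with h | rfl | h
      · simp [h, h.le, h.ne, h.not_gt]
      · simp [sq, mul_assoc]
      · simp [h, h.le, h.ne', h.not_gt, mul_right_comm]
    rw [h4, sum_range_succ' (fun i => i * m i ^ 2)] at h3
    rw [sum_range_succ' (fun i => (i - 1) * m i ^ 2), ← add_left_inj (∑ i ∈ range B, m (i + 1) ^ 2), ← sum_add_distrib,
      sum_congr rfl fun i _ => show _ = (univ.filter fun k => i < d k).card ^ 2 by
        rw [h2 i, Nat.add_sub_cancel_left]; ring, h3]
    simp [add_mul, sum_add_distrib, add_assoc, hm]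
  · ext i
    rw [h2 i, Nat.add_sub_cancel_left]

theorem pow_sup_eq_zero {x : End F V} {t : ℕ} {d : Fin t → ℕ} (h : HasED x (unipOf F (univ.val.map d))) :
    (x - 1) ^ univ.sup d = 0 := by
  rw [← aeval_X_sub_one (F := F), ← map_pow, h.aeval_eq_zero_iff]
  intro a ha
  obtain ⟨h1, h2⟩ := mem_unipOf.1 ha
  obtain ⟨k, -, h2⟩ := Multiset.mem_map.1 h2
  exact h1 ▸ pow_dvd_pow _ (h2 ▸ le_sup (mem_univ k))

end Cfsg.Lib.Conj
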