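import Mathlib.Algebra.Order.Field.GeomSum
import Mathlib.Algebra.Order.BigOperators.GroupWithZero.Finset
import Mathlib.Algebra.BigOperators.Fin
import Mathlib.Data.Real.Basic
import Mathlib.Tactic

/-! Euler product bounds for weighted counts of tuples. -/

set_option autoImplicit false

namespace Cfsg.Lib.Conj

open Finset

theorem euler_le {γ ι α : Type*} [Inhabited α] (I : Finset ι) (S : ι → Finset α) {f : ι → α → ℝ}
    (hf : ∀ i a, 0 ≤ f i a) (c : γ → ι → α) (g : γ → ℝ) {A : ℝ} (T : Finset γ)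
    (hT : ∀ t ∈ T, ∀ i ∈ I, c t i ∈ S i)
    (H : ∀ (r : ι → α) (T' : Finset γ), T' ⊆ T → (∀ t ∈ T', ∀ i ∈ I, c t i = r i) → ∑ t ∈ T', g t ≤ A) :
    ∑ t ∈ T, g t * ∏ i ∈ I, f i (c t i) ≤ A * ∏ i ∈ I, ∑ a ∈ S i, f i a := by
  classical
  induction I using Finset.induction_on generalizing T with
  | empty => simpa using H default T subset_rfl
  | insert j I hj ih =>
    rw [prod_insert hj, sum_mul, mul_sum,
      ← sum_fiberwise_of_maps_to (g := fun t => c t j) fun t ht => hT t ht j (mem_insert_self _ _)]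
    refine sum_le_sum fun a _ => ?_
    rw [sum_congr rfl fun t ht => by rw [prod_insert hj, (mem_filter.1 ht).2, mul_left_comm], ← mul_sum,
      mul_left_comm]
    refine mul_le_mul_of_nonneg_left (ih _ (fun t ht i hi => hT t (mem_filter.1 ht).1 i
      (mem_insert_of_mem hi)) fun r T' h1 h2 => H (Function.update r j a) T'
        (h1.trans (filter_subset _ _)) fun t ht => ?_) (hf _ _)
    rw [forall_mem_insert, Function.update_self]
    exact ⟨(mem_filter.1 (h1 ht)).2, fun i hi => by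
      rw [Function.update_of_ne (ne_of_mem_of_not_mem hi hj), h2 t ht i hi]⟩

theorem one_sub_sum_le {ι : Type*} (I : Finset ι) {a : ι → ℝ} (h0 : ∀ i, 0 ≤ a i) (h1 : ∀ i, a i ≤ 1) :
    1 - ∑ i ∈ I, a i ≤ ∏ i ∈ I, (1 - a i) := by
  classical
  induction I using Finset.induction_on with
  | empty => simp
  | insert j I hj ih =>
    rw [sum_insert hj, prod_insert hj]
    have := sum_nonneg fun i (_ : i ∈ I) => h0 i
    nlinarith [mul_le_mul_of_nonneg_left ih (sub_nonneg.2 (h1 j)), mul_nonneg this (h0 j)]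

theorem prod_le_tail {f : ℕ → ℝ} {x : ℝ} (hx : 0 ≤ x) (hx' : x < 1) {I : Finset ℕ} (s : Finset ℕ) (N : ℕ)
    (h : ∀ i ∈ I, i ∈ s ∨ N < i) (h1 : ∀ i, 1 ≤ f i) (h2 : ∀ i, N < i → f i * (1 - x ^ i) ≤ 1) :
    (∏ i ∈ I, f i) * (1 - x ^ (N + 1) / (1 - x)) ≤ ∏ i ∈ s, f i := by
  have h0 : ∀ i, 0 ≤ f i := fun i => zero_le_one.trans (h1 i)
  rw [← prod_filter_mul_prod_filter_not I (· ∈ s), mul_assoc]
  refine (mul_le_of_le_one_right (prod_nonneg fun i _ => h0 i) ?_).trans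
    (prod_le_prod_of_subset_of_one_le (fun i hi => (mem_filter.1 hi).2) (fun i _ => h0 i) fun i _ _ => h1 i)
  have h3 : ∀ i ∈ I.filter (· ∉ s), N < i := fun i hi =>
    (h i (mem_filter.1 hi).1).resolve_left (mem_filter.1 hi).2
  refine (mul_le_mul_of_nonneg_left ((sub_le_sub_left ((sum_le_sum_of_subset_of_nonneg
    (t := Ico (N + 1) (I.sup id + 1)) (fun i hi => mem_Ico.2 ⟨h3 i hi,
      Nat.lt_succ_of_le (le_sup (f := id) (mem_filter.1 hi).1)⟩) fun _ _ _ => by positivity).trans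
    (geom_sum_Ico_le_of_lt_one hx hx')) 1).trans (one_sub_sum_le _ (fun i => by positivity)
      fun i => pow_le_one₀ hx hx'.le)) (prod_nonneg fun i _ => h0 i)).trans ?_
  rw [← prod_mul_distrib]
  exact prod_le_one (fun i _ => mul_nonneg (h0 i) (sub_nonneg.2 (pow_le_one₀ hx hx'.le)))
    fun i hi => h2 i (h3 i hi)

theorem prod_one_add_le_tail {x c : ℝ} (hx : 0 ≤ x) (hx' : x < 1) {I : Finset ℕ} (s : Finset ℕ) (N : ℕ)
    (h : ∀ i ∈ I, i ∈ s ∨ N < i) (hN : x ^ (N + 1) < 1 - x)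
    (hc : ∏ i ∈ s, (1 + x ^ i) ≤ c * (1 - x ^ (N + 1) / (1 - x))) : ∏ i ∈ I, (1 + x ^ i) ≤ c :=
  le_of_mul_le_mul_right ((prod_le_tail hx hx' s N h (fun i => le_add_of_nonneg_right (by positivity))
    fun i _ => by nlinarith [sq_nonneg (x ^ i)]).trans hc) (sub_pos.2 ((div_lt_one (by linarith)).2 hN))

theorem prod_inv_le_tail {x c : ℝ} (hx : 0 ≤ x) (hx' : x < 1) (J N : ℕ) (hN : x ^ (N + 1) < 1 - x)
    (hc : ∏ i ∈ Icc 1 N, (1 - x ^ i)⁻¹ ≤ c * (1 - x ^ (N + 1) / (1 - x))) :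
    ∏ i ∈ Icc 1 J, (1 - x ^ i)⁻¹ ≤ c := by
  have e : ∀ J, ∏ i ∈ Icc 1 J, (1 - x ^ i)⁻¹ = ∏ i ∈ Icc 1 J, if i = 0 then 1 else (1 - x ^ i)⁻¹ :=
    fun J => prod_congr rfl fun i hi => (if_neg (by have := (mem_Icc.1 hi).1; omega)).symm
  rw [e] at hc ⊢
  refine le_of_mul_le_mul_right ((prod_le_tail hx hx' _ N (fun i hi => ?_) (fun i => ?_)
    fun i hi => ?_).trans hc) (sub_pos.2 ((div_lt_one (by linarith)).2 hN))
  · rw [mem_Icc] at hi ⊢; omega
  · split_ifs with h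
    · rfl
    · exact (one_le_inv₀ (sub_pos.2 (pow_lt_one₀ hx hx' h))).2 (sub_le_self _ (by positivity))
  · rw [if_neg (by omega), inv_mul_cancel₀ (sub_pos.2 (pow_lt_one₀ hx hx' (by omega))).ne']

theorem prod_inv_mono {x y : ℝ} (hx : 0 ≤ x) (h : x ≤ y) (hy : y < 1) (J : ℕ) :
    ∏ i ∈ Icc 1 J, (1 - x ^ i)⁻¹ ≤ ∏ i ∈ Icc 1 J, (1 - y ^ i)⁻¹ :=
  prod_le_prod (fun i _ => inv_nonneg.2 (sub_nonneg.2 (pow_le_one₀ hx (h.trans hy.le)))) fun i hi =>
    inv_anti₀ (sub_pos.2 (pow_lt_one₀ (hx.trans h) hy (by have := (mem_Icc.1 hi).1; omega)))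
      (sub_le_sub_left (pow_le_pow_left₀ hx h _) _)

theorem prod_inv_third {x : ℝ} (hx : 0 ≤ x) (h : x ≤ 1 / 3) (J : ℕ) :
    ∏ i ∈ Icc 1 J, (1 - x ^ i)⁻¹ ≤ 1.786 :=
  (prod_inv_mono hx h (by norm_num) J).trans (prod_inv_le_tail (by norm_num) (by norm_num) J 6
    (by norm_num) (by simp [prod_Icc_succ_top]; norm_num))

theorem prod_inv_half (J : ℕ) : ∏ i ∈ Icc 1 J, (1 - (1 / 2 : ℝ) ^ i)⁻¹ ≤ 3.4635 :=
  prod_inv_le_tail (by norm_num) (by norm_num) J 9 (by norm_num) (by simp [prod_Icc_succ_top]; norm_num)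

theorem prod_add_third {x : ℝ} (hx : 0 ≤ x) (h : x ≤ 1 / 3) {I : Finset ℕ} (h0 : 0 ∉ I) :
    ∏ i ∈ I, (1 + x ^ i) ≤ 1.566 :=
  (prod_le_prod (fun i _ => by positivity) fun i _ => by gcongr).trans
    (prod_one_add_le_tail (x := 1 / 3) (by norm_num) (by norm_num) (Icc 1 6) 6
      (fun i hi => by have := ne_of_mem_of_not_mem hi h0; rw [mem_Icc]; omega) (by norm_num)
      (by simp [prod_Icc_succ_top]; norm_num))

theorem prod_add_half {I : Finset ℕ} (h0 : 0 ∉ I) : ∏ i ∈ I, (1 + (1 / 2 : ℝ) ^ i) ≤ 2.3845 :=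
  prod_one_add_le_tail (by norm_num) (by norm_num) (Icc 1 9) 9
    (fun i hi => by have := ne_of_mem_of_not_mem hi h0; rw [mem_Icc]; omega) (by norm_num)
    (by simp [prod_Icc_succ_top]; norm_num)

/-- An upper bound for the inverse square root of three. -/
noncomputable def rt3 : ℝ := 0.5774

theorem prod_rt3_even {I : Finset ℕ} (h : ∀ i ∈ I, Even i ∧ i ≠ 0) : ∏ i ∈ I, (1 + rt3 ^ i) ≤ 1.566 :=
  prod_one_add_le_tail (by norm_num [rt3]) (by norm_num [rt3]) {2, 4, 6, 8, 10, 12, 14, 16} 17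
    (fun i hi => by have := h i hi; rw [Nat.even_iff] at this; simp only [mem_insert, mem_singleton]; omega)
    (by norm_num [rt3]) (by simp; norm_num [rt3])

theorem prod_rt3_odd {I : Finset ℕ} (h : ∀ i ∈ I, Odd i ∧ i ≠ 1) : ∏ i ∈ I, (1 + rt3 ^ i) ≤ 1.311 :=
  prod_one_add_le_tail (by norm_num [rt3]) (by norm_num [rt3]) {3, 5, 7, 9, 11, 13, 15} 16
    (fun i hi => by have := h i hi; rw [Nat.odd_iff] at this; simp only [mem_insert, mem_singleton]; omega)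
    (by norm_num [rt3]) (by simp; norm_num [rt3])

/-- Tuples of letters graded by a degree. -/
theorem tup_le {γ α : Type*} [Inhabited α] (δ : α → ℕ) (S : ℕ → Finset α) {Q : ℕ} {a : ℝ} (hQ : 2 ≤ Q)
    (ha : 0 ≤ a) (h0 : #(S 0) ≤ 1) (hS : ∀ k, (#(S k) : ℝ) ≤ (1 + a) * Q ^ k) (c : γ → ℕ → α)
    (T : Finset γ) (J m : ℕ) (hc : ∀ t ∈ T, ∀ i, c t i ∈ S (δ (c t i)))
    (hδ : ∀ k, ∀ u ∈ S k, δ u = k) (hm : ∀ t ∈ T, ∑ i ∈ range (J + 1), (i + 1) * δ (c t i) = m)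
    (inj : ∀ t ∈ T, ∀ t' ∈ T, (∀ i ≤ J, c t i = c t' i) → t = t') :
    (#T : ℝ) ≤ (1 + a) * (∏ i ∈ Icc 1 J, (1 + a * (Q : ℝ)⁻¹ ^ i) * (1 - (Q : ℝ)⁻¹ ^ i)⁻¹) * Q ^ m := by
  classical
  set y : ℝ := (Q : ℝ)⁻¹ with hy
  have hQ' : (2 : ℝ) ≤ Q := by exact_mod_cast hQ
  have y0 : 0 < y := by positivity
  have y1 : y < 1 := inv_lt_one_of_one_lt₀ (by linarith)
  have yQ : ∀ k, y ^ k * Q ^ k = 1 := fun k => by rw [← mul_pow, inv_mul_cancel₀ (by linarith), one_pow]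
  have e : ∀ u : ℕ → ℕ, ∑ i ∈ range (J + 1), u i = u 0 + ∑ i ∈ Icc 1 J, u i := fun u => by
    rw [range_eq_Ico, sum_eq_sum_Ico_succ_bot J.succ_pos]; rfl
  simp only [e, zero_add, one_mul] at hm
  have := euler_le (Icc 1 J) (fun _ => (range (m + 1)).biUnion S) (f := fun i u => y ^ ((i + 1) * δ u))
    (fun _ _ => by positivity) c (fun t => y ^ δ (c t 0)) (A := 1 + a) T (fun t ht i hi =>
      mem_biUnion.2 ⟨_, mem_range.2 (Nat.lt_succ_of_le (hm t ht ▸ le_add_left ((Nat.le_mul_of_pos_left _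
        i.succ_pos).trans (single_le_sum (f := fun i => (i + 1) * δ (c t i)) (fun _ _ => Nat.zero_le _) hi)))),
        hc t ht i⟩) fun r T' k1 k2 => ?_
  · rw [sum_congr rfl fun t ht => by rw [prod_pow_eq_pow_sum, ← pow_add, hm t ht], sum_const,
      nsmul_eq_mul] at this
    rw [show (#T : ℝ) = #T * y ^ m * Q ^ m by rw [mul_assoc, yQ, mul_one]]
    refine mul_le_mul_of_nonneg_right (this.trans (mul_le_mul_of_nonneg_left (prod_le_prod
      (fun _ _ => sum_nonneg fun _ _ => pow_nonneg y0.le _) fun i hi => ?_) (add_nonneg zero_le_one ha))) (by positivity)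
    have z1 : y ^ i < 1 := pow_lt_one₀ y0.le y1 (by have := (mem_Icc.1 hi).1; omega)
    rw [sum_biUnion fun k _ l _ h => disjoint_left.2 fun u h1 h2 => h ((hδ k u h1).symm.trans (hδ l u h2)),
      sum_congr rfl fun k _ => sum_congr rfl fun u hu => by rw [hδ k u hu]]
    simp only [sum_const, nsmul_eq_mul]
    rw [range_eq_Ico, sum_eq_sum_Ico_succ_bot m.succ_pos]
    have h1 : ∑ k ∈ Ico (0 + 1) (m + 1), (#(S k) : ℝ) * y ^ ((i + 1) * k) ≤
        (1 + a) * ((y ^ i) ^ (0 + 1) / (1 - y ^ i)) := by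
      refine (sum_le_sum fun k _ => ?_).trans ((mul_sum _ _ _).ge.trans (mul_le_mul_of_nonneg_left
        (geom_sum_Ico_le_of_lt_one (by positivity) z1) (by linarith)))
      refine (mul_le_mul_of_nonneg_right (hS k) (by positivity)).trans_eq ?_
      rw [add_mul i, pow_add, one_mul k, pow_mul]
      linear_combination (1 + a) * (y ^ i) ^ k * yQ k
    refine (add_le_add (b := 1) (by simpa using h0) h1).trans_eq ?_
    have := (sub_pos.2 z1).ne'
    field_simp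
    ring
  · set m' := m - ∑ i ∈ Icc 1 J, (i + 1) * δ (r i)
    have h1 : ∀ t ∈ T', δ (c t 0) = m' := fun t ht =>
      eq_tsub_of_add_eq (by rw [← hm t (k1 ht), sum_congr rfl fun i hi => by rw [← k2 t ht i hi]])
    rw [sum_congr rfl fun t ht => by rw [h1 t ht], sum_const, nsmul_eq_mul]
    have h2 := card_le_card_of_injOn (s := T') (t := S m') (fun t => c t 0)
      (fun t ht => h1 t ht ▸ hc t (k1 ht) 0) fun t ht t' ht' h => inj t (k1 ht) t' (k1 ht') fun i hi => by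
        rcases i.eq_zero_or_pos with rfl | h0
        exacts [h, (k2 t ht i (mem_Icc.2 ⟨h0, hi⟩)).trans (k2 t' ht' i (mem_Icc.2 ⟨h0, hi⟩)).symm]
    refine (mul_le_mul_of_nonneg_right ((Nat.cast_le.2 h2).trans (hS m')) (by positivity)).trans_eq ?_
    linear_combination (1 + a) * yQ m'

theorem data_le {γ β : Type*} [DecidableEq β] (T : Finset γ) (τ : γ → β) (m : γ → ℕ) (W : β → ℕ)
    {Q n r : ℕ} (hQ : 3 ≤ Q) (hr : r ≤ 1) {E : ℝ} (hE : 0 ≤ E)
    (Hf : ∀ T' ⊆ T, ∀ b k, (∀ t ∈ T', τ t = b ∧ m t = k) → (#T' : ℝ) ≤ E * Q ^ k)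
    (hd : ∀ t ∈ T, 2 * m t + W (τ t) = 2 * n + r) :
    #T * rt3 ^ r ≤ E * Q ^ n * ∑ b ∈ T.image τ, rt3 ^ W b := by
  have h0 : 0 < rt3 := by norm_num [rt3]
  rw [card_eq_sum_card_image τ, Nat.cast_sum, sum_mul, mul_sum]
  refine sum_le_sum fun b hb => ?_
  obtain ⟨t, ht, rfl⟩ := mem_image.1 hb
  obtain ⟨j, h1, h2⟩ : ∃ j, W (τ t) = 2 * j + r ∧ n = m t + j :=
    ⟨(W (τ t) - r) / 2, by have := hd t ht; omega⟩
  refine (mul_le_mul_of_nonneg_right (Hf _ (filter_subset _ _) (τ t) (m t) fun u hu =>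
    ⟨(mem_filter.1 hu).2, by
      have := hd t ht; have := (mem_filter.1 hu).2 ▸ hd u (mem_filter.1 hu).1; omega⟩) (by positivity)).trans ?_
  have h3 : 1 ≤ ((Q : ℝ) * rt3 ^ 2) ^ j := one_le_pow₀ (by
    have : (3 : ℝ) ≤ Q := by exact_mod_cast hQ
    norm_num [rt3]; linarith)
  rw [h1, h2, pow_add, pow_add, pow_mul]
  refine (le_mul_of_one_le_right (by positivity) h3).trans_eq (by ring)

variable {κ : Type*} [Fintype κ] [DecidableEq κ]

theorem sum_par_le {x : ℝ} (hx : 0 ≤ x) (hx' : x ≤ 1) (U : Finset (Finset κ)) {r : ℕ}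
    (h : ∀ s ∈ U, #s % 2 = r) : 2 * ∑ s ∈ U, x ^ #s ≤ (1 + x) ^ Fintype.card κ + (1 - x) ^ Fintype.card κ := by
  have e : ∀ y : ℝ, ∑ s : Finset κ, y ^ #s = (1 + y) ^ Fintype.card κ := fun y => by
    simpa [add_comm] using Fintype.sum_pow_mul_eq_add_pow κ y 1
  calc _ = ∑ s ∈ U, (x ^ #s + (-1) ^ r * (-x) ^ #s) := by
        rw [mul_sum]
        refine sum_congr rfl fun s hs => ?_
        rw [neg_pow x, ← h s hs, ← neg_one_pow_eq_pow_mod_two, ← mul_assoc, ← mul_pow]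
        simp [two_mul]
    _ ≤ ∑ s : Finset κ, (x ^ #s + (-1) ^ r * (-x) ^ #s) :=
        sum_le_sum_of_subset_of_nonneg (subset_univ _) fun s _ _ => by
          rw [neg_pow x, ← mul_assoc, ← pow_add]
          rcases neg_one_pow_eq_or ℝ (r + #s) with h | h <;> simp [h, pow_nonneg hx]
    _ ≤ _ := by
        rw [sum_add_distrib, ← mul_sum, e, e, ← sub_eq_add_neg]
        have := pow_nonneg (sub_nonneg.2 hx') (Fintype.card κ)
        rcases neg_one_pow_eq_or ℝ r with h | h <;> simp [h, this]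

theorem tau_le {J : ℕ} {x A : ℝ} (hx : 0 ≤ x) (B : Finset (ℕ → Finset κ)) (G : ℕ → Prop)
    [DecidablePred G] (hb : ∀ b ∈ B, ∀ e, J < e ∨ ¬ G e → b e = ∅) {r : ℕ}
    (hr : ∀ b ∈ B, (∑ e ∈ range (J + 1), (e + 1) * #(b e)) % 2 = r)
    (hA : ∀ (U : Finset (Finset κ)) (r : ℕ), (∀ s ∈ U, #s % 2 = r ∧ (¬ G 0 → s = ∅)) →
      ∑ s ∈ U, x ^ #s ≤ A) :
    ∑ b ∈ B, x ^ ∑ e ∈ range (J + 1), (e + 1) * #(b e) ≤
      A * (∏ i ∈ ((Icc 1 J).filter G).image (· + 1), (1 + x ^ i)) ^ Fintype.card κ := by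
  have e : ∀ b ∈ B, ∑ e ∈ range (J + 1), (e + 1) * #(b e) =
      #(b 0) + ∑ e ∈ (Icc 1 J).filter G, (e + 1) * #(b e) := fun b h => by
    rw [range_eq_Ico, sum_eq_sum_Ico_succ_bot J.succ_pos, sum_filter_of_ne fun e _ h' =>
      by_contra fun h2 => h' (by simp [hb b h e (.inr h2)]), zero_add, one_mul]
    rfl
  have := euler_le ((Icc 1 J).filter G) (fun _ => univ) (f := fun e (s : Finset κ) => (x ^ (e + 1)) ^ #s)
    (fun _ _ => by positivity) id (fun b => x ^ #(b 0)) (A := A) B (fun _ _ _ _ => mem_univ _)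
    fun r' T' h1 h2 => ?_
  · rw [prod_image fun _ _ _ _ h => Nat.succ_injective h, ← prod_pow]
    refine (sum_congr rfl fun b h => ?_).trans_le (this.trans_eq (congrArg _ (prod_congr rfl fun i _ => ?_)))
    · simp only [e b h, pow_add x #(b 0), ← pow_mul, prod_pow_eq_pow_sum, id]
    · simpa [add_comm] using Fintype.sum_pow_mul_eq_add_pow κ (x ^ (i + 1)) 1
  · rw [← sum_image (g := fun b : ℕ → Finset κ => b 0) (f := fun s => x ^ #s) fun b h b' h' h3 => funext fun i => ?_]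
    · refine hA _ ((r + ∑ e ∈ (Icc 1 J).filter G, (e + 1) * #(r' e)) % 2) fun s hs => ?_
      obtain ⟨b, h, rfl⟩ := mem_image.1 hs
      have := hr b (h1 h)
      rw [e b (h1 h), sum_congr rfl fun i hi => by rw [show b i = r' i from h2 b h i hi]] at this
      exact ⟨by omega, fun h0 => hb b (h1 h) 0 (.inr h0)⟩
    · by_cases h4 : i ∈ (Icc 1 J).filter G
      · exact (h2 b h i h4).trans (h2 b' h' i h4).symm
      rcases i.eq_zero_or_pos with rfl | h0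
      · exact h3
      have : J < i ∨ ¬ G i := by
        by_contra! h5
        exact h4 (mem_filter.2 ⟨mem_Icc.2 ⟨h0, h5.1⟩, h5.2⟩)
      rw [hb b (h1 h) i this, hb b' (h1 h') i this]

theorem tau_le_odd {J : ℕ} (B : Finset (ℕ → Finset κ)) (hb : ∀ b ∈ B, ∀ e, J < e ∨ ¬ Odd e → b e = ∅) :
    ∑ b ∈ B, rt3 ^ ∑ e ∈ range (J + 1), (e + 1) * #(b e) ≤ 1.566 ^ Fintype.card κ := by
  have h0 : 0 < rt3 := by norm_num [rt3]
  refine (tau_le h0.le B Odd hb (r := 0) (A := 1) (fun b h => Nat.even_iff.1 (even_sum _ fun e _ => ?_))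
    fun U _ h => ?_).trans ?_
  · by_cases h1 : Odd e
    exacts [h1.add_one.mul_right _, by simp [hb b h e (.inr h1)]]
  · simpa using sum_le_sum_of_subset_of_nonneg (t := {∅}) (f := fun s : Finset κ => rt3 ^ #s)
      (fun s hs => mem_singleton.2 ((h s hs).2 (by simp))) fun _ _ _ => by positivity
  · rw [one_mul]
    refine pow_le_pow_left₀ (prod_nonneg fun _ _ => by positivity) (prod_rt3_even fun i hi => ?_) _
    obtain ⟨e, he, rfl⟩ := mem_image.1 hi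
    exact ⟨(mem_filter.1 he).2.add_one, e.succ_ne_zero⟩

theorem tau_le_even {J : ℕ} (B : Finset (ℕ → Finset κ)) (hb : ∀ b ∈ B, ∀ e, J < e ∨ ¬ Even e → b e = ∅)
    {r : ℕ} (hr : ∀ b ∈ B, (∑ e ∈ range (J + 1), (e + 1) * #(b e)) % 2 = r) :
    ∑ b ∈ B, rt3 ^ ∑ e ∈ range (J + 1), (e + 1) * #(b e) ≤
      ((1 + rt3) ^ Fintype.card κ + (1 - rt3) ^ Fintype.card κ) / 2 * 1.311 ^ Fintype.card κ := by
  have h0 : 0 < rt3 := by norm_num [rt3]
  have h1 : rt3 ≤ 1 := by norm_num [rt3]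
  have h2 := sub_nonneg.2 h1
  refine (tau_le h0.le B Even hb hr fun U r h => ?_).trans (mul_le_mul_of_nonneg_left
    (pow_le_pow_left₀ (prod_nonneg fun _ _ => by positivity) (prod_rt3_odd fun i hi => ?_) _) (by positivity))
  · linarith [sum_par_le h0.le h1 U fun s hs => (h s hs).1]
  · obtain ⟨e, he, rfl⟩ := mem_image.1 hi
    exact ⟨(mem_filter.1 he).2.add_one, by have := (mem_Icc.1 (mem_filter.1 he).1).1; omega⟩

end Cfsg.Lib.Conj
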