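import Cfsg.Agent.Lib.Conj.Wall
import Cfsg.Agent.Lib.Conj.Euler
import Cfsg.Agent.Lib.Linear.ClassNum2

/-! Bounds for the class numbers of symplectic and orthogonal groups in odd characteristic. -/

set_option autoImplicit false

namespace Cfsg.Lib.Conj

open Module Cfsg.Lib.Forms Cfsg.Lib.Forms.Form Cfsg.Lib.Known Cfsg.Lib.Linear Polynomial Finset

variable {F : Type*} [Field F] {K : Kind (RingHom.id F)} {V V' : Type*}
  [AddCommGroup V] [Module F V] [AddCommGroup V'] [Module F V']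

/-- Palindromic polynomials of even degree. -/
def IsPal (h : F[X]) : Prop :=
  h.Monic ∧ pd (RingHom.id F) h = h ∧ h.coeff 0 = 1 ∧ Even h.natDegree

theorem IsPal.mul {g h : F[X]} (hg : IsPal g) (hh : IsPal h) : IsPal (g * h) :=
  ⟨hg.1.mul hh.1, by rw [map_mul, hg.2.1, hh.2.1], by rw [mul_coeff_zero, hg.2.2.1, hh.2.2.1, mul_one],
    hg.1.natDegree_mul hh.1 ▸ hg.2.2.2.add hh.2.2.2⟩

theorem isPal_pow {c : F} (hc : c ^ 2 = 1) (k : ℕ) : IsPal ((X - C c) ^ (2 * k)) :=
  ⟨(monic_X_sub_C c).pow _, by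
    rw [map_pow, pd_X_sub_C (by rintro rfl; simp at hc), RingHom.id_apply,
      inv_eq_of_mul_eq_one_right ((sq c).symm.trans hc)],
    by simp [coeff_zero_eq_eval_zero, pow_mul, hc], by simp⟩

theorem isPal_iff {h : F[X]} {k : ℕ} : IsPal h ∧ h.natDegree / 2 = k ↔
    h.Monic ∧ h.natDegree = 2 * k ∧ (h.map (RingHom.id F)).reflect (2 * k) = C 1 * h := by
  constructor
  · rintro ⟨⟨h1, h2, h3, h4⟩, rfl⟩
    rw [Nat.two_mul_div_two_of_even h4]
    exact ⟨h1, rfl, by simpa [h3] using (pd_eq_self_iff h1 (by simp [h3])).1 h2⟩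
  · rintro ⟨h1, h2, h3⟩
    have h4 : h.coeff 0 = 1 := by
      simpa [← h2, h1.coeff_natDegree] using (congrArg (coeff · 0) h3).symm
    exact ⟨⟨h1, (pd_eq_self_iff h1 (by simp [h4])).2 (by simpa [h2, h4] using h3), h4, by simp [h2]⟩,
      by omega⟩

theorem isPal_of_eval (h2 : (2 : F) ≠ 0) {g : F[X]} (hm : g.Monic) (h0 : g.coeff 0 ≠ 0)
    (hd : pd (RingHom.id F) g = g) (h1 : g.eval 1 ≠ 0) (h1' : g.eval (-1) ≠ 0) : IsPal g := by
  have h := (pd_eq_self_iff hm h0).1 hd
  have e : ∀ c : F, c * c = 1 → g.coeff 0 * g.eval c * c ^ g.natDegree = g.eval c := fun c hc => by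
    let := invertibleOfNonzero (left_ne_zero_of_mul_eq_one hc)
    have := eval₂_reflect_mul_pow (RingHom.id F) c g.natDegree g le_rfl
    rwa [← Polynomial.map_id (p := g), Polynomial.map_id, invOf_eq_right_inv hc, eval₂_id, eval₂_id,
      ← Polynomial.map_id (p := g), natDegree_map, h, Polynomial.map_id, eval_mul, eval_C] at this
  have h3 : g.coeff 0 = 1 := by simpa [h1] using e 1 (by simp)
  refine ⟨hm, hd, h3, (neg_one_pow_eq_one_iff_even fun h => h2 (by linear_combination -h)).1 ?_⟩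
  simpa [h1', h3] using e (-1) (by simp)

open Classical in
theorem exists_pal (h2 : (2 : F) ≠ 0) {M : Multiset F[X]} (hM : ∀ p ∈ M, p.Monic ∧ Irreducible p ∧ p ≠ X)
    (hd : M.map (pd (RingHom.id F)) = M) {a b k l : ℕ} (ha : M.count (X - 1) = a + 2 * k)
    (hb : M.count (X + 1) = b + 2 * l) : ∃ h, IsPal h ∧ M.prod = h * (X - 1) ^ a * (X + 1) ^ b := by
  have n1 : (X - 1 : F[X]) ≠ X + 1 := fun h => h2 (by
    have := congrArg (eval 0) h; simp at this; linear_combination -this)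
  set R := M.filter fun p => p ≠ X - 1 ∧ p ≠ X + 1
  have e : M = R + Multiset.replicate (a + 2 * k) (X - 1) + Multiset.replicate (b + 2 * l) (X + 1) := by
    ext p
    by_cases h : p = X - 1
    · simp [R, h, ha, Multiset.count_replicate, n1.symm]
    · by_cases h' : p = X + 1 <;> simp [R, h, h', hb, Multiset.count_replicate, Ne.symm, n1]
  have hR : ∀ p ∈ R, p.Monic ∧ Irreducible p ∧ p ≠ X := fun p hp => hM p (Multiset.mem_filter.1 hp).1
  have hev : ∀ c, X - C c ∉ R → R.prod.eval c ≠ 0 := fun c hc => by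
    rw [eval_multiset_prod]
    refine Multiset.prod_ne_zero fun h => ?_
    obtain ⟨p, hp, h⟩ := Multiset.mem_map.1 h
    exact hc (eq_of_monic_of_associated (monic_X_sub_C c) (hR p hp).1
      ((irreducible_X_sub_C c).associated_of_dvd (hR p hp).2.1 (dvd_iff_isRoot.2 h)) ▸ hp)
  have e1 : pd (RingHom.id F) (X + 1) = X + 1 := by simpa using pd_X_sub_C (σ := RingHom.id F) (c := -1)
  have hp : IsPal R.prod := isPal_of_eval h2 (monic_prod fun p hp => (hR p hp).1)
    (by rw [coeff_zero_eq_eval_zero]; exact hev 0 fun h => (hR _ h).2.2 (by simp)) (by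
      rw [e] at hd
      simp only [Multiset.map_add, Multiset.map_replicate, pd_X_sub_one, e1, add_left_inj] at hd
      rw [map_multiset_prod, hd]) (hev 1 (by simp [R])) (hev (-1) (by simp [R]))
  refine ⟨_, (hp.mul (isPal_pow (one_pow 2) k)).mul (isPal_pow (neg_one_sq) l), ?_⟩
  rw [e]
  simp [pow_add]; ring

/-- Encoding of a multiplicity and a sign. -/
def tset (m : ℕ) (δ : ℤˣ) : Finset (Fin 2) :=
  if δ = 1 then if Even m then ∅ else {0} else if Even m then univ else {1}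

theorem exists_tset {m : ℕ} {δ : ℤˣ} (h : m = 0 → δ = 1) : ∃ k, m = #(tset m δ) + 2 * k :=
  ⟨(m - #(tset m δ)) / 2, by
    unfold tset; split_ifs with h1 h2 h2 <;> simp [Nat.even_iff, h1] at * <;> omega⟩

theorem tset_inj {m m' : ℕ} {δ δ' : ℤˣ} (h : tset m δ = tset m' δ') : δ = δ' := by
  have : ∀ m δ, 1 ∈ tset m δ ↔ δ ≠ 1 := fun m δ => by unfold tset; split_ifs <;> simp [*]
  have := (this m δ).symm.trans (h ▸ this m' δ')
  clear h; revert δ δ'; decide

theorem tset_even {m : ℕ} (h : Even m) : tset m 1 = ∅ := by simp [tset, h]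

variable (F) in
/-- Elementary divisors with two sequences of signs. -/
abbrev Raw := Multiset (F[X] × ℕ) × (ℕ → ℤˣ) × (ℕ → ℤˣ)

open Classical in
variable (K) in
/-- The conditions satisfied by the invariants of an isometry. -/
structure Valid (d : ℕ) (r : Raw F) : Prop where
  ed : IsED r.1
  ne : ∀ a ∈ r.1, a.1 ≠ X
  dual : r.1.map (dd (RingHom.id F)) = r.1
  deg : edDeg r.1 = d
  bad : ∀ e, ¬ Gd K e → (Even (r.1.count (X - 1, e + 1)) ∧ r.2.1 e = 1) ∧
    Even (r.1.count (X + 1, e + 1)) ∧ r.2.2 e = 1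
  zero : ∀ e, (r.1.count (X - 1, e + 1) = 0 → r.2.1 e = 1) ∧ (r.1.count (X + 1, e + 1) = 0 → r.2.2 e = 1)

open Classical in
/-- The sign letters. -/
noncomputable def tau (r : Raw F) (e : ℕ) : Finset (Fin 2 ⊕ Fin 2) :=
  (tset (r.1.count (X - 1, e + 1)) (r.2.1 e)).disjSum (tset (r.1.count (X + 1, e + 1)) (r.2.2 e))

open Classical in
theorem count_filter_map (s : Multiset (F[X] × ℕ)) (p : F[X]) (i : ℕ) :
    ((s.filter (·.2 = i)).map Prod.fst).count p = s.count (p, i) := by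
  rw [Multiset.count_map, Multiset.filter_filter, Multiset.count, Multiset.countP_eq_card_filter]
  exact congrArg _ (Multiset.filter_congr fun x _ => by simp [Prod.ext_iff, eq_comm])

theorem filter_map_pd {σ : F →+* F} {s : Multiset (F[X] × ℕ)} (h : s.map (dd σ) = s) (i : ℕ) :
    ((s.filter (·.2 = i)).map Prod.fst).map (pd σ) = (s.filter (·.2 = i)).map Prod.fst := by
  conv_rhs => rw [← h, Multiset.filter_map, Multiset.map_map]
  rw [Multiset.map_map]; rfl

theorem sum_edTup {s : Multiset (F[X] × ℕ)} (hs : IsED s) (hX : ∀ a ∈ s, a.1 ≠ X) {J : ℕ}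
    (h : edDeg s ≤ J + 1) : ∑ e ∈ range (J + 1), (e + 1) * (edTup s (e + 1)).natDegree = edDeg s := by
  simpa [sum_range_succ' _ (J + 1)] using (adm_edTup hs hX h).1.2.2

theorem eq_of_edTup' {s t : Multiset (F[X] × ℕ)} (hs : IsED s) (hX : ∀ a ∈ s, a.1 ≠ X) (ht : IsED t)
    (hX' : ∀ a ∈ t, a.1 ≠ X) {J : ℕ} (h1 : edDeg s ≤ J + 1) (h2 : edDeg t ≤ J + 1)
    (h : ∀ e ≤ J, edTup s (e + 1) = edTup t (e + 1)) : s = t := by
  refine eq_of_edTup hs ht (funext fun i => ?_)
  by_cases hi : i = 0 ∨ J + 1 < i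
  · rw [(adm_edTup hs hX h1).1.2.1 i hi, (adm_edTup ht hX' h2).1.2.1 i hi]
  · obtain ⟨e, rfl⟩ : ∃ e, i = e + 1 := ⟨i - 1, by omega⟩
    exact h e (by omega)

variable {d : ℕ} {r : Raw F}

open Classical in
theorem Valid.exists_pal (h2 : (2 : F) ≠ 0) (h : Valid K d r) (e : ℕ) : ∃ g, IsPal g ∧
    edTup r.1 (e + 1) = g * (X - 1) ^ #(tau r e).toLeft * (X + 1) ^ #(tau r e).toRight := by
  obtain ⟨k, hk⟩ := exists_tset (h.zero e).1
  obtain ⟨l, hl⟩ := exists_tset (h.zero e).2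
  rw [tau, toLeft_disjSum, toRight_disjSum]
  refine Conj.exists_pal h2 (fun p hp => ?_) (filter_map_pd h.dual _) ((count_filter_map _ _ _).trans hk)
    ((count_filter_map _ _ _).trans hl)
  obtain ⟨a, ha, rfl⟩ := Multiset.mem_map.1 hp
  have := (Multiset.mem_filter.1 ha).1
  exact ⟨(h.ed a this).1, (h.ed a this).2.1, h.ne a this⟩

open Classical in
theorem Valid.count_eq_zero (h : Valid K d r) {e : ℕ} (he : d ≤ e) (p : F[X]) : r.1.count (p, e + 1) = 0 :=
  Multiset.count_eq_zero.2 fun hp => by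
    have := Multiset.single_le_sum (fun _ _ => Nat.zero_le _) _
      (Multiset.mem_map_of_mem (fun x : F[X] × ℕ => x.2 * x.1.natDegree) hp)
    have h1 := (h.ed _ hp).2.1.natDegree_pos
    have h2 := h.deg
    rw [edDeg] at h2
    nlinarith

theorem Valid.tau_eq (h : Valid K d r) (e : ℕ) (he : d < e ∨ ¬ Gd K e) : tau r e = ∅ := by
  rcases he with he | he
  · simp [tau, h.count_eq_zero he.le, h.zero e, tset_even]
  · simp [tau, h.bad e he, tset_even]

/-- The weight of a sequence of sign letters. -/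
def wgt {κ : Type*} (J : ℕ) (b : ℕ → Finset κ) : ℕ := ∑ e ∈ range (J + 1), (e + 1) * #(b e)

theorem Valid.sum_eq (h : Valid K d r) {g : ℕ → F[X]} (hg : ∀ e, IsPal (g e) ∧
    edTup r.1 (e + 1) = g e * (X - 1) ^ #(tau r e).toLeft * (X + 1) ^ #(tau r e).toRight) :
    2 * ∑ e ∈ range (d + 1), (e + 1) * ((g e).natDegree / 2) + wgt d (tau r) = d := by
  rw [mul_sum, wgt, ← sum_add_distrib]
  refine (sum_congr rfl fun e _ => ?_).trans ((sum_edTup h.ed h.ne (h.deg.trans_le d.le_succ)).trans h.deg)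
  rw [(hg e).2, show (X + 1 : F[X]) = X + C 1 from rfl,
    ((hg e).1.1.mul (monic_X_sub_one.pow _)).natDegree_mul ((monic_X_add_C 1).pow _),
    (hg e).1.1.natDegree_mul (monic_X_sub_one.pow _), natDegree_pow, natDegree_pow, natDegree_X_sub_one',
    natDegree_X_add_C, mul_left_comm, Nat.two_mul_div_two_of_even (hg e).1.2.2.2, ← card_toLeft_add_card_toRight]
  ring

theorem Valid.wgt_mod (h2 : (2 : F) ≠ 0) (h : Valid K d r) : wgt d (tau r) % 2 = d % 2 := by
  choose g hg using h.exists_pal h2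
  have := h.sum_eq hg
  omega

variable [Fintype F]

local notation "q" => Fintype.card F

theorem card_pal (k : ℕ) : Nat.card {h : F[X] // IsPal h ∧ h.natDegree / 2 = k} = q ^ k := by
  simp only [isPal_iff]
  rw [card_palin (fun _ => rfl) (by simp) (fun _ => rfl)]
  rcases k with _ | k
  · simp
  · simp [show (2 * (k + 1) - 1) / 2 = k by omega, pow_succ]

theorem finite_pal (k : ℕ) : {h : F[X] | IsPal h ∧ h.natDegree / 2 = k}.Finite :=
  Nat.finite_of_card_ne_zero ((card_pal k).trans_ne (pow_ne_zero _ Fintype.card_ne_zero))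

theorem three_le_q (h2 : (2 : F) ≠ 0) : 3 ≤ q := by
  classical
  have := card_le_univ ({0, 1, -1} : Finset F)
  rwa [card_eq_three.2 ⟨0, 1, -1, by simp, by simp, fun h => h2 (by linear_combination h), rfl⟩] at this

theorem pal_tup_le (h2 : (2 : F) ≠ 0) {γ : Type*} (c : γ → ℕ → F[X]) (T : Finset γ) (J m : ℕ)
    (hc : ∀ t ∈ T, ∀ i, IsPal (c t i))
    (hm : ∀ t ∈ T, ∑ i ∈ range (J + 1), (i + 1) * ((c t i).natDegree / 2) = m)
    (inj : ∀ t ∈ T, ∀ t' ∈ T, (∀ i ≤ J, c t i = c t' i) → t = t') :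
    (#T : ℝ) ≤ (∏ i ∈ Icc 1 J, (1 - (q : ℝ)⁻¹ ^ i)⁻¹) * q ^ m := by
  have h1 : ∀ k, #(finite_pal (F := F) k).toFinset = q ^ k := fun k => by
    rw [← card_pal, ← Nat.card_eq_card_finite_toFinset]; rfl
  simpa using tup_le (fun h : F[X] => h.natDegree / 2) (fun k => (finite_pal k).toFinset) (a := 0)
    (two_le_q (F := F)) le_rfl (h1 0).le (by simp [h1]) c T J m (by simpa using hc) (by simp) hm inj

theorem inv_q_le (h2 : (2 : F) ≠ 0) : (q : ℝ)⁻¹ ≤ 1 / 3 := by
  rw [one_div]; exact inv_anti₀ (by norm_num) (by exact_mod_cast three_le_q h2)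

open Classical in
theorem valid_le (h2 : (2 : F) ≠ 0) {n ρ : ℕ} (hρ : ρ ≤ 1) (T : Finset (Raw F))
    (hT : ∀ r ∈ T, Valid K (2 * n + ρ) r) :
    #T * rt3 ^ ρ ≤ 1.786 * q ^ n * ∑ b ∈ T.image tau, rt3 ^ wgt (2 * n + ρ) b := by
  choose! g hg using fun r hr e => (hT r hr).exists_pal h2 e
  refine data_le T tau _ _ (three_le_q h2) hρ (by norm_num) (fun T' h b k H => (pal_tup_le h2 g T' _ k
    (fun t ht i => (hg t (h ht) i).1) (fun t ht => (H t ht).2) fun t ht t' ht' h1 => ?_).trans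
    (mul_le_mul_of_nonneg_right (prod_inv_third (by positivity) (inv_q_le h2) _) (by positivity)))
    fun t ht => (hT t ht).sum_eq (hg t ht)
  have h3 := (H t ht).1.trans (H t' ht').1.symm
  have k := hT t (h ht)
  have k' := hT t' (h ht')
  exact Prod.ext (eq_of_edTup' k.ed k.ne k'.ed k'.ne (k.deg.trans_le (Nat.le_succ _))
    (k'.deg.trans_le (Nat.le_succ _)) fun e he => by rw [(hg t (h ht) e).2, (hg t' (h ht') e).2, h1 e he, h3])
    (Prod.ext (funext fun e => tset_inj (disjSum_inj.1 (congrFun h3 e)).1)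
      (funext fun e => tset_inj (disjSum_inj.1 (congrFun h3 e)).2))

variable [FiniteDimensional F V] [FiniteDimensional F V'] {D : Form K V} {D' : Form K V'} {x : End F V}
  {y : End F V'}

variable (D x) in
/-- The invariants of an isometry. -/
noncomputable def raw : Raw F := (edOf x, fun e => sgn D x e, fun e => sgn D (-x) e)

theorem valid_raw (h2 : (2 : F) ≠ 0) (hD : D.Nondeg) (hx : IsIsometry D D x) :
    Valid K (finrank F V) (raw D x) := by
  have hu := isUnit_of_isIsometry hD hx.B_map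
  have hx' := (isIsometry_neg hx).B_map
  exact ⟨(hasED_edOf x).1, (hasED_edOf x).isUnit_iff.1 hu, (selfDual_iff_dd (fun _ => rfl) hu
    (hasED_edOf x)).1 (selfDual_of_isIsometry hD hx), (hasED_edOf x).finrank.symm, fun e he =>
    ⟨⟨even_cnt h2 hD hx.B_map he, sgn_bad hD hx.B_map he⟩, cnt_neg x e ▸ even_cnt h2 hD hx' he,
      sgn_bad hD hx' he⟩, fun e => ⟨sgn_of_cnt h2 hD hx.B_map, fun h =>
      sgn_of_cnt h2 hD hx' ((cnt_neg x e).trans h)⟩⟩

theorem isoC_of_raw (h2 : (2 : F) ≠ 0) (hD : D.Nondeg) (hD' : D'.Nondeg) (hx : IsIsometry D D x)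
    (hy : IsIsometry D' D' y) (h : raw D x = raw D' y) : IsoC D x D' y :=
  isoC_wall h2 hD hD' hx hy (sim_iff_edOf.2 (congrArg Prod.fst h)) (congrFun (congrArg (·.2.1) h))
    (congrFun (congrArg (·.2.2) h))

open Classical in
theorem card_classes_le_raw (h2 : (2 : F) ≠ 0) (hD : D.Nondeg) : ∃ T : Finset (Raw F),
    Nat.card (ConjClasses D.isom) = #T ∧ ∀ r ∈ T, ∃ g : D.isom, raw D (nat D g) = r := by
  have : Finite V := Module.finite_of_finite F
  have := D.finite_isom
  have := Fintype.ofFinite (ConjClasses D.isom)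
  choose g hg using ConjClasses.exists_rep (α := D.isom)
  refine ⟨univ.image fun C => raw D (nat D (g C)), ?_, fun r hr => ?_⟩
  · rw [card_image_of_injective _ fun C C' h => ?_, Nat.card_eq_fintype_card, card_univ]
    rw [← hg C, ← hg C', ConjClasses.mk_eq_mk_iff_isConj, isConj_iff_isoC]
    exact isoC_of_raw h2 hD hD (g C).2 (g C').2 h
  · obtain ⟨C, -, rfl⟩ := mem_image.1 hr
    exact ⟨_, rfl⟩

omit [Fintype F] in
theorem gd_alt (h2 : (2 : F) ≠ 0) (e : ℕ) : Gd (altKind F) e ↔ Odd e := by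
  have : (-1 : F) ≠ 1 := fun h => h2 (by linear_combination -h)
  rw [Gd, altKind_ε, ← pow_succ', neg_one_pow_eq_one_iff_even this, Nat.even_add_one, Nat.not_even_iff_odd]

omit [Fintype F] in
theorem gd_quad (h2 : (2 : F) ≠ 0) (e : ℕ) : Gd (quadKind F) e ↔ Even e := by
  have : (-1 : F) ≠ 1 := fun h => h2 (by linear_combination -h)
  rw [Gd, quadKind_ε, one_mul, neg_one_pow_eq_one_iff_even this]

theorem card_classes_alt_le (h2 : (2 : F) ≠ 0) {D : Form (altKind F) V} (hD : D.Nondeg) {n : ℕ}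
    (hn : finrank F V = 2 * n) : 5 * Nat.card (ConjClasses D.isom) ≤ 54 * q ^ n := by
  classical
  obtain ⟨T, h, hT⟩ := card_classes_le_raw h2 hD
  have h1 : ∀ r ∈ T, Valid (altKind F) (2 * n + 0) r := fun r hr => by
    obtain ⟨g, rfl⟩ := hT r hr
    exact hn ▸ valid_raw h2 hD g.2
  have h3 := (valid_le h2 zero_le_one T h1).trans (mul_le_mul_of_nonneg_left (tau_le_odd _ fun b hb e he => by
    obtain ⟨r, hr, rfl⟩ := mem_image.1 hb
    exact (h1 r hr).tau_eq e (by rwa [gd_alt h2])) (by positivity))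
  have : (5 * #T : ℝ) ≤ 54 * q ^ n := by
    have : (0 : ℝ) ≤ q ^ n := by positivity
    norm_num at h3
    linarith
  rw [h]
  exact_mod_cast this

theorem card_conj_equiv {G H : Type*} [Group G] [Group H] (e : G ≃* H) :
    Nat.card (ConjClasses G) = Nat.card (ConjClasses H) := by
  have := card_classes_equiv e (fun _ => True) (fun _ => True) fun _ => Iff.rfl
  simp only [and_true, ConjClasses.exists_rep] at this
  rwa [Nat.card_congr (Equiv.subtypeUnivEquiv fun _ => trivial),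
    Nat.card_congr (Equiv.subtypeUnivEquiv fun _ => trivial)] at this

theorem two_ne_zero_of_odd_card (h : Odd q) : (2 : F) ≠ 0 :=
  Ring.two_ne_zero fun h' => by
    have := FiniteField.even_card_iff_char_two.1 h'
    rw [Nat.odd_iff] at h; omega

section Quad

variable {D : Form (quadKind F) V}

theorem disc_scl (h2 : (2 : F) ≠ 0) (hD : D.Nondeg) {c : F} (hc : c ≠ 0) :
    disc (scl_nondeg h2 hD hc) = chi c ^ finrank F V * disc hD :=
  (Iso.disc_eq (D := scl h2 D c) (D' := D.qsmul c)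
    ⟨LinearEquiv.refl F V, isIsometry_of_two h2 fun _ _ => rfl⟩ _ (hD.qsmul hc)).trans
    (disc_qsmul hD h2 hc)

theorem exists_flip_quad (h2 : (2 : F) ≠ 0) (hD : D.Nondeg) (hx : IsIsometry D D x) {e : ℕ} (he : Even e)
    (hc : cnt x e ≠ 0) : ∃ (D' : Form (quadKind F) V) (hD' : D'.Nondeg), IsIsometry D' D' x ∧
      (fun i => sgn D' x i) = Function.update (fun i => sgn D x i) e (-sgn D x e) ∧
      (fun i => sgn D' (-x) i) = (fun i => sgn D (-x) i) ∧ disc hD' = -disc hD := by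
  obtain ⟨D', h1, h3, h4, h5, h6, U, E, c, c1, e1, e2, e3, e4⟩ :=
    exists_flip h2 hD hx ((gd_quad h2 e).2 he) hc
  have c0 : c ≠ 0 := by rintro rfl; simp [chi] at c1
  refine ⟨D', h1, h3, funext fun i => ?_, funext h6, ?_⟩
  · by_cases h : i = e <;> simp [h, h4, h5]
  · rw [← e4.disc_eq ((scl_nondeg h2 e1 c0).prod e2), ← e3.disc_eq (e1.prod e2), disc_prod e1 e2,
      disc_prod (scl_nondeg h2 e1 c0) e2, disc_scl h2 e1 c0, c1, finrank_fin_fun, he.add_one.neg_one_pow]
    simp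

open Classical in
/-- Positions where a sign may be changed. -/
def Loc (s : Multiset (F[X] × ℕ)) (l : Bool × ℕ) : Prop :=
  Even l.2 ∧ s.count (if l.1 then X - 1 else X + 1, l.2 + 1) ≠ 0

/-- Changing the sign at a position. -/
def flipAt (l : Bool × ℕ) (r : Raw F) : Raw F :=
  if l.1 then (r.1, Function.update r.2.1 l.2 (-r.2.1 l.2), r.2.2)
  else (r.1, r.2.1, Function.update r.2.2 l.2 (-r.2.2 l.2))

omit [Fintype F] in
theorem flipAt_inj : Function.Injective fun r : Raw F => flipAt (Classical.epsilon (Loc r.1)) r :=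
  Function.Involutive.injective fun r => by unfold flipAt; split_ifs <;> simp_all

theorem exists_flipAt (h2 : (2 : F) ≠ 0) (hD : D.Nondeg) (hx : IsIsometry D D x) {l : Bool × ℕ}
    (h : Loc (edOf x) l) : ∃ (D' : Form (quadKind F) V) (hD' : D'.Nondeg), IsIsometry D' D' x ∧
      raw D' x = flipAt l (raw D x) ∧ disc hD' = -disc hD := by
  obtain ⟨_ | _, e⟩ := l
  · obtain ⟨D', h1, h3, h4, h5, h6⟩ := exists_flip_quad h2 hD (isIsometry_neg hx) h.1 (cnt_neg x e ▸ h.2)
    exact ⟨D', h1, by simpa using isIsometry_neg h3, by simpa [raw, flipAt, h4] using h5, h6⟩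
  · obtain ⟨D', h1, h3, h4, h5, h6⟩ := exists_flip_quad h2 hD hx h.1 h.2
    exact ⟨D', h1, h3, by simp [raw, flipAt, h4, h5], h6⟩

omit [Fintype F] in
theorem Valid.tau_of_loc (h2 : (2 : F) ≠ 0) (h : Valid (quadKind F) d r) (hl : ¬ ∃ l, Loc r.1 l) :
    tau r = fun _ => ∅ := funext fun e => by
  by_cases he : Even e
  · have h1 := fun b => not_and.1 (not_exists.1 hl (b, e)) he
    have h3 := not_not.1 (h1 true)
    have h4 := not_not.1 (h1 false)
    simp only [if_true, Bool.false_eq_true, if_false] at h3 h4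
    simp [tau, h3, h4, h.zero e, tset_even]
  · exact h.tau_eq e (.inr (by rwa [gd_quad h2]))

theorem card_classes_quad_le (h2 : (2 : F) ≠ 0) (hD : D.Nondeg) {n ρ : ℕ} (hρ : ρ ≤ 1)
    (hn : finrank F V = 2 * n + ρ) :
    2 * Nat.card (ConjClasses D.isom) * rt3 ^ ρ ≤ (16.42 + if ρ = 0 then 1.786 else 0) * q ^ n := by
  classical
  obtain ⟨T, h, hT⟩ := card_classes_le_raw h2 hD
  have h1 : ∀ r ∈ T, Valid (quadKind F) (2 * n + ρ) r := fun r hr => by
    obtain ⟨g, rfl⟩ := hT r hr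
    exact hn ▸ valid_raw h2 hD g.2
  let T' := (T.filter fun r => ∃ l, Loc r.1 l).image fun r => flipAt (Classical.epsilon (Loc r.1)) r
  have h3 : ∀ r ∈ T', r ∉ T ∧ Valid (quadKind F) (2 * n + ρ) r := fun r hr => by
    obtain ⟨r', hr', rfl⟩ := mem_image.1 hr
    obtain ⟨g, rfl⟩ := hT r' (mem_filter.1 hr').1
    obtain ⟨D', k1, k2, k3, k4⟩ := exists_flipAt h2 hD g.2 (Classical.epsilon_spec (mem_filter.1 hr').2)
    refine ⟨fun k => ?_, (k3 ▸ hn ▸ valid_raw h2 k1 k2 :)⟩
    obtain ⟨g', k5⟩ := hT _ k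
    have := (isoC_of_raw h2 hD k1 g'.2 k2 (k5.trans k3.symm)).iso.disc_eq hD k1
    rw [k4] at this
    revert this; generalize disc hD = a; revert a; decide
  have h4 : ∀ r ∈ T ∪ T', Valid (quadKind F) (2 * n + ρ) r := fun r hr =>
    (mem_union.1 hr).elim (h1 r) fun h => (h3 r h).2
  have h5 := (valid_le h2 hρ _ h4).trans (mul_le_mul_of_nonneg_left (tau_le_even _ (fun b hb e he => by
    obtain ⟨r, hr, rfl⟩ := mem_image.1 hb
    exact (h4 r hr).tau_eq e (by rwa [gd_quad h2])) (r := (2 * n + ρ) % 2) fun b hb => by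
      obtain ⟨r, hr, rfl⟩ := mem_image.1 hb
      exact (h4 r hr).wgt_mod h2) (by positivity))
  rw [card_union_of_disjoint (disjoint_right.2 fun r hr => (h3 r hr).1),
    card_image_of_injective _ flipAt_inj] at h5
  have h6 := card_filter_add_card_filter_not (s := T) fun r => ∃ l, Loc r.1 l
  have h7 : #(T.filter fun r => ¬ ∃ l, Loc r.1 l) * rt3 ^ ρ ≤ (if ρ = 0 then 1.786 else 0) * q ^ n := by
    have k : ∀ r ∈ T.filter fun r => ¬ ∃ l, Loc r.1 l, tau r = fun _ => ∅ := fun r hr =>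
      (h1 r (mem_filter.1 hr).1).tau_of_loc h2 (mem_filter.1 hr).2
    split_ifs with h0
    · refine (valid_le h2 hρ _ fun r hr => h1 r (mem_filter.1 hr).1).trans (mul_le_of_le_one_right
        (by positivity) ((sum_le_sum_of_subset_of_nonneg (t := {fun _ => ∅}) (fun b hb => ?_)
          fun _ _ _ => pow_nonneg (by norm_num [rt3]) _).trans (by simp [wgt])))
      obtain ⟨r, hr, rfl⟩ := mem_image.1 hb
      exact mem_singleton.2 (k r hr)
    · rw [eq_empty_of_forall_notMem (s := T.filter _) fun r hr => by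
        have := (h1 r (mem_filter.1 hr).1).wgt_mod h2
        simp [k r hr, wgt] at this; omega]
      simp
  have : (0 : ℝ) ≤ q ^ n := by positivity
  rw [h, ← h6]
  rw [← h6] at h5
  generalize (if ρ = 0 then 1.786 else 0 : ℝ) = a, rt3 ^ ρ = b at h5 h7 ⊢
  generalize #(T.filter fun r => ∃ l, Loc r.1 l) = A, #(T.filter fun r => ¬ ∃ l, Loc r.1 l) = B at h5 h7 ⊢
  norm_num [rt3] at h5 h7 ⊢
  linarith

omit [Fintype F] in
theorem exists_quad (h2 : (2 : F) ≠ 0) : ∃ D : Form (quadKind F) V, D.Nondeg := by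
  obtain ⟨D, hD⟩ := exists_form_iso (V := V) (fDiag fun _ : Fin (finrank F V) => (1 : F)) (by simp)
  exact ⟨D, hD.symm.nondeg (fDiag_nondeg h2 fun _ => one_ne_zero)⟩

theorem disc_eq_chi (h2 : (2 : F) ≠ 0) (hD : D.Nondeg) (hx : IsIsometry D D x)
    (h1 : x.charpoly.eval 1 ≠ 0) (h1' : x.charpoly.eval (-1) ≠ 0) (he : Even (finrank F V)) :
    disc hD = chi (x.charpoly.eval 1 * x.charpoly.eval (-1)) := by
  have e1 : LinearMap.det (-x + 1) = x.charpoly.eval 1 := by
    rw [LinearMap.eval_charpoly, map_one, neg_add_eq_sub]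
  have e2 : LinearMap.det (x + 1) = x.charpoly.eval (-1) := by
    rw [LinearMap.eval_charpoly, map_neg, map_one, show -1 - x = (-1 : F) • (x + 1) by module,
      LinearMap.det_smul, he.neg_one_pow, one_mul]
  have k1 := spinor_eq_chi_det hD h2 (D.mkIsom hD x hx) ((LinearMap.isUnit_iff_isUnit_det _).2
    (e2.symm ▸ h1'.isUnit :))
  have e3 : nat D (D.negOne * D.mkIsom hD x hx) = -x := LinearMap.ext fun v => D.negOne_apply _
  have k2 := spinor_eq_chi_det hD h2 (D.negOne * D.mkIsom hD x hx) ((LinearMap.isUnit_iff_isUnit_det _).2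
    (e3.symm ▸ e1.symm ▸ h1.isUnit :))
  rw [e3] at k2
  obtain ⟨m, hm⟩ := he
  rw [LinearMap.det_smul, hm, ← two_mul, mul_comm 2, pow_mul] at k1 k2
  rw [chi_mul h1 h1', ← chi_sq_mul h1 (pow_ne_zero m (inv_ne_zero h2)),
    ← chi_sq_mul h1' (pow_ne_zero m (inv_ne_zero h2)), ← e1, ← e2]
  refine Eq.trans ?_ (congrArg₂ _ k2 k1)
  rw [map_mul, mul_assoc, Int.units_mul_self, mul_one, disc]

theorem exists_isom_charpoly (h2 : (2 : F) ≠ 0) (hD : D.Nondeg) {f : F[X]} (hm : f.Monic)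
    (hd : f.natDegree = finrank F V) (h0 : f.coeff 0 ≠ 0) (hp : pd (RingHom.id F) f = f)
    (H : f.eval 1 ≠ 0 → f.eval (-1) ≠ 0 → chi (f.eval 1 * f.eval (-1)) = disc hD) :
    ∃ g : D.isom, (nat D g).charpoly = f := by
  classical
  obtain ⟨x, hs, rfl⟩ := exists_ss_charpoly hm hd
  have hu : IsUnit x := (LinearMap.isUnit_iff_isUnit_det x).2 (by
    rw [LinearMap.det_eq_sign_charpoly_coeff]; exact (mul_ne_zero (by simp) h0).isUnit)
  have hc : (1 : F) * RingHom.id F 1 = 1 := by simp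
  have hc' : (-1 : F) * RingHom.id F (-1) = 1 := by simp
  obtain ⟨D₂, n2, i2⟩ := ((((selfDual_iff_pd (fun _ => rfl) hs hu).2 hp).off (fun _ => rfl) hs hc).off
    (fun _ => rfl) (ss_off hs 1) hc').exists_form (quadKind F) (isUnit_off_off hs).1 (isUnit_off_off hs).2
  obtain ⟨E₁, e1⟩ := exists_quad (V := eig (off x 1) (-1)) h2
  obtain ⟨D₁, n1, i1, -⟩ := exists_form_of_off (ss_off hs 1) hc' E₁ e1 n2 i2
  obtain ⟨E₀, e0⟩ := exists_quad (V := eig x 1) h2
  obtain ⟨E, n0, i0, -⟩ := exists_form_of_off hs hc E₀ e0 n1 i1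
  suffices ∃ (E : Form (quadKind F) V) (h : E.Nondeg), IsIsometry E E x ∧ disc h = disc hD by
    obtain ⟨E, k1, k2, k3⟩ := this
    obtain ⟨g, hg⟩ := exists_isom_isoC hD (iso_of_disc k1 hD h2 rfl k3) k2
    exact ⟨g, hg.sim.charpoly.symm⟩
  by_cases h : disc n0 = disc hD
  · exact ⟨E, n0, i0, h⟩
  obtain ⟨l, hl⟩ : ∃ l, Loc (edOf x) l := by
    by_contra h3
    have k : ∀ b : Bool, x.charpoly.eval (if b then 1 else -1) ≠ 0 := fun b hb => h3 ⟨(b, 0), by simp, by
      rw [(hasED_ssOf hs).edOf_eq, Multiset.count_ne_zero, mem_ssOf hm.ne_zero]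
      have := And.intro (monic_X_sub_C (if b then 1 else -1 : F))
        (And.intro (irreducible_X_sub_C (if b then 1 else -1 : F)) (dvd_iff_isRoot.2 hb))
      cases b <;> simpa using this⟩
    exact h ((disc_eq_chi h2 n0 i0 (k true) (k false)
      (hd ▸ (isPal_of_eval h2 hm h0 hp (k true) (k false)).2.2.2)).trans (H (k true) (k false)))
  obtain ⟨E', k1, k2, -, k3⟩ := exists_flipAt h2 n0 i0 hl
  exact ⟨E', k1, k2, k3.trans (Int.units_ne_iff_eq_neg.1 (Ne.symm h)).symm⟩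

theorem le_card_classes {G : Type*} [Group G] [Finite G] (ρ : G →* End F V) {S : Set F[X]}
    (h : ∀ f ∈ S, ∃ g, (ρ g).charpoly = f) : S.ncard ≤ Nat.card (ConjClasses G) := by
  choose g hg using h
  exact Nat.card_le_card_of_injective (fun f : S => ConjClasses.mk (g f.1 f.2)) fun f f' h => Subtype.ext (by
    rw [← hg f.1 f.2, ← hg f'.1 f'.2]
    exact (sim_of_isConj ρ (ConjClasses.mk_eq_mk_iff_isConj.1 h)).charpoly)

theorem le_card_classes_even (h2 : (2 : F) ≠ 0) (hD : D.Nondeg) {n : ℕ} (hn : finrank F V = 2 * (n + 2)) :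
    q ^ (n + 2) ≤ 2 * Nat.card (ConjClasses D.isom) := by
  have : Finite V := Module.finite_of_finite F
  have := D.finite_isom
  let P : F[X] → Prop := fun f => f.eval 1 ≠ 0 → f.eval (-1) ≠ 0 → chi (f.eval 1 * f.eval (-1)) = disc hD
  have h1 := le_card_classes (nat D) (S := {f | (IsPal f ∧ f.natDegree / 2 = n + 2) ∧ P f}) fun f hf =>
    exists_isom_charpoly h2 hD hf.1.1.1 ((isPal_iff.1 hf.1).2.1.trans hn.symm) (by simp [hf.1.1.2.2.1])
      hf.1.1.2.1 hf.2
  obtain ⟨c, hc⟩ := exists_not_isSquare h2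
  have c0 : c ≠ 0 := by rintro rfl; simp at hc
  have h4 : (4 : F) ≠ 0 := by simpa [← two_mul, ← two_add_two_eq_four] using h2
  let p : F[X] := X ^ (n + 1) * (X + 1) ^ 2
  let φ : F[X] → F[X] := fun f => f + C ((c - 1) * f.eval 1 / 4) * p
  have e1 : ∀ f, (φ f).eval 1 = c * f.eval 1 := fun f => by simp [φ, p]; field_simp; ring
  have e2 : ∀ f, (φ f).eval (-1) = f.eval (-1) := fun f => by simp [φ, p]
  have hp : p.natDegree = n + 3 := by
    rw [natDegree_X_pow_mul _ (pow_ne_zero _ (by simpa using X_add_C_ne_zero (1 : F))), natDegree_pow,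
      ← C_1, natDegree_X_add_C]; omega
  have hp' : p.reflect (2 * (n + 2)) = p := by
    rw [show p = X ^ (n + 3) + C 2 * X ^ (n + 2) + X ^ (n + 1) by simp only [p, map_ofNat]; ring,
      reflect_add, reflect_add, reflect_C_mul_X_pow, reflect_monomial, reflect_monomial,
      revAt_le (by omega), revAt_le (by omega), revAt_le (by omega)]
    simp only [show 2 * (n + 2) - (n + 3) = n + 1 by omega, show 2 * (n + 2) - (n + 2) = n + 2 by omega,
      show 2 * (n + 2) - (n + 1) = n + 3 by omega]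
    ring
  have h3 := Set.ncard_le_ncard_of_injOn (s := {f | (IsPal f ∧ f.natDegree / 2 = n + 2) ∧ ¬ P f})
    (t := {f | (IsPal f ∧ f.natDegree / 2 = n + 2) ∧ P f}) φ (fun f hf => ⟨?_, fun k1 k2 => ?_⟩)
    (fun f _ g _ h => ?_) ((finite_pal _).subset fun _ h => h.1)
  · rw [← card_pal, ← Set.coe_setOf, Nat.card_coe_set_eq, ← Set.ncard_inter_add_ncard_diff_eq_ncard _
      {f | P f} (finite_pal _)]
    exact (Nat.add_le_add_left h3 _).trans (by rw [two_mul]; exact Nat.add_le_add h1 h1)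
  · obtain ⟨k1, k2, k3⟩ := isPal_iff.1 hf.1
    have : (C ((c - 1) * f.eval 1 / 4) * p).natDegree < f.natDegree :=
      (natDegree_C_mul_le _ _).trans_lt (by omega)
    refine isPal_iff.2 ⟨k1.add_of_left (degree_lt_degree this), (natDegree_add_eq_left_of_natDegree_lt this).trans k2, ?_⟩
    rw [Polynomial.map_id, C_1, one_mul] at k3 ⊢
    rw [reflect_add, reflect_C_mul, k3, hp']
  · have k3 := hf.2
    simp only [P, Classical.not_imp] at k3
    rw [e1, e2, mul_assoc, chi_mul c0 (mul_ne_zero k3.1 k3.2.1), chi_of_not_isSquare hc,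
      Int.units_ne_iff_eq_neg.1 k3.2.2]
    simp
  · have : f.eval 1 = g.eval 1 := mul_left_cancel₀ c0 (by rw [← e1, h, e1])
    simpa [φ, this] using h

end Quad

end Cfsg.Lib.Conj
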