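import Cfsg.Agent.Lib.Conj.Spec

/-! Classes of elements of prime order `r ∣ |Z|` in `PGL` and `PGU`. -/

set_option autoImplicit false

namespace Cfsg.Lib.Conj

open Cfsg.Lib.Forms Cfsg.Lib.Forms.Form Cfsg.Lib.Known Module Polynomial

variable {F : Type*} [Field F] {V V' : Type*} [AddCommGroup V] [Module F V] [AddCommGroup V'] [Module F V']
  {x : End F V} {y : End F V'} {m : F[X]}

theorem hasED_of_irr [FiniteDimensional F V] (hm : m.Monic) (hi : Irreducible m) (h : aeval x m = 0) :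
    ∃ k, HasED x (Multiset.replicate k (m, 1)) ∧ finrank F V = k * m.natDegree := by
  obtain ⟨s, hs⟩ := exists_hasED x
  have h1 : s = Multiset.replicate s.card (m, 1) := Multiset.eq_replicate_card.2 fun a ha => by
    obtain ⟨h2, h3, h4⟩ := hs.1 a ha
    have h5 := (hs.aeval_eq_zero_iff m).1 h a ha
    have h6 : a.1 = m := eq_of_monic_of_associated h2 hm
      (h3.associated_of_dvd hi ((dvd_pow_self _ (by omega)).trans h5))
    have h7 := natDegree_le_of_dvd h5 hm.ne_zero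
    rw [natDegree_pow, h6] at h7
    exact Prod.ext h6 (by have := hi.natDegree_pos; simp only; nlinarith)
  exact ⟨_, h1 ▸ hs, by rw [hs.finrank, h1]; simp [edDeg]⟩

theorem sim_of_irr [FiniteDimensional F V] [FiniteDimensional F V'] (hm : m.Monic) (hi : Irreducible m)
    (h : aeval x m = 0) (h' : aeval y m = 0) (hn : finrank F V = finrank F V') : Sim x y := by
  obtain ⟨k, h1, h2⟩ := hasED_of_irr hm hi h
  obtain ⟨l, h3, h4⟩ := hasED_of_irr hm hi h'
  obtain rfl : k = l := Nat.eq_of_mul_eq_mul_right hi.natDegree_pos (h2.symm.trans (hn.trans h4))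
  exact h1.sim h3

/-- Translation of multisets. -/
@[reducible] def symAct (Γ : Type*) [Group Γ] (n : ℕ) : MulAction Γ (Sym Γ n) where
  smul γ s := s.map (γ * ·)
  one_smul s := by change s.map _ = s; simp
  mul_smul a b s := by change s.map _ = (s.map _).map _; simp [Sym.map_map, Function.comp_def, mul_assoc]

theorem card_orbits_sym {Γ : Type*} [Group Γ] [Finite Γ] {r : ℕ} (hr : r.Prime) (hΓ : Nat.card Γ = r) (n : ℕ) :
    Nat.card (Quotient (@MulAction.orbitRel _ _ _ (symAct Γ n))) * r =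
      (n + r - 1).choose (r - 1) + (r - 1) * if r ∣ n then 1 else 0 := by
  classical
  letI := symAct Γ n
  haveI := Fintype.ofFinite Γ
  haveI := Fact.mk hr
  rw [Nat.card_eq_fintype_card] at hΓ
  have h1 : ∀ γ : Γ, γ ≠ 1 → Fintype.card (MulAction.fixedBy (Sym Γ n) γ) = if r ∣ n then 1 else 0 := fun γ hγ => by
    have h2 : ∀ s : Sym Γ n, s ∈ MulAction.fixedBy (Sym Γ n) γ → s.1 = s.1.count 1 • Finset.univ.val ∧
        n = s.1.count 1 * r := fun s hs => by
      have h3 : s.1 = s.1.count 1 • Finset.univ.val := Multiset.ext.2 fun a => by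
        obtain ⟨j, rfl⟩ := mem_zpowers_of_prime_card (Nat.card_eq_fintype_card.trans hΓ) hγ (g' := a)
        have := Multiset.count_map_eq_count' _ s.1 (mul_right_injective (γ ^ j)) 1
        rw [show s.1.map _ = s.1 from congrArg Subtype.val (MulAction.mem_fixedBy_zpow hs j)] at this
        simpa using this
      exact ⟨h3, s.2.symm.trans ((congrArg Multiset.card h3).trans (by simp [hΓ]))⟩
    split_ifs with h
    · obtain ⟨k, rfl⟩ := h
      refine Fintype.card_eq_one_iff.2 ⟨⟨⟨k • Finset.univ.val, by simp [hΓ, mul_comm]⟩, Subtype.ext ?_⟩, fun s => ?_⟩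
      · change Multiset.map _ _ = _
        rw [Multiset.map_nsmul]
        exact congrArg _ (Multiset.map_univ_val_equiv (Equiv.mulLeft γ))
      · obtain ⟨h3, h4⟩ := h2 _ s.2
        have h5 := Nat.eq_of_mul_eq_mul_right hr.pos ((mul_comm _ _).trans h4)
        exact Subtype.ext (Subtype.ext (h3.trans (by rw [← h5])))
    · exact Fintype.card_eq_zero_iff.2 ⟨fun s => h ⟨_, (h2 _ s.2).2.trans (mul_comm _ _)⟩⟩
  rw [Nat.card_eq_fintype_card, ← hΓ, ← MulAction.sum_card_fixedBy_eq_card_orbits_mul_card_group,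
    ← Finset.add_sum_erase _ _ (Finset.mem_univ 1), Finset.sum_congr rfl fun γ h => h1 γ (Finset.ne_of_mem_erase h)]
  have := hr.pos
  simp [Sym.card_sym_eq_choose, hΓ, add_comm r, Nat.choose_symm_of_eq_add (show n + r - 1 = n + (r - 1) by omega)]

/-- The elementary divisors of a diagonalisable map. -/
noncomputable def dg {r : ℕ} (s : Multiset (rootsOfUnity r F)) : Multiset (F[X] × ℕ) :=
  s.map fun a => (X - C (a.1 : F), 1)

variable {r : ℕ}

theorem dg_inj : Function.Injective (dg (F := F) (r := r)) := Multiset.map_injective fun _ _ h =>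
  Subtype.ext (Units.ext (C_injective (sub_right_injective (congrArg Prod.fst h))))

theorem pow_of_dg {s : Multiset (rootsOfUnity r F)} (h : HasED x (dg s)) : x ^ r = 1 := by
  have := (h.aeval_eq_zero_iff (X ^ r - 1)).2 fun a ha => by
    obtain ⟨a, -, rfl⟩ := Multiset.mem_map.1 ha
    simp [dvd_iff_isRoot, ← Units.val_pow_eq_pow_val, (mem_rootsOfUnity _ _).1 a.2]
  simpa [sub_eq_zero] using this

theorem exists_dg [FiniteDimensional F V] [NeZero r] {ζ : F} (hζ : IsPrimitiveRoot ζ r) (h : x ^ r = 1) :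
    ∃ s : Sym (rootsOfUnity r F) (finrank F V), HasED x (dg s.1) := by
  obtain ⟨t, ht⟩ := exists_hasED x
  have h1 := (ht.aeval_eq_zero_iff (X ^ r - 1)).1 (by simp [h])
  rw [X_pow_sub_one_eq_prod (NeZero.pos r) hζ] at h1
  obtain ⟨s, rfl⟩ : ∃ s : Multiset (rootsOfUnity r F), dg s = t :=
    (@Multiset.canLift _ _ _ _ ⟨fun _ h => h⟩).prf t fun a ha => by
      obtain ⟨h2, h3, h4⟩ := ht.1 a ha
      obtain ⟨b, h5, h6⟩ := h3.prime.exists_mem_finset_dvd ((dvd_pow_self _ (by omega)).trans (h1 a ha))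
      refine ⟨rootsOfUnity.mkOfPowEq b ((mem_nthRootsFinset (NeZero.pos r) _).1 h5), Prod.ext
        (eq_of_monic_of_associated h2 (monic_X_sub_C b) (h3.associated_of_dvd (irreducible_X_sub_C b) h6)).symm ?_⟩
      by_contra h7
      exact h3.1 ((separable_prod_X_sub_C_iff'.2 fun _ _ _ _ h => h).squarefree _
        (sq a.1 ▸ (pow_dvd_pow _ (by omega)).trans (h1 a ha)))
  exact ⟨⟨s, by simp [ht.finrank, edDeg, dg]⟩, ht⟩

theorem count_dg [DecidableEq (rootsOfUnity r F)] {s : Multiset (rootsOfUnity r F)} (h : HasED x (dg s))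
    (a : rootsOfUnity r F) : finrank F (eig x a.1) = s.count a := by
  have := h.kd_pow (monic_X_sub_C (a.1 : F)) (irreducible_X_sub_C _) 1
  rw [pow_one, kd, natDegree_X_sub_C, mul_one, map_sub, aeval_X, aeval_C, edCnt, dg, Multiset.map_map] at this
  rw [eig, this, Multiset.count_eq_card_filter_eq, ← Multiset.countP_eq_card_filter, Multiset.countP_eq_card_filter]
  clear this h
  induction s using Multiset.induction with
  | empty => simp
  | cons b s ih => simp [Multiset.filter_cons, ← ih, Units.val_inj, eq_comm, apply_ite]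

theorem dg_smul [FiniteDimensional F V] [NeZero r] {ζ : F} (hζ : IsPrimitiveRoot ζ r) {s : Multiset (rootsOfUnity r F)}
    (h : HasED x (dg s)) (γ : rootsOfUnity r F) : HasED ((γ.1 : F) • x) (dg (s.map (γ * ·))) := by
  classical
  obtain ⟨t, ht⟩ := exists_dg (x := (γ.1 : F) • x) hζ (by
    rw [_root_.smul_pow, pow_of_dg h, ← Units.val_pow_eq_pow_val, (mem_rootsOfUnity _ _).1 γ.2]; simp)
  convert ht
  ext a
  obtain ⟨a, rfl⟩ := (Group.mulLeft_bijective γ).2 a
  rw [Multiset.count_map_eq_count' _ _ (mul_right_injective γ), ← count_dg h, ← count_dg ht]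
  congr 2 <;> ext v <;> simp [mem_eig, mul_smul]

theorem card_proj [Finite F] [FiniteDimensional F V] [Nontrivial V] {G : Type*} [Group G] [Finite G]
    (ρ : G →* End F V)
    (U : Subgroup Fˣ) (hZ : ∀ g, g ∈ Subgroup.center G ↔ ∃ u ∈ U, ρ g = (u : F) • 1)
    (hc : ∀ g k, _root_.IsConj g k ↔ Sim (ρ g) (ρ k))
    (hsc : ∀ u ∈ U, ∃ z, ρ z = (u : F) • 1)
    (hex : ∀ (x : End F V) (s : Multiset (rootsOfUnity r F)), HasED x (dg s) → ∃ g, Sim (ρ g) x)
    (hex' : ∀ x : End F V, ∀ u ∈ U, Irreducible (X ^ r - C (u : F)) → x ^ r = (u : F) • 1 → ∃ g, Sim (ρ g) x) (hr : r.Prime) (hU : r ∣ Nat.card U)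
    (hp : ∀ b : Fˣ, b ^ r ∈ U → ∃ u ∈ U, u ^ r = b ^ r) {n : ℕ} (hn : finrank F V = n) :
    Nat.card {C : ConjClasses (G ⧸ Subgroup.center G) // ∃ g, ConjClasses.mk g = C ∧ orderOf g = r} =
      ((n + r - 1).choose (r - 1) - r - (if r ∣ n then 1 else 0)) / r + r * (if r ∣ n then 1 else 0) := by
  classical
  subst hn
  haveI := Fact.mk hr
  obtain ⟨ζ, hζ⟩ := exists_prime_orderOf_dvd_card' r hU
  have hζ : IsPrimitiveRoot ζ.1 r := by rw [← hζ, ← Subgroup.orderOf_coe]; exact .orderOf _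
  have hζ' : IsPrimitiveRoot (ζ.1 : F) r := IsPrimitiveRoot.coe_units_iff.2 hζ
  have hΓ : rootsOfUnity r F ≤ U := hζ.zpowers_eq ▸ Subgroup.zpowers_le_of_mem ζ.2
  letI := symAct (rootsOfUnity r F) (finrank F V)
  have hs : ∀ {a b : F}, a • (1 : End F V) = b • 1 → a = b := fun h => smul_left_injective F one_ne_zero h
  have h1 : ∀ g k : G, _root_.IsConj (g : G ⧸ Subgroup.center G) k ↔ ∃ u ∈ U, Sim ((u : F) • ρ g) (ρ k) := fun g k => by
    constructor
    · intro h
      obtain ⟨c, h⟩ := isConj_iff.1 h.symm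
      obtain ⟨c, rfl⟩ := QuotientGroup.mk_surjective c
      obtain ⟨u, hu, h⟩ := (hZ _).1 (QuotientGroup.eq.1 h.symm)
      refine ⟨u, hu, .symm ?_⟩
      rw [← mul_one (ρ g), ← mul_smul_comm, ← h, ← map_mul, mul_inv_cancel_left, ← hc]
      exact isConj_iff.2 ⟨c, rfl⟩
    · rintro ⟨u, hu, h⟩
      obtain ⟨z, hz⟩ := hsc u hu
      rw [← one_mul (ρ g), ← smul_mul_assoc, ← hz, ← map_mul, ← hc] at h
      simpa [(QuotientGroup.eq_one_iff z).2 ((hZ z).2 ⟨u, hu, hz⟩)] using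
        (QuotientGroup.mk' (Subgroup.center G)).map_isConj h
  have h2 : ∀ g : G, (g : G ⧸ Subgroup.center G) ^ r = 1 ↔ ∃ u ∈ U, ρ g ^ r = (u : F) • 1 := fun g => by
    rw [← QuotientGroup.mk_pow, QuotientGroup.eq_one_iff, hZ, map_pow]
  have h3 : ∀ s : Sym (rootsOfUnity r F) (finrank F V), ∃ g, HasED (ρ g) (dg s.1) := fun s => by
    obtain ⟨x, hx⟩ := exists_end_hasED (V := V) (s := dg s.1) (fun a ha => by
      obtain ⟨a, -, rfl⟩ := Multiset.mem_map.1 ha
      exact ⟨monic_X_sub_C _, irreducible_X_sub_C _, le_rfl⟩) (by simp [edDeg, dg])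
    exact (hex x _ hx).imp fun _ => hx.of_sim
  let P := (powMonoidHom r : U →* U).range
  have h4 : ∀ u : U, u ∉ P → Irreducible (X ^ r - C (u.1 : F)) := fun u hu =>
    X_pow_sub_C_irreducible_of_prime hr fun b hb => hu (by
      have h0 : b ≠ 0 := by rintro rfl; exact u.1.ne_zero (by simpa [hr.ne_zero] using hb.symm)
      have hb : Units.mk0 b h0 ^ r = u := Units.ext hb
      obtain ⟨v, hv, h⟩ := hp _ (hb ▸ u.2)
      exact ⟨⟨v, hv⟩, Subtype.ext (h.trans hb)⟩)
  have h5 : ∀ (x : End F V) (c : F), aeval x (X ^ r - C c) = 0 ↔ x ^ r = c • 1 := fun x c => by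
    simp [sub_eq_zero, Algebra.algebraMap_eq_smul_one]
  have h6 : ∀ l : {l : U ⧸ P // l ≠ 1 ∧ r ∣ finrank F V}, ∃ g, ρ g ^ r = (l.1.out.1 : F) • 1 := fun ⟨l, hl, k, hk⟩ => by
    have h6 := h4 l.out fun h => hl (by rw [← l.out_eq]; exact (QuotientGroup.eq_one_iff _).2 h)
    obtain ⟨x, hx⟩ := exists_end_hasED (V := V) (s := Multiset.replicate k (X ^ r - C (l.out.1 : F), 1))
      (fun a ha => by
        rw [Multiset.eq_of_mem_replicate ha]
        exact ⟨monic_X_pow_sub_C _ hr.ne_zero, h6, le_rfl⟩) (by simp [edDeg, hk, mul_comm])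
    have h7 := (hx.aeval_eq_zero_iff _).2 fun a ha => by rw [Multiset.eq_of_mem_replicate ha, pow_one]
    exact (hex' x _ l.out.2 h6 ((h5 _ _).1 h7)).imp fun g hg => (h5 _ _).1 ((hg.aeval _).eq_zero_iff.2 h7)
  choose g hg using h3
  choose k hk using h6
  have h7 : ∀ {x y : End F V} {a b u : F}, x ^ r = a • 1 → y ^ r = b • 1 → Sim (u • x) y → u ^ r * a = b :=
    fun hx hy h => hs (by
      rw [← hy, ← (h5 _ _).1 ((h.aeval _).eq_zero_iff.1 ((h5 _ _).2 (by rw [_root_.smul_pow, hx, smul_smul])))])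
  have h8 := card_classes_of_reps' (X := Quotient (MulAction.orbitRel (rootsOfUnity r F) (Sym (rootsOfUnity r F) _)) ⊕ _)
    (fun g : G ⧸ Subgroup.center G => g ^ r = 1) (Sum.elim (fun s => g s.out) fun l => k l) ?_ ?_ ?_
  · haveI := Fintype.ofFinite (rootsOfUnity r F)
    have h9 : Nat.card {l : U ⧸ P // l ≠ 1 ∧ r ∣ finrank F V} = (r - 1) * if r ∣ finrank F V then 1 else 0 := by
      have := card_subtype_or_eq_zero (1 : U ⧸ P) (fun _ => True) trivial
      rw [Nat.card_congr (Equiv.subtypeUnivEquiv fun _ => trivial), ← Subgroup.index,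
        IsCyclic.index_powMonoidHom_range, Nat.gcd_eq_right hU] at this
      split_ifs with h
      · simp only [h]; omega
      · simp [h]
    have h10 := card_orbits_sym hr hζ'.card_rootsOfUnity (finrank F V)
    have h11 : 1 < (finrank F V + r - 1).choose (r - 1) := by
      haveI : Nontrivial (rootsOfUnity r F) := Finite.one_lt_card_iff_nontrivial.1 (hζ'.card_rootsOfUnity.symm ▸ hr.one_lt)
      obtain ⟨a, b, h⟩ := exists_pair_ne (rootsOfUnity r F)
      haveI : Nontrivial (Sym (rootsOfUnity r F) (finrank F V)) :=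
        ⟨_, _, (Sym.replicate_right_injective finrank_pos.ne').ne h⟩
      have := hr.pos
      rw [← Nat.choose_symm_of_eq_add (show finrank F V + r - 1 = finrank F V + (r - 1) by omega), add_comm,
        ← hζ'.card_rootsOfUnity, Nat.card_eq_fintype_card, ← Sym.card_sym_eq_choose]
      exact Fintype.one_lt_card
    rw [Nat.card_sum, h9, card_subtype_or_eq_zero (ConjClasses.mk 1) _ ⟨1, rfl, one_pow r⟩] at h8
    rw [Nat.card_congr (Equiv.subtypeEquivRight (q := fun C => C ≠ ConjClasses.mk 1 ∧ ∃ g, ConjClasses.mk g = C ∧ g ^ r = 1)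
      fun C => ⟨by
        rintro ⟨g, rfl, h⟩
        exact ⟨fun h' => hr.one_lt.ne' (by
          rw [← h, isConj_one_left.1 (ConjClasses.mk_eq_mk_iff_isConj.1 h'), orderOf_one]), g, rfl,
          h ▸ pow_orderOf_eq_one g⟩, by
        rintro ⟨h, g, rfl, h'⟩
        exact ⟨g, rfl, orderOf_eq_prime h' fun h'' => h (h'' ▸ rfl)⟩⟩)]
    generalize Nat.card (Quotient _) = o at h8 h10
    generalize Nat.choose _ _ = N at h10 h11
    split_ifs at h8 h10 ⊢ <;> obtain ⟨r, rfl⟩ : ∃ r', r = r' + 1 := ⟨r - 1, by have := hr.pos; omega⟩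
    · obtain ⟨o, rfl⟩ : ∃ o', o = o' + 2 := ⟨o - 2, by rcases o with _ | _ | o <;> omega⟩
      rw [show N - (r + 1) - 1 = o * (r + 1) by simp only [add_mul] at h10; omega, Nat.mul_div_cancel _ hr.pos]
      omega
    · obtain ⟨o, rfl⟩ : ∃ o', o = o' + 1 := ⟨o - 1, by omega⟩
      rw [show N - (r + 1) - 0 = o * (r + 1) by simp only [add_mul] at h10; omega, Nat.mul_div_cancel _ hr.pos]
      omega
  · rintro (s | l)
    · exact (h2 _).2 ⟨1, U.one_mem, by simp [pow_of_dg (hg _)]⟩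
    · exact (h2 _).2 ⟨_, l.1.out.2, hk l⟩
  · intro a ha
    obtain ⟨a, rfl⟩ := QuotientGroup.mk_surjective a
    obtain ⟨u, hu, ha⟩ := (h2 a).1 ha
    by_cases h : (⟨u, hu⟩ : U) ∈ P
    · obtain ⟨v, hv⟩ := h
      obtain rfl : v.1 ^ r = u := congrArg Subtype.val hv
      obtain ⟨s, hs⟩ := exists_dg (x := (v⁻¹.1 : F) • ρ a) hζ' (by simp [_root_.smul_pow, ha])
      obtain ⟨γ, hγ⟩ := Quotient.mk_out (s := MulAction.orbitRel (rootsOfUnity r F) _) s
      refine ⟨.inl ⟦s⟧, (h1 _ _).2 ⟨γ * v⁻¹.1, U.mul_mem (hΓ γ.2) v⁻¹.2, ?_⟩⟩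
      rw [Units.val_mul, mul_smul]
      exact (dg_smul hζ' hs γ).sim (hγ ▸ hg _)
    · obtain ⟨j, -, hj⟩ := hasED_of_irr (monic_X_pow_sub_C _ hr.ne_zero) (h4 _ h) ((h5 _ _).2 ha)
      let l : {l : U ⧸ P // l ≠ 1 ∧ r ∣ finrank F V} :=
        ⟨(⟨u, hu⟩ : U), mt (QuotientGroup.eq_one_iff _).1 h, j, by simp [hj, mul_comm]⟩
      obtain ⟨⟨_, v, rfl⟩, hv⟩ := QuotientGroup.mk_out_eq_mul P ⟨u, hu⟩
      refine ⟨.inr l, (h1 _ _).2 ⟨v, v.2, sim_of_irr (monic_X_pow_sub_C _ hr.ne_zero) (h4 l.1.out ?_) ((h5 _ _).2 ?_)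
        ((h5 _ _).2 (hk l)) rfl⟩⟩
      · exact fun h => l.2.1 (by rw [← l.1.out_eq]; exact (QuotientGroup.eq_one_iff _).2 h)
      · simp [_root_.smul_pow, ha, hv, l, smul_smul, mul_comm]
  · have h8 : ∀ s, ρ (g s) ^ r = (1 : F) • 1 := fun s => by simp [pow_of_dg (hg _)]
    rintro (s | l) (t | l') h <;> obtain ⟨u, hu, h⟩ := (h1 _ _).1 h
    · let γ : rootsOfUnity r F := ⟨u, Units.ext (by simpa using h7 (h8 _) (h8 _) h)⟩
      have := dg_inj (((dg_smul hζ' (hg _) γ).of_sim h.symm).unique (hg _))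
      rw [← s.out_eq, ← t.out_eq]
      have : γ • s.out = t.out := Subtype.ext this
      exact congrArg _ (Quotient.sound (MulAction.orbitRel_apply.2 ⟨γ, this⟩)).symm
    · exact (l'.2.1 (by
        rw [← l'.1.out_eq]
        exact (QuotientGroup.eq_one_iff _).2 ⟨⟨u, hu⟩, Subtype.ext (Units.ext (by simpa using h7 (h8 _) (hk _) h))⟩)).elim
    · exact (l.2.1 (by
        rw [← l.1.out_eq]
        exact (QuotientGroup.eq_one_iff _).2 ⟨⟨u, hu⟩⁻¹, (inv_pow _ r).trans (inv_eq_of_mul_eq_one_right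
          (Subtype.ext (Units.ext (by simpa using h7 (hk _) (h8 _) h))))⟩)).elim
    · refine congrArg _ (Subtype.ext ?_)
      rw [← l.1.out_eq, ← l'.1.out_eq]
      exact QuotientGroup.eq.2 ⟨⟨u, hu⟩, eq_inv_mul_of_mul_eq (Subtype.ext (Units.ext (by
        simpa [mul_comm] using h7 (hk _) (hk _) h)))⟩

theorem card_pgl [Finite F] {n : ℕ} (hn : 1 ≤ n) (hr : r.Prime) (h : r ∣ Nat.card F - 1) :
    Nat.card {C : ConjClasses (GL (Fin n) F ⧸ Subgroup.center (GL (Fin n) F)) //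
      ∃ g, ConjClasses.mk g = C ∧ orderOf g = r} =
      ((n + r - 1).choose (r - 1) - r - (if r ∣ n then 1 else 0)) / r + r * (if r ∣ n then 1 else 0) := by
  haveI : Nonempty (Fin n) := ⟨⟨0, hn⟩⟩
  let ρ : GL (Fin n) F →* End F (Fin n → F) := Matrix.toLinAlgEquiv'.toMonoidHom.comp (Units.coeHom _)
  have h1 : ∀ x : End F (Fin n → F), ∀ u : Fˣ, x ^ r = (u : F) • 1 → ∃ g, ρ g = x := fun x u hx =>
    ⟨Matrix.GeneralLinearGroup.toLin.symm ((isUnit_pow_iff hr.ne_zero).1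
      (hx ▸ by rw [← Algebra.algebraMap_eq_smul_one]; exact u.isUnit.map _)).unit,
      Matrix.toLinAlgEquiv'.apply_symm_apply x⟩
  refine card_proj ρ ⊤ (fun g => ?_) (fun g k => isConj_GL_iff.trans sim_iff_isConj.symm)
    (fun u _ => h1 _ (u ^ r) (by simp [_root_.smul_pow]))
    (fun x s hx => (h1 x 1 (by simp [pow_of_dg hx])).imp fun _ h => by rw [h]; exact .refl _)
    (fun x u _ _ hx => (h1 x u hx).imp fun _ h => by rw [h]; exact .refl _) hr (by simpa [Nat.card_units])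
    (fun b _ => ⟨b, trivial, rfl⟩) (finrank_fin_fun F)
  rw [Matrix.GeneralLinearGroup.center_eq_range_scalar]
  refine exists_congr fun u => (Iff.trans ?_ (and_iff_right trivial).symm)
  rw [← Algebra.algebraMap_eq_smul_one, ← Matrix.toLinAlgEquiv'.commutes, ← Units.val_inj, eq_comm]
  exact Matrix.toLinAlgEquiv'.injective.eq_iff.symm

theorem card_pgu {σ : F →+* F} {q n : ℕ} (h : IsConj σ q) (hn : 2 ≤ n) (hr : r.Prime) (h2 : r ≠ 2) (hq : r ∣ q + 1) :
    Nat.card {C : ConjClasses (GU n F q ⧸ Subgroup.center (GU n F q)) //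
      ∃ g, ConjClasses.mk g = C ∧ orderOf g = r} =
      ((n + r - 1).choose (r - 1) - r - (if r ∣ n then 1 else 0)) / r + r * (if r ∣ n then 1 else 0) := by
  haveI := h.finite
  haveI : Nonempty (Fin n) := ⟨⟨0, by omega⟩⟩
  haveI : NeZero r := ⟨hr.ne_zero⟩
  have hD := stdHerm_nondeg h (Fin n)
  obtain ⟨e, f, hef⟩ := Herm.exists_isHyp hD (by simpa using hn)
  have hU : ∀ u : Fˣ, u ∈ rootsOfUnity (q + 1) F ↔ (u : F) * σ u = 1 := fun u => by
    rw [mem_rootsOfUnity', h.apply, pow_succ']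
  have h1 : ∀ x, SelfDual σ x → ∃ g, Sim (nat _ (guEquiv h n g)) x := fun x hx => by
    obtain ⟨g, hg⟩ := hx.exists_herm_isom hD rfl
    exact ⟨(guEquiv h n).symm g, by simpa [nat_apply] using hg.symm⟩
  have h3 : ∀ {x : End F (Fin n → F)} {u : Fˣ}, x ^ r = (u : F) • 1 → IsUnit x := fun hx =>
    (isUnit_pow_iff hr.ne_zero).1 (hx ▸ by rw [← Algebra.algebraMap_eq_smul_one]; exact (Units.isUnit _).map _)
  refine card_proj ((nat _).comp (guEquiv h n).toMonoidHom) (rootsOfUnity (q + 1) F) (fun g => ?_)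
    (fun g k => (isConj_equiv (guEquiv h n)).symm.trans (herm_isConj_iff hD))
    (fun u hu => ⟨(guEquiv h n).symm (Form.scalar _ u ((hU u).1 hu)), by ext; simp [nat_apply]⟩)
    (fun x s hx => h1 x ?_) (fun x u hu hi hx => h1 x ?_) hr ?_ (fun b hb => ?_) (finrank_fin_fun F)
  · rw [← QuotientGroup.eq_one_iff, ← orderOf_eq_one_iff, ← Nat.dvd_one, orderOf_mk_dvd_iff hD (Herm.rich _ 3) hef
      (G := ⊤) (fun _ _ _ _ => trivial) ((guEquiv h n).trans Subgroup.topEquiv.symm), pow_one]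
    simp only [Algebra.algebraMap_eq_smul_one]
    refine ⟨fun ⟨c, hc⟩ => ?_, fun ⟨u, _, hu⟩ => ⟨u, hu⟩⟩
    have := hef.norm_of_smul (LinearMap.congr_fun hc)
    exact ⟨.mk0 c (left_ne_zero_of_mul_eq_one this), (hU _).2 this, hc⟩
  · rw [selfDual_iff_dd h.σσ (h3 (u := 1) (by simp [pow_of_dg hx])) hx, dg, Multiset.map_map]
    refine Multiset.map_congr rfl fun a _ => Prod.ext ((pd_X_sub_C a.1.ne_zero).trans ?_) rfl
    rw [← eq_inv_of_mul_eq_one_left ((hU _).1 (rootsOfUnity_le_of_dvd hq a.2))]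
  · obtain ⟨B, hB⟩ := exists_perfect (Fin n → F) h.kind.σ_bijective.2
    obtain ⟨y, -, -, hy⟩ := exists_dual_end hB (h3 hx)
    have h4 : ∀ k a b, B ((y ^ k) a) ((x ^ k) b) = B a b := fun k => by
      induction k with
      | zero => simp
      | succ k ih => simp [pow_succ', hy, ih]
    refine (selfDual_iff_sim hB hy).2 (sim_of_irr (monic_X_pow_sub_C _ hr.ne_zero) hi
      (by simp [hx, Algebra.algebraMap_eq_smul_one]) ?_ rfl)
    rw [map_sub, map_pow, aeval_X, aeval_C, sub_eq_zero]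
    refine LinearMap.ext fun a => hB.1 (LinearMap.ext fun b => mul_left_cancel₀ u.ne_zero ?_)
    simpa [hx, ← mul_assoc, (hU u).1 hu] using h4 r a b
  · rwa [Nat.card_congr (β := {x : F // x * σ x = 1}) ⟨fun u => ⟨u.1, (hU _).1 u.2⟩,
      fun x => ⟨.mk0 x.1 (left_ne_zero_of_mul_eq_one x.2), (hU _).2 x.2⟩, fun _ => by simp, fun _ => rfl⟩, h.card_norm_one]
  · refine ⟨b, ?_, rfl⟩
    have h4 : (b ^ (q + 1)) ^ (q - 1) = 1 := by rw [← pow_mul, ← h.card_sub_one, ← Nat.card_units, pow_card_eq_one']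
    have h5 : (b ^ (q + 1)) ^ r = 1 := by rw [← pow_mul, mul_comm, pow_mul]; exact hb
    have h6 := h.two_le
    have := pow_gcd_eq_one.2 ⟨h5, h4⟩
    rwa [(hr.coprime_iff_not_dvd.2 fun h7 => h2 ((Nat.prime_dvd_prime_iff_eq hr Nat.prime_two).1
      (by convert Nat.dvd_sub hq h7; omega))).gcd_eq_one, pow_one] at this

end Cfsg.Lib.Conj
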