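import Cfsg.Agent.Lib.Conj.SpecQ
import Cfsg.Agent.Lib.Conj.Proj
import Cfsg.Agent.Lib.Linear.Simple

/-! Groups covered by two conjugacy classes of proper subgroups. -/

set_option autoImplicit false

namespace Cfsg.Lib.Conj

open Cfsg.Lib.Forms Cfsg.Lib.Forms.Form Cfsg.Lib.Known Cfsg.Lib.Linear Module Polynomial Matrix

/-- The group is the union of the conjugates of two proper subgroups. -/
def Cov (G : Type*) [Group G] : Prop :=
  ∃ H K : Subgroup G, H ≠ ⊤ ∧ K ≠ ⊤ ∧ ∀ g : G, ∃ x : G, x * g * x⁻¹ ∈ H ∨ x * g * x⁻¹ ∈ K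

section
variable {G N A : Type*} [Group G] [Group N] [Group A]

theorem exists_conj_mem (ι : N →* G) (φ : G →* A) (hr : φ.ker ≤ ι.range) {H : Subgroup G}
    (hH : ∀ c, ∃ h ∈ H, φ h = φ c) {n : N} {k : G} (h : _root_.IsConj (ι n) k) (hk : k ∈ H) :
    ∃ x, x * n * x⁻¹ ∈ H.comap ι := by
  obtain ⟨c, rfl⟩ := isConj_iff.1 h
  obtain ⟨k, h3, h4⟩ := hH c
  obtain ⟨x, hx⟩ := hr (x := k⁻¹ * c) (by simp [h4])
  exact ⟨x, by simpa [hx, mul_assoc] using H.mul_mem (H.mul_mem (H.inv_mem h3) hk) h3⟩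

theorem cov_of {H K : Subgroup G} (h1 : ∃ n, n ∉ H) (h2 : ∃ n, n ∉ K)
    (h : ∀ g, (∃ x, x * g * x⁻¹ ∈ H) ∨ ∃ x, x * g * x⁻¹ ∈ K) : Cov G :=
  ⟨H, K, fun h => h1.elim fun n hn => hn (h.ge (Subgroup.mem_top n)),
    fun h => h2.elim fun n hn => hn (h.ge (Subgroup.mem_top n)), fun g => exists_or.2 (h g)⟩

theorem cov_of_fam {α β : Type*} (H : α → Subgroup G) (K : β → Subgroup G) (p : α → Prop) (q : β → Prop)
    (h1 : ∀ a, p a → ∃ n, n ∉ H a) (h2 : ∀ b, q b → ∃ n, n ∉ K b)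
    (h3 : ∀ a a', p a → p a' → ∃ x, ∀ g ∈ H a, x * g * x⁻¹ ∈ H a')
    (h4 : ∀ b b', q b → q b' → ∃ x, ∀ g ∈ K b, x * g * x⁻¹ ∈ K b')
    (h : ∀ g, (∃ a, p a ∧ g ∈ H a) ∨ ∃ b, q b ∧ g ∈ K b) : Cov G := by
  have h5 : ∀ {a g}, p a → (∃ a, p a ∧ g ∈ H a) → ∃ x, x * g * x⁻¹ ∈ H a := fun ha ⟨_, h, h'⟩ =>
    (h3 _ _ h ha).imp fun _ h => h _ h'
  have h6 : ∀ {b g}, q b → (∃ b, q b ∧ g ∈ K b) → ∃ x, x * g * x⁻¹ ∈ K b := fun hb ⟨_, h, h'⟩ =>
    (h4 _ _ h hb).imp fun _ h => h _ h'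
  by_cases ha : ∃ a, p a <;> by_cases hb : ∃ b, q b
  · exact ha.elim fun a ha => hb.elim fun b hb => cov_of (h1 a ha) (h2 b hb) fun g => (h g).imp (h5 ha) (h6 hb)
  · exact ha.elim fun a ha => cov_of (h1 a ha) (h1 a ha) fun g => (h g).imp (h5 ha) fun ⟨_, h, _⟩ => (hb ⟨_, h⟩).elim
  · exact hb.elim fun b hb => cov_of (h2 b hb) (h2 b hb) fun g => (h g).imp (fun ⟨_, h, _⟩ => (ha ⟨_, h⟩).elim) (h6 hb)
  · exact (h 1).elim (fun ⟨_, h, _⟩ => (ha ⟨_, h⟩).elim) fun ⟨_, h, _⟩ => (hb ⟨_, h⟩).elim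

theorem cov_of_fam' {α : Type*} (H : α → Subgroup G) (p t : α → Prop) (h1 : ∀ a, p a → ∃ n, n ∉ H a)
    (h3 : ∀ a a', p a → p a' → (t a ↔ t a') → ∃ x, ∀ g ∈ H a, x * g * x⁻¹ ∈ H a') (h : ∀ g, ∃ a, p a ∧ g ∈ H a) : Cov G :=
  cov_of_fam H H (fun a => p a ∧ t a) (fun a => p a ∧ ¬ t a) (fun a h => h1 a h.1) (fun a h => h1 a h.1)
    (fun a a' h h' => h3 a a' h.1 h'.1 (iff_of_true h.2 h'.2)) (fun a a' h h' => h3 a a' h.1 h'.1 (iff_of_false h.2 h'.2))
    fun g => (h g).elim fun a ha => (em (t a)).imp (fun h => ⟨a, ⟨ha.1, h⟩, ha.2⟩) fun h => ⟨a, ⟨ha.1, h⟩, ha.2⟩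

/-- Conjugating inside the kernel. -/
theorem exists_ker_conj (φ : G →* A) {H H' : Subgroup G} (hH : ∀ c, ∃ h ∈ H', φ h = φ c)
    (h : ∃ x, ∀ g ∈ H, x * g * x⁻¹ ∈ H') :
    ∃ x : φ.ker, ∀ g ∈ H.subgroupOf φ.ker, x * g * x⁻¹ ∈ H'.subgroupOf φ.ker := by
  obtain ⟨x, hx⟩ := h
  obtain ⟨k, h3, h4⟩ := hH x
  exact ⟨⟨k⁻¹ * x, by simp [h4]⟩, fun g hg => by
    simpa [Subgroup.mem_subgroupOf, mul_assoc] using H'.mul_mem (H'.mul_mem (H'.inv_mem h3) (hx _ hg)) h3⟩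

open scoped commutatorElement in
theorem Cov.quot (h : Cov N) (e : G ≃* N) (hp : commutator N = ⊤) : Cov (G ⧸ Subgroup.center G) := by
  obtain ⟨H, K, h1, h2, h3⟩ := h
  let π : N →* G ⧸ Subgroup.center G := (QuotientGroup.mk' _).comp e.symm.toMonoidHom
  have key : ∀ H : Subgroup N, H ≠ ⊤ → H.map π ≠ ⊤ := fun H hH h => hH (by
    have h4 : ∀ n, ∃ k ∈ H, ∃ z ∈ Subgroup.center N, n = k * z := fun n => by
      obtain ⟨k, h5, h6⟩ := h.ge (Subgroup.mem_top (π n))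
      refine ⟨k, h5, k⁻¹ * n, Subgroup.mem_center_iff.2 fun y => e.symm.injective ?_, by simp⟩
      simpa using Subgroup.mem_center_iff.1 (QuotientGroup.eq.1 h6) (e.symm y)
    rw [eq_top_iff, ← hp, commutator_def, Subgroup.commutator_le]
    intro a _ b _
    obtain ⟨a, ha, z, hz, rfl⟩ := h4 a
    obtain ⟨b, hb, w, hw, rfl⟩ := h4 b
    rw [Subgroup.mem_center_iff] at hz hw
    have : ⁅a * z, b * w⁆ = ⁅a, b⁆ := by
      rw [commutatorElement_def, commutatorElement_def, mul_assoc a z, ← hz, _root_.mul_inv_rev, mul_assoc a,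
        mul_assoc _ z, mul_inv_cancel_left, _root_.mul_inv_rev, mul_assoc b, ← hw, ← mul_assoc b, ← mul_assoc a,
        mul_assoc _ w, mul_inv_cancel_left, ← mul_assoc]
    exact this ▸ H.mul_mem (H.mul_mem (H.mul_mem ha hb) (H.inv_mem ha)) (H.inv_mem hb))
  refine ⟨H.map π, K.map π, key H h1, key K h2, fun g => ?_⟩
  obtain ⟨g, rfl⟩ : ∃ n, π n = g := QuotientGroup.induction_on g fun g => ⟨e g, by simp [π]⟩
  obtain ⟨x, hx⟩ := h3 g
  exact ⟨π x, hx.imp (fun h => ⟨_, h, by simp⟩) fun h => ⟨_, h, by simp⟩⟩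

end

variable {F : Type*} [Field F] {V V' : Type*} [AddCommGroup V] [Module F V] [AddCommGroup V'] [Module F V']
  {x : End F V} {y : End F V'} {m : F[X]}

variable [Finite F]

theorem aeval_pow_card_pow {A : Type*} [CommRing A] [Algebra F A] (a : A) (f : F[X]) (k : ℕ) :
    aeval (a ^ Nat.card F ^ k) f = aeval a f ^ Nat.card F ^ k := by
  haveI := Fintype.ofFinite F
  induction k with
  | zero => simp
  | succ k ih => rw [pow_succ, pow_mul, pow_mul, ← ih, Nat.card_eq_fintype_card, ← map_pow,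
      ← FiniteField.expand_card, expand_aeval]

theorem exists_root_pow (hi : Irreducible m) {f : F[X]} (hf : Irreducible f) (hd : m.natDegree ∣ f.natDegree)
    (e : ℕ) : ∃ a : AdjoinRoot (f ^ e), aeval a m = 0 := by
  haveI := Fact.mk hf
  haveI := finiteDimensional_adjoinRoot hf.ne_zero
  haveI : Finite (AdjoinRoot f) := Module.finite_of_finite F
  obtain ⟨z, hz⟩ := exists_root_of_irreducible (K := AdjoinRoot f) hi (by rwa [finrank_adjoinRoot])
  obtain ⟨p, rfl⟩ := AdjoinRoot.mk_surjective z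
  have h : ∀ g : F[X], aeval (AdjoinRoot.mk g p) m = AdjoinRoot.mk g (m.comp p) := fun g => by
    rw [← AdjoinRoot.aeval_eq, ← AdjoinRoot.aeval_eq, aeval_comp]
  rw [h, AdjoinRoot.mk_eq_zero] at hz
  refine ⟨AdjoinRoot.mk _ p ^ Nat.card F ^ e, ?_⟩
  rw [aeval_pow_card_pow, h, ← map_pow, AdjoinRoot.mk_eq_zero]
  exact pow_dvd_pow_of_dvd_of_le hz (Nat.lt_pow_self Finite.one_lt_card).le

theorem exists_comm_root (hi : Irreducible m) {s} (h : HasED x s) (hd : ∀ a ∈ s, m.natDegree ∣ a.1.natDegree) :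
    ∃ c : End F V, c * x = x * c ∧ aeval c m = 0 := by
  obtain ⟨h1, k, d, rfl, hs⟩ := h
  obtain ⟨e, he⟩ := hs.symm.eq_conj
  choose a ha using fun i => exists_root_pow hi (h1 _ (Multiset.mem_map_of_mem d (Finset.mem_univ i))).2.1
    (hd _ (Multiset.mem_map_of_mem d (Finset.mem_univ i))) (d i).2
  let c := Algebra.lmul F (∀ j, AdjoinRoot ((d j).1 ^ (d j).2)) a
  refine ⟨e.conj c, ?_, ((sim_conj e c).aeval m).eq_zero_iff.1 ?_⟩
  · have : c * mdl (fun j => (d j).1 ^ (d j).2) = mdl (fun j => (d j).1 ^ (d j).2) * c := by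
      refine LinearMap.ext fun v => funext fun j => ?_
      change a j * (AdjoinRoot.root _ * v j) = AdjoinRoot.root _ * (a j * v j)
      ring
    rw [he]
    exact (map_mul e.conjRingEquiv _ _).symm.trans
      ((congrArg e.conjRingEquiv this).trans (map_mul e.conjRingEquiv _ _))
  · rw [aeval_algHom_apply, show aeval a m = 0 from funext fun j => (aeval_algHom_apply
      (Pi.evalAlgHom F _ j) a m).symm.trans (ha j), map_zero]

variable (F) in
theorem exists_irr_deg {d : ℕ} (hd : 1 ≤ d) : ∃ m : F[X], m.Monic ∧ Irreducible m ∧ m.natDegree = d := by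
  haveI : NeZero d := ⟨by omega⟩
  let b := Field.powerBasisOfFiniteOfSeparable F (FExt F d)
  exact ⟨_, minpoly.monic b.isIntegral_gen, minpoly.irreducible b.isIntegral_gen,
    b.natDegree_minpoly.trans (b.finrank.symm.trans (finrank_FExt F d))⟩

theorem cov_sl {n d : ℕ} (h2 : 2 ≤ d) (hd : d ∣ n + 2) (H : ∀ k, 2 ≤ k → k ≤ n + 2 → n + 2 ≠ k + 1 → d ∣ k)
    (hn : n ≤ 2) : Cov (SpecialLinearGroup (Fin (n + 2)) F) := by
  obtain ⟨m, hm, hi, rfl⟩ := exists_irr_deg F (by omega : 1 ≤ d)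
  have hX : m ≠ X := by rintro rfl; simp at h2
  obtain ⟨k, hk⟩ := hd
  obtain ⟨s, hs⟩ := exists_GL_ed (n := Fin (n + 2)) (s := Multiset.replicate k (m, 1))
    (fun a ha => by rw [Multiset.eq_of_mem_replicate ha]; exact ⟨hm, hi, le_rfl⟩) (by simp [edDeg, hk, mul_comm])
    fun a ha => by rwa [Multiset.eq_of_mem_replicate ha]
  have h0 : ∀ a ∈ ed s.1, a = (m, 1) := fun a ha => Multiset.eq_of_mem_replicate (hs ▸ ha)
  have h3 : aeval s.1 m = 0 := (aeval_eq_zero_iff_ed _ _).2 fun a ha => by simp [h0 a ha]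
  let p := Projectivization.mk F (Pi.single 0 1 : Fin (n + 2) → F) (by simp)
  refine cov_of (H := MulAction.stabilizer _ p)
    (K := (Subgroup.centralizer {s}).comap SpecialLinearGroup.toGL) ?_ ?_ fun g => ?_
  · obtain ⟨g, hg⟩ := MulAction.exists_smul_eq (SpecialLinearGroup (Fin (n + 2)) F) p
      (Projectivization.mk F (Pi.single 1 1) (by simp))
    refine ⟨g, fun h => ?_⟩
    obtain ⟨c, hc⟩ := (Projectivization.mk_eq_mk_iff' ..).1 (hg.symm.trans h)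
    simpa using congrFun hc 1
  · by_contra! h
    obtain ⟨c, hc⟩ := mem_range_scalar_of_commute_single (M := s.1) fun i j hij => by
      have := congrArg Units.val (Subgroup.mem_centralizer_singleton_iff.1 (h (.transvection hij 1)))
      simpa [SpecialLinearGroup.transvection_coe, mul_add, add_mul, commute_iff_eq] using this
    rw [← hc, show Matrix.scalar _ c = algebraMap F _ c from rfl, aeval_algebraMap_apply, map_eq_zero] at h3
    have := natDegree_eq_of_degree_eq_some (n := 1) (degree_eq_one_of_irreducible_of_root hi (by simpa using h3))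
    omega
  by_cases h4 : ∃ a ∈ ed g.1, a.1.natDegree = 1
  · obtain ⟨a, ha, h4⟩ := h4
    obtain ⟨c, hc⟩ : ∃ c, a.1 = X - C c :=
      ⟨-a.1.coeff 0, by rw [C_neg, sub_neg_eq_add]; exact (isED_ed _ a ha).1.eq_X_add_C h4⟩
    have h5 := mt (isUnit_aeval_iff_ed g.1 (X - C c)).1 fun h => h a ha hc.dvd
    rw [isUnit_iff_isUnit_det, isUnit_iff_ne_zero, not_not, ← exists_mulVec_eq_zero_iff] at h5
    obtain ⟨v, hv, h5⟩ := h5
    obtain ⟨x, hx⟩ := MulAction.exists_smul_eq (SpecialLinearGroup (Fin (n + 2)) F) (Projectivization.mk F v hv) p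
    refine .inl ⟨x, ?_⟩
    rw [MulAction.mem_stabilizer_iff, ← hx, mul_smul, inv_smul_smul, mul_smul, Projectivization.smul_mk g]
    congr 1
    refine (Projectivization.mk_eq_mk_iff' ..).2 ⟨c, ?_⟩
    rw [map_sub, aeval_X, aeval_C, sub_mulVec, sub_eq_zero, algebraMap_eq_diagonal] at h5
    exact (_root_.funext fun i => by simp [mulVec_diagonal]).trans h5.symm
  push Not at h4
  obtain ⟨c, h5, h6⟩ := exists_comm_root hi (hasED_ed g.1) fun a ha => by
    have h5 := edDeg_ed g.1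
    have h6 : ∀ b ∈ ed g.1, 2 ≤ b.1.natDegree ∧ b.1.natDegree ≤ b.2 * b.1.natDegree := fun b hb =>
      ⟨by have := (isED_ed _ b hb).2.1.natDegree_pos; have := h4 b hb; omega,
        Nat.le_mul_of_pos_left _ (isED_ed _ b hb).2.2⟩
    obtain ⟨t, ht⟩ := Multiset.exists_cons_of_mem ha
    rw [ht, edDeg, Multiset.map_cons, Multiset.sum_cons, Fintype.card_fin] at h5
    have h7 := h6 a ha
    refine H _ h7.1 (by omega) fun h8 => ?_
    rcases t.empty_or_exists_mem with rfl | ⟨b, hb⟩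
    · have : a.1.natDegree ∣ a.1.natDegree + 1 := by rw [← h8, ← h5]; simp
      exact h4 a ha (by simpa using this)
    · have := Multiset.single_le_sum (fun _ _ => Nat.zero_le _) _
        (Multiset.mem_map_of_mem (fun x => x.2 * x.1.natDegree) hb)
      have := h6 b (by simp [ht, hb])
      omega
  obtain ⟨c, rfl⟩ := toLin'.surjective c
  obtain ⟨e, he⟩ := sim_toLin'_iff.1 (sim_of_irr hm hi h6 (by rw [aeval_toLin', h3, map_zero]) rfl)
  refine .inr (exists_conj_mem _ GeneralLinearGroup.det (fun g hg => ⟨⟨g.1, congrArg Units.val hg⟩, Units.ext rfl⟩)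
    (fun c => ?_) (isConj_iff.2 ⟨e, rfl⟩) (Subgroup.mem_centralizer_singleton_iff.2 ?_))
  · obtain ⟨z, h7, h8⟩ := IsSS.detSurj (A := s.1) (fun a ha => by rw [h0 a ha]) _ c.det_ne_zero
    exact ⟨z, Subgroup.mem_centralizer_singleton_iff.2 (Units.ext h7), Units.ext h8⟩
  · have h7 : e⁻¹.1 * s.1 * e.1 = c := by rw [mul_assoc, ← he, Units.inv_mul_cancel_left]
    rw [End.mul_eq_comp, End.mul_eq_comp, ← toLin'_mul, ← toLin'_mul, toLin'.injective.eq_iff, ← h7] at h5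
    have h8 : e⁻¹ * s * e * SpecialLinearGroup.toGL g = SpecialLinearGroup.toGL g * (e⁻¹ * s * e) := Units.ext h5
    calc _ = e * (SpecialLinearGroup.toGL g * (e⁻¹ * s * e)) * e⁻¹ := by group
      _ = _ := by rw [← h8]; group

theorem cov_psl {n d : ℕ} (h2 : 2 ≤ d) (hd : d ∣ n + 2) (H : ∀ k, 2 ≤ k → k ≤ n + 2 → n + 2 ≠ k + 1 → d ∣ k)
    (hn : n ≤ 2) (h : n = 0 → 4 ≤ Nat.card F) : Cov (ProjectiveSpecialLinearGroup (Fin (n + 2)) F) :=
  (cov_sl h2 hd H hn).quot (.refl _) (sl_commutator_eq_top ((em (n = 0)).symm.imp (by simp; omega)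
    fun h' => Symp.exists_sq_ne_one (.inl (h h'))))

end Cfsg.Lib.Conj
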