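import Cfsg.Agent.Lib.Conj.Cov
import Cfsg.Agent.S2585

/-! Symplectic and unitary groups covered by two classes of proper subgroups. -/

set_option autoImplicit false

namespace Cfsg.Lib.Conj

open Cfsg.Lib.Forms Cfsg.Lib.Forms.Form Cfsg.Lib.Known Cfsg.Lib.Linear Module Polynomial

variable {F : Type*} [Field F] {σ : F →+* F} {K : Kind σ} {V : Type*} [AddCommGroup V] [Module F V]
  [FiniteDimensional F V] {D : Form K V} {x : End F V}

theorem cov_sp_even [Fintype F] [CharP F 2] {m : ℕ} (hm : 2 ≤ m) : Cov (fSymp F m).isom := by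
  have h2 : (2 : F) = 0 := two_eq_zero_of_charP
  have hn : finrank F (Fin m ⊕ Fin m → F) = 2 * m := by simp [two_mul]
  have hN : ∀ Q : Form (quadKind F) (Fin m ⊕ Fin m → F), (∀ u v, Q.B u v = (fSymp F m).B u v) → Q.Nondeg :=
    fun Q h u hu => fSymp_nondeg m u fun v => (h u v).symm.trans (hu v)
  refine cov_of_fam' (fun Q : Form (quadKind F) _ => Q.isom.subgroupOf (fSymp F m).isom)
    (fun Q => ∀ u v, Q.B u v = (fSymp F m).B u v) (·.HasTS m) (fun Q h => ?_) (fun Q Q' h h' ht => ?_) fun g => ?_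
  · obtain ⟨e, h0, he⟩ := hasTS_one_iff.1 (Quad.hasTS_pred (hN Q h) (m := 1) (by omega))
    obtain ⟨f, hf⟩ := (hN Q h).exists_isHyp he h0
    refine ⟨Symp.tv _ e 1, fun h1 => ?_⟩
    simpa [Symp.tv_apply, ← h, hf.B_ef, quad_Q_add, he, hf.B_fe] using h1.Q_map f
  · obtain ⟨e, he⟩ := Quad.iso_of_type (hN Q h) (hN Q' h') hn hn ht
    exact ⟨⟨e, Symp.mem_isom.2 fun u v => by rw [← h', he.B_map, h]⟩, fun g hg => he.comp (hg.comp he.symm)⟩
  · obtain ⟨Q, h1, h3⟩ := Agent.S2585.result ((spEquiv F m).symm g)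
    exact ⟨ofQuad Q, fun u v => by rw [ofQuad_B, h1, fSymp_B],
      mem_isom_quad.2 fun v => by simpa [mulVec_spEquiv_symm] using h3 v⟩

theorem exists_rk1_not_stab (hD : D.Nondeg) {e f : V} (hef : D.IsHyp e f) {c : F} (hc : c ≠ 0)
    (hr : ∀ e, D.Q e = 0 → D.IsRk1 e c) {W : Submodule F V} (h0 : W ≠ ⊥) (h1 : W ≠ ⊤) :
    ∃ g : D.det.ker, g ∉ (D.stab W).subgroupOf D.det.ker := by
  have h2 : ∀ W : Submodule F V, W ≠ ⊤ → ∃ a, D.Q a = 0 ∧ a ∉ W := fun W h => by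
    by_contra! h'
    exact h (eq_top_iff.2 fun v _ => hef.induction_singular h' (fun _ _ => W.add_mem) v)
  obtain ⟨a, h3, h4, h5⟩ : ∃ a, D.Q a = 0 ∧ a ∉ W ∧ a ∉ D.perp W := by
    obtain ⟨a, ha, ha'⟩ := h2 W h1
    obtain ⟨b, hb, hb'⟩ := h2 (D.perp W) fun h => h0 (by rw [← hD.perp_perp W, h, hD.perp_top])
    by_contra! h
    have h3 := h a ha ha'
    have h4 : b ∈ W := by_contra fun h4 => hb' (h b hb h4)
    exact hb' ((Submodule.add_mem_iff_left _ h3).1 (h (b + a) (by rw [D.Q_add_of_B (h3 b h4), ha, hb, add_zero])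
      fun h => ha' ((W.add_mem_iff_right h4).1 h)))
  refine ⟨⟨D.rk1 a c (hr a h3), Units.ext (by rw [det_rk1, D.B_self_of_Q h3]; simp)⟩, fun h => h5 ?_⟩
  refine D.mem_perp'.2 fun w hw => by_contra fun h6 => h4 ?_
  exact (W.smul_mem_iff (mul_ne_zero hc h6)).1 ((W.add_mem_iff_right hw).1 ((h w).1 hw))

omit [FiniteDimensional F V] in
theorem stab_ker_conj {W W' : Submodule F V} (h : ∃ g : D.isom, W.map (g.1 : V →ₗ[F] V) = W')
    (h' : ∀ c, ∃ k ∈ D.stab W', D.det k = D.det c) :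
    ∃ x : D.det.ker, ∀ g ∈ (D.stab W).subgroupOf D.det.ker, x * g * x⁻¹ ∈ (D.stab W').subgroupOf D.det.ker :=
  exists_ker_conj _ h' (h.elim fun g hg => ⟨g, fun k hk => by rw [← hg]; exact (mem_stab_conj g k).2 hk⟩)

omit [FiniteDimensional F V] in
theorem eig_of_finrank_one {W : Submodule F V} (h : ∀ v ∈ W, x v ∈ W) (h1 : finrank F W = 1) :
    ∃ v ∈ W, v ≠ 0 ∧ ∃ c : F, x v = c • v := by
  obtain ⟨v, hv, h2⟩ := finrank_eq_one_iff'.1 h1
  obtain ⟨c, hc⟩ := h2 ⟨_, h v v.2⟩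
  exact ⟨v, v.2, by simpa using hv, c, (congrArg Subtype.val hc).symm⟩

section
variable {q : ℕ} {h : IsConj σ q} {D : Form h.kind V}

theorem herm_stab_det (hD : D.Nondeg) {W : Submodule F V} (h0 : W ≠ ⊥) (hW : Disjoint W (D.perp W)) (c : D.isom) :
    ∃ k ∈ D.stab W, D.det k = D.det c := by
  obtain ⟨k, hk⟩ := (Herm.mem_range_det (D.nondeg_restrict_iff.2 hW) (Submodule.one_le_finrank_iff.2 h0)).2
    (hD.det_mul_σ_det c)
  exact ⟨extend (hD.isOrthCompl hW) k, glue_mem_stab (hD.isOrthCompl hW) (k, 1), by rw [det_extend, hk]⟩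

theorem herm_eig [Nontrivial V] (hD : D.Nondeg) (hx : ∀ u v, D.B (x u) (x v) = D.B u v) (hi : Irr x)
    (hn : finrank F V ∣ 4) : ∃ v, v ≠ 0 ∧ ∃ c : F, x v = c • v := by
  haveI := h.finite
  obtain ⟨s, hs⟩ := exists_hasED x
  obtain ⟨a, ha⟩ := Multiset.exists_mem_of_ne_zero (s := s) (by
    rintro rfl; exact finrank_pos.ne' hs.finrank)
  obtain ⟨h1, h2, -⟩ := hs.1 a ha
  have hu := isUnit_of_isIsometry hD hx
  have h3 : aeval x a.1 = 0 := LinearMap.ker_eq_top.1 ((hi _ fun v hv => by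
    rw [LinearMap.mem_ker, ← End.mul_apply, ← (commute_aeval (.refl x) _).eq, End.mul_apply, hv, map_zero]).resolve_left
      fun h => (hs.isUnit_aeval_iff _).1 (isUnit_of_inj fun v hv => h.le hv) a ha dvd_rfl)
  obtain ⟨k, h4, h5⟩ := hasED_of_irr h1 h2 h3
  have h6 := charpoly_of_dual h.σσ (bij hD) hu hx
  rw [h4.charpoly, show edProd (Multiset.replicate k (a.1, 1)) = a.1 ^ k by simp [edProd], map_pow] at h6
  have h7 : pd σ a.1 = a.1 := eq_of_monic_of_associated (pd_monic h1.ne_zero) h1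
    ((irreducible_pd h.σσ h2).associated_of_dvd h2 ((irreducible_pd h.σσ h2).prime.dvd_of_dvd_pow
      ((dvd_pow_self _ (by rintro rfl; exact finrank_pos.ne' (h5.trans (zero_mul _)))).trans h6.symm.dvd)))
  obtain ⟨z, hz⟩ := exists_root h1 h2 (hs.isUnit_iff.1 hu a ha)
  have h8 := (odd_of_pd_eq h (by rwa [hz])).1
  rw [hz] at h8
  have h9 : a.1.natDegree = 1 :=
    (h8.coprime_two_right.pow_right 2).eq_one_of_dvd ((Dvd.intro_left _ h5.symm).trans hn)
  obtain ⟨v, hv⟩ := exists_ne (0 : V)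
  rw [h1.eq_X_add_C h9] at h3
  exact ⟨v, hv, -a.1.coeff 0, by simpa [add_eq_zero_iff_eq_neg] using LinearMap.congr_fun h3 v⟩

theorem herm_two (hD : D.Nondeg) (hx : ∀ u v, D.B (x u) (x v) = D.B u v) (hn : finrank F V = 2) (l : F) :
    ∃ v, v ≠ 0 ∧ ∃ c : F, x v = c • v ∧ (D.Q v = 0 ∨ c ≠ l) := by
  haveI : Nontrivial V := nontrivial_of_finrank_eq_succ hn
  have h1 : ∀ W : Submodule F V, W ≠ ⊥ → W ≠ ⊤ → finrank F W = 1 := fun W h h' => by
    have := Submodule.one_le_finrank_iff.2 h; have := Submodule.finrank_lt h'; omega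
  obtain ⟨v, hv, c, hc⟩ : ∃ v, v ≠ 0 ∧ ∃ c : F, x v = c • v := by
    by_cases hi : Irr x
    · exact herm_eig hD hx hi (hn ▸ by decide)
    · obtain ⟨W, h2⟩ := not_forall.1 hi
      push Not at h2
      exact (eig_of_finrank_one h2.1 (h1 W h2.2.1 h2.2.2)).imp fun _ h => h.2
  by_contra! H
  by_cases h2 : eig x l = ⊤
  · obtain ⟨e, f, he⟩ := Herm.exists_isHyp hD hn.ge
    exact (H e he.e_ne_zero l (mem_eig.1 (h2.ge trivial))).1 he.Q_e
  have h3 := h1 _ (fun h => hv (h.le (mem_eig.2 ((H v hv c hc).2 ▸ hc)))) h2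
  have h4 := hD.finrank_perp (eig x l)
  obtain ⟨w, h5, h6, d, hd⟩ := eig_of_finrank_one (perp_inv (isUnit_of_isIsometry hD hx) hx (eig_inv x l)) (by omega)
  exact (H w h6 d hd).1 ((herm_Q D w).trans (h5 w (mem_eig.2 ((H w h6 d hd).2 ▸ hd))))

theorem herm_four (hD : D.Nondeg) (hx : ∀ u v, D.B (x u) (x v) = D.B u v) (hn : finrank F V = 4) :
    (∃ v, D.Q v ≠ 0 ∧ ∃ c : F, x v = c • v) ∨
      ∃ W : Submodule F V, (finrank F W = 2 ∧ D.IsTS W) ∧ ∀ v ∈ W, x v ∈ W := by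
  haveI : Nontrivial V := nontrivial_of_finrank_eq_succ hn
  have hu := isUnit_of_isIsometry hD hx
  by_contra! H
  obtain ⟨e, he, l, hl⟩ : ∃ v, v ≠ 0 ∧ ∃ c : F, x v = c • v := by
    obtain ⟨W, h0, h1, h2⟩ := exists_min_inv x
    have h3 := hD.finrank_perp W
    have h4 := Submodule.one_le_finrank_iff.2 h0
    have h5 := perp_inv hu hx h1
    by_cases h6 : finrank F W = 1
    · exact (eig_of_finrank_one h1 h6).imp fun _ h => h.2
    by_cases h7 : finrank F W = 3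
    · exact (eig_of_finrank_one h5 (by omega)).imp fun _ h => h.2
    rcases (irr_restrict_iff h1).1 (irr_of_min h1 h2) _ inf_le_left fun v hv => ⟨h1 v hv.1, h5 v hv.2⟩ with h8 | h8
    · haveI := Submodule.nontrivial_iff_ne_bot.2 h0
      obtain ⟨v, hv, c, hc⟩ := herm_eig (D.nondeg_restrict_iff.2 (disjoint_iff.2 h8)) (fun u v => hx u v)
        (irr_of_min h1 h2) ((show finrank F W = 2 ∨ finrank F W = 4 by omega).elim (fun h => h ▸ by decide) Eq.dvd)
      exact ⟨v, by simpa using hv, c, congrArg Subtype.val hc⟩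
    · have h9 : D.IsTS W := Herm.isTS fun u hu v hv => (h8.ge hv).2 u hu
      have := h9.two_mul_finrank_le hD
      obtain ⟨v, hv, hv'⟩ := H.2 W ⟨by omega, h9⟩
      exact (hv' (h1 v hv)).elim
  have hQ : D.Q e = 0 := by_contra fun h => H.1 e h l hl
  obtain ⟨f, hf⟩ := hD.exists_isHyp hQ he
  have h1 : ∀ w : D.hp e f, D.B e (x w) = 0 := fun w => by
    have := hx e w
    rw [hl, D.B_smul_left, (D.mem_hp.1 w.2).1, mul_eq_zero, map_eq_zero] at this
    exact this.resolve_left (by rintro rfl; exact he (inj_of_isUnit hu (by simp [hl])))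
  let y : End F (D.hp e f) := LinearMap.codRestrict _ ((x - (D.B f ∘ₗ x).smulRight e) ∘ₗ (D.hp e f).subtype)
    fun w => by simpa [h1] using hf.proj_mem (x w)
  have h2 : ∀ w : D.hp e f, x w = y w + D.B f (x w) • e := fun w => by simp [y]
  obtain ⟨u, h3, c, h4, h5⟩ := herm_two (x := y) (hf.nondeg_hp hD) (fun u v => by
    rw [restrict_B, restrict_B, ← hx u, h2 u, h2 v]
    simp [(D.mem_hp.1 (y v).2).1, D.eq_zero_symm (D.mem_hp.1 (y u).2).1, hf.B_ee]) (by have := hf.finrank_hp; omega) l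
  have h6 := h2 u
  have h7 := (D.mem_hp.1 u.2).1
  rw [h4, Submodule.coe_smul] at h6
  generalize D.B f (x u) = t at h6
  by_cases h8 : D.Q u = 0
  · obtain ⟨v, hv, hv'⟩ := H.2 (Submodule.span F {e, u.1}) ⟨by
      rw [← show Set.range ![e, u.1] = {e, u.1} by simp [Set.pair_comm],
        finrank_span_eq_card (hf.linearIndependent_of_mem_hp u.2 (by simpa using h3)), Fintype.card_fin],
      isTS_span (by simp [hQ, h8])
        (by simp [hf.B_ee, h7, D.eq_zero_symm h7, D.B_self_of_Q h8])⟩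
    obtain ⟨a, b, rfl⟩ := Submodule.mem_span_pair.1 hv
    exact hv' (Submodule.mem_span_pair.2 ⟨a * l + b * t, b * c, by rw [map_add, map_smul, map_smul, hl, h6]; module⟩)
  · have h9 := sub_ne_zero.2 (h5.resolve_left h8)
    refine H.1 (u + (t / (c - l)) • e) (by
      rwa [D.Q_add_smul hQ, D.eq_zero_symm h7, mul_zero, map_zero, add_zero]) c ?_
    rw [map_add, map_smul, hl, h6]
    match_scalars <;> field_simp <;> ring

theorem cov_su_four (hD : D.Nondeg) (hn : finrank F V = 4) : Cov D.det.ker := by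
  obtain ⟨e, f, he⟩ := Herm.exists_isHyp hD (by omega)
  obtain ⟨c, hc, hc'⟩ := h.exists_trace_zero
  have h1 : ∀ W : Submodule F V, finrank F W = 1 ∨ finrank F W = 2 → ∃ g, g ∉ (D.stab W).subgroupOf D.det.ker :=
    fun W hW => exists_rk1_not_stab hD he hc (fun e he => (Herm.isRk1_iff_of_Q_eq_zero he).2 hc')
      (by rintro rfl; simp at hW) (by rintro rfl; simp [hn] at hW)
  refine cov_of_fam (fun W => (D.stab W).subgroupOf D.det.ker) (fun W => (D.stab W).subgroupOf D.det.ker)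
    (fun W => finrank F W = 1 ∧ Disjoint W (D.perp W)) (fun W => finrank F W = 2 ∧ D.IsTS W)
    (fun W hW => h1 W (.inl hW.1)) (fun W hW => h1 W (.inr hW.1)) (fun W W' hW hW' => ?_)
    (fun W W' hW hW' => stab_ker_conj (hD.exists_map_eq_of_isTS hW.2 hW'.2 (hW.1.trans hW'.1.symm))
      (Herm.exists_mem_stab_det_eq hD hW'.2)) fun g => ?_
  · obtain ⟨φ, hφ⟩ := Herm.iso (D.nondeg_restrict_iff.2 hW.2) (D.nondeg_restrict_iff.2 hW'.2) (hW.1.trans hW'.1.symm)
    exact stab_ker_conj ((hD.exists_map_eq φ hφ).imp fun _ h => h.2)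
      (herm_stab_det hD (by rintro rfl; simp at hW') hW'.2)
  · refine (herm_four (x := nat D g.1) hD g.1.2.B_map hn).imp (fun ⟨v, hv, c, hc⟩ => ⟨F ∙ v, ⟨?_, ?_⟩,
      D.mem_stab_of_mapsTo fun w hw => ?_⟩) fun ⟨W, h, h'⟩ => ⟨W, h, D.mem_stab_of_mapsTo h'⟩
    · exact finrank_span_singleton (by rintro rfl; simp at hv)
    · exact D.nondeg_restrict_iff.1 (nondeg_span_singleton (Herm.B_ne_zero hv))
    · obtain ⟨a, rfl⟩ := Submodule.mem_span_singleton.1 hw
      exact Submodule.mem_span_singleton.2 ⟨a * c, by rw [map_smul, mul_smul, ← hc]; rfl⟩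

end

end Cfsg.Lib.Conj
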