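import Cfsg.Agent.Lib.Conj.CovT
import Cfsg.Agent.Lib.Block2.EAg2

/-! The automorphism group of the split octonions in characteristic two is covered by two classes of
proper subgroups. -/

set_option autoImplicit false

namespace Cfsg.Lib.Conj

open Cfsg.Lie Cfsg.Lib.Forms Cfsg.Lib.Forms.Form Cfsg.Lib.Block2.SylEA Module Matrix

variable {F : Type*} [Field F]

theorem g2_of_fun (f : (Fin 8 → F) → Fin 8 → F) (h1 : ∀ x y, f (x + y) = f x + f y)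
    (h2 : ∀ (c : F) x, f (c • x) = c • f x) (h3 : ∀ x y, f (zornMul x y) = zornMul (f x) (f y))
    (h4 : ∀ x, (fN F).Q (f x) = (fN F).Q x) (x : Fin 8 → F) : ∃ g : G2 F, g • x = f x := by
  let L : End F (Fin 8 → F) := ⟨⟨f, h1⟩, h2⟩
  obtain ⟨g, hg⟩ := (isUnit_of_isIsometry (x := L) fN_nondeg (quad_isIsometry h1 h4).B_map).map
    LinearMap.toMatrixAlgEquiv'
  have h5 : ∀ x, g.1 *ᵥ x = f x := fun x => by rw [hg]; exact LinearMap.toMatrix'_mulVec L x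
  exact ⟨⟨g, fun x y => by simp [h5, h3]⟩, h5 x⟩

theorem g2_gens (s t : F) {c : F} (hc : c ≠ 0) :
    (∀ x : Fin 8 → F, ∃ g : G2 F, g • x = ![x 0 + t * x 4, x 1 + t * x 7 - t * x 0 - t ^ 2 * x 4, x 2, x 3, x 4,
      x 5 + t * x 3, x 6 - t * x 2, x 7 - t * x 4]) ∧
    (∀ x : Fin 8 → F, ∃ g : G2 F, g • x = ![x 0 - t * x 1, x 1, x 2 - t * x 6, x 3 + t * x 5,
      x 4 + t * x 0 - t * x 7 - t ^ 2 * x 1, x 5, x 6, x 7 + t * x 1]) ∧
    (∀ x : Fin 8 → F, ∃ g : G2 F, g • x = ![x 0, c⁻¹ * x 1, c * x 2, x 3, c * x 4, c⁻¹ * x 5, x 6, x 7]) ∧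
    (∀ x : Fin 8 → F, ∃ g : G2 F, g • x = ![x 0, x 1, x 2 - s * x 1, x 3 - t * x 1, x 4 + s * x 5 + t * x 6,
      x 5, x 6, x 7]) ∧
    ∀ x : Fin 8 → F, ∃ g : G2 F, g • x = ![x 0, x 1 + s * x 2 + t * x 3, x 2, x 3, x 4, x 5 - s * x 4,
      x 6 - t * x 4, x 7] := by
  refine ⟨?_, ?_, ?_, ?_, ?_⟩ <;> refine g2_of_fun _ (fun x y => ?_) (fun c x => ?_) (fun x y => ?_) fun x => ?_ <;>
    (try ext i; fin_cases i) <;> simp [zm, fN_Q] <;> (try field_simp) <;> ring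

theorem g2_trans (hF : (2 : F) = 0) (h3 : 2 < Nat.card F) {x y : Fin 8 → F} (hx : (fN F).B (zE F) x = 1) (hy : (fN F).B (zE F) y = 1)
    (h : (fN F).Q x = (fN F).Q y) : ∃ g : G2 F, g • x = y := by
  haveI : Finite F := Nat.finite_of_card_ne_zero (by omega)
  have h0 : ∀ p : Polynomial F, p ≠ 0 → p.natDegree ≤ 2 → ∃ t, p.eval t ≠ 0 := fun p h h' =>
    p.exists_eval_ne_zero_of_natDegree_lt_card h (by rw [← Nat.cast_card]; exact_mod_cast h'.trans_lt h3)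
  obtain ⟨a, ha⟩ := h0 (.X - .X ^ 2 - .C ((fN F).Q y)) (fun h => by simpa using congrArg (·.coeff 1) h) (by compute_degree)
  let w : Fin 8 → F := ![a, 1, 0, 0, a - a ^ 2 - (fN F).Q y, 0, 0, 1 - a]
  suffices H : ∀ x, (fN F).B (zE F) x = 1 → (fN F).Q x = (fN F).Q y → ∃ g : G2 F, g • x = w by
    obtain ⟨g, hg⟩ := H x hx h
    obtain ⟨k, hk⟩ := H y hy rfl
    exact ⟨k⁻¹ * g, by rw [mul_smul, hg, ← hk, inv_smul_smul]⟩
  have st : ∀ {P : (Fin 8 → F) → Prop}, (∀ x, (fN F).B (zE F) x = 1 → (fN F).Q x = (fN F).Q y → P x → ∃ g : G2 F, g • x = w) →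
      ∀ x, (fN F).B (zE F) x = 1 → (fN F).Q x = (fN F).Q y → ∀ z, (∃ g : G2 F, g • x = z) → P z →
        ∃ g : G2 F, g • x = w := by
    rintro P H x h1 h2 _ ⟨g, rfl⟩ h
    obtain ⟨k, hk⟩ := H _ (by rwa [← smul_zE g, B_smul_g]) (by rwa [Q_smul_g]) h
    exact ⟨k * g, by rwa [mul_smul]⟩
  simp only [Polynomial.eval_sub, Polynomial.eval_pow, Polynomial.eval_X, Polynomial.eval_C] at ha
  have s5 : ∀ x, (fN F).B (zE F) x = 1 → (fN F).Q x = (fN F).Q y → x 0 = a ∧ x 1 = 1 ∧ x 2 = 0 ∧ x 3 = 0 →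
      ∃ g : G2 F, g • x = w := fun x h1 h2 ⟨h4, h5, h6, h7⟩ => by
    have h8 : x 7 = 1 - a := by simpa [fN_B, zE, h4, eq_sub_iff_add_eq] using h1
    have h9 : x 4 = a - a ^ 2 - (fN F).Q y := by rw [← h2, fN_Q, h4, h5, h6, h7, h8]; ring
    refine ((g2_gens (x 5 / x 4) (x 6 / x 4) one_ne_zero).2.2.2.2 x).imp fun g hg => hg.trans ?_
    ext i; fin_cases i <;> simp [w, h4, h5, h6, h7, h8, ← h9, h9 ▸ ha]
  have s4 : ∀ x, (fN F).B (zE F) x = 1 → (fN F).Q x = (fN F).Q y → x 0 = a ∧ x 1 = 1 → ∃ g : G2 F, g • x = w :=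
    fun x h1 h2 h => st s5 x h1 h2 _ ((g2_gens (x 2) (x 3) one_ne_zero).2.2.2.1 x) (by simp [h])
  have s3 : ∀ x, (fN F).B (zE F) x = 1 → (fN F).Q x = (fN F).Q y → x 0 = a ∧ x 1 ≠ 0 → ∃ g : G2 F, g • x = w :=
    fun x h1 h2 h => st s4 x h1 h2 _ ((g2_gens 0 0 h.2).2.2.1 x) (by simp [h])
  have s2 : ∀ x, (fN F).B (zE F) x = 1 → (fN F).Q x = (fN F).Q y → x 1 ≠ 0 → ∃ g : G2 F, g • x = w :=
    fun x h1 h2 h => st s3 x h1 h2 _ ((g2_gens 0 ((x 0 - a) / x 1) h).2.1 x) (by simp [h])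
  intro x h1 h2
  have h4 : x 7 - x 0 = 1 := by
    simp only [fN_B, zE] at h1; simp at h1; linear_combination h1 - x 0 * hF
  obtain ⟨t, ht⟩ := h0 (.C (x 1) + .C (x 7 - x 0) * .X - .C (x 4) * .X ^ 2)
    (fun h => by simpa [h4] using congrArg (·.coeff 1) h) (by compute_degree)
  exact st s2 x h1 h2 _ ((g2_gens 0 t one_ne_zero).1 x) fun h => ht (by simp at h ⊢; linear_combination h)

theorem cov_g2 (hF : (2 : F) = 0) (h3 : 2 < Nat.card F) : Cov (G2 F) := by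
  haveI : Finite F := Nat.finite_of_card_ne_zero (by omega)
  have h1 : (fN F).B (zE F) (zE F) = 0 := by rw [quad_B_self, hF, zero_mul]
  have h2 : ∀ (g : G2 F) {v}, v ∈ F ∙ zE F → g • v ∈ F ∙ zE F := fun g v hv => by
    obtain ⟨c, rfl⟩ := Submodule.mem_span_singleton.1 hv
    rwa [g_smul, smul_zE]
  let H : (Fin 8 → F) → Subgroup (G2 F) := fun w =>
    { carrier := {g | g • w - w ∈ F ∙ zE F}
      one_mem' := by simp
      mul_mem' := fun {a b} ha hb => by simpa [smul_sub, mul_smul] using add_mem (h2 a hb) ha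
      inv_mem' := fun {a} ha => by simpa [smul_sub] using neg_mem (h2 a⁻¹ ha) }
  refine cov_of_fam' H (fun w => (fN F).B (zE F) w = 1) (fun w => ∃ c, c ^ 2 + c + (fN F).Q w = 0)
    (fun w h => ?_) (fun w w' h h' ht => ?_) fun g => ?_
  · by_contra! h4
    obtain ⟨a, ha⟩ := g2_trans hF h3 h (y := ![0, 1, 0, 0, -(fN F).Q w, 0, 0, 1]) (by simp [fN_B, zE]) (by simp [fN_Q])
    obtain ⟨b, hb⟩ := g2_trans hF h3 h (y := ![0, 1, 1, 0, -(fN F).Q w, 0, 0, 1]) (by simp [fN_B, zE]) (by simp [fN_Q])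
    obtain ⟨c, hc⟩ := Submodule.mem_span_singleton.1 (sub_mem (h4 b) (h4 a))
    simpa [ha, hb, zE] using congrFun hc 2
  · obtain ⟨c, hc⟩ : ∃ c, c ^ 2 + c + (fN F).Q w = (fN F).Q w' := by
      by_cases h4 : ∃ c, c ^ 2 + c + (fN F).Q w = 0
      · obtain ⟨d, hd⟩ := ht.1 h4
        obtain ⟨c, hc⟩ := h4
        exact ⟨c + d, by linear_combination hc + hd + (c * d - (fN F).Q w') * hF⟩
      · exact exists_artinSchreier_eq hF (not_exists.1 h4) (not_exists.1 (mt ht.2 h4))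
    obtain ⟨x, hx⟩ := g2_trans hF h3 (x := w + c • zE F) (by simp [h, h1]) h' (by
      rw [quad_Q_add, quad_Q_smul, Q_zE, map_smul, quad_symm, h, ← hc, smul_eq_mul]; ring)
    refine ⟨x, fun g hg => ?_⟩
    change (x * g * x⁻¹) • w' - w' ∈ F ∙ zE F
    rw [← hx, mul_smul, inv_smul_smul, mul_smul, ← smul_sub, smul_add, g_smul, smul_zE, add_sub_add_right_eq_sub]
    exact h2 x hg
  · let L : End F (Fin 8 → F) := toLin' (g⁻¹).1.1 - 1
    have h4 : ∀ v, L v = g⁻¹ • v - v := fun _ => rfl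
    obtain ⟨z, h5, h6⟩ := fN_nondeg.exists_perp_B_eq' (H := ((fN F).perp (F ∙ zE F)).map L) (a := zE F) (by
      rintro ⟨v, h5, h6⟩
      have := Q_smul_g g⁻¹ v
      rw [sub_eq_iff_eq_add.1 ((h4 v).symm.trans h6), quad_Q_add, (fN F).mem_perp_span_singleton.1 h5, Q_zE] at this
      simp at this) 1
    refine ⟨z, h6, (fN_nondeg.perp_perp (F ∙ zE F)).le ((fN F).mem_perp.2 fun v hv => ?_)⟩
    have := h5 _ ⟨v, hv, rfl⟩
    rwa [h4, B_sub_left, ← B_smul_g g, smul_inv_smul, ← B_sub_right] at this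

end Cfsg.Lib.Conj
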