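import Cfsg.Agent.Lib.Conj.CovF

/-! Isometries in characteristic three normalising a cubic field extension. -/

set_option autoImplicit false

namespace Cfsg.Lib.Conj

open Cfsg.Lib.Forms Cfsg.Lib.Forms.Form Cfsg.Lib.Known Cfsg.Lib.Linear Module Polynomial LinearMap

theorem jacobson_three {A : Type*} [Ring A] (h3 : (3 : A) = 0) {θ y z : A} (h1 : θ * y = y * θ + z)
    (h2 : θ * z = z * θ + y) (h4 : z * y = y * z) : (θ + y) ^ 3 = θ ^ 3 + y + y ^ 3 := by
  have e1 : θ * (θ * y) = y * θ * θ + z * θ + z * θ + y := by rw [h1, mul_add, ← mul_assoc, h1, h2]; noncomm_ring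
  have e2 : θ * y * θ = y * θ * θ + z * θ := by rw [h1]; noncomm_ring
  have e3 : θ * y * y = y * y * θ + y * z + y * z := by rw [h1, add_mul, mul_assoc, h1, h4]; noncomm_ring
  have e4 : y * (θ * y) = y * y * θ + y * z := by rw [h1]; noncomm_ring
  calc _ = θ ^ 3 + θ * (θ * y) + θ * y * θ + y * θ * θ + θ * y * y + y * (θ * y) + y * y * θ + y ^ 3 := by
        noncomm_ring
    _ = θ ^ 3 + y + y ^ 3 + 3 * (y * θ * θ + z * θ + y * y * θ + y * z) := by rw [e1, e2, e3, e4]; noncomm_ring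
    _ = _ := by rw [h3, zero_mul, add_zero]

variable {F : Type*} [Field F] {σ : F →+* F} {K : Kind σ} {V : Type*} [AddCommGroup V] [Module F V]
  [FiniteDimensional F V] {D : Form K V} (hD : D.Nondeg) {x η θ : End F V}

theorem trace_adj (f : End F V) : trace F V (adj hD f) = σ (trace F V f) := by
  let b := finBasis F V
  choose c hc using fun i => hD.exists_rep (b.coord i)
  have h1 : f = ∑ i, (D.B (c i)).smulRight (f (b i)) := LinearMap.ext fun v => by
    simpa [hc, -Basis.sum_repr] using congrArg f (b.sum_repr v).symm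
  have h2 : ∀ u v, adj hD ((D.B u).smulRight v) = (K.ε • D.B v).smulRight u := fun u v => adj_eq hD fun a w => by
    simp [D.symm a v, ← mul_assoc, K.ε_mul, K.σσ, mul_comm]
  rw [h1, show adj hD = AddMonoidHom.mk' (adj hD) (adj_add hD) from rfl]
  simp only [map_sum, AddMonoidHom.mk'_apply, h2, trace_smulRight]
  exact Finset.sum_congr rfl fun i _ => by simp [D.symm (c i), ← mul_assoc, K.ε_mul]

theorem exists_shift [Finite F] (h : ∀ η, Commute η x → trace F V η = 0) : ∃ θ, x * θ = (θ + 1) * x := by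
  by_contra! H
  obtain ⟨φ, h1, h2⟩ := Submodule.exists_dual_map_eq_bot_of_notMem (p := range (mulLeft F x - mulRight F x)) (x := x)
    (fun ⟨θ, h⟩ => H θ (by rw [add_mul, one_mul]; exact (sub_eq_iff_eq_add'.1 h :))) inferInstance
  obtain ⟨ξ, rfl⟩ := (bijective_of_sep (σ := RingHom.id F) (B := (mul F (End F V)).compr₂ (trace F V)) fun u hu =>
    LinearMap.ext fun v => (forall_dual_apply_eq_zero_iff F _).1 fun φ => by
      simpa [show u * φ.smulRight v = φ.smulRight (u v) from LinearMap.ext fun _ => by simp]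
        using hu (φ.smulRight v)).2 φ
  have h3 : Commute ξ x := LinearMap.ext fun v => sub_eq_zero.1 ((forall_dual_apply_eq_zero_iff F _).1 fun φ => by
    have := h2.le ⟨_, ⟨φ.smulRight v, rfl⟩, rfl⟩
    simp only [Submodule.mem_bot, compr₂_apply, mul_apply', LinearMap.sub_apply, mulLeft_apply, mulRight_apply, mul_sub,
      map_sub, ← mul_assoc, trace_mul_comm F _ x] at this
    simpa [show ∀ u : End F V, u * φ.smulRight v = φ.smulRight (u v) from fun u => LinearMap.ext fun _ => by simp]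
      using this)
  exact h1 (h _ (h3.mul_left (.refl x)))

variable (D x) in
/-- No proper non-degenerate invariant subspace. -/
def Indec : Prop := ∀ W : Submodule F V, (∀ v ∈ W, x v ∈ W) → Disjoint W (D.perp W) → W = ⊥ ∨ W = ⊤

theorem Indec.unit_or_nil (h : Indec D x) (h1 : adj hD η = η) (h2 : Commute η x) : IsUnit η ∨ IsNilpotent η := by
  obtain ⟨N, h3, h4⟩ := (η.eventually_isCompl_ker_pow_range_pow.and (Filter.eventually_ne_atTop 0)).exists
  refine (h (ker (η ^ N)) (fun v hv => ?_) ?_).imp (fun h => (isUnit_pow_iff h4).1 (isUnit_of_inj fun v hv => h.le hv))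
    fun h => ⟨N, ker_eq_top.1 h⟩
  · rw [mem_ker, ← End.mul_apply, (h2.pow_left N).eq, End.mul_apply, hv, map_zero]
  · rw [← range_adj hD, adj_pow, h1]; exact h3.disjoint

/-- A cubic relation. -/
def Cub (η : End F V) (a b c : F) : Prop := η ^ 3 + a • η ^ 2 + b • η + c • 1 = 0

variable (D θ) in
/-- Isometries normalising the Artin-Schreier generator `θ`. -/
def asGrp : Subgroup D.isom where
  carrier := {g | ∃ j : F, nat D g * θ = (θ + j • 1) * nat D g}
  one_mem' := ⟨0, by simp⟩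
  mul_mem' := by
    rintro a b ⟨i, hi⟩ ⟨j, hj⟩
    refine ⟨i + j, ?_⟩
    rw [map_mul, mul_assoc, hj, ← mul_assoc, mul_add, hi, ← mul_assoc]
    simp [add_mul, add_smul, add_assoc]
  inv_mem' := by
    rintro a ⟨i, hi⟩
    have h1 : nat D a⁻¹ * nat D a = 1 := by simp [← map_mul]
    have h2 : nat D a * nat D a⁻¹ = 1 := by simp [← map_mul]
    refine ⟨-i, ?_⟩
    have := congrArg (nat D a⁻¹ * · * nat D a⁻¹) hi
    simp only [← mul_assoc, h1, one_mul, mul_assoc _ (nat D a), h2, mul_one] at this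
    simp [add_mul, this, mul_add]

theorem Cov.of_equiv {G N : Type*} [Group G] [Group N] (h : Cov N) (e : G ≃* N) : Cov G := by
  obtain ⟨H, K, h1, h2, h3⟩ := h
  have key : ∀ H : Subgroup N, H ≠ ⊤ → H.comap e.toMonoidHom ≠ ⊤ := fun H h h' =>
    h (eq_top_iff.2 fun g _ => by simpa using h'.ge (Subgroup.mem_top (e.symm g)))
  exact ⟨_, _, key H h1, key K h2, fun g => (h3 (e g)).elim fun x hx => ⟨e.symm x, by simpa using hx⟩⟩

variable [CharP F 3]

theorem three_eq_zero : (3 : F) = 0 := CharP.cast_eq_zero F 3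

omit [FiniteDimensional F V] in
theorem three_end : (3 : End F V) = 0 := by
  rw [← map_ofNat (algebraMap F _), three_eq_zero, map_zero]

theorem Cub.fix {a b c : F} (h : Cub η a b c) (h1 : adj hD η = η) :
    ∃ a b c, σ a = a ∧ σ b = b ∧ σ c = c ∧ Cub η a b c := by
  have h2 := congrArg (adj hD) h
  simp only [adj_add, adj_smul, adj_pow, h1, adj_one, (anti_adj hD).zero] at h2
  refine ⟨-(a + σ a), -(b + σ b), -(c + σ c), by simp [K.σσ, add_comm], by simp [K.σσ, add_comm],
    by simp [K.σσ, add_comm], ?_⟩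
  unfold Cub at *
  linear_combination (norm := module) three_eq_zero (F := F) • η ^ 3 - h - h2

omit [FiniteDimensional F V] in
theorem Cub.shift [Nontrivial V] {a b c : F} (h : Cub θ a b c) (hx : IsUnit x) (h1 : x * θ = (θ + 1) * x) :
    θ ^ 3 - θ = (-c) • 1 := by
  have h2 : ∀ t, Cub t a b c → x * t = (t + 1) * x → Cub (t + 1) a b c := fun t h h1 => hx.mul_left_eq_zero.1 (by
    simpa [mul_add, add_mul, h1, (SemiconjBy.pow_right h1 _).eq] using congrArg (x * ·) h)
  have h3 := h2 _ h h1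
  have h4 := h2 _ h3 (by rw [mul_add, h1]; noncomm_ring)
  have h5 : ∀ t : End F V, (t + 1) ^ 3 = t ^ 3 + 1 := fun t => by
    linear_combination (norm := noncomm_ring) three_end (F := F) (V := V) * (t ^ 2 + t)
  have h6 : ∀ t : End F V, (t + 1) ^ 2 = t ^ 2 + (2 : F) • t + 1 := fun t => by rw [two_smul]; noncomm_ring
  unfold Cub at *
  simp only [h5, h6] at h3 h4
  have h7 : a • (1 : End F V) = 0 := by
    linear_combination (norm := module) -h4 - h3 - h + three_eq_zero (F := F) •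
      (θ ^ 3 + a • θ ^ 2 + (2 * a + b) • θ + (1 + 2 * a + b + c) • (1 : End F V))
  obtain rfl : a = 0 := by simpa using h7
  have h8 : (b + 1) • (1 : End F V) = 0 := by linear_combination (norm := module) h3 - h
  obtain rfl : b = -1 := by simpa [add_eq_zero_iff_eq_neg] using h8
  linear_combination (norm := module) h

omit [FiniteDimensional F V] in
theorem cube_add {a b : End F V} (h : Commute a b) : (a + b) ^ 3 = a ^ 3 + b ^ 3 := by
  linear_combination (norm := noncomm_ring) three_end (F := F) (V := V) * (a * a * b + a * b * b) -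
    (a * h.eq + h.eq * a + a * h.eq + b * h.eq + h.eq * b + h.eq * b)

theorem σ_of_smul [Nontrivial V] {c : F} (h1 : adj hD η = η) (h : η = c • 1) : σ c = c := by
  rw [h, adj_smul, adj_one] at h1
  exact smul_left_injective F one_ne_zero h1

theorem trace_of_nil (hn : 3 ∣ finrank F V) {c : F} (h : IsNilpotent (η - c • 1)) : trace F V η = 0 := by
  simpa [(CharP.cast_eq_zero_iff F 3 _).2 hn] using (isNilpotent_trace_of_isNilpotent h).eq_zero

variable [Nontrivial V] (hC : ∀ η, adj hD η = η → ∃ a b c, Cub η a b c)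
include hC

theorem as_step [Finite F] (hx : IsUnit x) (h1 : adj hD θ = θ) (h2 : x * θ = (θ + 1) * x) {u w : End F V}
    (h3 : adj hD (u + w) = u + w) (h4 : Commute x (u + w)) (h5 : θ * u = u * θ - u) (h6 : θ * w = w * θ + w)
    (h7 : Commute u w) (h8 : (u + w) ^ 3 ≠ 0) {c : F} (hc : σ c = c) :
    ∃ θ, adj hD θ = θ ∧ θ ^ 3 - θ = c • 1 ∧ x * θ = (θ + 1) * x := by
  have a1 : ∀ β : F, σ β = β → adj hD (θ + β • (u + w)) = θ + β • (u + w) := fun β h => by
    rw [adj_add, adj_smul, h, h1, h3]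
  have a2 : ∀ β : F, x * (θ + β • (u + w)) = (θ + β • (u + w) + 1) * x := fun β => by
    rw [mul_add, h2, mul_smul_comm, h4.eq, ← smul_mul_assoc]; noncomm_ring
  have a3 : ∀ β : F, (θ + β • (u + w)) ^ 3 = θ ^ 3 + β • (u + w) + β ^ 3 • (u + w) ^ 3 := fun β => by
    rw [jacobson_three three_end (z := β • (w - u)), _root_.smul_pow]
    · simp only [mul_smul_comm, smul_mul_assoc, mul_add, add_mul, h5, h6]; module
    · simp only [mul_smul_comm, smul_mul_assoc, mul_sub, sub_mul, h5, h6]; module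
    · simp only [mul_smul_comm, smul_mul_assoc, mul_sub, sub_mul, mul_add, add_mul, h7.eq]; module
  have a4 : ∀ t, adj hD t = t → x * t = (t + 1) * x → ∃ e, σ e = e ∧ t ^ 3 - t = e • 1 := fun t h h' =>
    let ⟨_, _, _, h9⟩ := hC t h
    ⟨_, σ_of_smul hD (by rw [adj_sub, adj_pow, h]) (h9.shift hx h'), h9.shift hx h'⟩
  obtain ⟨e, he, he'⟩ := a4 θ h1 h2
  obtain ⟨d, hd, hd'⟩ := a4 _ (a1 1 (map_one σ)) (a2 1)
  have a5 : (u + w) ^ 3 = (d - e) • 1 := by
    rw [a3] at hd'; linear_combination (norm := module) hd' - he'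
  have a6 : d - e ≠ 0 := fun h => h8 (by rw [a5, h, zero_smul])
  haveI : Fact (Nat.Prime 3) := ⟨by norm_num⟩
  obtain ⟨β, hβ⟩ := (frobeniusEquiv F 3).surjective ((c - e) / (d - e))
  refine ⟨_, a1 β ((frobeniusEquiv F 3).injective ?_), ?_, a2 β⟩
  · rw [hβ, frobeniusEquiv_def, ← map_pow, ← frobeniusEquiv_def, hβ]; simp [hc, he, hd]
  · rw [a3, a5, ← frobeniusEquiv_def, hβ, smul_smul, div_mul_cancel₀ _ a6]
    linear_combination (norm := module) he'

theorem as_of_shift [Finite F] (hx : ∀ u v, D.B (x u) (x v) = D.B u v) (h2 : x * θ = (θ + 1) * x) {c : F}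
    (hc : σ c = c) : ∃ θ, adj hD θ = θ ∧ θ ^ 3 - θ = c • 1 ∧ x * θ = (θ + 1) * x := by
  have a1 := mul_adj_self hD hx
  have a2 := (adj_mul_self_eq_one_iff hD).2 hx
  have a3 := congrArg (adj hD) h2
  rw [adj_mul, adj_mul, adj_add, adj_one] at a3
  have a4 : adj hD (adj hD x) = x := adj_adj hD x
  have a5 : adj hD (-(θ + adj hD θ)) = -(θ + adj hD θ) := by rw [(anti_adj hD).neg, adj_add, adj_adj, add_comm]
  generalize hy : adj hD x = y at *
  generalize adj hD θ = θ' at *
  have a6 : x * -(θ + θ') = (-(θ + θ') + 1) * x := by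
    linear_combination (norm := noncomm_ring) -h2 - x * a3 * x + x * θ' * a2 - a1 * (θ' + 1) * x -
      three_end (F := F) (V := V) * x
  generalize -(θ + θ') = t at *
  have a7 : t * x = x * t - x := by rw [a6]; noncomm_ring
  have a8 : t * y = y * t + y := by
    linear_combination (norm := noncomm_ring) y * a6 * y - a2 * t * y + y * (t + 1) * a1
  have a9 : Commute x y := a1.trans a2.symm
  have hu := isUnit_of_isIsometry hD hx
  by_cases h : (x + y) ^ 3 = 0
  · refine as_step hD hC hu a5 a6 (u := y * y) (w := x * x) (by rw [adj_add, adj_mul, adj_mul, a4, hy, add_comm])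
      ((a9.mul_right a9).add_right ((Commute.refl x).mul_right (.refl x))) ?_ ?_
      ((a9.mul_left a9).mul_right (a9.mul_left a9)).symm ?_ hc
    · linear_combination (norm := noncomm_ring) a8 * y + y * a8 + three_end (F := F) (V := V) * (y * y)
    · linear_combination (norm := noncomm_ring) a7 * x + x * a7 - three_end (F := F) (V := V) * (x * x)
    · rw [show y * y + x * x = (x + y) ^ 2 + 1 by
        linear_combination (norm := noncomm_ring) a1 + a1 - a2 - three_end (F := F) (V := V) * (x * y),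
        cube_add (.one_right _), ← pow_mul, mul_comm, pow_mul, h]
      simp
  · exact as_step hD hC hu a5 a6 (by rw [adj_add, a4, hy, add_comm]) ((Commute.refl x).add_right a9) a7 a8 a9 h hc

omit [Nontrivial V] hC [FiniteDimensional F V] [CharP F 3] in
theorem irr_cubic {a b c : F} (h : ∀ r : F, r ^ 3 + a * r ^ 2 + b * r + c ≠ 0) :
    ∃ m : F[X], m.Monic ∧ Irreducible m ∧ m.natDegree = 3 ∧ ∀ η : End F V, aeval η m = 0 ↔ Cub η a b c := by
  have h1 : (X ^ 3 + C a * X ^ 2 + C b * X + C c : F[X]).natDegree = 3 := by compute_degree!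
  have h2 : (X ^ 3 + C a * X ^ 2 + C b * X + C c : F[X]).Monic := by monicity!
  refine ⟨_, h2, (h2.irreducible_iff_roots_eq_zero_of_degree_le_three (by omega) h1.le).2
    (Multiset.eq_zero_of_forall_notMem fun r hr => h r (by simpa using (mem_roots'.1 hr).2)), h1, fun η => ?_⟩
  simp [Cub, Algebra.algebraMap_eq_smul_one]

omit [Nontrivial V] hC in
theorem as_of_irr [Finite F] (hx : ∀ u v, D.B (x u) (x v) = D.B u v) (h1 : adj hD η = η) (h2 : Commute η x)
    {m : F[X]} (hi : Irreducible m) (hd : m.natDegree = 3) (hm : aeval η m = 0) {c : F} (hc : σ c = c)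
    (hc' : ∀ r : F, r ^ 3 - r ≠ c) : ∃ θ, adj hD θ = θ ∧ θ ^ 3 - θ = c • 1 ∧ x * θ = θ * x := by
  obtain ⟨f, -, a1, a2, a3⟩ := irr_cubic (V := V) (a := 0) (b := -1) (c := -c) fun r hr => hc' r (by linear_combination hr)
  haveI := Fact.mk hi
  haveI := finiteDimensional_adjoinRoot hi.ne_zero
  haveI : Finite (AdjoinRoot m) := Module.finite_of_finite F
  obtain ⟨z, hz⟩ := exists_root_of_irreducible (K := AdjoinRoot m) a1 (by rw [finrank_adjoinRoot, a2, hd])
  obtain ⟨p, rfl⟩ := AdjoinRoot.mk_surjective z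
  rw [← AdjoinRoot.aeval_eq, ← aeval_comp, AdjoinRoot.aeval_eq, AdjoinRoot.mk_eq_zero] at hz
  have a4 : aeval η p ^ 3 - aeval η p = c • 1 := by
    have := (a3 (aeval η p)).1 (by rw [← aeval_comp]; exact aeval_eq_zero_of_dvd_aeval_eq_zero hz hm)
    unfold Cub at this
    linear_combination (norm := module) this
  have a5 := congrArg (adj hD) a4
  rw [adj_sub, adj_pow, adj_smul, adj_one, hc] at a5
  have a6 := (anti_adj hD).commute (commute_aeval (.refl η) p)
  have a7 := (commute_aeval h2.symm p).symm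
  rw [h1] at a6
  refine ⟨-(aeval η p + adj hD (aeval η p)), by rw [(anti_adj hD).neg, adj_add, adj_adj, add_comm], ?_,
    (a7.add_left (commute_adj hD hx a7)).neg_left.symm⟩
  rw [Odd.neg_pow (by decide), cube_add (commute_aeval a6.symm p).symm]
  linear_combination (norm := module) three_eq_zero (F := F) • -c • (1 : End F V) - a4 - a5

omit hC in
theorem Indec.trace_eq (h : Indec D x) (hn : 3 ∣ finrank F V)
    (hS : ∀ ζ (d : F), adj hD ζ = ζ → σ d = d → ζ * ζ = d • 1 → (∃ s, σ s = s ∧ s * s = d) ∨ trace F V ζ = 0)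
    (h1 : adj hD η = η) (h2 : Commute η x) {a b c r : F} (ha : σ a = a) (hb : σ b = b) (hc : σ c = c)
    (h3 : Cub η a b c) (hr : r ^ 3 + a * r ^ 2 + b * r + c = 0) : trace F V η = 0 := by
  obtain ⟨r, hr', hr⟩ : ∃ r, σ r = r ∧ r ^ 3 + a * r ^ 2 + b * r + c = 0 := by
    by_cases h : σ r = r
    · exact ⟨r, h, hr⟩
    have h4 := congrArg σ hr
    simp only [map_add, map_mul, map_pow, ha, hb, hc, map_zero] at h4
    have h5 : r ^ 2 + r * σ r + σ r ^ 2 + a * (r + σ r) + b = 0 :=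
      mul_left_cancel₀ (sub_ne_zero.2 h) (by linear_combination h4 - hr)
    exact ⟨-a - r - σ r, by simp [ha, K.σσ, sub_right_comm], by linear_combination hr + (-a - 2 * r - σ r) * h5⟩
  have key : ∀ (ζ : End F V) s, adj hD ζ = ζ → Commute ζ x → σ s = s → trace F V ζ ≠ 0 → IsUnit (ζ - s • 1) :=
    fun ζ s h1 h2 hs ht => (h.unit_or_nil hD (by rw [adj_sub, adj_smul, h1, hs, adj_one])
      (h2.sub_left ((Commute.one_left x).smul_left s))).resolve_right fun h => ht (trace_of_nil hn h)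
  by_contra ht
  have h4 : (η - (a + r) • 1) * (η - (a + r) • 1) = ((a + r) ^ 2 - b - r * (a + r)) • 1 :=
    (key η r h1 h2 hr' ht).mul_left_cancel (by
      unfold Cub at h3
      simp only [pow_succ η, pow_zero, one_mul] at h3
      simp only [mul_sub, sub_mul, mul_smul_comm, smul_mul_assoc, mul_one, one_mul, ← mul_assoc]
      linear_combination (norm := module) h3 - hr • (1 : End F V) +
        three_eq_zero (F := F) • ((-a - r) • (η * η) + (r * (a + r)) • η))
  have h5 : trace F V (η - (a + r) • 1) ≠ 0 := by simpa [(CharP.cast_eq_zero_iff F 3 _).2 hn] using ht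
  have h6 : adj hD (η - (a + r) • 1) = η - (a + r) • 1 := by rw [adj_sub, adj_smul, h1, map_add, ha, hr', adj_one]
  have h7 := h2.sub_left ((Commute.one_left x).smul_left (a + r))
  obtain ⟨s, h8, h9⟩ := (hS _ _ h6 (by simp [ha, hb, hr']) h4).resolve_right h5
  generalize η - (a + r) • 1 = ζ at *
  refine ((key ζ s h6 h7 h8 h5).mul (key ζ (-s) h6 h7 (by simp [h8]) h5)).ne_zero ?_
  simp only [mul_sub, sub_mul, mul_smul_comm, smul_mul_assoc, mul_one, one_mul, h4, ← h9]
  module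

theorem Indec.exists_as [Finite F] (h : Indec D x) (hn : 3 ∣ finrank F V)
    (hS : ∀ ζ (d : F), adj hD ζ = ζ → σ d = d → ζ * ζ = d • 1 → (∃ s, σ s = s ∧ s * s = d) ∨ trace F V ζ = 0)
    (hx : ∀ u v, D.B (x u) (x v) = D.B u v) {c : F} (hc : σ c = c) (hc' : ∀ r : F, r ^ 3 - r ≠ c) :
    ∃ θ, (adj hD θ = θ ∧ θ ^ 3 - θ = c • 1) ∧ ∃ j : F, x * θ = (θ + j • 1) * x := by
  by_cases H : ∀ η, adj hD η = η → Commute η x → trace F V η = 0
  · obtain ⟨θ, hθ⟩ := exists_shift (x := x) fun η h1 => by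
      have h2 : ∀ δ : F, δ * trace F V η + σ (δ * trace F V η) = 0 := fun δ => by
        simpa [trace_adj] using H (δ • η + adj hD (δ • η)) (by rw [adj_add, adj_adj, add_comm])
          ((h1.smul_left δ).add_left (commute_adj hD hx (h1.smul_left δ)))
      have h3 := h2 (trace F V η)
      rw [map_mul, show σ (trace F V η) = -trace F V η by simpa [add_eq_zero_iff_eq_neg'] using h2 1] at h3
      exact mul_self_eq_zero.1 (by linear_combination three_eq_zero (F := F) * trace F V η ^ 2 - h3)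
    obtain ⟨θ, h1, h2, h3⟩ := as_of_shift hD hC hx hθ hc
    exact ⟨θ, ⟨h1, h2⟩, 1, by rwa [one_smul]⟩
  · push Not at H
    obtain ⟨η, h1, h2, h3⟩ := H
    obtain ⟨a, b, d, h4⟩ := hC η h1
    obtain ⟨a, b, d, ha, hb, hd, h4⟩ := h4.fix hD h1
    obtain ⟨m, -, h5, h6, h7⟩ := irr_cubic (V := V) fun r hr => h3 (h.trace_eq hD hn hS h1 h2 ha hb hd h4 hr)
    obtain ⟨θ, h8, h9, h10⟩ := as_of_irr hD hx h1 h2 h5 h6 ((h7 η).2 h4) hc hc'
    exact ⟨θ, ⟨h8, h9⟩, 0, by simpa using h10⟩

omit hD hC [Nontrivial V] in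
theorem exists_as_const [Finite F] (hσ : ∀ a, σ (σ a) = a) : ∃ c : F, σ c = c ∧ ∀ r : F, r ^ 3 - r ≠ c := by
  obtain ⟨c, hc⟩ := not_forall.1 (mt (Finite.injective_iff_surjective (f := fun a : {a // σ a = a} =>
    (⟨a.1 ^ 3 - a.1, by simp [a.2]⟩ : {a // σ a = a}))).2 fun h => by
      simpa using h (a₁ := ⟨0, map_zero σ⟩) (a₂ := ⟨1, map_one σ⟩) (by simp))
  refine ⟨c, c.2, fun r hr => hc ⟨⟨-(r + σ r), by simp [hσ, add_comm]⟩, Subtype.ext ?_⟩⟩
  have h := congrArg σ hr
  rw [map_sub, map_pow, c.2] at h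
  linear_combination -hr - h - three_eq_zero (F := F) * (r ^ 2 * σ r + r * σ r ^ 2 + c.1)

theorem cov_three [Finite F] {k : ℕ} (hn : finrank F V = 3 * k)
    (hS : ∀ ζ (d : F), adj hD ζ = ζ → σ d = d → ζ * ζ = d • 1 → (∃ s, σ s = s ∧ s * s = d) ∨ trace F V ζ = 0)
    (hW : ∀ W : Submodule F V, Disjoint W (D.perp W) → W ≠ ⊥ → W ≠ ⊤ → k ∣ finrank F W)
    (hI : ∀ W W' : Submodule F V, (D.restrict W).Nondeg → (D.restrict W').Nondeg → finrank F W = finrank F W' →
      (D.restrict W).Iso (D.restrict W'))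
    (hd : ∀ W : Submodule F V, W ≠ ⊥ → Disjoint W (D.perp W) → ∀ c, ∃ g ∈ D.stab W, D.det g = D.det c)
    (hθ : ∀ θ θ' (c : F), adj hD θ = θ → adj hD θ' = θ' → θ ^ 3 - θ = c • 1 → θ' ^ 3 - θ' = c • 1 →
      (∀ r : F, r ^ 3 - r ≠ c) → IsoC D θ D θ')
    (hs : ∀ c, ∃ s : F, s * σ s = 1 ∧ s ^ finrank F V = D.det c)
    {e f : V} (hef : D.IsHyp e f) {t : F} (ht : t ≠ 0) (hr : ∀ e, D.Q e = 0 → D.IsRk1 e t) : Cov D.det.ker := by
  obtain ⟨c, hc, hc'⟩ := exists_as_const K.σσ
  have h0 : 0 < k := by have := finrank_pos (R := F) (M := V); omega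
  refine cov_of_fam (fun W => (D.stab W).subgroupOf D.det.ker) (fun θ => (asGrp D θ).subgroupOf D.det.ker)
    (fun W => finrank F W = k ∧ Disjoint W (D.perp W)) (fun θ => adj hD θ = θ ∧ θ ^ 3 - θ = c • 1)
    (fun W hW => exists_rk1_not_stab hD hef ht hr (by rintro rfl; simp at hW; omega)
      (by rintro rfl; simp at hW; omega)) (fun θ h => ?_) (fun W W' hW hW' => ?_) (fun θ θ' h h' => ?_) fun g => ?_
  · refine ⟨⟨D.rk1 e t (hr e hef.Q_e), Units.ext (by rw [det_rk1, hef.B_ee]; simp)⟩, fun ⟨j, hj⟩ => ?_⟩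
    have h1 : ∀ v, (t * D.B e (θ v) - j * t * D.B e v) • e - (t * D.B e v) • θ e = j • v := fun v => by
      have := LinearMap.congr_fun hj v
      simp only [nat_apply, End.mul_apply, LinearEquiv.coe_coe, Subgroup.subtype_apply, rk1_apply, LinearMap.add_apply, map_add, map_smul,
        LinearMap.smul_apply, End.one_apply] at this
      linear_combination (norm := module) this
    by_cases h2 : j = 0
    · have h3 := h1 f
      rw [h2, hef.B_ef] at h3
      have h4 : θ e = D.B e (θ f) • e := smul_right_injective V ht (by linear_combination (norm := module) -h3)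
      refine hc' (D.B e (θ f)) (smul_left_injective F hef.e_ne_zero ?_)
      generalize D.B e (θ f) = r at h4
      simpa [pow_succ, h4, smul_smul, sub_smul, mul_assoc] using LinearMap.congr_fun h.2 e
    · have h3 : Submodule.span F (Set.range ![e, θ e]) = ⊤ := eq_top_iff.2 fun v _ => by
        rw [← Submodule.smul_mem_iff _ h2, ← h1]
        exact sub_mem (Submodule.smul_mem _ _ (Submodule.subset_span ⟨0, rfl⟩))
          (Submodule.smul_mem _ _ (Submodule.subset_span ⟨1, rfl⟩))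
      have := finrank_range_le_card (R := F) ![e, θ e]
      rw [Set.finrank, h3, finrank_top, Fintype.card_fin] at this
      omega
  · obtain ⟨φ, hφ⟩ := hI _ _ (D.nondeg_restrict_iff.2 hW.2) (D.nondeg_restrict_iff.2 hW'.2) (hW.1.trans hW'.1.symm)
    exact stab_ker_conj ((hD.exists_map_eq φ hφ).imp fun _ h => h.2) (hd _ (by rintro rfl; simp at hW'; omega) hW'.2)
  · obtain ⟨φ, h1, h2⟩ := hθ θ θ' c h.1 h'.1 h.2 h'.2 hc'
    refine exists_ker_conj _ (fun d => ?_) ⟨⟨φ, h1⟩, fun g ⟨j, hj⟩ => ⟨j, LinearMap.ext fun v => ?_⟩⟩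
    · obtain ⟨s, h3, h4⟩ := hs d
      exact ⟨D.scalar s h3, ⟨0, LinearMap.ext fun v => by simp [nat_apply, scalar_apply]⟩,
        Units.ext ((det_of_smul (scalar_apply s h3)).trans h4)⟩
    · obtain ⟨v, rfl⟩ := φ.surjective v
      have := LinearMap.congr_fun hj v
      simp only [nat_apply, End.mul_apply, LinearEquiv.coe_coe] at this
      change φ (g.1 (φ.symm (θ' (φ v)))) = (θ' + j • 1) (φ (g.1 (φ.symm (φ v))))
      simp [← h2, this]
  by_cases h : Indec D (nat D g.1)
  · exact .inr (h.exists_as hD hC ⟨k, hn⟩ hS g.1.2.B_map hc hc')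
  obtain ⟨W, h1⟩ := not_forall.1 h
  push Not at h1
  obtain ⟨h1, h2, h3, h4⟩ := h1
  have h5 := D.mem_stab_of_mapsTo (g := g.1) h1
  obtain ⟨l, hl⟩ := hW W h2 h3 h4
  have h6 := Submodule.one_le_finrank_iff.2 h3
  have h7 := Submodule.finrank_lt h4
  have h8 := hD.finrank_perp W
  obtain rfl | rfl : l = 1 ∨ l = 2 := by
    have : l < 3 := by nlinarith
    have : l ≠ 0 := by rintro rfl; omega
    omega
  · exact .inl ⟨W, ⟨by omega, h2⟩, h5⟩
  · exact .inl ⟨D.perp W, ⟨by omega, hD.disjoint_perp h2⟩, D.stab_le_stab_perp W h5⟩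

omit hC [Nontrivial V] [CharP F 3] in
theorem isoC_of_selfadj [Finite F] {θ' : End F V} (hQ : ∀ (D' : Form K V) f, (∀ u v, D.B (f u) (f v) = D'.B u v) →
    IsIsometry D' D f) (h1 : adj hD θ = θ) (h2 : adj hD θ' = θ') (hs : Sim θ θ')
    (H : ∃ ϑ : End F V, Commute θ ϑ ∧ Commute ϑ (adj hD ϑ) ∧ IsUnit (ϑ - adj hD ϑ) ∧
      ∀ (D' : Form K V) (hD' : D'.Nondeg), adj hD' θ = θ → adj hD' ϑ = adj hD ϑ) : IsoC D θ D θ' := by
  obtain ⟨e, he⟩ := hs
  have h0 : IsoC (D.comap e.toLinearMap) θ D θ' := isoC_comap he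
  have hD₁ : (D.comap e.toLinearMap).Nondeg := h0.iso.symm.nondeg hD
  have h3 : adj hD₁ θ = θ := adj_eq hD₁ fun u v => by simp [he, ← adj_spec hD θ', h2]
  obtain ⟨ϑ, h4, h5, h6, h7⟩ := H
  obtain ⟨-, a, -, -, hu, ha, hc⟩ := exists_comm_equiv hD hD₁ (h7 _ hD₁ h3) h5 h6
  have := hc θ (h3.trans h1.symm) h4 (by simpa [h1] using (anti_adj hD).commute h4)
  exact IsoC.trans (IsoC.symm ⟨LinearEquiv.ofBijective a ((Module.End.isUnit_iff _).1 hu), hQ _ _ ha,
    fun v => (LinearMap.congr_fun this.eq v).symm⟩) h0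

omit hD hC [Nontrivial V] [CharP F 3] [FiniteDimensional F V] in
theorem exists_as_poly {c : F} (hc : ∀ r : F, r ^ 3 - r ≠ c) :
    ∃ m : F[X], m.Monic ∧ Irreducible m ∧ m.natDegree = 3 ∧ ∀ η : End F V, η ^ 3 - η = c • 1 → aeval η m = 0 := by
  obtain ⟨f, a0, a1, a2, a3⟩ := irr_cubic (V := V) (a := 0) (b := -1) (c := -c) fun r hr => hc r (by linear_combination hr)
  exact ⟨f, a0, a1, a2, fun η h => (a3 η).2 (by unfold Cub; linear_combination (norm := module) h)⟩

omit hD hC [Nontrivial V] [CharP F 3] [FiniteDimensional F V] in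
theorem cub_of_le {m : F[X]} (h0 : m ≠ 0) (h : m.natDegree ≤ 3) (h1 : aeval η m = 0) : ∃ a b c, Cub η a b c := by
  have h2 := aeval_eq_sum_range (p := m * C m.leadingCoeff⁻¹ * X ^ (3 - m.natDegree)) η
  have h3 := (monic_mul_leadingCoeff_inv h0).mul (monic_X_pow (3 - m.natDegree))
  have h4 : (m * C m.leadingCoeff⁻¹ * X ^ (3 - m.natDegree)).natDegree = 3 := by
    rw [natDegree_mul_X_pow _ (monic_mul_leadingCoeff_inv h0).ne_zero, natDegree_mul_leadingCoeff_inv _ h0]; omega
  rw [map_mul, map_mul, h1, zero_mul, zero_mul] at h2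
  generalize m * C m.leadingCoeff⁻¹ * X ^ (3 - m.natDegree) = p at *
  rw [Monic, leadingCoeff, h4] at h3
  simp only [h4, Finset.sum_range_succ, Finset.sum_range_zero, h3, pow_one, pow_zero] at h2
  exact ⟨p.coeff 2, p.coeff 1, p.coeff 0, by unfold Cub; linear_combination (norm := module) -h2⟩

omit hD hC [Nontrivial V] in
theorem cov_su_three {q : ℕ} {h : IsConj σ q} {D : Form h.kind V} (hD : D.Nondeg) (hn : finrank F V = 3) :
    Cov D.det.ker := by
  haveI := h.finite
  haveI : Nontrivial V := nontrivial_of_finrank_eq_succ hn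
  obtain ⟨e, f, he⟩ := Herm.exists_isHyp hD (by omega)
  obtain ⟨c, hc, hc'⟩ := h.exists_trace_zero
  refine cov_three hD (fun η _ => cub_of_le η.charpoly_monic.ne_zero (η.charpoly_natDegree.trans hn).le
    η.aeval_self_charpoly) (k := 1) hn (fun ζ d h1 h2 h3 => .inl ?_) (fun _ _ _ _ => one_dvd _)
    (fun _ _ => Herm.iso) (fun W => herm_stab_det hD) (fun θ θ' c h1 h2 h3 h4 h5 => ?_) (fun g => ?_) he hc
    fun e he => (Herm.isRk1_iff_of_Q_eq_zero he).2 hc'
  · have h4 := congrArg LinearMap.det h3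
    have h5 := det_adj hD ζ
    rw [h1] at h5
    rw [map_mul, det_smul, map_one, hn] at h4
    by_cases h6 : d = 0
    · exact ⟨0, map_zero _, by simp [h6]⟩
    · exact ⟨LinearMap.det ζ / d, by rw [map_div₀, ← h5, h2], by field_simp; linear_combination h4⟩
  · obtain ⟨m, a0, a1, -, a3⟩ := exists_as_poly (V := V) h5
    obtain ⟨t, ht⟩ := h.exists_not_fixed
    exact isoC_of_selfadj hD (fun _ _ => herm_isIsometry) h1 h2 (sim_of_irr a0 a1 (a3 _ h3) (a3 _ h4) rfl)
      ⟨algebraMap F _ t, (Algebra.commutes _ _).symm, Algebra.commutes _ _,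
        by rw [adj_algebraMap, ← map_sub]; exact (IsUnit.mk0 _ (sub_ne_zero.2 ht.symm)).map _,
        fun _ _ _ => by rw [adj_algebraMap, adj_algebraMap]⟩
  · haveI : Fact (Nat.Prime 3) := ⟨by norm_num⟩
    obtain ⟨s, hs⟩ := (frobeniusEquiv F 3).surjective (D.det g)
    refine ⟨s, (frobeniusEquiv F 3).injective ?_, hn ▸ hs⟩
    rw [map_mul, hs, map_one, frobeniusEquiv_def, ← map_pow, ← frobeniusEquiv_def, hs, hD.det_mul_σ_det]

omit hD hC [Nontrivial V] [FiniteDimensional F V] in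
theorem isTS_orb {D : Form (altKind F) V} (h : ∀ u v, D.B (θ u) v = D.B u (θ v)) (v : V) : D.IsTS (orb θ v) := by
  have h1 : ∀ (φ : F[X]) u w, D.B (aeval θ φ u) w = D.B u (aeval θ φ w) := fun φ => by
    induction φ using Polynomial.induction_on with
    | C a => simp
    | add p q hp hq => simp [hp, hq]
    | monomial n a ih =>
      intro u w
      rw [pow_succ, ← mul_assoc, map_mul, aeval_X, End.mul_apply, ih, h, ← End.mul_apply, (commute_aeval (.refl θ) _).eq]
  refine Symp.isTS ?_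
  rintro _ ⟨φ, rfl⟩ _ ⟨ψ, rfl⟩
  change D.B (aeval θ φ v) (aeval θ ψ v) = 0
  rw [h1, ← End.mul_apply, ← map_mul]
  have := h1 (φ * ψ) v v
  rw [Symp.B_symm] at this
  linear_combination this + three_eq_zero (F := F) * D.B v (aeval θ (φ * ψ) v)

omit hD hC [Nontrivial V] in
theorem cov_sp_six [Finite F] {D : Form (altKind F) V} (hD : D.Nondeg) (hn : finrank F V = 6) : Cov D.isom := by
  haveI : Nontrivial V := nontrivial_of_finrank_eq_succ hn
  obtain ⟨e, f, he⟩ := Symp.exists_isHyp hD (by omega)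
  have h0 : ∀ {D' : Form (altKind F) V} (hD' : D'.Nondeg) θ, adj hD' θ = θ → ∀ v, D'.IsTS (orb θ v) :=
    fun hD' θ h => isTS_orb fun u v => by rw [← adj_spec hD', h]
  refine (cov_three hD (fun η h => ?_) (k := 2) hn (fun ζ d h1 _ h3 => ?_) (fun W h _ _ => ?_)
    (fun _ _ => Symp.iso) (fun W _ _ c => ⟨1, one_mem _, by simp [Symp.det_eq_one hD]⟩)
    (fun θ θ' c h1 h2 h3 h4 h5 => ?_) (fun g => ⟨1, by simp, by simp [Symp.det_eq_one hD]⟩) he one_ne_zero
    fun e _ => Symp.isRk1 D e 1).of_equiv (Subgroup.topEquiv.symm.trans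
      (MulEquiv.subgroupCongr (eq_top_iff.2 fun g _ => Symp.det_eq_one hD g).symm))
  · obtain ⟨v, hv⟩ := exists_ker_toSpanSingleton_eq_annihilator (R := F[X]) (M := AEval' η)
    obtain ⟨v, rfl⟩ := (AEval'.of η).surjective v
    have h1 := (h0 hD η h v).two_mul_finrank_le hD
    obtain ⟨m, h2, h3⟩ := (Submodule.ne_bot_iff _).1 (ker_ne_bot_of_finrank_lt
      (f := (applyₗ v ∘ₗ (aeval η).toLinearMap).rangeRestrict ∘ₗ (degreeLT F 4).subtype) (by
        rw [finrank_eq_card_basis (degreeLT.basis F 4), Fintype.card_fin]; change finrank F (orb η v) < 4; omega))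
    have h4 : m.1 ≠ 0 := by simpa using h3
    refine cub_of_le h4 (Nat.le_of_lt_succ ((natDegree_lt_iff_degree_lt h4).2 (mem_degreeLT.1 m.2))) ?_
    rw [← RingHom.mem_ker, ← AEval.annihilator_eq_ker_aeval (M := V), ← hv, mem_ker, toSpanSingleton_apply,
      ← AEval.of_aeval_smul, map_eq_zero_iff _ (AEval'.of η).injective]
    exact congrArg Subtype.val h2
  · refine or_iff_not_imp_left.2 fun h => ?_
    have h4 : (X ^ 2 - C d : F[X]).Monic := monic_X_pow_sub_C _ two_ne_zero
    obtain ⟨φ, hφ⟩ := (sim_of_irr (x := ζ) (y := -ζ) h4 ((X_pow_sub_C_irreducible_iff_of_prime Nat.prime_two).2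
      fun s hs => h ⟨s, rfl, by rw [← hs, sq]⟩) (by simp [sq, h3, Algebra.algebraMap_eq_smul_one])
      (by simp [sq, h3, Algebra.algebraMap_eq_smul_one]) rfl).eq_conj
    have := congrArg (trace F V) hφ
    rw [trace_conj', map_neg] at this
    linear_combination this + three_eq_zero (F := F) * trace F V ζ
  · exact (Symp.exists_finrank_eq (D.nondeg_restrict_iff.2 h)).imp fun _ h => h
  obtain ⟨m, a0, a1, a2, a3⟩ := exists_as_poly (V := V) h5
  refine isoC_of_selfadj hD (fun _ _ => alt_isIsometry) h1 h2 (sim_of_irr a0 a1 (a3 _ h3) (a3 _ h4) rfl) ?_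
  have b1 : ∀ W : Submodule F V, (∀ v ∈ W, θ v ∈ W) → 3 ∣ finrank F W := fun W hW => by
    obtain ⟨k, -, hk⟩ := hasED_of_irr (x := θ.restrict hW) a0 a1 (LinearMap.ext fun v => Subtype.ext
      ((aeval_intertwine W.subtype (fun _ => rfl) m v).trans (by simp [a3 _ h3])))
    exact ⟨k, by rw [hk, a2, mul_comm]⟩
  have b2 : ∀ v, v ≠ 0 → finrank F (orb θ v) = 3 := fun v hv => by
    have := (h0 hD θ h1 v).two_mul_finrank_le hD
    have := b1 _ (orb_inv v)
    have := Submodule.one_le_finrank_iff.2 ((Submodule.ne_bot_iff _).2 ⟨v, self_mem_orb (x := θ) v, hv⟩)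
    omega
  have b3 := b2 e he.e_ne_zero
  have b4 := b2 f he.f_ne_zero
  have b5 : Disjoint (orb θ e) (orb θ f) := by
    have := b1 (orb θ e ⊓ orb θ f) fun v hv => ⟨orb_inv e v hv.1, orb_inv f v hv.2⟩
    have := Submodule.finrank_lt_finrank_of_lt (inf_lt_right.2 fun h : orb θ f ≤ orb θ e =>
      one_ne_zero (he.B_ef.symm.trans ((h0 hD θ h1 e).B_eq _ (self_mem_orb e) _ (h (self_mem_orb f)))))
    exact disjoint_iff.2 (Submodule.finrank_eq_zero.1 (by omega))
  have b6 : IsCompl (orb θ e) (orb θ f) := (Submodule.isCompl_iff_disjoint _ _ (by omega)).2 b5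
  have b7 : ∀ (D' : Form (altKind F) V) (hD' : D'.Nondeg), adj hD' θ = θ →
      adj hD' (Submodule.projection _ _ b6) = 1 - Submodule.projection _ _ b6 := fun D' hD' h => adj_eq hD' fun u v => by
    obtain ⟨a, b, rfl, -⟩ := Submodule.existsUnique_add_of_isCompl b6 u
    obtain ⟨c, d, rfl, -⟩ := Submodule.existsUnique_add_of_isCompl b6 v
    simp [(h0 hD' θ h e).B_eq _ a.2 _ c.2, (h0 hD' θ h f).B_eq _ b.2 _ d.2]
  refine ⟨Submodule.projection _ _ b6, isCompl_ext b6 (fun v hv => ?_) fun v hv => ?_, ?_, ?_,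
    fun D' hD' h => by rw [b7 _ _ h, b7 _ _ h1]⟩
  · simp [Submodule.projection_apply_of_mem_left b6, hv, orb_inv e v hv]
  · simp [Submodule.projection_apply_of_mem_right b6, hv, orb_inv f v hv]
  · rw [b7 _ _ h1]; exact (Commute.one_right _).sub_right (.refl _)
  · rw [b7 _ _ h1]
    refine isUnit_of_inj fun v hv => ?_
    obtain ⟨a, b, rfl, -⟩ := Submodule.existsUnique_add_of_isCompl b6 v
    have : a.1 = b := by simpa [sub_eq_zero] using hv
    rw [← this, show a.1 = 0 from b5.le_bot ⟨a.2, this ▸ b.2⟩, add_zero]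

end Cfsg.Lib.Conj
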