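import Cfsg.Agent.Lib.Conj.ClsN

/-! Unipotent isometries of quadratic spaces in characteristic two: normalising generators. -/

set_option autoImplicit false

namespace Cfsg.Lib.Conj

open Module Cfsg.Lib.Forms Cfsg.Lib.Forms.Form Cfsg.Lib.Known Cfsg.Lib.Linear Polynomial Finset

variable {F : Type*} [Field F] {V : Type*} [AddCommGroup V] [Module F V]

/-- An isometry of a non-degenerate quadratic space in characteristic two. -/
structure Ev (D : Form (quadKind F) V) (x : End F V) : Prop where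
  two : (2 : F) = 0
  nd : D.Nondeg
  iso : IsIsometry D D x

variable {D : Form (quadKind F) V} {x : End F V} {U : Submodule F V} {e f g v w : V} {a b m s k : ℕ}

local notation:max "N" j:max => ((x - 1) ^ (j : ℕ) : End F V)

theorem pw_pw (a b : ℕ) (v : V) : N a (N b v) = N (a + b) v := by rw [pow_add]; rfl

theorem pw_x (a : ℕ) (v : V) : N a (x v) = x (N a v) :=
  (pow_intertwine (f := x) (fun _ => rfl) a v).symm

theorem pw_one (v : V) : N 1 v = x v - v := by simp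

theorem pw_mono (h : N m w = 0) (hm : m ≤ a) : N a w = 0 := by
  obtain ⟨j, rfl⟩ := Nat.exists_eq_add_of_le' hm
  rw [← pw_pw, h, map_zero]

theorem pw_mem (hU : ∀ v ∈ U, x v ∈ U) (a : ℕ) (hv : v ∈ U) : N a v ∈ U := by
  induction a with
  | zero => exact hv
  | succ a ih => rw [pow_succ']; exact U.sub_mem (hU _ ih) ih

variable (D x) in
/-- The quadratic form of level `j`. -/
def qq (j : ℕ) (v : V) : F := D.Q (N j v)

variable (D x) in
/-- The bilinear form of level `j`. -/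
def bb (j : ℕ) : V →ₗ[F] V →ₗ[F] F := D.B.compl₁₂ (N j) (N j)

theorem bb_apply (j : ℕ) (v w : V) : bb D x j v w = D.B (N j v) (N j w) := rfl

theorem bb_comm (j : ℕ) (v w : V) : bb D x j v w = bb D x j w v := quad_symm D _ _

theorem qq_add (j : ℕ) (v w : V) : qq D x j (v + w) = qq D x j v + qq D x j w + bb D x j v w := by
  rw [qq, map_add, quad_Q_add]; rfl

theorem qq_smul (j : ℕ) (c : F) (v : V) : qq D x j (c • v) = c ^ 2 * qq D x j v := by
  rw [qq, map_smul, quad_Q_smul]; rfl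

theorem qq_pw (j a : ℕ) (v : V) : qq D x j (N a v) = qq D x (j + a) v := by rw [qq, pw_pw]; rfl

theorem qq_zero (j : ℕ) : qq D x j 0 = 0 := by simp [qq]

namespace Ev

variable (h : Ev D x)
include h

theorem B_self (v : V) : D.B v v = 0 := by rw [quad_B_self, h.two, zero_mul]

theorem bb_self (j : ℕ) (v : V) : bb D x j v v = 0 := h.B_self _

theorem B_N (v w : V) : D.B (N 1 v) w = D.B v (N 1 w) + D.B (N 1 v) (N 1 w) := by
  simp only [pw_one, D.B_lin, h.iso.B_map]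
  linear_combination (D.B (x v) w - D.B v w) * h.two

theorem qq_succ (j : ℕ) (v : V) : qq D x (j + 1) v = D.B (N j v) (N (j + 1) v) := by
  rw [qq, add_comm j, ← pw_pw, pw_one, quad_Q_sub, h.iso.Q_map, D.B_sub_right, h.B_self, quad_symm D (x _)]
  linear_combination (D.Q (N j v) - D.B (N j v) (x (N j v))) * h.two

theorem B_x_sq (v w : V) : D.B (x v) (N 2 w) = D.B (N 1 v) (N 1 w) := by
  rw [show 2 = 1 + 1 from rfl, ← pw_pw, pw_one (N 1 w), pw_one v]
  simp only [D.B_lin, h.iso.B_map]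
  linear_combination (D.B v (N 1 w) - D.B (x v) (N 1 w)) * h.two

variable [FiniteDimensional F V]

theorem BZ (hw : N m w = 0) (v : V) (hm : m ≤ a + b) : D.B (N a v) (N b w) = 0 :=
  B_pow_eq_zero h.nd h.iso.B_map _ (by rw [pw_pw]; exact pw_mono hw hm)

theorem BZ' (hv : N m v = 0) (w : V) (hm : m ≤ a + b) : D.B (N a v) (N b w) = 0 :=
  (quad_symm D _ _).trans (h.BZ hv w (add_comm a b ▸ hm))

theorem Bsw (hw : N m w = 0) (v : V) (hm : a + b + 1 = m) : D.B (N a v) (N b w) = D.B (N (a + b) v) w := by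
  induction b generalizing a with
  | zero => rfl
  | succ b ih =>
    have := h.B_N (N a v) (N b w)
    simp only [pw_pw] at this
    rw [h.BZ hw (a := 1 + a) (b := 1 + b) v (by omega), add_zero, ih (by omega)] at this
    rw [add_comm b, ← this, show 1 + a + b = a + (1 + b) by omega]

theorem bb_zero (hw : N m w = 0) (v : V) {j : ℕ} (hm : m ≤ 2 * j) : bb D x j v w = 0 :=
  h.BZ hw v (by omega)

theorem qq_eq_zero (hv : N m v = 0) {j : ℕ} (hm : m + 1 ≤ 2 * j) : qq D x j v = 0 := by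
  obtain ⟨j, rfl⟩ : ∃ i, j = i + 1 := ⟨j - 1, by omega⟩
  rw [h.qq_succ, h.BZ hv v (by omega)]

theorem shift (hU : ∀ v ∈ U, x v ∈ U) (i : ℕ) (hg : g ∈ U) : ∃ z ∈ U,
    (∀ j v, bb D x j v (N 2 z) = bb D x (j + i + 1) v g) ∧
      ∀ j, qq D x j (N 2 z) = qq D x (j + 2 * i + 2) g := by
  have key : ∀ g ∈ U, ∃ z ∈ U, (∀ j v, bb D x j v (N 2 z) = bb D x (j + 1) v g) ∧
      ∀ j, qq D x j (N 2 z) = qq D x (j + 2) g := fun g hg => by
    obtain ⟨z, hz, rfl⟩ := surj_of_inv (isUnit_of_isIsometry h.nd h.iso.B_map) hU hg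
    refine ⟨z, hz, fun j v => ?_, fun j => ?_⟩
    · rw [bb_apply, bb_apply, ← h.iso.B_map, ← pw_x j (N 2 z), ← pw_x 2 z, pw_pw, add_comm j 2, ← pw_pw,
        h.B_x_sq, pw_pw, pw_pw, add_comm 1 j]
    · rw [qq_pw, qq, qq, pw_x, h.iso.Q_map]
  induction i with
  | zero => exact key g hg
  | succ i ih =>
    obtain ⟨z, hz, h1, h2⟩ := ih
    obtain ⟨z', hz', h3, h4⟩ := key _ (pw_mem hU 2 hz)
    exact ⟨z', hz', fun j v => by rw [h3, h1, show j + 1 + i + 1 = j + (i + 1) + 1 by omega], fun j => by rw [h4, h2]; congr 1; omega⟩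

/-- Killing the lower levels. -/
theorem lemA (hU : ∀ v ∈ U, x v ∈ U) (hg : g ∈ U) (h1 : bb D x s v g ≠ 0)
    (h2 : ∀ j, s < j → bb D x j v g = 0) (h3 : ∀ j, s < j → qq D x j g = 0) :
    ∃ z ∈ U, (∀ j < s, qq D x j (v + N 2 z) = 0) ∧ ∀ j, s ≤ j → qq D x j (v + N 2 z) = qq D x j v := by
  have key : ∀ i ≤ s, ∃ z ∈ U, (∀ j < s, s ≤ j + i → qq D x j (v + N 2 z) = 0) ∧
      (∀ j, s ≤ j → qq D x j (v + N 2 z) = qq D x j v) ∧ ∀ j, bb D x j (v + N 2 z) g = bb D x j v g := by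
    intro i hi
    induction i with
    | zero => exact ⟨0, U.zero_mem, fun j _ _ => by omega, by simp, by simp⟩
    | succ i ih =>
      obtain ⟨z, hz, k1, k2, k3⟩ := ih (by omega)
      obtain ⟨z', hz', k4, k5⟩ := h.shift hU i hg
      obtain ⟨j0, rfl⟩ : ∃ j0, s = j0 + i + 1 := ⟨s - (i + 1), by omega⟩
      set t := -qq D x j0 (v + N 2 z) / bb D x (j0 + i + 1) v g
      have e1 : v + N 2 (z + t • z') = (v + N 2 z) + t • N 2 z' := by rw [map_add, map_smul, add_assoc]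
      have e2 : ∀ j, j0 ≤ j → qq D x j (v + N 2 (z + t • z')) =
          qq D x j (v + N 2 z) + t * bb D x (j + i + 1) v g := fun j hj => by
        rw [e1, qq_add, qq_smul, k5, h3 _ (by omega), map_smul, k4, k3]; simp
      refine ⟨z + t • z', U.add_mem hz (U.smul_mem _ hz'), fun j hj hj' => ?_, fun j hj => ?_, fun j => ?_⟩
      · rw [e2 j (by omega)]
        rcases (show j0 ≤ j by omega).eq_or_lt with rfl | hj0
        · simp only [t]; field_simp; ring
        · rw [k1 j hj (by omega), h2 _ (by omega)]; simp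
      · rw [e2 j (by omega), k2 j hj, h2 _ (by omega)]; simp
      · rw [e1, map_add, LinearMap.add_apply, k3, map_smul, LinearMap.smul_apply, bb_comm j (N 2 z'), k4,
          h.bb_self]; simp
  obtain ⟨z, hz, k1, k2, -⟩ := key s le_rfl
  exact ⟨z, hz, fun j hj => k1 j hj (by omega), k2⟩

/-- Prescribing the pairing. -/
theorem lemP (hU : ∀ v ∈ U, x v ∈ U) (hf : f ∈ U) (h0 : N m f = 0)
    (h1 : ∀ k, k + 1 = m → D.B (N k e) f ≠ 0) (c : ℕ → F) : ∃ z ∈ U, ∀ a < m, D.B (N a e) z = c a := by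
  have key : ∀ i ≤ m, ∃ z ∈ U, ∀ a < m, m ≤ a + i → D.B (N a e) z = c a := by
    intro i hi
    induction i with
    | zero => exact ⟨0, U.zero_mem, fun j _ _ => by omega⟩
    | succ i ih =>
      obtain ⟨z, hz, k1⟩ := ih (by omega)
      obtain ⟨a0, rfl⟩ : ∃ a0, m = a0 + i + 1 := ⟨m - (i + 1), by omega⟩
      have k2 := h1 _ rfl
      refine ⟨z + ((c a0 - D.B (N a0 e) z) / D.B (N (a0 + i) e) f) • N i f,
        U.add_mem hz (U.smul_mem _ (pw_mem hU i hf)), fun a ha ha' => ?_⟩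
      rw [D.B_add_right, D.B_smul_right]
      rcases (show a0 ≤ a by omega).eq_or_lt with rfl | hj0
      · rw [h.Bsw h0 e rfl]; field_simp; ring
      · rw [k1 a ha (by omega), h.BZ h0 e (by omega)]; simp
  obtain ⟨z, hz, k1⟩ := key m le_rfl
  exact ⟨z, hz, fun a ha => k1 a ha (by omega)⟩

theorem lemP' (hU : ∀ v ∈ U, x v ∈ U) (h0 : ∀ w ∈ U, N (m + 1) w = 0) (hf : f ∈ U)
    (h1 : D.B (N m e) f ≠ 0) (c : ℕ → F) : ∃ z ∈ U, ∀ a < m, D.B (N a e) (N 1 z) = c a := by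
  obtain ⟨_, ⟨z, hz, rfl⟩, k⟩ := h.lemP (U := U.map (N 1)) (e := e) (f := N 1 f) (m := m) (by
    rintro _ ⟨v, hv, rfl⟩; exact ⟨_, hU v hv, pw_x 1 v⟩) ⟨f, hf, rfl⟩ (by rw [pw_pw, h0 f hf])
    (fun k hk => by rwa [h.Bsw (h0 f hf) e (by omega), hk]) c
  exact ⟨z, hz, k⟩

end Ev

section Gram

variable {V' : Type*} [AddCommGroup V'] [Module F V'] {D' : Form (quadKind F) V'} {y : End F V'}
  {e' f' : V'}

theorem gram_self (h : Ev D x) (h' : Ev D' y) (H : ∀ j, qq D x (j + 1) e = qq D' y (j + 1) e') (k j : ℕ) :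
    D.B (N (j + k) e) (N j e) = D'.B (((y - 1) ^ (j + k)) e') (((y - 1) ^ j) e') := by
  induction k using Nat.twoStepInduction generalizing j with
  | zero => exact (h.B_self _).trans (h'.B_self _).symm
  | one => rw [quad_symm, ← h.qq_succ, H, h'.qq_succ, quad_symm]
  | more k ih ih' =>
    have a := h.B_N (N (j + k + 1) e) (N j e)
    have b := h'.B_N (((y - 1) ^ (j + k + 1)) e') (((y - 1) ^ j) e')
    have c := ih (1 + j)
    have d := ih' (1 + j)
    simp only [pw_pw, show 1 + (j + k + 1) = j + (k + 2) by omega, show 1 + j + k = j + k + 1 by omega,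
      show 1 + j + (k + 1) = j + (k + 2) by omega] at a b c d
    rw [a, b, c, d]

theorem gram_pair (h : Ev D x) (h' : Ev D' y) (h0 : N m e = 0) (h0' : ((y - 1) ^ m) e' = 0)
    (H : ∀ a, D.B (N a e) f = D'.B (((y - 1) ^ a) e') f') (a b : ℕ) :
    D.B (N a e) (N b f) = D'.B (((y - 1) ^ a) e') (((y - 1) ^ b) f') := by
  induction b generalizing a with
  | zero => exact H a
  | succ b ih =>
    have key : ∀ i a, m ≤ a + i → D.B (N a e) (N (1 + b) f) =
        D'.B (((y - 1) ^ a) e') (((y - 1) ^ (1 + b)) f') := fun i => by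
      induction i with
      | zero => intro a ha; rw [pw_mono (a := a) h0 ha, pw_mono (a := a) h0' ha]; simp
      | succ i ih' =>
        intro a ha
        have k := h.B_N (N a e) (N b f)
        have k' := h'.B_N (((y - 1) ^ a) e') (((y - 1) ^ b) f')
        simp only [pw_pw] at k k'
        linear_combination k' - k + ih (1 + a) - ih' (1 + a) (by omega)
    exact add_comm b 1 ▸ key m a (by omega)

theorem gram_self' (h : Ev D x) (h' : Ev D' y) (H : ∀ j, qq D x (j + 1) e = qq D' y (j + 1) e') (a b : ℕ) :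
    D.B (N a e) (N b e) = D'.B (((y - 1) ^ a) e') (((y - 1) ^ b) e') := by
  rcases le_total a b with k | k <;> obtain ⟨j, rfl⟩ := Nat.exists_eq_add_of_le k
  · rw [quad_symm, gram_self h h' H, quad_symm]
  · exact gram_self h h' H _ _

theorem isoC_of_fam {K : Kind (RingHom.id F)} {E : Form K V} {E' : Form K V'} (hE : E.Nondeg)
    (hE' : E'.Nondeg) {κ : Type*} {G : κ → V} {G' : κ → V'} (n : κ → κ)
    (h1 : Submodule.span F (Set.range G) = ⊤) (h1' : Submodule.span F (Set.range G') = ⊤)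
    (hB : ∀ i j, E.B (G i) (G j) = E'.B (G' i) (G' j)) (hQ : ∀ i, E.Q (G i) = E'.Q (G' i))
    (hx : ∀ i, x (G i) = G (n i) + G i) (hy : ∀ i, y (G' i) = G' (n i) + G' i) : IsoC E x E' y := by
  let T := Finsupp.linearCombination F G
  let T' := Finsupp.linearCombination F G'
  have s : Function.Surjective T := by rwa [← LinearMap.range_eq_top, Finsupp.range_linearCombination]
  have s' : Function.Surjective T' := by rwa [← LinearMap.range_eq_top, Finsupp.range_linearCombination]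
  have kB : ∀ u w, E'.B (T' u) (T' w) = E.B (T u) (T w) := fun u w => by
    have : E'.B.compl₁₂ T' T' = E.B.compl₁₂ T T := by ext i j; simp [T, T', hB]
    exact LinearMap.congr_fun₂ this u w
  obtain ⟨S, hS⟩ := T.exists_rightInverse_of_surjective (LinearMap.range_eq_top.2 s)
  have k0 : ∀ u, T (S u) = u := LinearMap.congr_fun hS
  have k1 : ∀ u, T' (S (T u)) = T' u := fun u => hE'.ext fun z => by
    obtain ⟨w, rfl⟩ := s' z
    rw [kB, kB, k0]
  have k2 : IsIsometry E E' (T' ∘ₗ S) := ⟨fun u w => by simp [kB, k0], fun u => by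
    obtain ⟨u, rfl⟩ := s u
    rw [LinearMap.comp_apply, k1]
    induction u using Finsupp.induction_linear with
    | zero => simp
    | add u w hu hw => rw [map_add, map_add, E.Q_add, E'.Q_add, hu, hw, kB]
    | single i c => simp [T, T', Form.Q_smul, hQ]⟩
  have k3 : ∀ i, T' (S (G i)) = G' i := fun i => by simpa [T, T'] using k1 (Finsupp.single i 1)
  refine ⟨LinearEquiv.ofBijective (T' ∘ₗ S) ⟨k2.injective hE, fun z => ?_⟩, k2, fun v => ?_⟩
  · obtain ⟨w, rfl⟩ := s' z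
    exact ⟨T w, k1 w⟩
  · exact LinearMap.congr_fun (LinearMap.ext_on_range (f := (T' ∘ₗ S) ∘ₗ x) (g := y ∘ₗ T' ∘ₗ S) h1
      fun i => by simp [hx, hy, k3]) v

end Gram

variable (x) in
/-- The cyclic subspace. -/
def cy (v : V) : Submodule F V := Submodule.span F (Set.range fun a : ℕ => N a v)

theorem x_pw (a : ℕ) (v : V) : x (N a v) = N (a + 1) v + N a v := by rw [add_comm a, ← pw_pw, pw_one]; simp

theorem pw_mem_cy (a : ℕ) (v : V) : N a v ∈ cy x v := Submodule.subset_span ⟨a, rfl⟩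

theorem cy_inv (v : V) : ∀ w ∈ cy x v, x w ∈ cy x v := fun _ hw =>
  (Submodule.span_le (p := (cy x v).comap x)).2 (by
    rintro _ ⟨a, rfl⟩
    change x _ ∈ cy x v
    rw [x_pw]; exact (cy x v).add_mem (pw_mem_cy _ v) (pw_mem_cy a v)) hw

theorem cy_le (hU : ∀ v ∈ U, x v ∈ U) (hv : v ∈ U) : cy x v ≤ U :=
  Submodule.span_le.2 (by rintro _ ⟨a, rfl⟩; exact pw_mem hU a hv)

theorem mem_perp_cy : w ∈ D.perp (cy x v) ↔ ∀ a : ℕ, D.B (N a v) w = 0 := by
  simp [cy, mem_perp_span]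

/-- The blocks. -/
inductive Blk
  | V (s : ℕ) (δ : Bool)
  | W (a : ℕ)
  | Wb (k : ℕ)
  deriving DecidableEq

/-- The height of a block. -/
def Blk.hgt : Blk → ℕ
  | .V s _ => 2 * s + 2
  | .W a => a + 1
  | .Wb k => 2 * k + 1

/-- The values on the first generator. -/
def Blk.qe (α : F) : Blk → ℕ → F
  | .V s δ, j => if j = s + 1 then 1 else if j = s ∧ δ then α else 0
  | .W _, _ => 0
  | .Wb k, j => if j = k then 1 else 0

/-- The values on the second generator. -/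
def Blk.qf (α : F) : Blk → ℕ → F
  | .Wb k, j => if j = k then α else 0
  | _, _ => 0

variable (F) in
/-- The pairing of the generators. -/
def Blk.pr : Blk → ℕ → F
  | .V _ _, _ => 0
  | .W a, j => if j = a then 1 else 0
  | .Wb k, j => if j = 2 * k then 1 else 0

variable (D x) in
/-- Generators of a block. -/
structure IsB (α : F) (b : Blk) (e f : V) : Prop where
  he : N b.hgt e = 0
  hf : N b.hgt f = 0
  qe : ∀ j, qq D x j e = b.qe α j
  qf : ∀ j, qq D x j f = b.qf α j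
  pr : ∀ a, D.B (N a e) f = b.pr F a
  f0 : ∀ s δ, b = .V s δ → f = 0

namespace Ev

variable (h : Ev D x) [FiniteDimensional F V] {α : F}
include h

theorem inf_inv (hU : ∀ v ∈ U, x v ∈ U) (e : V) : ∀ v ∈ U ⊓ D.perp (cy x e), x v ∈ U ⊓ D.perp (cy x e) :=
  fun v hv => ⟨hU v hv.1, perp_inv (isUnit_of_isIsometry h.nd h.iso.B_map) h.iso.B_map (cy_inv e) v hv.2⟩

omit [FiniteDimensional F V] in
theorem bb_N (j : ℕ) (v : V) : bb D x j v (N 1 v) = qq D x (j + 1) v := by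
  rw [bb_apply, pw_pw, h.qq_succ]

theorem exV (hU : ∀ v ∈ U, x v ∈ U) (h0 : ∀ w ∈ U, N (2 * s + 2) w = 0) (hv : v ∈ U)
    (h1 : qq D x (s + 1) v = 1) {δ : Bool} {t : F} (ht : t ^ 2 + t + qq D x s v = if δ then α else 0) :
    ∃ e ∈ U, IsB D x α (.V s δ) e 0 := by
  have m1 : v + t • N 1 v ∈ U := U.add_mem hv (U.smul_mem _ (pw_mem hU 1 hv))
  have a1 : qq D x (s + 1) (v + t • N 1 v) = 1 := by
    rw [qq_add, qq_smul, qq_pw, map_smul, h.bb_N, h.qq_eq_zero (h0 v hv) (j := s + 1 + 1) (by omega), h1]; simp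
  have a2 : qq D x s (v + t • N 1 v) = if δ then α else 0 := by
    rw [qq_add, qq_smul, qq_pw, map_smul, h.bb_N, h1, ← ht]; simp; ring
  generalize v + t • N 1 v = u at m1 a1 a2
  obtain ⟨z, hz, k1, k2⟩ := h.lemA (v := u) (s := s) hU (pw_mem hU 1 m1) (by rw [h.bb_N, a1]; exact one_ne_zero)
    (fun j hj => by rw [h.bb_N, h.qq_eq_zero (h0 u m1) (by omega)])
    fun j hj => by rw [qq_pw, h.qq_eq_zero (h0 u m1) (by omega)]
  have m2 := U.add_mem m1 (pw_mem hU 2 hz)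
  refine ⟨_, m2, h0 _ m2, map_zero _, fun j => ?_, qq_zero, fun _ => map_zero _, fun _ _ _ => rfl⟩
  rw [Blk.qe]
  rcases lt_trichotomy j s with hj | rfl | hj
  · rw [k1 j hj, if_neg (by omega), if_neg (by omega)]
  · simp [k2, a2]
  · rw [k2 j hj.le]
    split_ifs with h2 h3
    · rw [h2, a1]
    · omega
    · exact h.qq_eq_zero (h0 u m1) (by omega)

theorem kill (hU : ∀ v ∈ U, x v ∈ U) (hg : g ∈ U) (hv0 : N (2 * s + 2) v = 0) (hg0 : N (2 * s + 2) g = 0)
    (h1 : D.B (N (2 * s + 1) v) g ≠ 0) (h2 : qq D x (s + 1) v = 0) (h3 : qq D x (s + 1) g = 0) :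
    ∃ z ∈ U, ∀ j, qq D x j (v + N 1 z) = 0 := by
  have b1 : bb D x s v (N 1 g) ≠ 0 := by
    rwa [bb_apply, pw_pw, h.Bsw hg0 v (by omega), show s + (s + 1) = 2 * s + 1 by omega]
  have b2 : ∀ j, s < j → bb D x j v (N 1 g) = 0 := fun j hj => by
    rw [bb_apply, pw_pw, h.BZ hg0 v (by omega)]
  have b3 : ∀ j, s ≤ j → qq D x j (N 1 g) = 0 := fun j hj => by
    rw [qq_pw]
    rcases hj.eq_or_lt with rfl | hj
    exacts [h3, h.qq_eq_zero hg0 (by omega)]
  set t := -qq D x s v / bb D x s v (N 1 g)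
  have b4 : ∀ j, bb D x j (v + t • N 1 g) (N 1 g) = bb D x j v (N 1 g) := fun j => by
    rw [map_add, map_smul, LinearMap.add_apply, LinearMap.smul_apply, h.bb_self, smul_zero, add_zero]
  obtain ⟨z, hz, k1, k2⟩ := h.lemA (v := v + t • N 1 g) (s := s) hU (pw_mem hU 1 hg) (by rwa [b4])
    (fun j hj => by rw [b4, b2 j hj]) fun j hj => b3 j hj.le
  refine ⟨t • g + N 1 z, U.add_mem (U.smul_mem _ hg) (pw_mem hU 1 hz), fun j => ?_⟩
  rw [map_add, map_smul, pw_pw, ← add_assoc]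
  rcases lt_or_ge j s with hj | hj
  · exact k1 j hj
  rw [k2 j hj, qq_add, qq_smul, b3 j hj, map_smul]
  rcases hj.eq_or_lt with rfl | hj
  · simp only [t, smul_eq_mul]; field_simp; ring
  · rw [b2 j hj]
    rcases (show s + 1 ≤ j from hj).eq_or_lt with rfl | hj
    · simp [h2]
    · simp [h.qq_eq_zero hv0 (show 2 * s + 2 + 1 ≤ 2 * j by omega)]

theorem norm_pr (hU : ∀ v ∈ U, x v ∈ U) (h0 : ∀ w ∈ U, N (m + 1) w = 0) (hf : f ∈ U)
    (h1 : D.B (N m e) f = 1) : ∃ z ∈ U, ∀ a, D.B (N a e) (f + N 1 z) = if a = m then 1 else 0 := by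
  obtain ⟨z, hz, k⟩ := h.lemP' hU h0 hf (e := e) (by simp [h1]) fun a => -D.B (N a e) f
  refine ⟨z, hz, fun a => ?_⟩
  rw [D.B_add_right]
  rcases lt_trichotomy a m with ha | rfl | ha
  · rw [k a ha, if_neg ha.ne, add_neg_cancel]
  · rw [h1, h.BZ (h0 z hz) e le_rfl, if_pos rfl, add_zero]
  · rw [if_neg ha.ne', h.BZ (h0 z hz) e (by omega), show f = N 0 f from rfl, h.BZ (h0 f hf) e ha, add_zero]

theorem exWe (hU : ∀ v ∈ U, x v ∈ U) (h0 : ∀ w ∈ U, N (2 * s + 2) w = 0) (he : e ∈ U) (hf : f ∈ U)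
    (h1 : D.B (N (2 * s + 1) e) f ≠ 0) (h2 : qq D x (s + 1) e = 0) (h3 : qq D x (s + 1) f = 0) :
    ∃ e ∈ U, ∃ f ∈ U, IsB D x α (.W (2 * s + 1)) e f := by
  obtain ⟨z, hz, k1⟩ := h.kill hU hf (h0 e he) (h0 f hf) h1 h2 h3
  have m1 := U.add_mem he (pw_mem hU 1 hz)
  have a1 : D.B (N (2 * s + 1) (e + N 1 z)) f ≠ 0 := by rwa [map_add, pw_pw, h0 z hz, add_zero]
  generalize e + N 1 z = u at m1 a1 k1
  obtain ⟨z, hz, k2⟩ := h.norm_pr (e := u) hU h0 (U.smul_mem (D.B (N (2 * s + 1) u) f)⁻¹ hf)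
    (by rw [D.B_smul_right, inv_mul_cancel₀ a1])
  have m2 := U.add_mem (U.smul_mem (D.B (N (2 * s + 1) u) f)⁻¹ hf) (pw_mem hU 1 hz)
  have a2 : qq D x (s + 1) ((D.B (N (2 * s + 1) u) f)⁻¹ • f + N 1 z) = 0 := by
    rw [qq_add, qq_smul, h3, qq_pw, h.qq_eq_zero (h0 z hz) (by omega),
      h.bb_zero (h0 _ (pw_mem hU 1 hz)) _ (by omega)]; simp
  generalize (D.B (N (2 * s + 1) u) f)⁻¹ • f + N 1 z = w at m2 a2 k2
  obtain ⟨z, hz, k3⟩ := h.kill (h.inf_inv hU u) (g := u) ⟨m1, mem_perp_cy.2 fun a => by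
    simpa using gram_self' h h (e' := 0) (fun j => by rw [k1, qq_zero]) a 0⟩ (h0 w m2) (h0 u m1) (by
      rw [quad_symm, show u = N 0 u from rfl, h.Bsw (h0 w m2) u (by omega)]; simp [k2]) a2 (k1 _)
  have m3 := pw_mem (h.inf_inv hU u) 1 hz
  exact ⟨u, m1, _, U.add_mem m2 m3.1, h0 u m1, h0 _ (U.add_mem m2 m3.1), k1, k3, fun a => by
    rw [D.B_add_right, k2, mem_perp_cy.1 m3.2, add_zero]; rfl, by simp⟩

theorem exO (hU : ∀ v ∈ U, x v ∈ U) (h0 : ∀ w ∈ U, N (2 * k + 1) w = 0) (he : e ∈ U) (hf : f ∈ U)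
    (h1 : D.B (N (2 * k) e) f = 1) : ∃ e' ∈ U, ∃ f' ∈ U,
      (∀ j, qq D x j e' = if j = k then qq D x k e else 0) ∧
      (∀ j, qq D x j f' = if j = k then qq D x k f else 0) ∧
      ∀ a, D.B (N a e') f' = if a = 2 * k then 1 else 0 := by
  have b0 : ∀ v, ∀ w ∈ U, bb D x k v w = D.B (N (2 * k) v) w := fun v w hw => by
    rw [bb_apply, h.Bsw (h0 w hw) v (by omega), two_mul]
  have A : ∀ {U' : Submodule F V}, U' ≤ U → (∀ v ∈ U', x v ∈ U') → ∀ v ∈ U, ∀ g ∈ U', bb D x k v g ≠ 0 →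
      ∃ z ∈ U', ∀ j, qq D x j (v + N 2 z) = if j = k then qq D x k v else 0 := fun l i v hv g hg hb => by
    obtain ⟨z, hz, k1, k2⟩ := h.lemA i hg hb (fun j hj => h.bb_zero (h0 g (l hg)) _ (by omega))
      fun j hj => h.qq_eq_zero (h0 g (l hg)) (by omega)
    refine ⟨z, hz, fun j => ?_⟩
    rcases lt_trichotomy j k with hj | rfl | hj
    · rw [k1 j hj, if_neg hj.ne]
    · simp [k2]
    · rw [k2 j hj.le, if_neg hj.ne', h.qq_eq_zero (h0 v hv) (by omega)]
  obtain ⟨z, hz, k1⟩ := A le_rfl hU e he f hf (by simp [b0 e f hf, h1])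
  have m1 := U.add_mem he (pw_mem hU 2 hz)
  have a1 : D.B (N (2 * k) (e + N 2 z)) f = 1 := by
    rwa [map_add, pw_pw, pw_mono (h0 z hz) (by omega), add_zero]
  generalize e + N 2 z = u at m1 a1 k1
  obtain ⟨z, hz, k2⟩ := h.norm_pr (e := u) hU h0 hf a1
  have m2 := U.add_mem hf (pw_mem hU 1 hz)
  have a2 : qq D x k (f + N 1 z) = qq D x k f := by
    rw [qq_add, qq_pw, h.qq_eq_zero (h0 z hz) (by omega), bb_apply, pw_pw, h.BZ (h0 z hz) _ (by omega)]; simp
  generalize f + N 1 z = w at m2 a2 k2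
  obtain ⟨z, hz, k3⟩ := h.lemP' hU h0 hf (e := u) (by simp [a1]) fun a => -D.B (N a u) u
  obtain ⟨z, hz, k4⟩ := A inf_le_left (h.inf_inv hU u) w m2 (u + N 1 z) ⟨U.add_mem m1 (pw_mem hU 1 hz),
    mem_perp_cy.2 fun a => by
      rw [D.B_add_right]
      rcases lt_trichotomy a (2 * k) with ha | rfl | ha
      · rw [k3 a ha, add_neg_cancel]
      · rw [← b0 u u m1, h.bb_self, h.BZ (h0 z hz) u le_rfl, add_zero]
      · rw [pw_mono (h0 u m1) ha]; simp⟩ (by
    rw [map_add, bb_comm k w u, b0 u w m2, k2, bb_apply, pw_pw, h.BZ (h0 z hz) _ (by omega)]; simp)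
  have m3 := pw_mem (h.inf_inv hU u) 2 hz
  exact ⟨u, m1, _, U.add_mem m2 m3.1, k1, a2 ▸ k4, fun a => by
    rw [D.B_add_right, k2, mem_perp_cy.1 m3.2, add_zero]⟩

theorem top_self (hv : N (2 * k + 1) v = 0) : D.B (N (2 * k) v) v = 0 := by
  rw [two_mul, ← h.Bsw hv v (by omega), h.B_self]

theorem exWo (hU : ∀ v ∈ U, x v ∈ U) (h0 : ∀ w ∈ U, N (2 * k + 1) w = 0) (he : e ∈ U) (hf : f ∈ U)
    (h1 : D.B (N (2 * k) e) f ≠ 0) (h2 : qq D x k e = 0) : ∃ e ∈ U, ∃ f ∈ U, IsB D x α (.W (2 * k)) e f := by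
  wlog h3 : D.B (N (2 * k) e) f = 1 generalizing f
  · have k := (D.B_smul_right (D.B (N (2 * k) e) f)⁻¹ _ f).trans (inv_mul_cancel₀ h1)
    exact this (U.smul_mem _ hf) (k.trans_ne one_ne_zero) k
  obtain ⟨e', m1, f', m2, k1, k2, k3⟩ := h.exO hU h0 he (U.add_mem hf (U.smul_mem (-qq D x k f) he))
    (by rw [D.B_add_right, D.B_smul_right, h.top_self (h0 e he), h3]; simp)
  refine ⟨e', m1, f', m2, h0 _ m1, h0 _ m2, fun j => by simp [k1, h2, Blk.qe], fun j => ?_, k3, by simp⟩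
  rw [k2, qq_add, qq_smul, h2, map_smul, bb_comm, bb_apply, h.Bsw (h0 f hf) e (by omega), ← two_mul, h3]
  simp [Blk.qf]

end Ev

end Cfsg.Lib.Conj
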