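import Cfsg.Agent.Lib.Conj.Ev1

/-! Unipotent isometries of quadratic spaces in characteristic two: normal forms. -/

set_option autoImplicit false

namespace Cfsg.Lib.Conj

open Module Cfsg.Lib.Forms Cfsg.Lib.Forms.Form Cfsg.Lib.Known Cfsg.Lib.Linear Polynomial

variable {F : Type*} [Field F] {V : Type*} [AddCommGroup V] [Module F V]
  {D : Form (quadKind F) V} {x : End F V} {U W : Submodule F V} {e f g v w : V} {a m s k : ℕ} {α : F}

local notation:max "N" j:max => ((x - 1) ^ (j : ℕ) : End F V)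

theorem exists_two {β : Type*} {R : β → β → Prop} {l : List β} (h : l.Pairwise R) {P : β → Bool}
    (h2 : 2 ≤ l.countP P) : ∃ a ∈ l.filter P, ∃ b ∈ l.filter P, R a b := by
  have := h.filter P
  rw [List.countP_eq_length_filter] at h2
  generalize l.filter P = t at this h2
  match t, h2, this with
  | a :: b :: t, _, h => exact ⟨a, by simp, b, by simp, by simp at h; tauto⟩

theorem exists_three {β : Type*} {R : β → β → Prop} {l : List β} (h : l.Pairwise R) {P : β → Bool}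
    (h2 : 3 ≤ l.countP P) : ∃ a ∈ l.filter P, ∃ b ∈ l.filter P, ∃ c ∈ l.filter P, R a b ∧ R a c ∧ R b c := by
  have := h.filter P
  rw [List.countP_eq_length_filter] at h2
  generalize l.filter P = t at this h2
  match t, h2, this with
  | a :: b :: c :: t, _, h => exact ⟨a, by simp, b, by simp, c, by simp, by simp at h; tauto⟩

theorem count_V (l : List Blk) (k : ℕ) : l.count (.V k false) + l.count (.V k true) =
    l.countP fun b => b = .V k false ∨ b = .V k true := by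
  induction l with
  | nil => rfl
  | cons b l ih =>
    simp only [List.count_cons, List.countP_cons, ← ih, beq_iff_eq, decide_eq_true_eq]
    split_ifs <;> simp_all <;> omega

/-- Half the dimension of a block. -/
def Blk.hd : Blk → ℕ
  | .V s _ => s + 1
  | .W a => a + 1
  | .Wb k => 2 * k + 1

variable (x) in
/-- The subspace of a block. -/
def cb (p : Blk × V × V) : Submodule F V := cy x p.2.1 ⊔ cy x p.2.2

theorem cb_inv (p : Blk × V × V) : ∀ v ∈ cb x p, x v ∈ cb x p := fun v hv => by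
  obtain ⟨a, ha, b, hb, rfl⟩ := Submodule.mem_sup.1 hv
  rw [map_add]
  exact Submodule.add_mem_sup (cy_inv _ _ ha) (cy_inv _ _ hb)

theorem fst_mem_cb (p : Blk × V × V) (a : ℕ) : N a p.2.1 ∈ cb x p := Submodule.mem_sup_left (pw_mem_cy a _)

theorem snd_mem_cb (p : Blk × V × V) (a : ℕ) : N a p.2.2 ∈ cb x p := Submodule.mem_sup_right (pw_mem_cy a _)

theorem fst_mem (p : Blk × V × V) : p.2.1 ∈ cb x p := fst_mem_cb p 0

theorem snd_mem (p : Blk × V × V) : p.2.2 ∈ cb x p := snd_mem_cb p 0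

variable (D x) in
/-- Orthogonal blocks. -/
def Orth (p p' : Blk × V × V) : Prop := cb x p' ≤ D.perp (cb x p)

theorem Orth.symm {p p' : Blk × V × V} (h : Orth D x p p') : Orth D x p' p := D.le_perp_comm.1 h

instance : Std.Symm (Orth D x) := ⟨fun _ _ => Orth.symm⟩

theorem Orth.B {p p' : Blk × V × V} (h : Orth D x p p') (hv : v ∈ cb x p) (hw : w ∈ cb x p') :
    D.B v w = 0 := h hw v hv

variable (D x) in
/-- An orthogonal decomposition into blocks. -/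
structure Dec (α : F) (W : Submodule F V) (l : List (Blk × V × V)) : Prop where
  blk : ∀ p ∈ l, IsB D x α p.1 p.2.1 p.2.2
  le : ∀ p ∈ l, cb x p ≤ W
  orth : l.Pairwise (Orth D x)
  span : W ≤ ⨆ p ∈ l, cb x p
  dim : finrank F W = 2 * (l.map fun p => p.1.hd).sum

/-- Admissible lists of blocks. -/
def AdmL (l : List Blk) : Prop := ∀ k, l.count (.V k true) ≤ 1 ∧
  (.V (k + 1) true ∈ l → ∀ δ, .V k δ ∉ l) ∧ l.count (.V k false) + l.count (.V k true) ≤ 2 ∧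
  l.count (.Wb k) ≤ 1 ∧ (.Wb k ∈ l → ∀ δ, .V k δ ∉ l) ∧ (.Wb (k + 1) ∈ l → ∀ δ, .V k δ ∉ l)

namespace Ev

variable (h : Ev D x) [FiniteDimensional F V]
include h

theorem top_swap (he : N (m + 1) e = 0) (f : V) : D.B (N m f) e = D.B (N m e) f := by
  simpa using (h.Bsw (a := 0) (b := m) he f (by omega)).symm.trans (quad_symm D _ _)

theorem top_even (hv : N (2 * s + 2) v = 0) : D.B (N (2 * s + 1) v) v = qq D x (s + 1) v := by
  rw [h.qq_succ, h.Bsw hv v (by omega), show s + (s + 1) = 2 * s + 1 by omega]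

theorem split_gen {M : Type*} [AddCommGroup M] [Module F M] [FiniteDimensional F M] (ι : M →ₗ[F] V)
    (h0 : ∀ u, N (m + 1) (ι u) = 0) (h1 : ∀ u, (∀ u', D.B (N m (ι u)) (ι u') = 0) → u = 0)
    (hU : ∀ v ∈ U, x v ∈ U) (hι : ∀ u, ι u ∈ U)
    (hm : ∀ U' : Submodule F V, (∀ v ∈ U', x v ∈ U') → (∀ u, ι u ∈ U') → U ≤ U') :
    Disjoint U (D.perp U) ∧ finrank F U = (m + 1) * finrank F M := by
  have hE := fr_nondeg h.nd h.iso.B_map h0 h1
  obtain rfl : U = LinearMap.range (fr (x - 1) m ι) := le_antisymm (hm _ (by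
    rintro _ ⟨u, rfl⟩; exact ⟨_, fr_sh' h0 u⟩) fun u => ⟨_, fr_single u⟩) (by
      rintro _ ⟨u, rfl⟩
      rw [fr_apply]
      exact U.sum_mem fun i _ => pw_mem hU _ (hι _))
  refine ⟨Submodule.disjoint_def.2 ?_, ?_⟩
  · rintro _ ⟨u, rfl⟩ hu
    rw [hE u fun u' => D.mem_perp'.1 hu _ ⟨u', rfl⟩, map_zero]
  · rw [LinearMap.finrank_range_of_inj ((D.isIsometry_comap _).injective hE), finrank_pi_fintype]
    simp

theorem split_pair {p : Blk × V × V} (he : N (m + 1) p.2.1 = 0) (hf : N (m + 1) p.2.2 = 0)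
    (h1 : D.B (N m p.2.1) p.2.1 = 0) (h2 : D.B (N m p.2.2) p.2.2 = 0) (h3 : D.B (N m p.2.1) p.2.2 = 1) :
    Disjoint (cb x p) (D.perp (cb x p)) ∧ finrank F (cb x p) = 2 * (m + 1) := by
  have := h.split_gen (m := m) ((LinearMap.toSpanSingleton F V p.2.1).coprod
    (LinearMap.toSpanSingleton F V p.2.2)) (by simp [he, hf]) (fun u hu => Prod.ext
      (by simpa [h2, h3] using hu (0, 1)) (by simpa [h1, h3, h.top_swap he] using hu (1, 0))) (cb_inv p)
    (fun u => Submodule.add_mem _ (Submodule.smul_mem _ _ (fst_mem p))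
      (Submodule.smul_mem _ _ (snd_mem p))) fun U' h1 h2 =>
    sup_le (cy_le h1 (by simpa using h2 (1, 0))) (cy_le h1 (by simpa using h2 (0, 1)))
  simpa [mul_comm] using this

theorem split_blk {p : Blk × V × V} (hp : IsB D x α p.1 p.2.1 p.2.2) :
    Disjoint (cb x p) (D.perp (cb x p)) ∧ finrank F (cb x p) = 2 * p.1.hd := by
  obtain ⟨⟨s, δ⟩ | a | k, e, f⟩ := p
  · obtain rfl := hp.f0 _ _ rfl
    have := h.split_gen (m := 2 * s + 1) (LinearMap.toSpanSingleton F V e) (by simp [show N (2 * s + 1 + 1) e = 0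
      from hp.he]) (fun u hu => by simpa [h.top_even hp.he, hp.qe, Blk.qe] using hu 1)
      (cb_inv (.V s δ, e, 0)) (fun u => Submodule.smul_mem _ _ (fst_mem (_, e, 0))) fun U' h1 h2 =>
      sup_le (cy_le h1 (by simpa using h2 1)) (cy_le h1 U'.zero_mem)
    simpa [Blk.hd, mul_add] using this
  · exact h.split_pair hp.he hp.hf
      (by simpa using gram_self' h h (e' := 0) (fun j => by rw [hp.qe, qq_zero]; rfl) a 0)
      (by simpa using gram_self' h h (e' := 0) (fun j => by rw [hp.qf, qq_zero]; rfl) a 0)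
      (by simp [hp.pr, Blk.pr])
  · exact h.split_pair hp.he hp.hf (h.top_self hp.he) (h.top_self hp.hf) (by simp [hp.pr, Blk.pr])

theorem split (hW : ∀ v ∈ W, x v ∈ W) (hn : Disjoint W (D.perp W)) {b : Blk} (hp : IsB D x α b e f)
    (he : e ∈ W) (hf : f ∈ W) : ∃ W' ≤ W, (∀ v ∈ W', x v ∈ W') ∧ Disjoint W' (D.perp W') ∧
      finrank F W' < finrank F W ∧ ∀ l, Dec D x α W' l → Dec D x α W ((b, e, f) :: l) := by
  obtain ⟨h1, h2⟩ := h.split_blk (p := (b, e, f)) hp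
  have h3 : cb x (b, e, f) ≤ W := sup_le (cy_le hW he) (cy_le hW hf)
  have h4 := perp_inv (isUnit_of_isIsometry h.nd h.iso.B_map) h.iso.B_map (cb_inv (x := x) (b, e, f))
  have h5 : cb x (b, e, f) ⊔ D.perp (cb x (b, e, f)) ⊓ W = W := by
    rw [← sup_inf_assoc_of_le _ h3, (h.nd.isCompl_perp h1).sup_eq_top, top_inf_eq]
  have h6 := Submodule.finrank_sup_add_finrank_inf_eq (cb x (b, e, f)) (D.perp (cb x (b, e, f)) ⊓ W)
  rw [h5, (h1.mono_right inf_le_left).eq_bot, finrank_bot, h2] at h6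
  refine ⟨D.perp (cb x (b, e, f)) ⊓ W, inf_le_right, fun v hv => ⟨h4 v hv.1, hW v hv.2⟩, Submodule.disjoint_def.2
    fun v hv hv' => Submodule.disjoint_def.1 hn v hv.2 (by rw [← h5, perp_sup]; exact ⟨hv.1, hv'⟩), ?_,
    fun l d => ⟨List.forall_mem_cons.2 ⟨hp, d.blk⟩, List.forall_mem_cons.2 ⟨h3, fun p hp =>
      (d.le p hp).trans inf_le_right⟩, .cons (fun p hp => (d.le p hp).trans inf_le_left) d.orth, ?_, ?_⟩⟩
  · have : b.hd ≠ 0 := by cases b <;> simp [Blk.hd]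
    simp only at h6; omega
  · rw [← h5]
    exact sup_le (le_iSup₂_of_le (b, e, f) List.mem_cons_self le_rfl)
      (d.span.trans (biSup_mono fun _ => List.mem_cons_of_mem _))
  · rw [List.map_cons, List.sum_cons, mul_add, ← d.dim]; simpa using h6

omit h [FiniteDimensional F V] in
theorem kinv (hW : ∀ v ∈ W, x v ∈ W) (m : ℕ) :
    ∀ v ∈ W ⊓ LinearMap.ker (N m), x v ∈ W ⊓ LinearMap.ker (N m) :=
  fun v hv => ⟨hW v hv.1, ker_inv x m v hv.2⟩

theorem wb_split (hW : ∀ v ∈ W, x v ∈ W) {p p' : Blk × V × V} (hp : IsB D x α (.Wb k) p.2.1 p.2.2)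
    (h1 : cb x p ≤ W) (h2 : cb x p' ≤ W) (ho : Orth D x p p') (hw : w ∈ cb x p')
    (h3 : N (2 * k + 1) w = 0) (h4 : qq D x k w = 1) : ∃ a, ∃ e ∈ W, ∃ f ∈ W, IsB D x α (.W a) e f := by
  obtain ⟨e, he, f, hf, k1⟩ := h.exWo (α := α) (e := p.2.1 + w) (f := p.2.2) (kinv hW (2 * k + 1))
    (fun _ h => h.2) (Submodule.add_mem _ ⟨h1 (fst_mem p), hp.he⟩ ⟨h2 hw, h3⟩)
    ⟨h1 (snd_mem p), hp.hf⟩ (by
      rw [map_add, D.B_add_left, hp.pr, ho.symm.B (pw_mem (cb_inv _) _ hw) (snd_mem p)]; simp [Blk.pr])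
    (by rw [qq_add, hp.qe, h4, bb_apply, ho.B (fst_mem_cb p k) (pw_mem (cb_inv _) _ hw)]
        simp [Blk.qe, one_add_one_eq_two, h.two])
  exact ⟨_, e, he.1, f, hf.1, k1⟩

theorem free (hW : ∀ v ∈ W, x v ∈ W) (hf : ¬ ∃ a, ∃ e ∈ W, ∃ f ∈ W, IsB D x α (.W a) e f)
    {l : List (Blk × V × V)} (d : Dec D x α W l) (k : ℕ) :
    (l.map (·.1)).count (.V k false) + (l.map (·.1)).count (.V k true) ≤ 2 ∧
    (l.map (·.1)).count (.Wb k) ≤ 1 ∧ (.Wb k ∈ l.map (·.1) → ∀ δ, .V k δ ∉ l.map (·.1)) ∧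
    (.Wb (k + 1) ∈ l.map (·.1) → ∀ δ, .V k δ ∉ l.map (·.1)) := by
  refine ⟨le_of_not_gt fun h1 => hf ?_, le_of_not_gt fun h1 => hf ?_, fun h1 δ h2 => hf ?_,
    fun h1 δ h2 => hf ?_⟩
  · rw [count_V, List.countP_map] at h1
    obtain ⟨p, hp, q, hq, r, hr, o1, o2, o3⟩ := exists_three d.orth h1
    have : ∀ p ∈ l.filter ((fun b => b = .V k false ∨ b = .V k true) ∘ (·.1)),
        p.2.1 ∈ W ⊓ LinearMap.ker (N (2 * k + 2)) ∧ qq D x (k + 1) p.2.1 = 1 := fun p hp => by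
      obtain ⟨h1, h2⟩ := List.mem_filter.1 hp
      have h3 := d.blk p h1
      rcases (of_decide_eq_true h2 : p.1 = _ ∨ p.1 = _) with h2 | h2 <;> rw [h2] at h3 <;>
        exact ⟨⟨d.le p h1 (fst_mem p), h3.he⟩, by simp [h3.qe, Blk.qe]⟩
    obtain ⟨e, he, f, hf, k1⟩ := h.exWe (α := α) (kinv hW (2 * k + 2)) (fun _ h => h.2)
      (Submodule.add_mem _ (this p hp).1 (this q hq).1) (Submodule.add_mem _ (this q hq).1 (this r hr).1)
      (by rw [map_add (N (2 * k + 1)), D.B_add_left, D.B_add_right, D.B_add_right, h.top_even (this q hq).1.2, (this q hq).2,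
        o1.B (fst_mem_cb p _) (fst_mem q), o2.B (fst_mem_cb p _) (fst_mem r),
        o3.B (fst_mem_cb q _) (fst_mem r)]; simp)
      (by rw [qq_add, (this p hp).2, (this q hq).2, bb_apply, o1.B (fst_mem_cb p _) (fst_mem_cb q _)]
          simp [one_add_one_eq_two, h.two])
      (by rw [qq_add, (this r hr).2, (this q hq).2, bb_apply, o3.B (fst_mem_cb q _) (fst_mem_cb r _)]
          simp [one_add_one_eq_two, h.two])
    exact ⟨_, e, he.1, f, hf.1, k1⟩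
  · rw [List.count_eq_countP, List.countP_map] at h1
    obtain ⟨p, hp, q, hq, o1⟩ := exists_two d.orth h1
    obtain ⟨hp, h2⟩ := List.mem_filter.1 hp
    obtain ⟨hq, h3⟩ := List.mem_filter.1 hq
    have h4 := (eq_of_beq h3 : q.1 = _) ▸ d.blk q hq
    exact h.wb_split hW ((eq_of_beq h2 : p.1 = _) ▸ d.blk p hp) (d.le p hp) (d.le q hq) o1 (fst_mem q) h4.he
      (by simp [h4.qe, Blk.qe])
  · obtain ⟨p, hp, h3⟩ := List.mem_map.1 h1
    obtain ⟨q, hq, h4⟩ := List.mem_map.1 h2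
    have h5 := h4 ▸ d.blk q hq
    exact h.wb_split hW (h3 ▸ d.blk p hp) (d.le p hp) (d.le q hq) (d.orth.forall hp hq
      (by rintro rfl; simp [h3] at h4)) (fst_mem_cb q 1) (by rw [pw_pw]; exact h5.he)
      (by rw [qq_pw, h5.qe]; simp [Blk.qe])
  · obtain ⟨p, hp, h3⟩ := List.mem_map.1 h1
    obtain ⟨q, hq, h4⟩ := List.mem_map.1 h2
    have h5 := h4 ▸ d.blk q hq
    exact h.wb_split hW (h3 ▸ d.blk p hp) (d.le p hp) (d.le q hq) (d.orth.forall hp hq
      (by rintro rfl; simp [h3] at h4)) (fst_mem q) (pw_mono h5.he (by simp [Blk.hgt]))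
      (by simp [h5.qe, Blk.qe])

theorem exOdd [Finite F] (hα : ∀ t, t ^ 2 + t + α ≠ 0) (hU : ∀ v ∈ U, x v ∈ U)
    (h0 : ∀ w ∈ U, N (2 * k + 1) w = 0) (he : e ∈ U) (hf : f ∈ U) (h1 : D.B (N (2 * k) e) f ≠ 0)
    (hW : ¬ ∃ a, ∃ e ∈ U, ∃ f ∈ U, IsB D x α (.W a) e f) : ∃ e ∈ U, ∃ f ∈ U, IsB D x α (.Wb k) e f := by
  have h2 : qq D x k e ≠ 0 := fun h2 => hW ⟨_, h.exWo hU h0 he hf h1 h2⟩
  obtain ⟨c, hc⟩ := Forms.isSquare_of_two_eq_zero h.two (qq D x k e)⁻¹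
  have c0 : c ≠ 0 := by rintro rfl; simp [h2] at hc
  have a1 : qq D x k (c • e) = 1 := by rw [qq_smul, sq, ← hc, inv_mul_cancel₀ h2]
  have a2 : D.B (N (2 * k) (c • e)) f ≠ 0 := by simp [c0, h1]
  have m1 := U.smul_mem c he
  generalize c • e = u at a1 a2 m1
  have a3 := (D.B_smul_right (D.B (N (2 * k) u) f)⁻¹ _ f).trans (inv_mul_cancel₀ a2)
  have m2 := U.smul_mem (D.B (N (2 * k) u) f)⁻¹ hf
  generalize (D.B (N (2 * k) u) f)⁻¹ • f = w at a3 m2
  have a4 : ∀ t, D.B (N (2 * k) u) (w + t • u) = 1 := fun t => by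
    rw [D.B_add_right, D.B_smul_right, h.top_self (h0 u m1), a3]; simp
  have a5 : ∀ t, qq D x k (w + t • u) = t ^ 2 + t + qq D x k w := fun t => by
    rw [qq_add, qq_smul, a1, map_smul, bb_comm, bb_apply, h.Bsw (h0 w m2) u (by omega), ← two_mul, a3]
    simp; ring
  obtain ⟨t, ht⟩ := exists_artinSchreier_eq h.two (a := qq D x k w) (fun t ht => hW ⟨_, h.exWo hU h0
    (U.add_mem m2 (U.smul_mem t m1)) m1 (by rw [h.top_swap (h0 u m1), a4]; exact one_ne_zero)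
    ((a5 t).trans ht)⟩) hα
  obtain ⟨e', k1, f', k2, k3, k4, k5⟩ := h.exO hU h0 m1 (U.add_mem m2 (U.smul_mem t m1)) (a4 t)
  exact ⟨e', k1, f', k2, h0 _ k1, h0 _ k2, fun j => by rw [k3, a1]; rfl, fun j => by rw [k4, a5, ht]; rfl,
    k5, by simp⟩

theorem exists_dec [Finite F] (hα : ∀ t, t ^ 2 + t + α ≠ 0) {n : ℕ} (W : Submodule F V)
    (hn : ∀ w ∈ W, N n w = 0) (hW : ∀ v ∈ W, x v ∈ W) (hd : Disjoint W (D.perp W)) :
    ∃ l, Dec D x α W l ∧ AdmL (l.map (·.1)) := by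
  induction hr : finrank F W using Nat.strong_induction_on generalizing W with
  | _ r ih =>
  have cons : ∀ {b e f}, IsB D x α b e f → e ∈ W → f ∈ W →
      ∃ l, Dec D x α W ((b, e, f) :: l) ∧ AdmL (l.map (·.1)) := fun hp he hf => by
    obtain ⟨W', h0, h1, h2, h3, h4⟩ := h.split hW hd hp he hf
    obtain ⟨l, d, a⟩ := ih _ (hr ▸ h3) W' (fun w hw => hn w (h0 hw)) h1 h2 rfl
    exact ⟨l, h4 l d, a⟩
  by_cases hf : ∃ a, ∃ e ∈ W, ∃ f ∈ W, IsB D x α (.W a) e f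
  · obtain ⟨a, e, he, f, hf, hp⟩ := hf
    obtain ⟨l, d, k⟩ := cons hp he hf
    exact ⟨_, d, by simpa [AdmL] using k⟩
  classical
  have ex : ∃ m, ∀ w ∈ W, N m w = 0 := ⟨n, hn⟩
  have h0 := Nat.find_spec ex
  have h1 := fun m => Nat.find_min ex (m := m)
  generalize Nat.find ex = m at h0 h1
  rcases m with _ | m
  · obtain rfl : W = ⊥ := W.eq_bot_iff.2 h0
    exact ⟨[], ⟨by simp, by simp, .nil, bot_le, by simp⟩, by simp [AdmL]⟩
  obtain ⟨e, he, f, hf', h2⟩ : ∃ e ∈ W, ∃ f ∈ W, D.B (N m e) f ≠ 0 := by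
    by_contra! h2
    exact h1 m m.lt_succ_self fun w hw => Submodule.disjoint_def.1 hd _ (pw_mem hW m hw)
      (D.mem_perp'.2 (h2 w hw))
  obtain ⟨k, rfl | rfl⟩ := m.even_or_odd'
  · obtain ⟨e, he, f, hf', hp⟩ := h.exOdd hα hW h0 he hf' h2 hf
    obtain ⟨l, d, a⟩ := cons hp he hf'
    exact ⟨_, d, fun j => ⟨by simpa using (a j).1, by simpa using (a j).2.1, h.free hW hf d j⟩⟩
  have hi : ∀ {l}, Dec D x α W l → ∀ δ, .V (k + 1) δ ∉ l.map (·.1) := fun d δ hl => by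
    obtain ⟨p, hp, h3⟩ := List.mem_map.1 hl
    have := (h3 ▸ d.blk p hp).qe (k + 2)
    rw [h.qq_eq_zero (h0 _ (d.le p hp (fst_mem p))) (by omega)] at this
    simp [Blk.qe] at this
  by_cases h3 : ∃ v ∈ W, qq D x (k + 1) v = 1 ∧ ∃ t, t ^ 2 + t + qq D x k v = 0
  · obtain ⟨v, hv, h3, t, ht⟩ := h3
    obtain ⟨e, he, hp⟩ := h.exV (α := α) (δ := false) hW h0 hv h3 ht
    obtain ⟨l, d, a⟩ := cons hp he W.zero_mem
    refine ⟨_, d, fun j => ⟨by simpa using (a j).1, fun h4 δ h5 => ?_, h.free hW hf d j⟩⟩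
    rcases List.mem_cons.1 h5 with h5 | h5
    · cases h5; exact hi d _ h4
    · exact (a j).2.1 (by simpa using h4) δ h5
  obtain ⟨v, hv, h4⟩ : ∃ v ∈ W, qq D x (k + 1) v = 1 := by
    obtain ⟨v, hv, h4⟩ : ∃ v ∈ W, qq D x (k + 1) v ≠ 0 := by
      by_contra! h4
      exact hf ⟨_, h.exWe hW h0 he hf' h2 (h4 e he) (h4 f hf')⟩
    obtain ⟨c, hc⟩ := Forms.isSquare_of_two_eq_zero h.two (qq D x (k + 1) v)⁻¹
    exact ⟨c • v, W.smul_mem c hv, by rw [qq_smul, sq, ← hc, inv_mul_cancel₀ h4]⟩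
  obtain ⟨t, ht⟩ := exists_artinSchreier_eq h.two (fun t ht => h3 ⟨v, hv, h4, t, ht⟩) hα
  obtain ⟨e, he, hp⟩ := h.exV (α := α) (δ := true) hW h0 hv h4 ht
  obtain ⟨l, d, a⟩ := cons hp he W.zero_mem
  have key : ∀ p ∈ l, ∀ w ∈ cb x p, qq D x (k + 1) w = 0 → qq D x k w ≠ 1 := fun p hp' w hw h5 h6 => by
    obtain ⟨c, hc⟩ := Forms.isSquare_of_two_eq_zero h.two α
    have o : ∀ j, bb D x j e w = 0 := fun j => ((List.pairwise_cons.1 d.orth).1 p hp').B
      (fst_mem_cb (_, e, 0) j) (pw_mem (cb_inv p) j hw)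
    refine h3 ⟨e + c • w, W.add_mem he (W.smul_mem c (d.le p (List.mem_cons_of_mem _ hp') hw)), ?_, 0, ?_⟩
    · simp [qq_add, qq_smul, h5, o, hp.qe, Blk.qe]
    · simp only [qq_add, qq_smul, h6, map_smul, o, hp.qe, Blk.qe]
      simp [hc, sq, ← two_mul, h.two]
  have k1 : ∀ δ, .V k δ ∉ l.map (·.1) := fun δ hl => by
    obtain ⟨p, hp', h5⟩ := List.mem_map.1 hl
    have h6 := h5 ▸ d.blk p (List.mem_cons_of_mem _ hp')
    exact key p hp' _ (fst_mem_cb p 1) (by rw [qq_pw, h6.qe]; simp [Blk.qe]; omega)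
      (by rw [qq_pw, h6.qe]; simp [Blk.qe])
  refine ⟨_, d, fun j => ⟨?_, fun h5 δ h6 => ?_, h.free hW hf d j⟩⟩
  · by_cases hj : k = j
    · subst hj; simp [List.count_eq_zero_of_not_mem (k1 _)]
    · simpa [hj] using (a j).1
  rcases List.mem_cons.1 h6 with h8 | h8
  · cases h8; exact hi d _ h5
  rcases List.mem_cons.1 h5 with h9 | h9
  · cases h9
    obtain ⟨p, hp', h9⟩ := List.mem_map.1 h8
    have h7 := h9 ▸ d.blk p (List.mem_cons_of_mem _ hp')
    exact key p hp' _ (fst_mem p) (by simp [h7.qe, Blk.qe]; omega) (by simp [h7.qe, Blk.qe])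
  · exact (a j).2.1 h9 δ h8

end Ev

end Cfsg.Lib.Conj
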