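import Cfsg.Agent.Lib.Conj.Ev2

/-! Unipotent isometries in characteristic two: uniqueness, and the type of the blocks. -/

set_option autoImplicit false

namespace Cfsg.Lib.Conj

open Module Cfsg.Lib.Forms Cfsg.Lib.Forms.Form Cfsg.Lib.Known Cfsg.Lib.Linear Polynomial

variable {F : Type*} [Field F] {V V' : Type*} [AddCommGroup V] [Module F V] [AddCommGroup V'] [Module F V']
  {D : Form (quadKind F) V} {D' : Form (quadKind F) V'} {x : End F V} {y : End F V'} {U W : Submodule F V}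
  {W' : Submodule F V'} {e f v w : V} {s : ℕ} {α : F} {l : List (Blk × V × V)} {l' : List (Blk × V' × V')}

local notation:max "N" j:max => ((x - 1) ^ (j : ℕ) : End F V)

variable (x) in
/-- The generators of a block. -/
def gn (p : Blk × V × V) (t : Bool × ℕ) : V := N t.2 (if t.1 then p.2.1 else p.2.2)

theorem gn_mem (p : Blk × V × V) (t : Bool × ℕ) : gn x p t ∈ cb x p := by
  obtain ⟨_ | _, a⟩ := t
  exacts [snd_mem_cb p a, fst_mem_cb p a]

theorem Dec.span_eq {ι : Type*} (d : Dec D x α W l) (π : ι → Blk × V × V) (h : ∀ i, π i ∈ l)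
    (h' : ∀ p ∈ l, ∃ i, π i = p) :
    Submodule.span F (Set.range fun k : ι × Bool × ℕ => gn x (π k.1) k.2) = W := by
  refine le_antisymm (Submodule.span_le.2 ?_) (d.span.trans (iSup₂_le fun p hp => ?_))
  · rintro _ ⟨k, rfl⟩; exact d.le _ (h _) (gn_mem _ _)
  · obtain ⟨i, rfl⟩ := h' p hp
    refine sup_le (Submodule.span_mono ?_) (Submodule.span_mono ?_) <;> rintro _ ⟨a, rfl⟩
    exacts [⟨(i, true, a), rfl⟩, ⟨(i, false, a), rfl⟩]

theorem isoC_of_dec {K : Kind (RingHom.id F)} {E : Form K V} {E' : Form K V'} (h : Ev D x) (h' : Ev D' y)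
    (hE : E.B = D.B) (hE' : E'.B = D'.B) (hW : ∀ v ∈ W, x v ∈ W) (hW' : ∀ v ∈ W', y v ∈ W')
    (n : Disjoint W (D.perp W)) (n' : Disjoint W' (D'.perp W')) (d : Dec D x α W l) (d' : Dec D' y α W' l')
    (φ : Blk → Blk) (hp : (l.map fun p => φ p.1).Perm (l'.map fun p => φ p.1))
    (hφ : ∀ b b', φ b = φ b' → (∀ j, b.qe α (j + 1) = b'.qe α (j + 1)) ∧
      (∀ j, b.qf α (j + 1) = b'.qf α (j + 1)) ∧ b.pr F = b'.pr F)
    (hQ : ∀ p ∈ l, ∀ p' ∈ l', φ p.1 = φ p'.1 → ∀ t, E.Q (gn x p t) = E'.Q (gn y p' t)) :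
    IsoC (E.restrict W) (x.restrict hW) (E'.restrict W') (y.restrict hW') := by
  obtain ⟨l'', h1, h2⟩ := (congrFun₂ (List.eq_map_comp_perm fun p : Blk × V' × V' => φ p.1) _ _).mpr hp
  have h3 : l.length = l''.length := by simpa using congrArg List.length h1
  have h4 : ∀ p ∈ l.zip l'', φ p.1.1 = φ p.2.1 := by
    rw [← List.forall₂_eq_eq_eq, List.forall₂_map_left_iff, List.forall₂_map_right_iff] at h1
    exact fun p hp => List.forall₂_zip h1 hp
  have h5 := List.map_fst_zip h3.le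
  have h6 := List.map_snd_zip h3.ge
  generalize l.zip l'' = z at h4 h5 h6
  have m : ∀ p ∈ z, p.1 ∈ l := fun p hp => h5 ▸ List.mem_map_of_mem hp
  have m' : ∀ p ∈ z, p.2 ∈ l' := fun p hp => h2.subset (h6 ▸ List.mem_map_of_mem hp)
  have o := List.pairwise_map.1 (h5 ▸ d.orth)
  have o' := List.pairwise_map.1 (h6 ▸ (h2.pairwise_iff Orth.symm).2 d'.orth)
  refine isoC_of_fam (κ := {p // p ∈ z} × Bool × ℕ)
    (fun u hu => D.nondeg_restrict_iff.2 n u (by simpa [hE] using hu))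
    (fun u hu => D'.nondeg_restrict_iff.2 n' u (by simpa [hE'] using hu))
    (G := fun k => ⟨gn x k.1.1.1 k.2, d.le _ (m _ k.1.2) (gn_mem _ _)⟩)
    (G' := fun k => ⟨gn y k.1.1.2 k.2, d'.le _ (m' _ k.1.2) (gn_mem _ _)⟩)
    (fun k => (k.1, k.2.1, k.2.2 + 1)) ?_ ?_ (fun i j => ?_) (fun i => hQ _ (m _ i.1.2) _ (m' _ i.1.2)
      (h4 _ i.1.2) _) (fun i => Subtype.ext (x_pw _ _)) fun i => Subtype.ext (x_pw _ _)
  · rw [Submodule.span_range_subtype_eq_top_iff]
    exact d.span_eq (fun p : {p // p ∈ z} => p.1.1) (fun p => m _ p.2) fun p hp => by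
      obtain ⟨q, hq, rfl⟩ := List.mem_map.1 (h5 ▸ hp); exact ⟨⟨q, hq⟩, rfl⟩
  · rw [Submodule.span_range_subtype_eq_top_iff]
    exact d'.span_eq (fun p : {p // p ∈ z} => p.1.2) (fun p => m' _ p.2) fun p hp => by
      obtain ⟨q, hq, rfl⟩ := List.mem_map.1 (h6 ▸ h2.symm.subset hp); exact ⟨⟨q, hq⟩, rfl⟩
  obtain ⟨⟨p, hp⟩, t⟩ := i
  obtain ⟨⟨q, hq⟩, t'⟩ := j
  simp only [restrict_B, hE, hE']
  by_cases h7 : p = q
  · subst h7
    have b := d.blk _ (m p hp)
    have b' := d'.blk _ (m' p hp)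
    obtain ⟨k1, k2, k3⟩ := hφ _ _ (h4 p hp)
    have k4 := gram_pair h h' (pw_mono b.he (Nat.le_add_right _ p.2.1.hgt))
      (pw_mono b'.he (Nat.le_add_left _ _)) fun a => by rw [b.pr, b'.pr, k3]
    obtain ⟨_ | _, a⟩ := t <;> obtain ⟨_ | _, c⟩ := t'
    · exact gram_self' h h' (fun j => by simp [b.qf, b'.qf, k2]) a c
    · exact (quad_symm _ _ _).trans ((k4 c a).trans (quad_symm _ _ _))
    · exact k4 a c
    · exact gram_self' h h' (fun j => by simp [b.qe, b'.qe, k1]) a c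
  · have : Std.Symm fun a b : (Blk × V × V) × Blk × V' × V' => Orth D x a.1 b.1 := ⟨fun _ _ => Orth.symm⟩
    have : Std.Symm fun a b : (Blk × V × V) × Blk × V' × V' => Orth D' y a.2 b.2 := ⟨fun _ _ => Orth.symm⟩
    rw [(o.forall hp hq h7).B (gn_mem _ _) (gn_mem _ _), (o'.forall hp hq h7).B (gn_mem _ _) (gn_mem _ _)]

theorem isoC_of_dec_quad (h : Ev D x) (h' : Ev D' y) (hW : ∀ v ∈ W, x v ∈ W) (hW' : ∀ v ∈ W', y v ∈ W')
    (n : Disjoint W (D.perp W)) (n' : Disjoint W' (D'.perp W')) (d : Dec D x α W l) (d' : Dec D' y α W' l')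
    (hp : (l.map (·.1)).Perm (l'.map (·.1))) :
    IsoC (D.restrict W) (x.restrict hW) (D'.restrict W') (y.restrict hW') :=
  isoC_of_dec h h' rfl rfl hW hW' n n' d d' id hp (by rintro b _ rfl; simp) fun p hp p' hp' h1 t => by
    obtain ⟨_ | _, a⟩ := t
    · exact ((d.blk p hp).qf a).trans ((show p.1 = p'.1 from h1) ▸ ((d'.blk p' hp').qf a).symm)
    · exact ((d.blk p hp).qe a).trans ((show p.1 = p'.1 from h1) ▸ ((d'.blk p' hp').qe a).symm)

/-- Forgetting the values of level zero. -/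
def Blk.fg : Blk → Blk
  | .V 0 _ => .V 0 false
  | .Wb 0 => .W 0
  | b => b

theorem isoC_of_dec_alt {E : Form (altKind F) V} {E' : Form (altKind F) V'} (h : Ev D x) (h' : Ev D' y)
    (hE : E.B = D.B) (hE' : E'.B = D'.B) (hW : ∀ v ∈ W, x v ∈ W) (hW' : ∀ v ∈ W', y v ∈ W')
    (n : Disjoint W (D.perp W)) (n' : Disjoint W' (D'.perp W')) (d : Dec D x α W l) (d' : Dec D' y α W' l')
    (hp : (l.map (·.1.fg)).Perm (l'.map (·.1.fg))) :
    IsoC (E.restrict W) (x.restrict hW) (E'.restrict W') (y.restrict hW') := by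
  have key : ∀ b : Blk, (∀ j, b.qe α (j + 1) = b.fg.qe α (j + 1)) ∧ (∀ j, b.qf α (j + 1) = b.fg.qf α (j + 1)) ∧
      b.pr F = b.fg.pr F := by
    rintro (⟨_ | s, δ⟩ | a | _ | k) <;> simp [Blk.fg, Blk.qe, Blk.qf, Blk.pr, funext_iff]
  exact isoC_of_dec h h' hE hE' hW hW' n n' d d' Blk.fg hp (fun b b' h1 => by
    simp only [key b, key b', h1]; simp) fun _ _ _ _ _ _ => by rw [alt_Q, alt_Q]

theorem exists_dye [Finite F] [FiniteDimensional F V] (h2 : (2 : F) = 0) {E : Form (altKind F) V}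
    (hE : E.Nondeg) (hx : IsIsometry E E x) : ∃ D : Form (quadKind F) V, E.B = D.B ∧ Ev D x := by
  obtain ⟨m, hm⟩ := alt_even_finrank hE
  obtain ⟨D₀, h0⟩ := exists_form_iso (V := V) (fPlus F m) (by simpa using hm)
  obtain ⟨e, he⟩ := Symp.iso hE ((h0.symm.nondeg (fPlus_nondeg m)).polarAlt h2) rfl
  have hB : ∀ u v, (D₀.comap e.toLinearMap).B u v = E.B u v := he.B_map
  generalize D₀.comap e.toLinearMap = D at hB
  obtain ⟨ψ, hψ⟩ := exists_sq_eq_of_additive h2 (φ := fun v => D.Q (x v) - D.Q v)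
    (fun u v => by simp only [map_add, quad_Q_add, hB, hx.B_map]; ring)
    fun c v => by simp only [map_smul, quad_Q_smul]; ring
  obtain ⟨μ, hμ⟩ : ψ ∈ LinearMap.range (x - 1).dualMap := by
    rw [LinearMap.range_dualMap_eq_dualAnnihilator_ker, Submodule.mem_dualAnnihilator]
    intro v hv
    simpa [show x v = v from sub_eq_zero.1 hv] using hψ v
  refine ⟨{ D with
    Q v := D.Q v + μ v ^ 2
    Q_add u v := by rw [D.Q_add, map_add]; linear_combination μ u * μ v * h2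
    Q_smul c v := by simp [D.Q_smul]; ring
    B_self v := by simp [D.B_self, h2]
    Q_mem v := ⟨_, rfl⟩ }, LinearMap.ext₂ fun u v => (hB u v).symm, h2, fun u hu => hE u (by simpa [hB] using hu),
    fun u v => by simpa [hB] using hx.B_map u v, fun v => ?_⟩
  have := hψ v
  simp only [← hμ, LinearMap.dualMap_apply, LinearMap.sub_apply, End.one_apply, map_sub] at this
  change D.Q _ + _ = D.Q _ + _
  linear_combination -this + (μ (x v) ^ 2 - μ (x v) * μ v) * h2

theorem iso_sup {K : Kind (RingHom.id F)} {E : Form K V} (h : (E.restrict U).Nondeg) (h' : (E.restrict W).Nondeg)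
    (o : W ≤ E.perp U) : ((E.restrict U).prod (E.restrict W)).Iso (E.restrict (U ⊔ W)) := by
  have : IsIsometry ((E.restrict U).prod (E.restrict W)) (E.restrict (U ⊔ W))
      ((Submodule.inclusion le_sup_left).coprod (Submodule.inclusion le_sup_right)) :=
    ⟨fun u v => by simp [prod_B, o v.2.2 _ u.1.2, E.eq_zero_symm (o u.2.2 _ v.1.2)],
      fun u => by simp [prod_Q, E.Q_add_of_B (o u.2.2 _ u.1.2)]⟩
  refine ⟨LinearEquiv.ofBijective _ ⟨this.injective (h.prod h'), fun v => ?_⟩, this⟩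
  obtain ⟨a, ha, b, hb, h1⟩ := Submodule.mem_sup.1 v.2
  exact ⟨(⟨a, ha⟩, ⟨b, hb⟩), Subtype.ext h1⟩

theorem cy_eq (v : V) : cy x v = F ∙ v ⊔ cy x (N 1 v) := by
  refine le_antisymm (Submodule.span_le.2 ?_) (sup_le (by simpa using pw_mem_cy (x := x) 0 v)
    (cy_le (cy_inv v) (pw_mem_cy 1 v)))
  rintro _ ⟨_ | a, rfl⟩
  · exact Submodule.mem_sup_left (Submodule.mem_span_singleton_self v)
  · exact Submodule.mem_sup_right (by simpa only [pw_pw] using pw_mem_cy (x := x) a (N 1 v))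

theorem cy_zero : cy x (0 : V) = ⊥ := by simp [cy]

theorem exists_cy {a : ℕ} (h : w ∈ cy x (N a v)) : ∃ c : F, ∃ u ∈ cy x (N (a + 1) v), w = c • N a v + u := by
  rw [cy_eq, pw_pw, add_comm 1] at h
  obtain ⟨_, h1, u, hu, rfl⟩ := Submodule.mem_sup.1 h
  obtain ⟨c, rfl⟩ := Submodule.mem_span_singleton.1 h1
  exact ⟨c, u, hu, rfl⟩

variable [FiniteDimensional F V]

theorem finrank_cy {m : ℕ} (h : N m v = 0) : finrank F (cy x v) ≤ m := by
  induction m generalizing v with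
  | zero => rw [show v = 0 from h, cy_zero, finrank_bot]
  | succ m ih =>
    rw [cy_eq]
    have := finrank_span_le_card (R := F) ({v} : Set V)
    have := ih (v := N 1 v) (by rwa [pw_pw])
    have := Submodule.finrank_add_le_finrank_add_finrank (F ∙ v) (cy x (N 1 v))
    simp at *; omega

omit [FiniteDimensional F V] in
theorem hasTS_restrict {m : ℕ} : (D.restrict W).HasTS m ↔ ∃ U ≤ W, finrank F U = m ∧ D.IsTS U :=
  ⟨fun ⟨U, h1, h2⟩ => ⟨U.map W.subtype, W.map_subtype_le U, by rw [Submodule.finrank_map_subtype_eq, h1],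
    h2.map (D.isIsometry_comap _)⟩, fun ⟨U, h1, h2, h3⟩ => ⟨U.comap W.subtype,
      (Submodule.comapSubtypeEquivOfLe h1).finrank_eq.trans h2, h3.comap (D.isIsometry_comap _)⟩⟩

namespace Ev

variable (h : Ev D x)
include h

theorem B_cy {m a b : ℕ} (hv : N m v = 0) (hw : w ∈ cy x (N b v)) (hm : m ≤ a + b) : D.B (N a v) w = 0 :=
  cy_le (U := D.perp (cy x (N a v))) (perp_inv (isUnit_of_isIsometry h.nd h.iso.B_map)
    h.iso.B_map (cy_inv _)) (mem_perp_cy.2 fun c => by rw [pw_pw, h.BZ hv v (by omega)]) hw _ (pw_mem_cy 0 _)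

theorem mem_cy_of_perp {δ : Bool} (hp : IsB D x α (.V s δ) e f) (hw : w ∈ cy x e)
    (ho : w ∈ D.perp (cy x (N (s + 2) e))) : ∃ a b : F, ∃ u ∈ cy x (N (s + 2) e),
      w = a • N s e + b • N (s + 1) e + u := by
  have key : ∀ i ≤ s, w ∈ cy x (N i e) := fun i hi => by
    induction i with
    | zero => exact hw
    | succ i ih =>
      obtain ⟨c, u, hu, rfl⟩ := exists_cy (ih (by omega))
      have := mem_perp_cy.1 ho (s - (i + 1))
      rw [pw_pw, D.B_add_right, D.B_smul_right, h.B_cy hp.he hu (by simp [Blk.hgt]; omega),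
        h.Bsw hp.he e (by simp [Blk.hgt]; omega), show s - (i + 1) + (s + 2) + i = 2 * s + 1 by omega,
        h.top_even hp.he, hp.qe] at this
      simpa [show c = 0 by simpa [Blk.qe] using this] using hu
  obtain ⟨a, _, hu, rfl⟩ := exists_cy (key s le_rfl)
  obtain ⟨b, u, hu', rfl⟩ := exists_cy hu
  exact ⟨a, b, u, hu', (add_assoc _ _ _).symm⟩

omit [FiniteDimensional F V] in
theorem isTS_cy (H : ∀ j, qq D x j v = 0) : D.IsTS (cy x v) := by
  have h1 : cy x v ≤ D.perp (cy x v) := Submodule.span_le.2 (by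
    rintro _ ⟨a, rfl⟩
    exact mem_perp_cy.2 fun b => by simpa using gram_self' h h (e' := 0) (fun j => by rw [H, qq_zero]) b a)
  refine isTS_quad fun u hu => ?_
  induction hu using Submodule.span_induction with
  | mem u hu => obtain ⟨a, rfl⟩ := hu; exact H a
  | zero => simp
  | add u w hu hw h2 h3 => rw [quad_Q_add, h2, h3, h1 hw u hu]; simp
  | smul c u _ h2 => rw [quad_Q_smul, h2, mul_zero]

theorem hasTS_V (hα : ∀ t, t ^ 2 + t + α ≠ 0) {δ : Bool} (hp : IsB D x α (.V s δ) e f) :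
    (D.restrict (cb x (.V s δ, e, f))).HasTS (s + 1) ↔ δ = false := by
  obtain ⟨-, h1⟩ := h.split_blk (p := (.V s δ, e, f)) hp
  obtain rfl := hp.f0 _ _ rfl
  rw [show cb x (.V s δ, e, 0) = cy x e by simp [cb, cy_zero]] at h1 ⊢
  have h2 : D.IsTS (cy x (N (s + 2) e)) := h.isTS_cy fun j => by
    rw [qq_pw, hp.qe, Blk.qe, if_neg (by omega), if_neg (by omega)]
  have h3 : ∀ u ∈ cy x (N (s + 2) e), D.B (N s e) u = 0 := fun u hu =>
    h.B_cy hp.he hu (by simp [Blk.hgt]; omega)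
  have h4 : D.B (N s e) (N (s + 1) e) = 1 := by rw [← h.qq_succ, hp.qe]; simp [Blk.qe]
  cases δ
  · have h5 := h2.sup_span (e := N s e) ((hp.qe s).trans (by simp [Blk.qe])) (D.mem_perp'.2 h3)
    have h6 := Submodule.finrank_sup_add_finrank_inf_eq (D.perp (cy x (N (s + 2) e) ⊔ F ∙ N s e)) (cy x e)
    have h7 := h.nd.finrank_perp (cy x (N (s + 2) e) ⊔ F ∙ N s e)
    have h8 := Submodule.finrank_le (D.perp (cy x (N (s + 2) e) ⊔ F ∙ N s e) ⊔ cy x e)
    have h9 := Submodule.finrank_mono (show D.perp (cy x (N (s + 2) e) ⊔ F ∙ N s e) ⊓ cy x e ≤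
        cy x (N (s + 2) e) ⊔ F ∙ N s e from fun w hw => by
      rw [perp_sup] at hw
      obtain ⟨a, b, u, hu, rfl⟩ := h.mem_cy_of_perp hp hw.2 hw.1.1
      have := D.mem_perp_span_singleton.1 hw.1.2
      simp only [D.B_lin, h.B_self, h4, h3 u hu] at this
      rw [show b = 0 by simpa using this, zero_smul, add_zero, add_comm _ u]
      exact Submodule.add_mem_sup hu (Submodule.smul_mem _ _ (Submodule.mem_span_singleton_self _)))
    refine iff_of_true ((hasTS_restrict.2 ⟨_, sup_le (cy_le (cy_inv e) (pw_mem_cy _ e))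
      (by simpa using pw_mem_cy s e), rfl, h5⟩).mono ?_) rfl
    simp only [Blk.hd] at h1; omega
  refine iff_of_false (fun k => ?_) (by simp)
  obtain ⟨U, k1, k2, k3⟩ := hasTS_restrict.1 k
  have h5 := h.nd.finrank_perp (U ⊓ D.perp (cy x (N (s + 2) e)))
  rw [h.nd.perp_inf, h.nd.perp_perp] at h5
  have h6 := Submodule.finrank_sup_add_finrank_inf_eq (D.perp U) (cy x (N (s + 2) e))
  have h7 := h.nd.finrank_perp U
  have h8 := finrank_cy (x := x) (v := N (s + 2) e) (m := s) (by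
    rw [pw_pw]; exact pw_mono hp.he (by simp [Blk.hgt]; omega))
  have h9 := Submodule.finrank_mono (show U ⊓ D.perp (cy x (N (s + 2) e)) ≤ D.perp U ⊓ cy x (N (s + 2) e) from
    fun w hw => ⟨k3.le_perp hw.1, by
      obtain ⟨a, b, u, hu, rfl⟩ := h.mem_cy_of_perp hp (k1 hw.1) hw.2
      have := k3.1 _ hw.1
      have e1 : D.Q (N s e) = α := (hp.qe s).trans (by simp [Blk.qe])
      have e2 : D.Q (N (s + 1) e) = 1 := (hp.qe _).trans (by simp [Blk.qe])
      simp only [quad_Q_add, quad_Q_smul, D.B_lin, h4, h3 u hu, h2.1 u hu, e1, e2, RingHom.id_apply,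
        h.B_cy (a := s + 1) hp.he hu (by simp [Blk.hgt]; omega)] at this
      obtain ⟨rfl, rfl⟩ := aniso_of_irred hα b a (by linear_combination this)
      simpa using hu⟩)
  omega

theorem dec_sup (h1 : ∀ p ∈ l, IsB D x α p.1 p.2.1 p.2.2) (h2 : l.Pairwise (Orth D x)) :
    (D.restrict (⨆ p ∈ l, cb x p)).Nondeg ∧ Dec D x α (⨆ p ∈ l, cb x p) l := by
  suffices (D.restrict (⨆ p ∈ l, cb x p)).Nondeg ∧
      finrank F (⨆ p ∈ l, cb x p :) = 2 * (l.map fun p => p.1.hd).sum from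
    ⟨this.1, h1, fun p hp => le_iSup₂_of_le p hp le_rfl, h2, le_rfl, this.2⟩
  induction l with
  | nil => rw [show (⨆ p ∈ [], cb x p) = ⊥ by simp]; exact ⟨D.nondeg_restrict_iff.2 disjoint_bot_left, by simp⟩
  | cons p l ih =>
    obtain ⟨k1, k2⟩ := ih (fun p hp => h1 p (List.mem_cons_of_mem _ hp)) h2.of_cons
    obtain ⟨k3, k4⟩ := h.split_blk (h1 p List.mem_cons_self)
    have := iso_sup (D.nondeg_restrict_iff.2 k3) k1 (iSup₂_le (List.pairwise_cons.1 h2).1)
    rw [show (⨆ q ∈ p :: l, cb x q) = cb x p ⊔ ⨆ p ∈ l, cb x p by simp [iSup_or, iSup_sup_eq]]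
    exact ⟨this.nondeg ((D.nondeg_restrict_iff.2 k3).prod k1), by
      rw [← this.finrank_eq, finrank_prod, k2, k4, List.map_cons, List.sum_cons, mul_add]⟩

omit [FiniteDimensional F V] h in
theorem cb_eq {b : Blk} (hp : IsB D x α b e f) (hb : b.hgt = 1) : cb x (b, e, f) = F ∙ e ⊔ F ∙ f := by
  rw [cb, cy_eq e, cy_eq f, show N 1 e = 0 from hb ▸ hp.he, show N 1 f = 0 from hb ▸ hp.hf, cy_zero,
    sup_bot_eq, sup_bot_eq]

omit [FiniteDimensional F V] h in
theorem hasTS_W (hp : IsB D x α (.W 0) e f) : (D.restrict (cb x (.W 0, e, f))).HasTS 1 :=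
  hasTS_one_iff.2 ⟨⟨e, fst_mem (_, e, f)⟩, fun h => by
    simpa [Blk.pr, show e = 0 from congrArg Subtype.val h] using hp.pr 0, hp.qe 0⟩

omit [FiniteDimensional F V] h in
theorem not_hasTS_Wb (hα : ∀ t, t ^ 2 + t + α ≠ 0) (hp : IsB D x α (.Wb 0) e f) :
    ¬ (D.restrict (cb x (.Wb 0, e, f))).HasTS 1 := not_hasTS_one_iff.2 fun ⟨v, hv⟩ h => by
  rw [cb_eq hp rfl] at hv
  obtain ⟨_, h1, _, h2, rfl⟩ := Submodule.mem_sup.1 hv
  obtain ⟨a, rfl⟩ := Submodule.mem_span_singleton.1 h1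
  obtain ⟨b, rfl⟩ := Submodule.mem_span_singleton.1 h2
  have e1 : D.Q e = 1 := (hp.qe 0).trans (by simp [Blk.qe])
  have e2 : D.Q f = α := (hp.qf 0).trans (by simp [Blk.qf])
  have e3 : D.B e f = 1 := (hp.pr 0).trans (by simp [Blk.pr])
  simp only [restrict_Q, quad_Q_add, quad_Q_smul, D.B_lin, e1, e2, e3, RingHom.id_apply] at h
  obtain ⟨rfl, rfl⟩ := aniso_of_irred hα a b (by linear_combination h)
  simp

end Ev

end Cfsg.Lib.Conj
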