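import Cfsg.Agent.Lib.Conj.Euler

/-! Weighted counts of the patterns of unipotent classes in characteristic two. -/

set_option autoImplicit false

namespace Cfsg.Lib.Conj

open Finset

/-- Admissible patterns. -/
def PAdm (o z : Bool) (c : ℕ → ℕ × ℕ × ℕ) : Prop :=
  (o = false → (c 0).2.1 + (c 0).2.2 = 0) ∧ ∀ k, (c k).2.1 ≤ 1 ∧ (c k).1 + (c k).2.1 ≤ 2 ∧ (c k).2.2 ≤ 1 ∧
    ((c k).2.2 ≠ 0 → (c k).1 + (c k).2.1 = 0) ∧
    ((c (k + 1)).2.1 + (c (k + 1)).2.2 ≠ 0 → (c k).1 + (c k).2.1 = 0) ∧ (z = false → (c k).1 + (c k).2.1 = 0)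

/-- The weight of a letter. -/
def lwt (k : ℕ) (a : ℕ × ℕ × ℕ) : ℕ := (k + 1) * a.1 + (k + 1) * a.2.1 + (2 * k + 1) * a.2.2

/-- The weight of a pattern. -/
def pwt (K : ℕ) (c : ℕ → ℕ × ℕ × ℕ) : ℕ := ∑ k ∈ range K, lwt k (c k)

/-- The recursion for the weighted counts. -/
noncomputable def pts (o z : Bool) : ℕ → ℝ × ℝ
  | 0 => (if o then 1 else 0, 1)
  | K + 1 => ((pts o z K).2 + (1 / 2) ^ (2 * K + 1) * (pts o z K).1,
      (pts o z K).2 + (1 / 2) ^ (2 * K + 1) * (pts o z K).1 + (if z then 1 else 0) *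
        ((1 / 2) ^ (K + 1) + (1 / 2) ^ (2 * K + 2)) * ((pts o z K).2 + (pts o z K).1))

variable {o z : Bool}

theorem pts_nonneg (K : ℕ) : 0 ≤ (pts o z K).1 ∧ (pts o z K).1 ≤ (pts o z K).2 := by
  induction K with
  | zero => cases o <;> simp [pts]
  | succ K ih =>
    have h1 := ih.1
    have h2 := ih.1.trans ih.2
    exact ⟨by rw [pts]; positivity, le_add_of_nonneg_right (by cases z <;> simp; positivity)⟩

/-- The lowest state. -/
def PLow (o : Bool) (c : ℕ → ℕ × ℕ × ℕ) : ℕ → Prop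
  | 0 => o = true
  | k + 1 => (c k).1 + (c k).2.1 = 0

theorem pat_le (K : ℕ) (B : Finset (ℕ → ℕ × ℕ × ℕ)) (h : ∀ c ∈ B, PAdm o z c)
    (inj : ∀ c ∈ B, ∀ c' ∈ B, (∀ k < K, c k = c' k) → c = c') :
    ∑ c ∈ B, (1 / 2 : ℝ) ^ pwt K c ≤ (pts o z K).2 ∧
      ((∀ c ∈ B, PLow o c K) → ∑ c ∈ B, (1 / 2 : ℝ) ^ pwt K c ≤ (pts o z K).1) := by
  induction K generalizing B with
  | zero =>
    have : (#B : ℝ) ≤ 1 := by exact_mod_cast card_le_one.2 fun c hc c' hc' => inj c hc c' hc' (by simp)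
    refine ⟨by simpa [pwt, pts], fun h1 => ?_⟩
    cases o
    · rw [eq_empty_of_forall_notMem (s := B) fun c hc => by simpa [PLow] using h1 c hc]; simp [pts]
    · simpa [pwt, pts]
  | succ K ih =>
    have h0 := pts_nonneg (o := o) (z := z) K
    have key : ∀ ζ : ℝ, 0 ≤ ζ → (ζ = 1 ∨ ∀ c ∈ B, (c K).1 + (c K).2.1 = 0) →
        ∑ c ∈ B, (1 / 2 : ℝ) ^ pwt (K + 1) c ≤ (pts o z K).2 + (1 / 2) ^ (2 * K + 1) * (pts o z K).1 +
          ζ * ((1 / 2) ^ (K + 1) + (1 / 2) ^ (2 * K + 2)) * ((pts o z K).2 + (pts o z K).1) := fun ζ h1 h2 => by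
      have h3 : ∀ a : ℕ × ℕ × ℕ, ∑ c ∈ B with c K = a, (1 / 2 : ℝ) ^ pwt (K + 1) c ≤ (1 / 2) ^ lwt K a *
          ((if a.1 + a.2.1 = 0 then 1 else ζ) * if a.2.1 + a.2.2 = 0 then (pts o z K).2 else (pts o z K).1) := by
        intro a
        rw [sum_congr rfl fun c hc => by rw [pwt, sum_range_succ, (mem_filter.1 hc).2, pow_add, mul_comm],
          ← mul_sum]
        refine mul_le_mul_of_nonneg_left ?_ (by positivity)
        obtain ⟨k1, k2⟩ := ih (B.filter (· K = a)) (fun c hc => h c (mem_filter.1 hc).1) fun c hc c' hc' k =>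
          inj c (mem_filter.1 hc).1 c' (mem_filter.1 hc').1 fun j hj => (Nat.lt_succ_iff_lt_or_eq.1 hj).elim
            (k j) fun e => e ▸ (mem_filter.1 hc).2.trans (mem_filter.1 hc').2.symm
        have k3 : ∑ c ∈ B with c K = a, (1 / 2 : ℝ) ^ pwt K c ≤
            if a.2.1 + a.2.2 = 0 then (pts o z K).2 else (pts o z K).1 := by
          split_ifs with h4
          · exact k1
          refine k2 fun c hc => ?_
          obtain ⟨k4, rfl⟩ := mem_filter.1 hc
          cases K with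
          | zero => exact by_contra fun h5 => h4 ((h c k4).1 (by simpa [PLow] using h5))
          | succ K => exact ((h c k4).2 K).2.2.2.2.1 h4
        rcases h2 with rfl | h2
        · simpa [pwt] using k3
        by_cases h4 : a.1 + a.2.1 = 0
        · simpa [h4, pwt] using k3
        · rw [filter_eq_empty_iff.2 fun c hc (e : c K = a) => h4 (e ▸ h2 c hc), if_neg h4]
          exact mul_nonneg h1 (by split_ifs <;> linarith)
      rw [← sum_fiberwise_of_maps_to (g := fun c => c K) (t := {(0, 0, 0), (1, 0, 0), (2, 0, 0), (0, 0, 1),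
        (0, 1, 0), (1, 1, 0)}) fun c hc => by
          have := (h c hc).2 K
          simp only [mem_insert, mem_singleton, Prod.ext_iff]; omega]
      refine (sum_le_sum fun a _ => h3 a).trans_eq ?_
      simp [lwt]; ring
    refine ⟨key _ (by cases z <;> simp) ?_, fun h1 => by simpa [pts] using key 0 le_rfl (.inr h1)⟩
    cases z
    · exact .inr fun c hc => ((h c hc).2 K).2.2.2.2.2 rfl
    · simp

theorem pts_le {C : ℝ} (h : (pts o z 8).2 + 2.02 * C / 256 ≤ C) (m : ℕ) : (pts o z (m + 8)).2 ≤ C := by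
  have h0 := fun K => pts_nonneg (o := o) (z := z) K
  have hC : 0 ≤ C := by linarith [(h0 8).1, (h0 8).2]
  suffices (pts o z (m + 8)).2 + 2.02 * C * (1 / 2) ^ (m + 8) ≤ C from
    (le_add_of_nonneg_right (by positivity)).trans this
  induction m with
  | zero => norm_num at h ⊢; linarith
  | succ m ih =>
    rw [add_right_comm, pts]
    obtain ⟨h1, h2⟩ := h0 (m + 8)
    have h3 : (1 / 2 : ℝ) ^ (m + 8) ≤ 1 / 256 := by
      exact (pow_le_pow_of_le_one (by norm_num) (by norm_num) (Nat.le_add_left 8 m)).trans (by norm_num)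
    have h4 : (0 : ℝ) < (1 / 2) ^ (m + 8) := by positivity
    have h5 : (if z then 1 else 0 : ℝ) ≤ 1 := by cases z <;> simp
    have h6 : (0 : ℝ) ≤ if z then 1 else 0 := by cases z <;> simp
    simp only [pow_succ _ (m + 8), pow_succ _ (2 * (m + 8) + 1), pow_succ _ (2 * (m + 8)), pow_mul' _ 2]
    generalize (1 / 2 : ℝ) ^ (m + 8) = y, (pts o z (m + 8)).1 = T, (pts o z (m + 8)).2 = S,
      (if z then 1 else 0 : ℝ) = ζ at *
    have h7 : S ≤ C := by nlinarith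
    have h8 : ζ * (y * (1 / 2) + y ^ 2 * (1 / 2) * (1 / 2)) * (S + T) ≤
        1 * (y * (1 / 2) + y * (1 / 256) * (1 / 2) * (1 / 2)) * (C + C) := by
      gcongr <;> nlinarith
    have h9 : y ^ 2 * (1 / 2) * T ≤ y * (1 / 256) * (1 / 2) * C := by
      gcongr <;> nlinarith
    nlinarith [mul_nonneg h4.le hC]

theorem pts_sp (m : ℕ) : (pts false true (m + 8)).2 ≤ 4.3886 := pts_le (by simp [pts]; norm_num) m

theorem pts_o (m : ℕ) : (pts true true (m + 8)).2 ≤ 7.4 := pts_le (by simp [pts]; norm_num) m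

theorem pts_w (m : ℕ) : (pts false false (m + 8)).2 ≤ 1.2 := pts_le (by simp [pts]; norm_num) m

theorem data_le_half {γ β : Type*} [DecidableEq β] (T : Finset γ) (τ : γ → β) (m : γ → ℕ) (W : β → ℕ)
    {Q n : ℕ} (hQ : 2 ≤ Q) {E : ℝ} (hE : 0 ≤ E)
    (Hf : ∀ T' ⊆ T, ∀ b k, (∀ t ∈ T', τ t = b ∧ m t = k) → (#T' : ℝ) ≤ E * Q ^ k)
    (hd : ∀ t ∈ T, m t + W (τ t) = n) : #T ≤ E * Q ^ n * ∑ b ∈ T.image τ, (1 / 2 : ℝ) ^ W b := by
  rw [card_eq_sum_card_image τ, Nat.cast_sum, mul_sum]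
  refine sum_le_sum fun b hb => ?_
  obtain ⟨t, ht, rfl⟩ := mem_image.1 hb
  refine (Hf _ (filter_subset _ _) (τ t) (m t) fun u hu => ⟨(mem_filter.1 hu).2, by
    have := hd t ht; have := (mem_filter.1 hu).2 ▸ hd u (mem_filter.1 hu).1; omega⟩).trans ?_
  have h3 : 1 ≤ ((Q : ℝ) * (1 / 2)) ^ W (τ t) := one_le_pow₀ (by
    have : (2 : ℝ) ≤ Q := by exact_mod_cast hQ
    linarith)
  rw [← hd t ht, pow_add]
  exact (le_mul_of_one_le_right (by positivity) h3).trans_eq (by rw [mul_pow]; ring)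

end Cfsg.Lib.Conj
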