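import Cfsg.Agent.Lib.Conj.Ev3
import Cfsg.Agent.Lib.Conj.EvP

/-! The class numbers of symplectic and orthogonal groups in characteristic two: upper bounds. -/

set_option autoImplicit false

namespace Cfsg.Lib.Conj

open Module Cfsg.Lib.Forms Cfsg.Lib.Forms.Form Cfsg.Lib.Known Cfsg.Lib.Linear Polynomial Finset

variable {F : Type*} [Field F] {V V' : Type*} [AddCommGroup V] [Module F V] [AddCommGroup V'] [Module F V']
  {D : Form (quadKind F) V} {D' : Form (quadKind F) V'} {x : End F V} {y : End F V'} {α : F} {o z : Bool}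
  {n : ℕ}

theorem isPal_of_eval_two (h2 : (2 : F) = 0) {g : F[X]} (hm : g.Monic) (h0 : g.coeff 0 ≠ 0)
    (hd : pd (RingHom.id F) g = g) (h1 : g.eval 1 ≠ 0) : IsPal g := by
  have h := (pd_eq_self_iff hm h0).1 hd
  have h3 : g.coeff 0 = 1 := by
    let := invertibleOne (α := F)
    have := eval₂_reflect_mul_pow (RingHom.id F) (1 : F) g.natDegree g le_rfl
    rw [← Polynomial.map_id (p := g), Polynomial.map_id, invOf_one, eval₂_id,
      ← Polynomial.map_id (p := g), natDegree_map, h, Polynomial.map_id, eval_mul, eval_C] at this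
    simpa [h1] using this
  refine ⟨hm, hd, h3, by_contra fun h4 => h1 ?_⟩
  rw [Nat.not_even_iff_odd, Nat.odd_iff] at h4
  rw [eval_eq_sum_range]
  refine sum_involution (fun i _ => g.natDegree - i) (fun i hi => ?_) (fun i hi _ => ?_)
    (fun i hi => mem_range.2 (by omega)) fun i hi => by have := mem_range.1 hi; omega
  · have := congrArg (coeff · i) h
    simp only [Polynomial.map_id, h3, map_one, one_mul, coeff_reflect,
      revAt_le (Nat.lt_succ_iff.1 (mem_range.1 hi))] at this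
    simp [this, ← two_mul, h2]
  · have := mem_range.1 hi; omega

theorem eq_of_mul_pow {a b : F[X]} {i j : ℕ} (ha : a.eval 1 ≠ 0) (hb : b.eval 1 ≠ 0)
    (h : a * (X - C 1) ^ i = b * (X - C 1) ^ j) : i = j ∧ a = b := by
  have key : ∀ (a : F[X]) i, a.eval 1 ≠ 0 → (a * (X - C 1) ^ i).rootMultiplicity 1 = i := fun a i ha => by
    rw [rootMultiplicity_mul_X_sub_C_pow (by rintro rfl; simp at ha), rootMultiplicity_eq_zero ha, zero_add]
  obtain rfl : i = j := by rw [← key a i ha, h, key b j hb]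
  exact ⟨rfl, mul_right_cancel₀ (pow_ne_zero _ (X_sub_C_ne_zero 1)) h⟩

/-- The pattern of a multiset of blocks. -/
def pat (μ : Multiset Blk) (k : ℕ) : ℕ × ℕ × ℕ :=
  (μ.count (.V k false), μ.count (.V k true), μ.count (.Wb k))

/-- The level of a block. -/
def Blk.idx : Blk → ℕ
  | .V s _ => s
  | .W a => a
  | .Wb k => k

theorem sum_hd (μ : Multiset Blk) {K : ℕ} (h : ∀ b ∈ μ, b.idx < K) :
    (μ.map Blk.hd).sum = ∑ k ∈ range K, (k + 1) * μ.count (.W k) + pwt K (pat μ) := by
  induction μ using Multiset.induction_on with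
  | empty => simp [pwt, pat, lwt]
  | cons b μ ih =>
    have h1 := h b (Multiset.mem_cons_self _ _)
    rw [Multiset.map_cons, Multiset.sum_cons, ih fun b hb => h b (Multiset.mem_cons_of_mem hb)]
    obtain ⟨s, _ | _⟩ | a | k := b <;> simp only [Blk.idx] at h1 <;>
      simp [pwt, pat, lwt, Multiset.count_cons, mul_add, sum_add_distrib, h1, Blk.hd] <;> ring

theorem eq_of_pat {μ ν : Multiset Blk} (h : pat μ = pat ν) (h' : ∀ k, μ.count (.W k) = ν.count (.W k)) :
    μ = ν := Multiset.ext.2 fun b => by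
  obtain ⟨s, _ | _⟩ | a | k := b
  exacts [congrArg (·.1) (congrFun h s), congrArg (·.2.1) (congrFun h s), h' a, congrArg (·.2.2) (congrFun h k)]

theorem AdmL.padm {l : List Blk} (h : AdmL l) : PAdm true true (pat l) := ⟨by simp, fun k => by
  obtain ⟨h1, h2, h3, h4, h5, h6⟩ := h k
  simp only [pat, Multiset.coe_count, ← List.count_pos_iff, Bool.forall_bool] at *
  simp only [reduceCtorEq, false_imp_iff, and_true]
  omega⟩

theorem count_fg (μ : Multiset Blk) : pat (μ.map Blk.fg) 0 = ((pat μ 0).1 + (pat μ 0).2.1, 0, 0) ∧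
    ∀ k, pat (μ.map Blk.fg) (k + 1) = pat μ (k + 1) := by
  induction μ using Multiset.induction_on with
  | empty => simp [pat]
  | cons b μ ih =>
    simp only [pat, Prod.mk.injEq] at ih
    obtain ⟨_ | s, _ | _⟩ | a | _ | k := b <;> simp [pat, Multiset.count_cons, ih, Blk.fg] <;> omega

theorem PAdm.fg {μ : Multiset Blk} (h : PAdm true true (pat μ)) : PAdm false true (pat (μ.map Blk.fg)) :=
  ⟨by simp [count_fg], fun k => by
    have := h.2 k
    cases k <;> simp only [count_fg] <;> simp only [reduceCtorEq, false_imp_iff, and_true] at * <;> omega⟩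

variable (F) in
/-- Elementary divisors and blocks. -/
abbrev RawE := Multiset (F[X] × ℕ) × Multiset Blk

variable (o z n) in
/-- The conditions satisfied by the invariants. -/
structure ValidE (r : RawE F) : Prop where
  ed : IsED r.1
  ne : ∀ a ∈ r.1, a.1 ≠ X
  ne1 : ∀ a ∈ r.1, a.1 ≠ X - 1
  dual : r.1.map (dd (RingHom.id F)) = r.1
  deg : edDeg r.1 + 2 * (r.2.map Blk.hd).sum = 2 * n
  adm : PAdm o z (pat r.2)

variable {r r' : RawE F}

theorem ValidE.pal (h2 : (2 : F) = 0) (h : ValidE o z n r) (i : ℕ) :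
    IsPal (edTup r.1 i) ∧ (edTup r.1 i).eval 1 ≠ 0 := by
  classical
  have hR : ∀ p ∈ (r.1.filter (·.2 = i)).map Prod.fst, p.Monic ∧ Irreducible p ∧ p ≠ X ∧ p ≠ X - 1 := by
    intro p hp
    obtain ⟨a, ha, rfl⟩ := Multiset.mem_map.1 hp
    have := (Multiset.mem_filter.1 ha).1
    exact ⟨(h.ed a this).1, (h.ed a this).2.1, h.ne a this, h.ne1 a this⟩
  have hev : ∀ c, X - C c = X ∨ X - C c = X - 1 → (edTup r.1 i).eval c ≠ 0 := fun c hc => by
    rw [edTup, eval_multiset_prod]
    refine Multiset.prod_ne_zero fun h => ?_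
    obtain ⟨p, hp, h⟩ := Multiset.mem_map.1 h
    have := eq_of_monic_of_associated (monic_X_sub_C c) (hR p hp).1
      ((irreducible_X_sub_C c).associated_of_dvd (hR p hp).2.1 (dvd_iff_isRoot.2 h))
    exact hc.elim (fun e => (hR p hp).2.2.1 (this ▸ e)) fun e => (hR p hp).2.2.2 (this ▸ e)
  exact ⟨isPal_of_eval_two h2 (monic_prod fun p hp => (hR p hp).1)
    (by rw [coeff_zero_eq_eval_zero]; exact hev 0 (by simp))
    (by rw [edTup, map_multiset_prod, filter_map_pd h.dual]) (hev 1 (by simp)), hev 1 (by simp)⟩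

theorem ValidE.idx_lt (h : ValidE o z n r) : ∀ b ∈ r.2, b.idx < n := fun b hb => by
  have := Multiset.single_le_sum (fun _ _ => Nat.zero_le _) _ (Multiset.mem_map_of_mem Blk.hd hb)
  have := h.deg
  have : b.idx < b.hd := by cases b <;> simp [Blk.idx, Blk.hd]; omega
  omega

variable [Fintype F]

local notation "q" => Fintype.card F

theorem validE_le (h2 : (2 : F) = 0) (T : Finset (RawE F)) (hT : ∀ r ∈ T, ValidE o z n r) {c : ℝ}
    (hc : ∀ m, (pts o z (m + 8)).2 ≤ c) : #T ≤ 3.4635 * q ^ n * c := by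
  classical
  let g : RawE F → ℕ → F[X] := fun r e => edTup r.1 (e + 1) * (X - C 1) ^ (2 * r.2.count (.W e))
  have hg : ∀ r ∈ T, ∀ e, IsPal (g r e) := fun r hr e =>
    ((hT r hr).pal h2 _).1.mul (isPal_pow (one_pow 2) _)
  have h0 : ∀ r ∈ T, ∀ b : Blk, n ≤ b.idx → r.2.count b = 0 := fun r hr b hb =>
    Multiset.count_eq_zero.2 fun h => ((hT r hr).idx_lt b h).not_ge hb
  have h1 : ∀ k, #(finite_pal (F := F) k).toFinset = q ^ k := fun k => by
    rw [← card_pal, ← Nat.card_eq_card_finite_toFinset]; rfl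
  refine (data_le_half T (fun r => pat r.2) (fun r => ∑ e ∈ range (2 * n + 7 + 1), (e + 1) *
    ((g r e).natDegree / 2)) (pwt (2 * n + 8)) two_le_q (by norm_num) (fun T' h b k H => ?_)
    fun r hr => ?_).trans (mul_le_mul_of_nonneg_left ((pat_le _ _ (fun c hc => ?_)
      fun c hc c' hc' h => funext fun k => ?_).1.trans (hc _)) (by positivity))
  · have := tup_le (fun h : F[X] => h.natDegree / 2) (fun k => (finite_pal k).toFinset) (a := 0)
      (two_le_q (F := F)) le_rfl (h1 0).le (by simp [h1]) g T' (2 * n + 7) k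
      (by simpa using fun t ht => hg t (h ht)) (by simp) (fun t ht => (H t ht).2) fun t ht t' ht' h3 => ?_
    · simp only [add_zero, one_mul, zero_mul] at this
      refine this.trans (mul_le_mul_of_nonneg_right ((prod_inv_mono (by positivity) ?_ (by norm_num) _).trans
        (prod_inv_half _)) (by positivity))
      rw [one_div]; exact inv_anti₀ (by norm_num) (by exact_mod_cast two_le_q)
    have k := hT t (h ht)
    have k' := hT t' (h ht')
    have h4 := fun e he => eq_of_mul_pow (k.pal h2 _).2 (k'.pal h2 _).2 (h3 e he)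
    refine Prod.ext (eq_of_edTup' k.ed k.ne k'.ed k'.ne (J := 2 * n + 7) (by have := k.deg; omega)
      (by have := k'.deg; omega) fun e he => (h4 e he).2) (eq_of_pat ((H t ht).1.trans (H t' ht').1.symm)
      fun e => ?_)
    rcases le_or_gt e (2 * n + 7) with he | he
    · have := (h4 e he).1; omega
    · rw [h0 t (h ht) _ (by simp [Blk.idx]; omega), h0 t' (h ht') _ (by simp [Blk.idx]; omega)]
  · have k := hT r hr
    have h3 := sum_hd r.2 (K := 2 * n + 8) fun b hb => (k.idx_lt b hb).trans_le (by omega)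
    have h4 := sum_edTup k.ed k.ne (J := 2 * n + 7) (by have := k.deg; omega)
    have h5 := k.deg
    have h6 : 2 * ∑ e ∈ range (2 * n + 7 + 1), (e + 1) * ((g r e).natDegree / 2) =
        ∑ e ∈ range (2 * n + 7 + 1), (e + 1) * (edTup r.1 (e + 1)).natDegree +
        2 * ∑ e ∈ range (2 * n + 8), (e + 1) * r.2.count (.W e) := by
      rw [mul_sum, mul_sum, ← sum_add_distrib]
      refine sum_congr rfl fun e _ => ?_
      rw [mul_left_comm, Nat.two_mul_div_two_of_even (hg r hr e).2.2.2,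
        (k.pal h2 _).1.1.natDegree_mul ((monic_X_sub_C 1).pow _), natDegree_pow, natDegree_X_sub_C]
      ring
    omega
  · obtain ⟨r, hr, rfl⟩ := mem_image.1 hc
    exact (hT r hr).adm
  · obtain ⟨r, hr, rfl⟩ := mem_image.1 hc
    obtain ⟨r', hr', rfl⟩ := mem_image.1 hc'
    rcases lt_or_ge k (2 * n + 8) with hk | hk
    · exact h k hk
    · have : n ≤ k := by omega
      simp only [pat, h0 r hr (.V k _) this, h0 r' hr' (.V k _) this, h0 r hr (.Wb k) this,
        h0 r' hr' (.Wb k) this]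

variable [FiniteDimensional F V] [FiniteDimensional F V']

variable (D x α) in
/-- The invariants of an isometry. -/
def HasD (φ : Blk → Blk) (r : RawE F) : Prop := Ev D x ∧ ∃ m, Fit D x m ∧ r.1 = edOf (fR x m) ∧
  ∃ l, Dec D x α (LinearMap.ker ((x - 1) ^ m)) l ∧ r.2 = ↑(l.map fun p => φ p.1)

omit [Fintype F] [FiniteDimensional F V] in
theorem Fit.disj (hD : D.Nondeg) {m : ℕ} (h : Fit D x m) :
    Disjoint (LinearMap.ker ((x - 1) ^ m)) (D.perp (LinearMap.ker ((x - 1) ^ m))) :=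
  D.nondeg_restrict_iff.1 (h.orth.nondeg_left hD)

theorem Ev.exists_hasD (h : Ev D x) (hα : ∀ t, t ^ 2 + t + α ≠ 0) (φ : Blk → Blk) :
    ∃ s μ, HasD D x α φ (s, Multiset.map φ μ) ∧ PAdm true true (pat μ) := by
  obtain ⟨m, hm⟩ := (eventually_fit h.nd h.iso).exists
  obtain ⟨l, d, a⟩ := h.exists_dec hα _ (fun _ h => h) (ker_inv x m) (hm.disj h.nd)
  exact ⟨_, _, ⟨h, m, hm, rfl, l, d, by simp [Function.comp_def]⟩, a.padm⟩

theorem HasD.valid {φ : Blk → Blk} (h : HasD D x α φ r) (hφ : ∀ b, (φ b).hd = b.hd)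
    (hn : finrank F V = 2 * n) (a : PAdm o z (pat r.2)) : ValidE o z n r := by
  obtain ⟨s, μ⟩ := r
  obtain ⟨h, m, hm, rfl, l, d, rfl⟩ := h
  have h1 := hm.orth.symm.nondeg_left h.nd
  have h2 := isIsometry_restrict h.iso (range_inv x m)
  have hu := isUnit_of_isIsometry h1 h2.B_map
  refine ⟨(hasED_edOf _).1, (hasED_edOf _).isUnit_iff.1 hu, fun a ha e => ((hasED_edOf _).isUnit_aeval_iff
    (X - 1)).1 (by simpa using hm.isUnit) a ha e.dvd, (selfDual_iff_dd (fun _ => rfl) hu
    (hasED_edOf _)).1 (selfDual_of_isIsometry h1 h2), ?_, a⟩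
  rw [← (hasED_edOf _).finrank, ← hn, ← Submodule.finrank_add_eq_of_isCompl hm.orth.compl, d.dim, add_comm]
  simp [Function.comp_def, hφ]

theorem isoC_fR {K : Kind (RingHom.id F)} {E : Form K V} {E' : Form K V'} (h2 : (2 : F) = 0) (hE : E.Nondeg)
    (hE' : E'.Nondeg) (hx : IsIsometry E E x) (hy : IsIsometry E' E' y) {m m' : ℕ} (h : Fit E x m)
    (h' : Fit E' y m') (hs : edOf (fR x m) = edOf (fR y m')) :
    IsoC (E.restrict _) (fR x m) (E'.restrict _) (fR y m') :=
  isoC_of_unit (h.orth.symm.nondeg_left hE) (h'.orth.symm.nondeg_left hE') (isIsometry_restrict hx _)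
    (isIsometry_restrict hy _) (sim_iff_edOf.2 hs) h.isUnit (isUnit_add_one_of fun v hv => h.inj 1 v (by
      rw [pow_one, LinearMap.sub_apply, hv, End.one_apply, ← neg_add', ← two_smul F, h2, zero_smul, neg_zero]))

theorem HasD.isoC (h : HasD D x α id r) (h' : HasD D' y α id r) : IsoC D x D' y := by
  obtain ⟨h, m, hm, h1, l, d, h2⟩ := h
  obtain ⟨h', m', hm', h1', l', d', h2'⟩ := h'
  exact IsoC.of_orthCompl hm.orth hm'.orth (isoC_of_dec_quad h h' (ker_inv x m) (ker_inv y m') (hm.disj h.nd) (hm'.disj h'.nd) d d'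
    (Multiset.coe_eq_coe.1 (h2.symm.trans h2'))) (isoC_fR h.two h.nd h'.nd h.iso h'.iso hm hm' (h1 ▸ h1'))

theorem HasD.isoC_alt {E : Form (altKind F) V} {E' : Form (altKind F) V'} (hE : E.B = D.B) (hE' : E'.B = D'.B)
    (h : HasD D x α Blk.fg r) (h' : HasD D' y α Blk.fg r) : IsoC E x E' y := by
  obtain ⟨h, m, hm, h1, l, d, h2⟩ := h
  obtain ⟨h', m', hm', h1', l', d', h2'⟩ := h'
  have k : Fit E x m := ⟨⟨hm.orth.1, fun v hv w hw => hE ▸ hm.orth.2 hv w hw⟩, hm.pos⟩
  have k' : Fit E' y m' := ⟨⟨hm'.orth.1, fun v hv w hw => hE' ▸ hm'.orth.2 hv w hw⟩, hm'.pos⟩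
  exact IsoC.of_orthCompl k.orth k'.orth (isoC_of_dec_alt h h' hE hE' (ker_inv x m) (ker_inv y m')
    (hm.disj h.nd) (hm'.disj h'.nd) d d'
    (Multiset.coe_eq_coe.1 (h2.symm.trans h2'))) (isoC_fR h.two (fun u hu => h.nd u (hE ▸ hu))
      (fun u hu => h'.nd u (hE' ▸ hu)) (alt_isIsometry (hE ▸ h.iso.B_map))
      (alt_isIsometry (hE' ▸ h'.iso.B_map)) k k' (h1 ▸ h1'))

omit [Fintype F] [FiniteDimensional F V] [FiniteDimensional F V'] in
theorem card_classes_eq_card {G γ : Type*} [Group G] [Finite G] {P : G → γ → Prop} (h : ∀ g, ∃ r, P g r)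
    (h' : ∀ g g' r, P g r → P g' r → IsConj g g') :
    ∃ T : Finset γ, Nat.card (ConjClasses G) = #T ∧ ∀ r ∈ T, ∃ g, P g r := by
  classical
  have := Fintype.ofFinite (ConjClasses G)
  choose g hg using ConjClasses.exists_rep (α := G)
  choose f hf using h
  refine ⟨univ.image fun C => f (g C), ?_, fun r hr => ?_⟩
  · rw [card_image_of_injective _ fun C C' h => ?_, Nat.card_eq_fintype_card, card_univ]
    rw [← hg C, ← hg C', ConjClasses.mk_eq_mk_iff_isConj]
    exact h' _ _ _ (hf _) (h ▸ hf _)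
  · obtain ⟨C, -, rfl⟩ := mem_image.1 hr
    exact ⟨_, hf _⟩

theorem card_classes_alt_two (h2 : (2 : F) = 0) {E : Form (altKind F) V} (hE : E.Nondeg)
    (hn : finrank F V = 2 * n) : 5 * Nat.card (ConjClasses E.isom) ≤ 76 * q ^ n := by
  have : Finite V := Module.finite_of_finite F
  have := E.finite_isom
  obtain ⟨α, hα⟩ := exists_artinSchreier_irred h2
  obtain ⟨T, h, hT⟩ := card_classes_eq_card (G := E.isom) (P := fun g r => ∃ D : Form (quadKind F) V,
    E.B = D.B ∧ HasD D (nat E g) α Blk.fg r ∧ PAdm false true (pat r.2)) (fun g => by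
      obtain ⟨D, h1, h3⟩ := exists_dye h2 hE (x := nat E g) g.2
      obtain ⟨s, μ, h4, h5⟩ := h3.exists_hasD hα Blk.fg
      exact ⟨_, D, h1, h4, h5.fg⟩)
    fun g g' r ⟨D, h1, h3, _⟩ ⟨D', h1', h3', _⟩ => isConj_iff_isoC.2 (h3.isoC_alt h1 h1' h3')
  have h3 := validE_le h2 T (n := n) (fun r hr => by
    obtain ⟨g, D, -, h3, h4⟩ := hT r hr
    exact h3.valid (by rintro (⟨_ | s, δ⟩ | a | _ | k) <;> rfl) hn h4) pts_sp
  have : (5 * #T : ℝ) ≤ 76 * q ^ n := by
    have : (0 : ℝ) ≤ q ^ n := by positivity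
    linarith
  rw [h]
  exact_mod_cast this

theorem two_eq_zero_of_even_card (h : Even q) : (2 : F) = 0 :=
  ringChar_eq_two_iff.1 (FiniteField.even_card_iff_char_two.2 (Nat.even_iff.1 h))

end Cfsg.Lib.Conj
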