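import Cfsg.Agent.Lib.Conj.Ev4

/-! The class numbers of orthogonal groups in characteristic two: the upper bound. -/

set_option autoImplicit false

namespace Cfsg.Lib.Conj

open Module Cfsg.Lib.Forms Cfsg.Lib.Forms.Form Cfsg.Lib.Known Cfsg.Lib.Linear Polynomial Finset

variable {F : Type*} [Field F] {V : Type*} [AddCommGroup V] [Module F V]
  {D : Form (quadKind F) V} {x y : End F V} {α : F} {n : ℕ} {μ μ' ν : Multiset Blk}

/-- Changing the type of one block. -/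
def Fl (μ μ' : Multiset Blk) : Prop := ∃ ν b b', μ = b ::ₘ ν ∧ μ' = b' ::ₘ ν ∧
  ((∃ k δ, b = .V k δ ∧ b' = .V k (!δ) ∧ .V k true ∉ ν ∧ ∀ j < k, ∀ ε, .V j ε ∉ ν) ∨
    b = .Wb 0 ∧ b' = .W 0 ∧ ∀ k δ, .V k δ ∉ ν)

theorem Fl.unique (h : Fl μ ν) (h' : Fl μ' ν) : μ = μ' := by
  obtain ⟨s, b, c, rfl, rfl, h⟩ := h
  obtain ⟨s', b', c', rfl, e, h'⟩ := h'
  have k : c = c' ∨ c ∈ s' := Multiset.mem_cons.1 (e ▸ Multiset.mem_cons_self c s)
  have k' : c' = c ∨ c' ∈ s := Multiset.mem_cons.1 (e.symm ▸ Multiset.mem_cons_self c' s')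
  suffices b = b' ∧ c = c' by
    obtain ⟨rfl, rfl⟩ := this
    rw [(Multiset.cons_inj_right _).1 e]
  rcases h with ⟨i, δ, rfl, rfl, h1, h2⟩ | ⟨rfl, rfl, h⟩ <;>
    rcases h' with ⟨i', δ', rfl, rfl, h1', h2'⟩ | ⟨rfl, rfl, h'⟩
  · rcases lt_trichotomy i i' with hi | rfl | hi
    · simp [h2' i hi, hi.ne] at k
    · cases δ <;> cases δ' <;> simp_all
    · simp [h2 i' hi, hi.ne] at k'
  · simp [h'] at k
  · simp [h] at k'
  · simp

theorem exists_fl (h : PAdm true true (pat μ)) (h' : ¬ PAdm false false (pat μ)) :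
    ∃ μ', Fl μ μ' ∧ PAdm true true (pat μ') ∧ (μ'.map Blk.hd).sum = (μ.map Blk.hd).sum := by
  classical
  by_cases hV : ∃ k δ, .V k δ ∈ μ
  · obtain ⟨δ, h1⟩ := Nat.find_spec hV
    have h2 := fun j => Nat.find_min hV (m := j)
    generalize Nat.find hV = k at h1 h2
    obtain ⟨δ, h1, h3⟩ : ∃ δ, .V k δ ∈ μ ∧ (δ = false → .V k true ∉ μ) := by
      by_cases h3 : .V k true ∈ μ
      · exact ⟨true, h3, by simp⟩
      · cases δ
        exacts [⟨false, h1, fun _ => h3⟩, absurd h1 h3]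
    obtain ⟨ν, rfl⟩ := Multiset.exists_cons_of_mem h1
    have h4 : .V k true ∉ ν := by
      cases δ
      · simpa using h3
      · simpa [pat] using (h.2 k).1
    have h5 : ∀ j < k, ∀ ε, .V j ε ∉ ν := fun j hj ε e => h2 j hj ⟨ε, Multiset.mem_cons_of_mem e⟩
    refine ⟨_, ⟨ν, _, _, rfl, rfl, .inl ⟨k, δ, rfl, rfl, h4, h5⟩⟩, ⟨by simp, fun j => ?_⟩, by simp [Blk.hd]⟩
    have h6 := h.2 j
    have h7 : j < k → ν.count (.V j false) = 0 ∧ ν.count (.V j true) = 0 := fun hj => by simp [h5 j hj]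
    have h8 : j = k → ν.count (.V j true) = 0 := fun hj => by simp [hj, h4]
    cases δ <;> simp only [pat, Multiset.count_cons, Blk.V.injEq, reduceCtorEq, and_true, and_false, if_false,
      false_imp_iff, Bool.not_false, Bool.not_true] at h6 ⊢ <;> split_ifs at h6 ⊢ <;>
      (try simp only [imp_false] at h6) <;> omega
  push Not at hV
  have h0 : ∀ k δ, μ.count (.V k δ) = 0 := fun k δ => Multiset.count_eq_zero.2 (hV k δ)
  obtain ⟨ν, rfl⟩ := Multiset.exists_cons_of_mem (show .Wb 0 ∈ μ from by_contra fun e => h'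
    ⟨by simp [pat, h0, e], fun k => by simpa [pat, h0] using h.2 k⟩)
  refine ⟨_, ⟨ν, _, _, rfl, rfl, .inr ⟨rfl, rfl, by simpa using hV⟩⟩, ⟨by simp, fun j => ?_⟩, by simp [Blk.hd]⟩
  have h6 := h.2 j
  simp only [pat, Multiset.count_cons, reduceCtorEq, and_true, if_false, false_imp_iff] at h6 ⊢
  omega

variable [Fintype F] [FiniteDimensional F V]

local notation "q" => Fintype.card F

omit [Fintype F] in
theorem HasD.cons {s : Multiset (F[X] × ℕ)} {b : Blk} (h : HasD D x α id (s, b ::ₘ ν)) :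
    ∃ m e f l, Fit D x m ∧ s = edOf (fR x m) ∧ IsB D x α b e f ∧ ν = ↑(l.map (·.1)) ∧
      (D.restrict (⨆ p ∈ l, cb x p)).Nondeg ∧ Dec D x α (⨆ p ∈ l, cb x p) l ∧
      D.Iso ((D.restrict (cb x (b, e, f))).prod ((D.restrict (⨆ p ∈ l, cb x p)).prod
        (D.restrict (LinearMap.range ((x - 1) ^ m))))) := by
  classical
  obtain ⟨h, m, hm, h1, l, d, h2⟩ := h
  have h0 : b ∈ l.map fun p => p.1 := Multiset.mem_coe.1 (h2.subst (Multiset.mem_cons_self b ν))
  obtain ⟨⟨b, e, f⟩, hp, rfl⟩ := List.mem_map.1 h0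
  have h3 := List.perm_cons_erase hp
  have h4 := List.pairwise_cons.1 ((h3.pairwise_iff Orth.symm).1 d.orth)
  obtain ⟨h5, h6⟩ := h.dec_sup (fun p hp => d.blk p (List.mem_of_mem_erase hp)) h4.2
  refine ⟨m, e, f, _, hm, h1, d.blk _ hp, (Multiset.cons_inj_right b).1 (h2.trans
    (Multiset.coe_eq_coe.2 (h3.map _))), h5, h6, hm.orth.iso.trans (((Iso.trans (iso_restrict_of_eq ?_)
      (iso_sup (D.nondeg_restrict_iff.2 (h.split_blk (d.blk _ hp)).1) h5 (iSup₂_le h4.1)).symm).prod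
      (Iso.refl _)).trans (iso_prod_assoc _ _ _))⟩
  refine le_antisymm (d.span.trans (iSup₂_le fun p hp => ?_)) (sup_le (d.le _ hp)
    (iSup₂_le fun p hp => d.le p (List.mem_of_mem_erase hp)))
  rcases List.mem_cons.1 (h3.subset hp) with rfl | hp
  exacts [le_sup_left, le_sup_of_le_right (le_iSup₂_of_le p hp le_rfl)]

theorem Fl.not_hasD (hα : ∀ t, t ^ 2 + t + α ≠ 0) (h : Fl μ μ') {s : Multiset (F[X] × ℕ)}
    (k : HasD D x α id (s, μ)) (k' : HasD D y α id (s, μ')) : False := by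
  obtain ⟨ν, b, b', rfl, rfl, h⟩ := h
  obtain ⟨m, e, f, l, a1, a2, a3, a4, a5, a6, a7⟩ := k.cons
  obtain ⟨m', e', f', l', b1, b2, b3, b4, b5, b6, b7⟩ := k'.cons
  have inv : ∀ (x : End F V) (l : List (Blk × V × V)), ∀ v ∈ ⨆ p ∈ l, cb x p, x v ∈ ⨆ p ∈ l, cb x p :=
    fun x l => (iSup₂_le fun p hp v hv => (le_iSup₂_of_le p hp le_rfl : cb x p ≤ ⨆ p ∈ l, cb x p)
      (cb_inv p v hv) : _ ≤ (⨆ p ∈ l, cb x p).comap x)
  have h1 := (isoC_of_dec_quad k.1 k'.1 (inv x l) (inv y l') (D.nondeg_restrict_iff.1 a5)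
    (D.nondeg_restrict_iff.1 b5) a6 b6 (Multiset.coe_eq_coe.1 (a4.symm.trans b4))).iso.prod
    (isoC_fR k.1.two k.1.nd k.1.nd k.1.iso k'.1.iso a1 b1 (a2 ▸ b2)).iso
  have n1 := a5.prod (a1.orth.symm.nondeg_left k.1.nd)
  obtain ⟨t, ht⟩ := n1.even_finrank k.1.two
  obtain ⟨c1, c2⟩ := k.1.split_blk (p := (b, e, f)) a3
  obtain ⟨d1, d2⟩ := k'.1.split_blk (p := (b', e', f')) b3
  have h2 := Quad.hasTS_prod_iff_iff (D.nondeg_restrict_iff.2 c1) n1 c2 (ht.trans (two_mul t).symm)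
  have h3 := Quad.hasTS_prod_iff_iff (D.nondeg_restrict_iff.2 d1) (h1.nondeg n1) d2
    (h1.finrank_eq.symm.trans (ht.trans (two_mul t).symm))
  rw [← a7.hasTS_iff] at h2
  rw [← b7.hasTS_iff, ← h1.hasTS_iff] at h3
  rcases h with ⟨i, δ, rfl, rfl, -⟩ | ⟨rfl, rfl, -⟩
  · have := k.1.hasTS_V hα a3
    have := k'.1.hasTS_V hα b3
    simp only [Blk.hd] at h2 h3
    cases δ <;> simp_all
  · have := Ev.not_hasTS_Wb hα a3
    have := Ev.hasTS_W b3
    simp only [Blk.hd, mul_zero, zero_add] at h2 h3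
    tauto

theorem card_classes_quad_two (h2 : (2 : F) = 0) (hD : D.Nondeg) (hn : finrank F V = 2 * n) :
    Nat.card (ConjClasses D.isom) ≤ 15 * q ^ n := by
  classical
  have : Finite V := Module.finite_of_finite F
  have := D.finite_isom
  obtain ⟨α, hα⟩ := exists_artinSchreier_irred h2
  obtain ⟨T, h, hT⟩ := card_classes_eq_card (G := D.isom) (P := fun g r =>
    HasD D (nat D g) α id r ∧ PAdm true true (pat r.2)) (fun g => by
      obtain ⟨s, μ, h4, h5⟩ := Ev.exists_hasD ⟨h2, hD, (g.2 : IsIsometry D D (nat D g))⟩ hα id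
      exact ⟨_, h4, by simpa using h5⟩) fun g g' r h3 h3' => isConj_iff_isoC.2 (h3.1.isoC h3'.1)
  have h1 : ∀ r ∈ T, ValidE true true n r := fun r hr => by
    obtain ⟨g, h3, h4⟩ := hT r hr
    exact h3.valid (fun _ => rfl) hn h4
  choose! φ φ1 φ2 φ3 using fun μ => exists_fl (μ := μ)
  let A := T.filter fun r => ¬ PAdm false false (pat r.2)
  have hA : ∀ r ∈ A, Fl r.2 (φ r.2) ∧ ValidE true true n (r.1, φ r.2) := fun r hr => by
    obtain ⟨k1, k2⟩ := mem_filter.1 hr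
    have k := h1 r k1
    exact ⟨φ1 _ k.adm k2, k.ed, k.ne, k.ne1, k.dual, (φ3 _ k.adm k2).symm ▸ k.deg, φ2 _ k.adm k2⟩
  have h3 := validE_le h2 (T ∪ A.image fun r => (r.1, φ r.2)) (n := n) (fun r hr => (mem_union.1 hr).elim
    (h1 r) fun h => by obtain ⟨r, hr', rfl⟩ := mem_image.1 h; exact (hA r hr').2) pts_o
  rw [card_union_of_disjoint (disjoint_right.2 fun r hr k => by
    obtain ⟨r, hr', rfl⟩ := mem_image.1 hr
    obtain ⟨g, k1, -⟩ := hT r (mem_filter.1 hr').1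
    obtain ⟨g', k2, -⟩ := hT _ k
    exact (hA r hr').1.not_hasD hα k1 k2), card_image_of_injOn fun r hr r' hr' e => by
      obtain ⟨e1, e2⟩ := Prod.mk.inj e
      exact Prod.ext e1 ((hA r hr).1.unique (e2 ▸ (hA r' hr').1))] at h3
  have h4 := validE_le h2 (T.filter fun r => PAdm false false (pat r.2)) (n := n) (fun r hr => by
    obtain ⟨k1, k2⟩ := mem_filter.1 hr
    have k := h1 r k1
    exact ⟨k.ed, k.ne, k.ne1, k.dual, k.deg, k2⟩) pts_w
  have h5 := card_filter_add_card_filter_not (s := T) fun r => PAdm false false (pat r.2)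
  have : (#T : ℝ) ≤ 15 * q ^ n := by
    have : (0 : ℝ) ≤ q ^ n := by positivity
    have h6 := congrArg (Nat.cast : ℕ → ℝ) h5
    push_cast at h3 h6
    linarith
  rw [h]
  exact_mod_cast this

end Cfsg.Lib.Conj
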