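import Cfsg.Agent.Lib.Conj.Ev5

/-! The class numbers of orthogonal groups in characteristic two: the lower bound. -/

set_option autoImplicit false

namespace Cfsg.Lib.Conj

open Module Cfsg.Lib.Forms Cfsg.Lib.Forms.Form Cfsg.Lib.Known Cfsg.Lib.Linear Polynomial Finset

variable {F : Type*} [Field F] {V V' : Type*} [AddCommGroup V] [Module F V] [AddCommGroup V'] [Module F V']
  [FiniteDimensional F V] [FiniteDimensional F V']

theorem finrank_le_of_ts {D : Form (quadKind F) V} (hD : D.Nondeg) {U L : Submodule F V} (hU : D.IsTS U)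
    (h : U ⊓ D.perp L ≤ L) : finrank F U ≤ finrank F L := by
  have h5 := hD.finrank_perp (U ⊓ D.perp L)
  rw [hD.perp_inf, hD.perp_perp] at h5
  have h6 := Submodule.finrank_sup_add_finrank_inf_eq (D.perp U) L
  have h7 := hD.finrank_perp U
  have h9 := Submodule.finrank_mono (show U ⊓ D.perp L ≤ D.perp U ⊓ L from
    fun w hw => ⟨hU.le_perp hw.1, h hw⟩)
  omega

theorem sum_symm_eq_zero (h2 : (2 : F) = 0) {ι : Type*} [Fintype ι] {T : ι → ι → F} (h : ∀ i j, T i j = T j i)
    (h0 : ∀ i, T i i = 0) : ∑ i, ∑ j, T i j = 0 := by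
  rw [← sum_product']
  exact sum_involution (fun p _ => p.swap) (fun p _ => by simp [h p.2, ← two_mul, h2])
    (fun p _ h1 e => h1 (by rw [show p.2 = p.1 from congrArg Prod.fst e, h0])) (by simp) (by simp)

theorem as_iff (h2 : (2 : F) = 0) (t : F) : (∃ k, t ^ 2 * k ^ 2 + k + 1 = 0) ↔ ∃ s, s ^ 2 + s + t = 0 := by
  refine ⟨fun ⟨k, hk⟩ => ⟨t ^ 2 * k + t, by linear_combination t ^ 2 * hk + (t ^ 3 * k + t) * h2⟩,
    fun ⟨s, hs⟩ => ?_⟩
  by_cases h : t = 0
  · exact ⟨1, by linear_combination h2 + t * h⟩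
  · exact ⟨s ^ 2 / t ^ 2, by
      field_simp; linear_combination (s ^ 2 + s + t) * hs - (s ^ 3 + s ^ 2 * t + s * t) * h2⟩

section Model

variable {R : Type*} [CommRing R] [Algebra F R] (h2 : (2 : F) = 0) (l : R →ₗ[F] F) (u : R)

/-- The norm form of a quadratic extension, followed by a linear form. -/
def mdlQ : Form (quadKind F) (R × R) where
  B := LinearMap.mk₂ F (fun a b => l (u * a.1 * b.2) + l (u * a.2 * b.1)) (by simp [mul_add, add_mul]; intros; ring)
    (by simp [mul_add]) (by simp [mul_add]; intros; ring) (by simp [mul_add])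
  Q a := l (a.1 ^ 2) + l (u * a.1 * a.2) + l (a.2 ^ 2)
  symm a b := by simp [add_comm, mul_right_comm]
  Q_add a b := by
    simp [add_sq, mul_add, add_mul, mul_assoc, two_mul, mul_comm a.2 b.1]
    linear_combination (l (a.1 * b.1) + l (a.2 * b.2)) * h2
  Q_smul c a := by simp [_root_.smul_pow]; ring
  B_self a := by simp [h2, mul_right_comm u a.2, ← two_mul]
  Q_mem a := ⟨_, rfl⟩

theorem mdlQ_B (a b : R × R) : (mdlQ h2 l u).B a b = l (u * a.1 * b.2) + l (u * a.2 * b.1) := rfl

theorem mdlQ_Q (a : R × R) : (mdlQ h2 l u).Q a = l (a.1 ^ 2) + l (u * a.1 * a.2) + l (a.2 ^ 2) := rfl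

variable {l u} (hl : ∀ a, (∀ b, l (u * a * b) = 0) → a = 0)
include hl

theorem mdlQ_nondeg : (mdlQ h2 l u).Nondeg := fun a ha =>
  Prod.ext (hl _ fun b => by simpa [mdlQ_B] using ha (0, b)) (hl _ fun b => by simpa [mdlQ_B] using ha (b, 0))

theorem mdlQ_hasTS [Finite F] [FiniteDimensional F R] {u' : R} (hu : u * u' = 1) :
    (mdlQ h2 l u).HasTS (finrank F R) ↔ ∃ s, s ^ 2 + s + Algebra.trace F R u' = 0 := by
  obtain ⟨μ, hμ⟩ := exists_sq_eq_of_additive h2 (φ := fun a : R => l (a ^ 2)) (fun a b => by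
    simp [add_sq, two_mul, add_mul]; linear_combination l (a * b) * h2) fun c a => by simp [_root_.smul_pow]
  let β : LinearMap.BilinForm F R := LinearMap.mk₂ F (fun a b => l (u * a * b)) (by simp [mul_add, add_mul])
    (by simp) (by simp [mul_add]) (by simp)
  have hβ : β.Nondegenerate := ⟨hl, fun a ha => hl a fun b => by simpa [β, mul_right_comm] using ha b⟩
  obtain ⟨w, hw⟩ : ∃ w, ∀ a, l (u * w * a) = μ a := ⟨_, β.apply_toDual_symm_apply (hB := hβ) μ⟩
  have ht : Algebra.trace F R u' = μ w := by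
    classical
    let b := finBasis F R
    let d := β.dualBasis hβ b
    have e1 : ∀ i, b i = ∑ j, l (u * b i * b j) • d j := fun i => by
      simpa [d, β] using (d.sum_repr (b i)).symm
    have e2 : μ w = ∑ i, ∑ j, l (u * b i * b j) * (μ (d i) * μ (d j)) := by
      conv_lhs => rw [← d.sum_repr w, map_sum]
      refine sum_congr rfl fun i _ => ?_
      rw [map_smul, β.dualBasis_repr_apply, LinearMap.mk₂_apply, hw, e1 i, map_sum, smul_eq_mul, sum_mul, ← e1]
      exact sum_congr rfl fun j _ => by rw [map_smul, smul_eq_mul]; ring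
    have e3 : Algebra.trace F R u' = ∑ i, ∑ j, l (u * b i * b j) * l (d i * d j) := by
      rw [Algebra.trace_eq_matrix_trace d, Matrix.trace]
      refine sum_congr rfl fun i _ => ?_
      rw [Matrix.diag_apply, Algebra.leftMulMatrix_eq_repr_mul, β.dualBasis_repr_apply, LinearMap.mk₂_apply,
        ← mul_assoc, hu, one_mul, e1 i, mul_sum, map_sum, ← e1]
      simp
    rw [e2, e3, ← sub_eq_zero, ← sum_sub_distrib]
    simp only [← sum_sub_distrib, ← mul_sub]
    exact sum_symm_eq_zero h2 (fun i j => by rw [mul_right_comm, mul_comm (d i), mul_comm (μ (d i))])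
      fun i => by rw [← sq, ← sq, hμ, sub_self, mul_zero]
  rw [ht, ← as_iff h2]
  have hQ : ∀ (a : R) (k : F), (mdlQ h2 l u).Q (a, k • w) = μ a ^ 2 + k * μ a + k ^ 2 * μ w ^ 2 := fun a k => by
    simp [mdlQ_Q, _root_.smul_pow, hμ, mul_right_comm u a, hw]
  refine ⟨fun ⟨U, h3, h4⟩ => by_contra fun h5 => ?_, fun ⟨k, hk⟩ => ?_⟩
  · have w0 : μ w ≠ 0 := fun h => h5 ⟨1, by linear_combination h2 + μ w * h⟩
    have h6 := finrank_le_of_ts (mdlQ_nondeg h2 hl) h4 (L := (LinearMap.ker μ).map (LinearMap.inl F R R))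
      fun v hv => by
        obtain ⟨a, b⟩ := v
        obtain ⟨k, rfl⟩ : ∃ k : F, b = k • w := ⟨μ b / μ w, sub_eq_zero.1 (hl _ fun c => by
          have := hv.2 _ ⟨c - (μ c / μ w) • w, by simp [w0], rfl⟩
          rw [mdlQ_B, LinearMap.inl_apply] at this
          simp only [mul_sub, sub_mul, map_sub, mul_smul_comm, smul_mul_assoc,
            map_smul, hw, mul_zero, zero_mul, map_zero, add_zero, smul_eq_mul, mul_right_comm u c] at this ⊢
          linear_combination this)⟩
        have h6 := (hQ a k).symm.trans (h4.1 _ hv.1)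
        have h7 : μ a = 0 := by_contra fun h7 => h5 ⟨k / μ a, by field_simp; linear_combination h6⟩
        obtain rfl : k = 0 := by simpa [h7, w0] using h6
        exact ⟨a, h7, by simp⟩
    have h7 := Submodule.finrank_lt (s := LinearMap.ker μ) fun h => w0 (h.ge (Submodule.mem_top (x := w)))
    have := Submodule.finrank_map_le (LinearMap.inl F R R) (LinearMap.ker μ)
    omega
  · refine hasTS_quad_iff.2 ⟨_, LinearMap.finrank_range_of_inj (f := LinearMap.id.prod (k • μ.smulRight w))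
      fun a b h => congrArg Prod.fst h, ?_⟩
    rintro _ ⟨a, rfl⟩
    exact ((congrArg _ (by simp [smul_smul])).trans (hQ a (k * μ a))).trans
      (by linear_combination μ a ^ 2 * hk)

end Model

/-- The invariant polynomial of an invertible map. -/
def InvP (x : End F V) (p : F[X]) : Prop := ∃ x', x * x' = 1 ∧ (x + x').charpoly = p ^ 2

theorem InvP.sim {x : End F V} {y y' : End F V'} {p : F[X]} (h : InvP x p) (hs : Sim x y) (hy : y' * y = 1) :
    (y + y').charpoly = p ^ 2 := by
  obtain ⟨x', h1, h2⟩ := h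
  obtain ⟨e, he⟩ := hs
  refine (Sim.charpoly ⟨e, fun v => ?_⟩).symm.trans h2
  have : e (x' v) = y' (e v) := by
    conv_rhs => rw [show v = x (x' v) from (LinearMap.congr_fun h1 v).symm, he, ← End.mul_apply, hy,
      End.one_apply]
  simp [he, this]

theorem exists_model [Finite F] (h2 : (2 : F) = 0) {g : F[X]} (hm : g.Monic) (h0 : g.coeff 0 ≠ 0) {n : ℕ}
    (hd : g.natDegree = n + 1) : ∃ (D : Form (quadKind F) (Fin (2 * (n + 1)) → F)) (x : End F _),
      D.Nondeg ∧ IsIsometry D D x ∧ InvP x g ∧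
      (D.HasTS (n + 1) ↔ ∃ s, s ^ 2 + s + g.coeff 1 / g.coeff 0 = 0) := by
  let pb := AdjoinRoot.powerBasis hm.ne_zero
  have := pb.finite
  have hn : finrank F (AdjoinRoot g) = n + 1 := pb.finrank.trans hd
  let u := AdjoinRoot.root g
  have hc : (Algebra.leftMulMatrix pb.basis u).charpoly = g :=
    (charpoly_leftMulMatrix pb).trans (AdjoinRoot.minpoly_powerBasis_gen_of_monic hm)
  obtain ⟨u', hu⟩ : ∃ u', u * u' = 1 := ⟨AdjoinRoot.mk g (-C (g.coeff 0)⁻¹ * g.divX), by
    rw [← map_one (AdjoinRoot.mk g), show u = AdjoinRoot.mk g X from rfl, ← map_mul, AdjoinRoot.mk_eq_mk]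
    refine ⟨-C (g.coeff 0)⁻¹, ?_⟩
    have := congrArg C (inv_mul_cancel₀ h0)
    rw [map_mul, map_one] at this
    linear_combination -C (g.coeff 0)⁻¹ * g.X_mul_divX_add + this⟩
  let l := lcoeff F n ∘ₗ AdjoinRoot.modByMonicHom hm
  have hl : ∀ a, (∀ b, l (u * a * b) = 0) → a = 0 := fun a ha => by
    obtain ⟨p, rfl, hp⟩ : ∃ p, AdjoinRoot.mk g p = a ∧ p.degree < g.degree := by
      induction a using AdjoinRoot.induction_on with
      | ih p => exact ⟨_, AdjoinRoot.mk_leftInverse hm _, degree_modByMonic_lt _ hm⟩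
    by_contra h3
    have p0 : p ≠ 0 := by rintro rfl; simp at h3
    have h4 : p.natDegree ≤ n := Nat.lt_succ_iff.1 ((natDegree_lt_natDegree p0 hp).trans_eq hd)
    have := ha (u' * AdjoinRoot.mk g (X ^ (n - p.natDegree)))
    rw [mul_mul_mul_comm, hu, one_mul, ← map_mul] at this
    simp only [l, LinearMap.comp_apply, AdjoinRoot.modByMonicHom_mk, lcoeff_apply] at this
    rw [(modByMonic_eq_self_iff hm).2 (degree_lt_degree (by rw [natDegree_mul_X_pow _ p0]; omega)),
      coeff_mul_X_pow', if_pos (by omega), Nat.sub_sub_self h4] at this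
    exact leadingCoeff_ne_zero.2 p0 this
  have ht : Algebra.trace F _ u' = g.coeff 1 / g.coeff 0 := by
    have h3 : Algebra.leftMulMatrix pb.basis u' * Algebra.leftMulMatrix pb.basis u = 1 := by
      rw [← map_mul, mul_comm, hu, map_one]
    have h4 := Matrix.charpoly_inv _ (IsUnit.of_mul_eq_one _ h3)
    rw [Matrix.inv_eq_right_inv h3, hc, ← C_1, ← C_neg, ← C_pow, ← C_mul] at h4
    have h5 := congrArg (coeff · 0) h4
    have h6 := congrArg (coeff · 1) h4
    simp only [coeff_C_mul, Matrix.coeff_charpolyRev_eq_neg_trace] at h5 h6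
    rw [coeff_zero_eq_eval_zero (Matrix.charpolyRev _), Matrix.eval_charpolyRev, mul_one] at h5
    rw [Algebra.trace_eq_matrix_trace pb.basis, h6, ← h5]
    field_simp
    linear_combination (Algebra.leftMulMatrix pb.basis u').trace * h2
  have r2 : ∀ a : AdjoinRoot g, a + a = 0 := fun a => by rw [← two_smul F, h2, zero_smul]
  let x : End F (AdjoinRoot g × AdjoinRoot g) :=
    (LinearMap.snd F _ _).prod (LinearMap.fst F _ _ + LinearMap.mulLeft F u ∘ₗ LinearMap.snd F _ _)
  let x' : End F (AdjoinRoot g × AdjoinRoot g) :=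
    (LinearMap.snd F _ _ + LinearMap.mulLeft F u ∘ₗ LinearMap.fst F _ _).prod (LinearMap.fst F _ _)
  let e := LinearEquiv.ofFinrankEq (R := F) (Fin (2 * (n + 1)) → F) (AdjoinRoot g × AdjoinRoot g) (by
    rw [finrank_prod, hn, finrank_fin_fun, two_mul])
  have k := isoC_comap (D' := mdlQ h2 l u) (e := e) (x := e.symm.conj x) (y := x) (by simp)
  have h3 : InvP x g := ⟨x', LinearMap.ext fun a => by simp [x, x', add_assoc, r2], by
    rw [show x + x' = (Algebra.lmul F _ u).prodMap (Algebra.lmul F _ u) from LinearMap.ext fun a =>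
      Prod.ext (by simp [x, x', ← add_assoc, r2]) (by simp [x, x', add_right_comm, r2]),
      LinearMap.charpoly_prodMap, ← LinearMap.charpoly_toMatrix _ pb.basis, sq]
    exact congrArg₂ _ hc hc⟩
  refine ⟨_, _, k.iso.symm.nondeg (mdlQ_nondeg h2 hl), k.symm.isIsometry (quad_isIsometry (map_add _) fun a => ?_),
    ⟨e.symm.conj x', ?_, h3.sim k.symm.sim ?_⟩, k.iso.hasTS_iff.trans (hn ▸ ht ▸ mdlQ_hasTS h2 hl hu)⟩
  · simp only [mdlQ_Q, ← map_add]
    congr 1
    simp [x]
    linear_combination r2 (u * a.1 * a.2) + r2 (u * u * a.2 * a.2)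
  · ext; simp [x, x', add_assoc, r2]
  · ext; simp [x, x', add_assoc, r2]

variable [Fintype F]

local notation "q" => Fintype.card F

theorem le_card_classes_two (h2 : (2 : F) = 0) {D : Form (quadKind F) V} (hD : D.Nondeg) {n : ℕ}
    (hn : finrank F V = 2 * (n + 2)) : q ^ (n + 2) ≤ 2 * Nat.card (ConjClasses D.isom) := by
  classical
  have : Finite V := Module.finite_of_finite F
  have := D.finite_isom
  obtain ⟨α, hα⟩ := exists_artinSchreier_irred h2
  let P : F[X] → Prop := fun p => if p.coeff 0 = 0 then p.coeff 1 ≠ 0 else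
    (D.HasTS (n + 2) ↔ ∃ s, s ^ 2 + s + p.coeff 1 / p.coeff 0 = 0)
  have h1 : ∀ p ∈ {p : F[X] | (p.Monic ∧ p.natDegree = n + 2) ∧ P p},
      ∃ g : D.isom, (nat D g + nat D g⁻¹).charpoly = p ^ 2 := fun p ⟨⟨hm, hd⟩, hp⟩ => by
    have key : ∀ {W : Type _} [AddCommGroup W] [Module F W] [FiniteDimensional F W] (E : Form (quadKind F) W)
        (x : End F W), E.Nondeg → IsIsometry E E x → InvP x p → finrank F W = 2 * (n + 2) →
        (E.HasTS (n + 2) ↔ D.HasTS (n + 2)) → ∃ g : D.isom, (nat D g + nat D g⁻¹).charpoly = p ^ 2 :=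
      fun E x k1 k2 k3 k4 k5 =>
        let ⟨g, hg⟩ := exists_isom_isoC hD (Quad.iso_of_type k1 hD k4 hn k5) k2
        ⟨g, k3.sim hg.sim (by
          change nat D _ * nat D g = 1; rw [← map_mul, inv_mul_cancel, map_one])⟩
    by_cases h0 : p.coeff 0 = 0
    · simp only [P, if_pos h0] at hp
      obtain ⟨g, rfl⟩ := X_dvd_iff.2 h0
      have gm : g.Monic := monic_X.of_mul_monic_left hm
      obtain ⟨E, x, k1, k2, ⟨x', k3, k4⟩, -⟩ := exists_model h2 gm (by simpa using hp) (n := n) (by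
        rw [natDegree_X_mul gm.ne_zero] at hd; omega)
      obtain ⟨E', e1, e2⟩ : ∃ E' : Form (quadKind F) (Fin 2 → F), E'.Nondeg ∧
          (E'.HasTS 1 ↔ (E.HasTS (n + 1) ↔ D.HasTS (n + 2))) := by
        by_cases h : E.HasTS (n + 1) ↔ D.HasTS (n + 2)
        · obtain ⟨E', h'⟩ := exists_form_iso (V := Fin 2 → F) (fPlus F 1) (by simp)
          exact ⟨E', h'.symm.nondeg (fPlus_nondeg 1), iff_of_true (h'.hasTS_iff.2 (fPlus_hasTS 1)) h⟩
        · exact ⟨_, fBin_nondeg (aniso_of_irred hα), iff_of_false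
            (not_hasTS_one_iff.2 (fBin_aniso_iff.2 (aniso_of_irred hα))) h⟩
      refine key (E.prod E') (x.prodMap 1) (k1.prod e1) (isIsometry_prodMap k2 ⟨fun _ _ => rfl, fun _ => rfl⟩)
        ⟨x'.prodMap 1, by rw [LinearMap.prodMap_mul, k3]; rfl, ?_⟩ (by simp; ring) ?_
      · rw [← LinearMap.prodMap_add, one_add_one_eq_two, ← map_ofNat (algebraMap F (End F (Fin 2 → F))), h2,
          map_zero, LinearMap.charpoly_prodMap, k4, LinearMap.charpoly_zero, mul_pow, mul_comm]
        simp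
      · rw [Quad.hasTS_prod_iff_iff k1 e1 (m := n + 1) (l := 1) (by simp) (by simp), e2]; tauto
    · simp only [P, if_neg h0] at hp
      obtain ⟨E, x, k1, k2, k3, k4⟩ := exists_model h2 hm h0 hd
      exact key E x k1 k2 k3 (by simp) (k4.trans hp.symm)
  choose g hg using h1
  have h3 : {p : F[X] | (p.Monic ∧ p.natDegree = n + 2) ∧ P p}.ncard ≤ Nat.card (ConjClasses D.isom) :=
    Nat.card_le_card_of_injective (fun f => ConjClasses.mk (g f.1 f.2)) fun f f' h => Subtype.ext (by
      have := (InvP.sim ⟨_, by rw [← map_mul, mul_inv_cancel, map_one], hg f.1 f.2⟩ (sim_of_isConj (nat D)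
        (ConjClasses.mk_eq_mk_iff_isConj.1 h)) (by rw [← map_mul, inv_mul_cancel, map_one])).symm.trans
        (hg f'.1 f'.2)
      exact (sq_eq_sq_iff_eq_or_eq_neg.1 this).elim id fun e => by
        rw [e, ← neg_one_smul F, show (-1 : F) = 1 by linear_combination -h2, one_smul])
  have fin : {p : F[X] | p.Monic ∧ p.natDegree = n + 2}.Finite :=
    Nat.finite_of_card_ne_zero ((card_monic_natDegree _).trans_ne (pow_ne_zero _ Nat.card_pos.ne'))
  let φ : F[X] → F[X] := fun p => p + C (if p.coeff 0 = 0 then 1 else α * p.coeff 0) * X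
  have e0 : ∀ p, (φ p).coeff 0 = p.coeff 0 := fun p => by simp [φ]
  have h4 := Set.ncard_le_ncard_of_injOn (s := {p : F[X] | (p.Monic ∧ p.natDegree = n + 2) ∧ ¬ P p})
    (t := {p : F[X] | (p.Monic ∧ p.natDegree = n + 2) ∧ P p}) φ (fun p hp => ⟨?_, ?_⟩)
    (fun f _ g _ h => ?_) (fin.subset fun _ h => h.1)
  · rw [← Nat.card_eq_fintype_card, ← card_monic_natDegree, ← Set.coe_ofPred, Nat.card_coe_set_eq,
      ← Set.ncard_inter_add_ncard_sdiff_eq_ncard _ {f | P f} fin]
    exact (Nat.add_le_add_left h4 _).trans (by rw [two_mul]; exact Nat.add_le_add h3 h3)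
  · have : (C (if p.coeff 0 = 0 then 1 else α * p.coeff 0) * X).natDegree < p.natDegree :=
      (natDegree_C_mul_le _ _).trans_lt (by rw [hp.1.2]; simp)
    exact ⟨hp.1.1.add_of_left (degree_lt_degree this), (natDegree_add_eq_left_of_natDegree_lt this).trans hp.1.2⟩
  · have k := hp.2
    simp only [P, e0] at k ⊢
    split_ifs at k ⊢ with h0
    · simp [φ, h0, not_not.1 k]
    · have : (φ p).coeff 1 / p.coeff 0 = p.coeff 1 / p.coeff 0 + α := by simp [φ, h0]; field_simp
      rw [this]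
      generalize p.coeff 1 / p.coeff 0 = t at k ⊢
      suffices (∃ s, s ^ 2 + s + (t + α) = 0) ↔ ¬ ∃ s, s ^ 2 + s + t = 0 by tauto
      refine ⟨fun ⟨s, hs⟩ ⟨s', hs'⟩ => hα (s + s') (by
        linear_combination hs + hs' + (s * s' - t) * h2), fun h => ?_⟩
      obtain ⟨s, hs⟩ := exists_artinSchreier_eq h2 (not_exists.1 h) hα
      exact ⟨s, by linear_combination hs + α * h2⟩
  · have := (e0 f).symm.trans ((congrArg (coeff · 0) h).trans (e0 g))
    simpa [φ, this] using h

end Cfsg.Lib.Conj
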