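import Cfsg.Agent.Lib.Conj.Bil

/-!
Involutory graph automorphisms of linear and unitary groups, described by bilinear forms.
-/

set_option autoImplicit false

namespace Cfsg.Lib.Conj

open Module Cfsg.Lib.Forms Cfsg.Lib.Forms.Form Cfsg.Lib.CAut Cfsg.Lib.CAut.Sem

universe u

section abs
variable {F : Type*} [Field F] {V : Type u} [AddCommGroup V] [Module F V] {A : Type*} [Group A]
  {C : Type*} [CommGroup C] {b : LinearMap.BilinForm F V} {m : ℕ}

/-- the involutions with property `G` are described by reflexive bilinear forms -/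
structure Gra (H I : Subgroup A) (G : A → Prop) (R : A → LinearMap.BilinForm F V → Prop)
    (Dt : F → F → C → Prop) : Prop where
  ex : ∀ γ, G γ → ∃ b, Rf b ∧ R γ b
  ex' : ∀ b, Rf b → ∃ γ, G γ ∧ R γ b
  conj : ∀ {γ γ' b b'}, Rf b → R γ b → R γ' b' → (IsConjUnder H γ γ' ↔ Sim b b')
  cent : ∀ {γ b}, Rf b → R γ b → PIso (simB b) ↥(H ⊓ Subgroup.centralizer {γ})
  split : ∀ {γ b}, Rf b → R γ b → ∃ T : Subgroup C, splitClassCount H I γ = T.index ∧
    ∀ u, u ∈ T ↔ ∃ g κ, SimB b b g κ ∧ Dt (LinearMap.det (g : V →ₗ[F] V)) κ u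
  d1 : ∀ (c : Fˣ) u, Dt (c ^ finrank F V) (c ^ 2) u ↔ u ∈ (powMonoidHom (finrank F V) : C →* C).range
  d2 : ∀ {m κ u}, finrank F V = 2 * m → κ ≠ 0 → Dt (κ ^ m) κ u → u ∈ (powMonoidHom m : C →* C).range
  d2' : ∀ {m} v, finrank F V = 2 * m → ∃ κ ≠ 0, Dt (κ ^ m) κ (v ^ m)
  d3 : (2 : F) ≠ 0 → ∃ z : C, z ≠ 1 ∧ (∀ w, w ^ 2 = 1 ↔ w = 1 ∨ w = z) ∧
    ∀ d κ u, Dt d κ u → Dt (-d) κ (z * u)

variable [FiniteDimensional F V] [Finite F] {Y : Type*} [Group Y]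

theorem PIso.plus {D : Form (quadKind F) V} (h : PIso (simB D.B) Y) (hD : D.Nondeg) (h2 : (2 : F) ≠ 0)
    (hm : finrank F V = 2 * m) (h1 : 1 ≤ m) (hT : D.HasTS m) :
    Nonempty (Y ≃* PGO F (quadFormPlus m F)) :=
  haveI : Nonempty (Fin m) := ⟨⟨0, h1⟩⟩
  (h.of_sim (sim_of_iso (Quad.iso_fPlus hD hm hT))).nonempty (pIso_quad fPlus_Q h2)

theorem PIso.minus {D : Form (quadKind F) V} (h : PIso (simB D.B) Y) (hD : D.Nondeg) (h2 : (2 : F) ≠ 0)
    (hm : finrank F V = 2 * m) (h1 : 1 ≤ m) (hT : ¬ D.HasTS m) {a c : F}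
    (hac : ∀ z₁ z₂ : F, z₁ ^ 2 + a * z₁ * z₂ + c * z₂ ^ 2 = 0 → z₁ = 0 ∧ z₂ = 0) :
    Nonempty (Y ≃* PGO F (quadFormMinus (m - 1) F a c)) := by
  obtain ⟨m, rfl⟩ : ∃ k, m = k + 1 := ⟨m - 1, by omega⟩
  exact (h.of_sim (sim_of_iso (Quad.iso_fMinus hD hm hT hac))).nonempty (pIso_quad (fMinus_Q a c) h2)

omit [Finite F] in
theorem PIso.symp (h : PIso (simB b) Y) (hb : Rf b) (ha : b.IsAlt) (hm : finrank F V = 2 * m)
    (h1 : 1 ≤ m) : Nonempty (Y ≃* PGSp m F) :=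
  (h.of_sim (sim_alt hb (rf_of_form (fSymp_nondeg m)) ha (Symp.B_self _)
    (hm.trans (finrank_plus m).symm))).nonempty (pIso_symp h1)

theorem PIso.not_symp {D : Form (quadKind F) V} (h : PIso (simB D.B) Y) (hD : D.Nondeg) (h2 : (2 : F) ≠ 0)
    (hm : finrank F V = 2 * m) (h1 : 2 ≤ m) : ¬ Nonempty (Y ≃* PGSp m F) := fun ⟨e⟩ => by
  haveI := Module.nontrivial_of_finrank_pos (R := F) (M := V) (by omega)
  haveI : Nonempty (Fin m) := ⟨⟨0, by omega⟩⟩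
  have h3 := h.card_eq (rf_of_form hD) fun κ hκ => exists_mult_even hD hm hκ
  have h4 := (pIso_symp (F := F) (m := m) (by omega)).card_eq (rf_of_form (fSymp_nondeg m)) fun κ hκ =>
    (exists_mult_alt (rf_of_form (fSymp_nondeg m)) (Symp.B_self _) (finrank_plus m) hκ).imp fun _ h => h.1
  rw [Nat.card_congr e.toEquiv, h4, isoB_alt, isoB_quad _ h2,
    Symp.card_isom (fSymp_nondeg m) (finrank_plus m)] at h3
  obtain ⟨m, rfl⟩ : ∃ k, m = k + 1 := ⟨m - 1, by omega⟩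
  have hq : 2 ≤ Nat.card F := two_le_card
  have h6 : Nat.card D.isom ≤ 2 * Nat.card F ^ ((m + 1) * m) * (Nat.card F ^ (m + 1) + 1) *
      ∏ i ∈ Finset.range m, (Nat.card F ^ (2 * (i + 1)) - 1) := by
    by_cases hT : D.HasTS (m + 1)
    · rw [Quad.card_isom_plus hD hm hT]; gcongr; omega
    · exact (Quad.card_isom_minus hD hm hT).le
  generalize Nat.card F = q at *
  have h5 : 0 < ∏ i ∈ Finset.range m, (q ^ (2 * (i + 1)) - 1) := Finset.prod_pos fun i _ =>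
    Nat.sub_pos_of_lt (Nat.one_lt_pow (by omega) hq)
  rw [← h3, spOrder, Finset.prod_range_succ, mul_comm (∏ _ ∈ _, _), ← mul_assoc] at h6
  have h7 := Nat.le_of_mul_le_mul_right h6 h5
  have h8 : 4 ≤ q ^ (m + 1) := (Nat.pow_le_pow_left hq 2).trans (Nat.pow_le_pow_right (by omega) h1)
  rw [show (m + 1) ^ 2 = (m + 1) * m + (m + 1) by ring, pow_add, mul_comm 2 (m + 1), pow_mul _ _ 2,
    mul_comm 2, mul_assoc, mul_assoc] at h7
  have h9 := Nat.le_of_mul_le_mul_left h7 (by positivity)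
  generalize q ^ (m + 1) = t at *
  obtain ⟨s, hs⟩ : ∃ s, t ^ 2 = s + 1 := ⟨t ^ 2 - 1, by have : 0 < t ^ 2 := by positivity
                                                        omega⟩
  rw [hs, Nat.add_sub_cancel] at h9
  nlinarith

variable {H I : Subgroup A} {G : A → Prop} {R : A → LinearMap.BilinForm F V → Prop}
  {Dt : F → F → C → Prop} (hG : Gra H I G R Dt)
include hG

omit [Finite F] in
theorem Gra.ex_sim {V' : Type*} [AddCommGroup V'] [Module F V'] [FiniteDimensional F V']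
    {b' : LinearMap.BilinForm F V'} (hb : Rf b') (h : finrank F V = finrank F V') :
    ∃ γ b, G γ ∧ Rf b ∧ R γ b ∧ Sim b b' :=
  let ⟨b, h1⟩ := exists_sim (b := b') h
  let ⟨γ, h2, h3⟩ := hG.ex' b (hb.of_sim h1.symm)
  ⟨γ, b, h2, hb.of_sim h1.symm, h3, h1⟩

omit [Finite F] in
theorem Gra.odd [Fintype F] (hm : finrank F V = 2 * m + 1) {γ γ' : A} (h : G γ) (h' : G γ') :
    Nonempty (↥(H ⊓ Subgroup.centralizer {γ}) ≃* PGO F (quadFormOdd m F)) ∧ IsConjUnder H γ γ' := by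
  obtain ⟨b, hb, h⟩ := hG.ex γ h
  obtain ⟨b', hb', h'⟩ := hG.ex γ' h'
  by_cases h2 : (2 : F) = 0
  · have h1 : ∀ b : LinearMap.BilinForm F V, Rf b → Sim (bOdd (fSymp F m)) b := fun b hb => by
      obtain ⟨D, -, hD, -⟩ | ⟨k, hk, h⟩ := hb.two_cases h2
      · have := Symp.exists_finrank_eq hD; omega
      · obtain rfl : k = m := by omega
        exact h
    obtain ⟨e₁⟩ := ((hG.cent hb h).of_sim (h1 b hb).symm).equiv_isoB (hb.of_sim (h1 b hb).symm) h2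
    obtain ⟨e₂⟩ := isoB_bOdd_equiv h2 (fSymp_nondeg (F := F) m)
    obtain ⟨e₃⟩ := pgo_odd_two h2 m
    exact ⟨⟨e₁.trans (e₂.trans e₃.symm)⟩, (hG.conj hb h h').2 ((h1 b hb).symm.trans (h1 b' hb'))⟩
  · exact ⟨((hG.cent hb h).of_sim (sim_odd h2 hb (rf_of_form (fOdd_nondeg h2 m)) hm
      (finrank_odd m))).nonempty (pIso_quad fOdd_Q h2), (hG.conj hb h h').2 (sim_odd h2 hb hb' hm hm)⟩

theorem Gra.even_odd (h2 : (2 : F) ≠ 0) (hm : finrank F V = 2 * m) (h1 : 1 ≤ m) :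
    ∃ (γ₁ γ₂ γ₃ : A) (a c : F), (∀ z₁ z₂ : F, z₁ ^ 2 + a * z₁ * z₂ + c * z₂ ^ 2 = 0 → z₁ = 0 ∧ z₂ = 0) ∧
      G γ₁ ∧ G γ₂ ∧ G γ₃ ∧ ¬ IsConjUnder H γ₁ γ₂ ∧ ¬ IsConjUnder H γ₁ γ₃ ∧ ¬ IsConjUnder H γ₂ γ₃ ∧
      (∀ γ, G γ → IsConjUnder H γ₁ γ ∨ IsConjUnder H γ₂ γ ∨ IsConjUnder H γ₃ γ) ∧
      Nonempty (↥(H ⊓ Subgroup.centralizer {γ₁}) ≃* PGSp m F) ∧
      Nonempty (↥(H ⊓ Subgroup.centralizer {γ₂}) ≃* PGO F (quadFormPlus m F)) ∧
      Nonempty (↥(H ⊓ Subgroup.centralizer {γ₃}) ≃* PGO F (quadFormMinus (m - 1) F a c)) := by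
  obtain ⟨m, rfl⟩ : ∃ k, m = k + 1 := ⟨m - 1, by omega⟩
  haveI := Module.nontrivial_of_finrank_pos (R := F) (M := V) (by omega)
  obtain ⟨a, c, hac⟩ := exists_aniso_coeffs F
  have h3 := fSymp_nondeg (F := F) (m + 1)
  have h4 := fPlus_nondeg (F := F) (m + 1)
  have h5 := fMinus_nondeg m hac
  obtain ⟨γ₁, b₁, g1, r1, s1, t1⟩ := hG.ex_sim (rf_of_form h3) (hm.trans (finrank_plus _).symm)
  obtain ⟨γ₂, b₂, g2, r2, s2, t2⟩ := hG.ex_sim (rf_of_form h4) (hm.trans (finrank_plus _).symm)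
  obtain ⟨γ₃, b₃, g3, r3, s3, t3⟩ := hG.ex_sim (rf_of_form h5) (hm.trans (finrank_minus _).symm)
  have h6 : b₁.IsAlt := t1.symm.isAlt (Symp.B_self _)
  refine ⟨γ₁, γ₂, γ₃, a, c, hac, g1, g2, g3, fun h => not_isAlt_quad h4 h2
    ((((hG.conj r1 s1 s2).1 h).trans t2).isAlt h6), fun h => not_isAlt_quad h5 h2
    ((((hG.conj r1 s1 s3).1 h).trans t3).isAlt h6), fun h => fMinus_not_hasTS m hac
    (((t2.symm.trans (((hG.conj r2 s2 s3).1 h).trans t3)).hasTS_iff h2).1 (fPlus_hasTS _)),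
    fun γ h => ?_, (hG.cent r1 s1).symp r1 h6 hm h1,
    ((hG.cent r2 s2).of_sim t2).nonempty (pIso_quad fPlus_Q h2),
    ((hG.cent r3 s3).of_sim t3).nonempty (pIso_quad (fMinus_Q a c) h2)⟩
  obtain ⟨b, hb, h⟩ := hG.ex γ h
  rcases hb.symm_or with hs | ⟨-, ha⟩
  · obtain ⟨D, hD, rfl⟩ := hb.exists_quad h2 hs
    by_cases hT : D.HasTS (m + 1)
    · exact Or.inr (Or.inl ((hG.conj r2 s2 h).2 (t2.trans (sim_of_iso (Quad.iso_fPlus hD hm hT)).symm)))
    · exact Or.inr (Or.inr ((hG.conj r3 s3 h).2 (t3.trans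
        (sim_of_iso (Quad.iso_fMinus hD hm hT hac)).symm)))
  · exact Or.inl ((hG.conj r1 s1 h).2 (sim_alt r1 hb h6 ha rfl))

theorem Gra.even_two (h2 : (2 : F) = 0) (hm : finrank F V = 2 * m) (h1 : 1 ≤ m) :
    ∃ (γ₁ γ₃ : A) (t : Matrix.symplecticGroup (Fin m) F),
      IsTransvection (t : Matrix (Fin m ⊕ Fin m) (Fin m ⊕ Fin m) F) ∧ G γ₁ ∧ G γ₃ ∧
      ¬ IsConjUnder H γ₁ γ₃ ∧ (∀ γ, G γ → IsConjUnder H γ₁ γ ∨ IsConjUnder H γ₃ γ) ∧
      Nonempty (↥(H ⊓ Subgroup.centralizer {γ₁}) ≃* Matrix.symplecticGroup (Fin m) F) ∧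
      Nonempty (↥(H ⊓ Subgroup.centralizer {γ₃}) ≃* Subgroup.centralizer {t}) := by
  haveI : Nonempty (Fin m) := ⟨⟨0, h1⟩⟩
  have h3 := fSymp_nondeg (F := F) m
  obtain ⟨u, hu⟩ := exists_ne (0 : Fin m ⊕ Fin m → F)
  obtain ⟨γ₁, b₁, g1, r1, s1, t1⟩ := hG.ex_sim (rf_of_form h3) (hm.trans (finrank_plus _).symm)
  obtain ⟨γ₃, b₃, g3, r3, s3, t3⟩ := hG.ex_sim (rf_bOf h2 h3 u) (hm.trans (finrank_plus _).symm)
  have h6 : b₁.IsAlt := t1.symm.isAlt (Symp.B_self _)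
  obtain ⟨e₁⟩ := ((hG.cent r1 s1).of_sim t1).equiv_isoB (rf_of_form h3) h2
  obtain ⟨e₂⟩ := ((hG.cent r3 s3).of_sim t3).equiv_isoB (rf_bOf h2 h3 u) h2
  obtain ⟨e₃⟩ := isoB_bOf_equiv h2 h3 hu
  refine ⟨γ₁, γ₃, (spEquiv F m).symm (Symp.tv _ u 1), ?_, g1, g3, fun h => not_isAlt_bOf h3 hu
    ((((hG.conj r1 s1 s3).1 h).trans t3).isAlt h6), fun γ h => ?_,
    ⟨e₁.trans ((MulEquiv.subgroupCongr (isoB_alt _)).trans (spEquiv F m).symm)⟩,
    ⟨e₂.trans (e₃.trans (subgroupEquivOfIff (spEquiv F m).symm _ _ fun g => ?_))⟩⟩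
  · refine ⟨(congrArg (fun φ : Module.End F _ => finrank F (LinearMap.range φ))
      (LinearMap.ext fun x => ?_)).trans
      (h3.finrank_range_rk1 (Symp.isRk1 _ u 1) one_ne_zero hu), matrix_eq_iff.2 fun x => ?_⟩
    · simp [Matrix.sub_mulVec, mulVec_spEquiv_symm, Symp.tv]
    · simp [← Matrix.mulVec_mulVec, Matrix.sub_mulVec, mulVec_spEquiv_symm, Symp.tv_apply, Symp.B_self]
  · obtain ⟨b, hb, h⟩ := hG.ex γ h
    obtain ⟨D, w, hD, rfl⟩ | ⟨k, hk, -⟩ := hb.two_cases h2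
    · by_cases hw : w = 0
      · exact Or.inl ((hG.conj r1 s1 h).2 (sim_alt r1 hb h6
          (fun x => by simp [bOf_apply, hw, Symp.B_self]) rfl))
      · exact Or.inr ((hG.conj r3 s3 h).2 (t3.trans
          (sim_bOf h3 hD ((finrank_plus m).trans hm.symm) hu hw)))
    · omega
  · simp only [Subgroup.mem_centralizer_singleton_iff, ← map_mul, EmbeddingLike.apply_eq_iff_eq]

variable [Finite C] [IsCyclic C] {γ : A}

omit [FiniteDimensional F V] [Finite F] in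
theorem Gra.split_one (hb : Rf b) (h : R γ b) (H1 : ∀ g κ, SimB b b g κ → ∃ c : Fˣ,
    LinearMap.det (g : V →ₗ[F] V) = c ^ finrank F V ∧ κ = c ^ 2) :
    splitClassCount H I γ = Nat.gcd (finrank F V) (Nat.card C) := by
  obtain ⟨T, h1, h2⟩ := hG.split hb h
  rw [h1, show T = (powMonoidHom (finrank F V)).range from Subgroup.ext fun u => (h2 u).trans
    ⟨fun ⟨g, κ, h3, h4⟩ => let ⟨c, h5, h6⟩ := H1 g κ h3; (hG.d1 c u).1 (h5 ▸ h6 ▸ h4),
      fun h => ⟨1, 1, simB_one, by simpa using (hG.d1 1 u).2 h⟩⟩, IsCyclic.index_powMonoidHom_range,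
    Nat.gcd_comm]

omit [Finite F] in
theorem Gra.split_alt (hb : Rf b) (h : R γ b) (ha : b.IsAlt) (hm : finrank F V = 2 * m) :
    splitClassCount H I γ = Nat.gcd m (Nat.card C) := by
  obtain ⟨T, h1, h2⟩ := hG.split hb h
  rw [h1, show T = (powMonoidHom m).range from Subgroup.ext fun u => (h2 u).trans
    ⟨fun ⟨g, κ, h3, h4⟩ => hG.d2 hm h3.1 (h3.det_alt hb ha hm ▸ h4), by
      rintro ⟨v, rfl⟩
      obtain ⟨κ, h3, h4⟩ := hG.d2' v hm
      obtain ⟨g, h5, h6⟩ := exists_mult_alt hb ha hm h3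
      exact ⟨g, κ, h5, h6 ▸ h4⟩⟩, IsCyclic.index_powMonoidHom_range, Nat.gcd_comm]

theorem Gra.split_quad {D : Form (quadKind F) V} (hD : D.Nondeg) (h : R γ D.B) (h2 : (2 : F) ≠ 0)
    (hm : finrank F V = 2 * m) (h1 : 1 ≤ m) :
    splitClassCount H I γ = Nat.gcd (finrank F V) (Nat.card C) / 2 := by
  haveI := Module.nontrivial_of_finrank_pos (R := F) (M := V) (by omega)
  have hb := rf_of_form hD
  obtain ⟨T, h1, h3⟩ := hG.split hb h
  obtain ⟨z, hz, hz', h4⟩ := hG.d3 h2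
  have h5 : ∀ {g κ}, SimB D.B D.B g κ → LinearMap.det (g : V →ₗ[F] V) = κ ^ m ∨
      -LinearMap.det (g : V →ₗ[F] V) = κ ^ m := fun h =>
    (sq_eq_sq_iff_eq_or_eq_neg.1 (by rw [h.det_sq hb, hm, pow_mul'])).imp_right neg_eq_iff_eq_neg.2
  obtain ⟨v, hv⟩ := hD.quad_exists_Q_ne_zero
  have h6 : z ∈ T := (h3 z).2 ⟨(D.refl v).1, 1, (isoB_quad D h2).ge (D.refl v).2, by
    have : LinearMap.det ((D.refl v).1 : V →ₗ[F] V) = -1 :=
      (LinearEquiv.coe_det _).symm.trans (congrArg Units.val (det_refl hv))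
    simpa [this] using h4 _ _ _ ((hG.d1 1 1).2 (one_mem _))⟩
  have h7 : z ^ 2 = 1 := (hz' z).2 (Or.inr rfl)
  have h8 : T = (powMonoidHom (finrank F V) : C →* C).range.comap (powMonoidHom 2) := by
    refine Subgroup.ext fun u => ⟨fun hu => ?_, fun ⟨w, hw⟩ => ?_⟩
    · obtain ⟨g, κ, h8, h9⟩ := (h3 u).1 hu
      rcases h5 h8 with h | h
      · obtain ⟨w, rfl⟩ := hG.d2 hm h8.1 (h ▸ h9)
        exact ⟨w, by simp [hm, pow_mul']⟩
      · obtain ⟨w, hw⟩ := hG.d2 hm h8.1 (h ▸ h4 _ _ _ h9)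
        exact ⟨w, by simpa [hm, pow_mul'] using (congrArg (· ^ 2) hw).trans (by rw [mul_pow, h7, one_mul])⟩
    · have h8 : w ^ m ∈ T := by
        obtain ⟨κ, h8, h9⟩ := hG.d2' w hm
        obtain ⟨g, hg⟩ := exists_mult_even hD hm h8
        rcases h5 hg with h | h
        · exact (h3 _).2 ⟨g, κ, hg, h ▸ h9⟩
        · exact (T.mul_mem_cancel_left h6).1 ((h3 _).2 ⟨g, κ, hg, by simpa [← h] using h4 _ _ _ h9⟩)
      refine (T.mul_mem_cancel_right (inv_mem h8)).1 ?_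
      rcases (hz' (u * (w ^ m)⁻¹)).1 (by
        rw [mul_pow, inv_pow, ← pow_mul', ← hm, mul_inv_eq_one]; exact hw.symm) with h | h
      exacts [h ▸ one_mem _, h ▸ h6]
  have h9 := Subgroup.relIndex_mul_index (H := (powMonoidHom (finrank F V) : C →* C).range)
    (K := (powMonoidHom 2).range) (by rintro _ ⟨w, rfl⟩; exact ⟨w ^ m, by simp [hm, pow_mul']⟩)
  rw [IsCyclic.index_powMonoidHom_range, IsCyclic.index_powMonoidHom_range, Nat.gcd_eq_right
    (orderOf_eq_prime h7 hz ▸ orderOf_dvd_natCard z)] at h9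
  rw [h1, h8, Subgroup.index_comap, Nat.gcd_comm, ← h9, Nat.mul_div_cancel _ two_pos]

theorem Gra.splitting {n : ℕ} (hn : finrank F V = n) (h3 : 3 ≤ n) (h : G γ) :
    ((Even n ∧ (2 : F) ≠ 0 ∧ Nonempty (↥(H ⊓ Subgroup.centralizer {γ}) ≃* PGSp (n / 2) F)) →
      splitClassCount H I γ = Nat.gcd (n / 2) (Nat.card C)) ∧
    ((Even n ∧ (2 : F) ≠ 0 ∧ ¬ Nonempty (↥(H ⊓ Subgroup.centralizer {γ}) ≃* PGSp (n / 2) F)) →
      splitClassCount H I γ = Nat.gcd n (Nat.card C) / 2) ∧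
    (¬ (Even n ∧ (2 : F) ≠ 0) → splitClassCount H I γ = Nat.gcd n (Nat.card C)) := by
  subst hn
  haveI := Module.nontrivial_of_finrank_pos (R := F) (M := V) (by omega)
  obtain ⟨b, hb, h⟩ := hG.ex γ h
  refine ⟨fun ⟨⟨m, hm⟩, h2, h4⟩ => hG.split_alt hb h (hb.symm_or.resolve_left fun hs => ?_).2 (by omega),
    fun ⟨⟨m, hm⟩, h2, h4⟩ => ?_, fun h4 => hG.split_one hb h fun g κ hg => ?_⟩
  · obtain ⟨D, hD, rfl⟩ := hb.exists_quad h2 hs
    exact (hG.cent hb h).not_symp hD h2 (by omega) (by omega) h4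
  · obtain ⟨D, hD, rfl⟩ := hb.exists_quad h2 (hb.symm_or.resolve_right fun ha =>
      h4 ((hG.cent hb h).symp hb ha.2 (by omega) (by omega)))
    exact hG.split_quad hD h h2 (m := m) (by omega) (by omega)
  have h5 := hg.det_sq hb
  by_cases h2 : (2 : F) = 0
  · obtain ⟨c, rfl⟩ := exists_unit_sq h2 hg.1
    exact ⟨c, sq_inj_two h2 (by rw [h5, ← pow_mul, ← pow_mul, mul_comm]), rfl⟩
  obtain ⟨m, hm⟩ := Nat.not_even_iff_odd.1 fun h => h4 ⟨h, h2⟩
  have h6 := pow_ne_zero m hg.1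
  have h7 : κ = (LinearMap.det (g : V →ₗ[F] V) / κ ^ m) ^ 2 := by
    rw [div_pow, h5, hm]; field_simp; ring
  refine ⟨Units.mk0 _ fun h => hg.1 (by simpa [h] using h7), ?_, h7⟩
  rw [hm, pow_succ, pow_mul, Units.val_mk0, ← h7, mul_div_cancel₀ _ h6]

end abs

theorem units_neg_one_ne {F : Type*} [Field F] (h2 : (2 : F) ≠ 0) : (-1 : Fˣ) ≠ 1 := fun h =>
  have : (-1 : F) = 1 := congrArg Units.val h
  h2 (by linear_combination -this)

theorem units_sq_eq_one {F : Type*} [Field F] {w : Fˣ} : w ^ 2 = 1 ↔ w = 1 ∨ w = -1 := by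
  simp only [← Units.val_inj, sq, Units.val_mul, Units.val_one, Units.val_neg, mul_self_eq_one_iff]

section psl
open Matrix Linear
variable {F : Type*} [Field F] [Finite F] {n : ℕ} {g g' k : GL (Fin n) F}

/-- the graph automorphism attached to the form with Gram matrix `g⁻¹` -/
def RepL (γ : MulAut (ProjectiveSpecialLinearGroup (Fin n) F)) (b : LinearMap.BilinForm F (Fin n → F)) :
    Prop := ∃ g : GL (Fin n) F, γ = pslConj _ F g * pslInvT _ F ∧ b = toBilin' g⁻¹.1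

omit [Finite F] in
theorem simB_toBilin {M M' : Matrix (Fin n) (Fin n) F} {κ : F} :
    SimB (toBilin' M) (toBilin' M') (glEquiv _ F k) κ ↔ κ ≠ 0 ∧ k.1ᵀ * M' * k.1 = κ • M :=
  and_congr_right fun _ => by
    rw [← toBilin'.injective.eq_iff, LinearMap.ext_iff₂]
    change _ ↔ ∀ x y, toBilin' _ x y = toBilin' _ x y
    simp only [map_smul, LinearMap.smul_apply, toBilin'_apply', glEquiv_apply, ← mulVec_mulVec,
      dotProduct_mulVec _ k.1ᵀ, vecMul_transpose, smul_eq_mul]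

theorem repL_key : pslConj _ F k * (pslConj _ F g * pslInvT _ F) * (pslConj _ F k)⁻¹ =
    pslConj _ F g' * pslInvT _ F ↔ ∃ κ, SimB (toBilin' g⁻¹.1) (toBilin' g'⁻¹.1) (glEquiv _ F k) κ := by
  rw [← map_inv, mul_assoc, mul_assoc, pslInvT_mul_pslConj, ← mul_assoc, ← mul_assoc, ← map_mul,
    ← map_mul, mul_left_inj, pslConj_eq_iff]
  have h1 : ∀ u, k * g * glInvTranspose _ F k⁻¹ = GeneralLinearGroup.scalar _ u * g' ↔
      k.1ᵀ * g'⁻¹.1 * k.1 = (u : F) • g⁻¹.1 := fun u => by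
    rw [show (u : F) • g⁻¹.1 = (GeneralLinearGroup.scalar _ u * g⁻¹).1 from smul_eq_diagonal_mul _ _,
      show k.1ᵀ = (glInvTranspose _ F k⁻¹).1 from rfl, ← Units.val_mul, ← Units.val_mul, Units.val_inj,
      ← eq_inv_mul_iff_mul_eq, ← mul_assoc, ← (commute_scalar u _).eq, ← eq_mul_inv_iff_mul_eq,
      mul_inv_eq_iff_eq_mul, _root_.mul_inv_rev, ← mul_assoc]
  simp only [h1, simB_toBilin]
  exact ⟨fun ⟨u, h⟩ => ⟨u, u.ne_zero, h⟩, fun ⟨κ, h0, h⟩ => ⟨Units.mk0 κ h0, h⟩⟩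

theorem repL_sq : (pslConj _ F g * pslInvT _ F) ^ 2 = 1 ↔
    ∃ ε ≠ 0, ∀ x y, toBilin' g⁻¹.1 y x = ε * toBilin' g⁻¹.1 x y := by
  have h1 := repL_key (k := 1) (g := g) (g' := glInvTranspose _ F g⁻¹)
  rw [map_one, one_mul, inv_one, mul_one, ← pslInvT_mul_pslConj, map_inv, eq_mul_inv_iff_mul_eq,
    map_one] at h1
  rw [sq, ← mul_assoc, mul_eq_one_iff_eq_inv, inv_eq_of_mul_eq_one_right pslInvT_mul_self, h1]
  refine exists_congr fun ε => and_congr_right fun _ => forall₂_congr fun x y => Eq.congr_left ?_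
  rw [← map_inv, coe_glInvTranspose, inv_inv, toBilin'_apply', toBilin'_apply', dotProduct_mulVec,
    vecMul_transpose, dotProduct_comm]
  rfl

variable (hn : 3 ≤ n)
include hn

theorem gra_psl : Gra (inndiagPSL n F) (Inn _) (fun γ => IsGraphAutClassPSL γ ∧ orderOf γ = 2) RepL
    fun d _ (u : Fˣ) => ∃ v : Fˣ, (u : F) = d * v ^ n := by
  haveI : Nonempty (Fin n) := ⟨⟨0, by omega⟩⟩
  rw [inndiagPSL_eq]
  have key : ∀ g k : GL (Fin n) F, pslConj _ F k ∈ Subgroup.centralizer {pslConj _ F g * pslInvT _ F} ↔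
      glEquiv _ F k ∈ simB (toBilin' g⁻¹.1) := fun g k =>
    Subgroup.mem_centralizer_singleton_iff.trans (mul_inv_eq_iff_eq_mul.symm.trans repL_key)
  have h0 : ∀ v, glEquiv (Fin n) F (GeneralLinearGroup.scalar _ v) = smE _ v := fun v =>
    lin_injective (lin_scalar v)
  refine ⟨?_, fun b hb => ?_, ?_, ?_, ?_, fun c u => ?_, ?_, fun {m} v hm => ⟨v, v.ne_zero, 1, by simp⟩,
    fun h2 => ⟨-1, units_neg_one_ne h2, fun w => units_sq_eq_one, ?_⟩⟩
  · rintro _ ⟨⟨-, δ, γ, h1, h2, rfl⟩, h3⟩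
    obtain ⟨g, rfl⟩ := isInnerDiagonalAutPSL_iff.1 h1
    obtain rfl := isInverseTransposeAutPSL_iff.1 h2
    obtain ⟨ε, -, h⟩ := repL_sq.1 (h3 ▸ pow_orderOf_eq_one _)
    exact ⟨_, ⟨(Nondegenerate.toBilin' (nondegenerate_of_det_ne_zero g⁻¹.det_ne_zero)).1, ε, h⟩, g, rfl, rfl⟩
  · obtain ⟨M, rfl⟩ := toBilin'.surjective b
    obtain ⟨ε, h⟩ := hb.sym
    let g := (GeneralLinearGroup.mkOfDetNeZero M
      (nondegenerate_toBilin'_iff.1 hb.nondegenerate).det_ne_zero)⁻¹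
    exact ⟨_, ⟨⟨hn, _, _, isInnerDiagonalAutPSL_iff.2 ⟨g, rfl⟩, isInverseTransposeAutPSL_iff.2 rfl, rfl⟩,
      orderOf_eq_prime (repL_sq.2 ⟨ε, left_ne_zero_of_mul_eq_one (hb.eps_sq h), h⟩) fun h =>
        pslConj_mul_pslField_ne_pslInvT (by simpa) g⁻¹ 1 (by
          rw [map_one, mul_one, map_inv, inv_eq_of_mul_eq_one_right h])⟩, g, rfl, rfl⟩
  · rintro _ _ _ _ - ⟨g, rfl, rfl⟩ ⟨g', rfl, rfl⟩
    refine ⟨by rintro ⟨_, ⟨k, rfl⟩, h⟩; exact ⟨_, repL_key.1 h.symm⟩, fun ⟨k, h⟩ => ?_⟩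
    obtain ⟨k, rfl⟩ := (glEquiv _ F).surjective k
    exact ⟨_, ⟨k, rfl⟩, (repL_key.2 h).symm⟩
  · rintro _ _ - ⟨g, rfl, rfl⟩
    refine ⟨((pslConj _ F).comp ((glEquiv _ F).symm.toMonoidHom.comp (Subgroup.subtype _))).codRestrict _
      fun k => ⟨⟨_, rfl⟩, (key g _).2 (by simpa using k.2)⟩, ?_, fun k => ?_⟩
    · rintro ⟨_, ⟨k, rfl⟩, h⟩
      exact ⟨⟨_, (key g k).1 h⟩, by simp⟩
    · rw [Subtype.ext_iff, isSc_iff, ← (glEquiv _ F).apply_symm_apply k.1, ← mem_center_iff_scal,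
        ← ker_pslConj]
      rfl
  · rintro _ _ - ⟨g, rfl, rfl⟩
    refine ⟨((Subgroup.centralizer {pslConj _ F g * pslInvT _ F}).comap (pslConj (Fin n) F)).map
      GeneralLinearGroup.det, ?_, fun u =>
      ⟨?_, fun ⟨k, κ, h1, v, h2⟩ => ?_⟩⟩
    · rw [splitClassCount_eq _ rfl Inn_le_range_pslConj (detMod (Fin n) F) detMod_surjective
        (fun _ => pslConj_mem_Inn_iff.symm), detMod, ← Subgroup.map_map,
        Subgroup.index_map_eq _ (QuotientGroup.mk'_surjective _)]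
      rw [QuotientGroup.ker_mk']
      rintro _ ⟨v, rfl⟩
      exact ⟨GeneralLinearGroup.scalar (Fin n) v, (key g _).2 (h0 v ▸ smE_mem v),
        Units.ext (by simp)⟩
    · rintro ⟨k, hk, rfl⟩
      obtain ⟨κ, h⟩ := (key g k).1 hk
      exact ⟨_, κ, h, 1, by simp [glEquiv_toLinearMap]⟩
    · obtain ⟨k, rfl⟩ := (glEquiv _ F).surjective k
      exact ⟨k * GeneralLinearGroup.scalar _ v, (key g _).2 (by
        rw [map_mul, h0]; exact mul_mem (Exists.intro κ h1) (smE_mem v)),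
        Units.ext (by simpa [glEquiv_toLinearMap] using h2.symm)⟩
  · rw [Module.finrank_fin_fun]
    exact ⟨fun ⟨v, h⟩ => ⟨c * v, Units.ext (by simp [h, mul_pow])⟩,
      by rintro ⟨v, rfl⟩; exact ⟨c⁻¹ * v, by simp [mul_pow]⟩⟩
  · rintro m κ u hm h0 ⟨v, h⟩
    rw [Module.finrank_fin_fun] at hm
    exact ⟨Units.mk0 κ h0 * v ^ 2, Units.ext (by simp [h, hm, mul_pow, pow_mul])⟩
  · exact fun d κ u ⟨v, h⟩ => ⟨v, by simp [h]⟩

end psl

section psu
variable {F₀ F : Type*} [Field F₀] [Field F] {s : F ≃+* F} {q : ℕ} {h : Forms.IsConj (s : F →+* F) q}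
  {f : F₀ →+* F} {V : Type u} {V₀ : Type*} [AddCommGroup V] [Module F V] [AddCommGroup V₀] [Module F₀ V₀]
  {D : Form h.kind V} {a a' : Gam D} {j j' : V₀ →+ V} {μ μ' : F} {b b' : LinearMap.BilinForm F₀ V₀}
  {A : Type*} [Group A] {act : Gam D →* A}

theorem exists_isConj_equiv [Fintype F] (hF : Fintype.card F = q ^ 2) :
    ∃ s : F ≃+* F, Forms.IsConj (s : F →+* F) q :=
  let ⟨σ, h⟩ := isConj_of_card hF
  ⟨RingEquiv.ofBijective σ h.kind.σ_bijective, h.finite, h.card, h.apply⟩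

variable (h) in
include h in
theorem orderOf_isConj : orderOf s = 2 :=
  orderOf_eq_prime (RingEquiv.ext h.σσ) fun H => h.ne_id (H ▸ rfl)

theorem sesq_ext {σ : F →+* F} (hj : Ext f j) {B B' : V →ₛₗ[σ] V →ₗ[F] F}
    (H : ∀ x y, B (j x) (j y) = B' (j x) (j y)) : B = B' :=
  LinearMap.ext_on_range hj.span fun x => hj.lin_ext (H x)

variable (f a j μ b) in
/-- `a` fixes the rational points, on which the Hermitian form is `b` -/
structure RU : Prop where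
  ext : Ext f j
  s_eq : a.1.s = s
  fix : ∀ x, a.1.g (j x) = j x
  ne : μ ≠ 0
  B : ∀ x y, f (b x y) = μ * D.B (j x) (j y)

variable (f act) in
/-- the graph automorphism attached to a form -/
def RepU (γ : A) (b : LinearMap.BilinForm F₀ V₀) : Prop := ∃ a j μ, RU f a j μ b ∧ γ = act a

theorem RU.sq (r : RU f a j μ b) : a ^ orderOf a.1.s = 1 :=
  Subtype.ext (r.ext.sem_ext ((pow_s _ _).trans (pow_orderOf_eq_one _)) fun x => by
    rw [Subgroup.coe_pow, r.s_eq, orderOf_isConj h, pow_two, mul_g, r.fix, r.fix]; rfl)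

variable [FiniteDimensional F₀ V₀]

theorem RU.isSim_map (r : RU f a j μ b) (r' : RU f a' j' μ' b') {g : V₀ ≃ₗ[F₀] V₀} {κ : F₀}
    (hg : SimB b b' g κ) : IsSim D (lin (r.ext.map r'.ext g)) (f κ * μ / μ') :=
  isSim_herm (by simp [hg.1, r.ne, r'.ne]) (LinearMap.congr_fun₂ (sesq_ext r.ext
    (B := (D.comap (r.ext.map r'.ext g).toLinearMap).B) (B' := (f κ * μ / μ') • D.B) fun x y => by
      simp only [comap_B, LinearEquiv.coe_coe, Ext.map_apply, LinearMap.smul_apply, smul_eq_mul]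
      rw [div_mul_eq_mul_div, eq_div_iff r'.ne, mul_assoc, ← r.B, mul_comm, ← r'.B, hg.2, map_mul]))

omit [FiniteDimensional F₀ V₀] in
theorem RU.sim_of [Nontrivial V₀] (r : RU f a j μ b) (r' : RU f a' j' μ' b') (hb : Rf b) {k : Sem F V}
    {ν : F} (hk : IsSim D k ν) (hs : k.s = 1) {c : Fˣ} {g : V₀ ≃ₗ[F₀] V₀}
    (H : ∀ x, k.g (j x) = (c : F) • j' (g x)) : ∃ κ, SimB b b' g κ ∧ f κ * (μ * (c * s c)) = μ' * ν := by
  obtain ⟨x, y, h1⟩ := hb.exists_ne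
  have h2 : ∀ x y, f (b' (g x) (g y)) * (μ * (c * s c)) = μ' * ν * f (b x y) := fun x y => by
    have := hk.B (j x) (j y)
    simp only [H, hs, B_smul_left, B_smul_right, RingHom.coe_coe, RingAut.one_eq_refl,
      RingEquiv.refl_apply] at this
    rw [r.B, r'.B]; linear_combination μ * μ' * this
  have h3 : f (b' (g x) (g y) / b x y) * (μ * (c * s c)) = μ' * ν := by
    rw [map_div₀, div_mul_eq_mul_div, h2, mul_div_cancel_right₀ _ (by simpa)]
  have h4 : μ * (c * s c) ≠ 0 := by simp [r.ne]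
  exact ⟨_, ⟨fun h0 => mul_ne_zero r'.ne hk.ne (by simp [← h3, h0]), fun x y => f.injective
    (mul_right_cancel₀ h4 (by rw [h2, ← h3, map_mul]; ring))⟩, h3⟩

variable [Finite F] [Nontrivial V] (hf : Fix f s) (hA : IsAct act)
include hf hA

theorem RU.key (r : RU f a j μ b) (r' : RU f a' j' μ' b') {k : Gam D} (hk : k.1.s = 1) :
    act k * act a * (act k)⁻¹ = act a' ↔
      ∃ (c : Fˣ) (g : V₀ ≃ₗ[F₀] V₀), ∀ x, k.1.g (j x) = (c : F) • j' (g x) := by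
  have h0 := r.ext.conj_eq r'.ext (r.s_eq.trans r'.s_eq.symm) r.fix r'.fix
  refine ⟨fun H => ?_, fun ⟨c, g, H⟩ => ?_⟩
  · obtain ⟨c, hc⟩ := (hA.ker (k * a * k⁻¹ * a'⁻¹)).1 (by simp only [map_mul, map_inv, H, mul_inv_cancel])
    have h1 := h0 1
    have h2 : ∀ x, (r.ext.map r'.ext 1) (j x) = j' x := r.ext.map_apply r'.ext 1
    generalize r.ext.map r'.ext 1 = e at h1 h2
    obtain ⟨u, hu⟩ := exists_scal_mul_commute (congrArg Subtype.val r.sq) (c := c)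
      (g := (lin e)⁻¹ * k.1) (RingEquiv.ext fun x => by simp [hk, lin_s, ← map_inv]) (by
        have h3 : k.1 * a.1 * k.1⁻¹ = lin e * scal c * a.1 * (lin e)⁻¹ := by
          rw [scal_comm_of_s (lin_s e), mul_assoc (scal c), mul_assoc (scal c), h1, ← hc]; simp
        calc _ = (lin e)⁻¹ * (k.1 * a.1 * k.1⁻¹) * lin e := by group
          _ = _ := by rw [h3]; group)
    have h3 : (scal u * ((lin e)⁻¹ * k.1)).s = 1 :=
      RingEquiv.ext fun x => by simp [hk, lin_s, scal_s, ← map_inv]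
    obtain ⟨g, hg⟩ := r.ext.exists_hom_eq (by rwa [r.s_eq]) r.fix ((lin_toLin _ h3).symm ▸ hu)
    refine ⟨u⁻¹, g, fun x => ?_⟩
    have h4 : j (g x) = (u : F) • e.symm (k.1.g (j x)) :=
      (r.ext.hom_apply g x).symm.trans (DFunLike.congr_fun hg (j x))
    simp [← h2, h4]
  · have h1 : (gscal D c⁻¹ * k).1 = lin (r.ext.map r'.ext g) := r.ext.sem_ext
      ((one_mul k.1.s).trans hk) fun x => by
        rw [Subgroup.coe_mul, mul_g, coe_gscal, scal_g, H, lin_g, Ext.map_apply, smul_smul, Units.inv_mul,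
          one_smul]
    rw [show act k = act (gscal D c⁻¹ * k) by rw [map_mul, show act (gscal D _) = 1 from hA.scal _, one_mul],
      ← map_inv, ← map_mul, ← map_mul]
    exact congrArg act (Subtype.ext (h1 ▸ h0 g :))

omit hA [FiniteDimensional F₀ V₀] in
theorem exists_RU [FiniteDimensional F V] (hD : D.Nondeg) (hn : finrank F₀ V₀ = finrank F V)
    [FiniteDimensional F₀ V₀] (hs : a.1.s = s) (ha : a ^ orderOf a.1.s = 1) :
    ∃ (j : V₀ →+ V) (μ : F) (b : LinearMap.BilinForm F₀ V₀), Rf b ∧ RU f a j μ b := by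
  obtain ⟨j₀, h1, h2⟩ := exists_ext (f := f) (by rwa [hs]) (congrArg Subtype.val ha)
  have h3 := h1.comp (LinearEquiv.ofFinrankEq V₀ _ (by simpa)) (LinearEquiv.refl F V)
  obtain ⟨j, h3, h4⟩ : ∃ j : V₀ →+ V, Ext f j ∧ ∀ x, a.1.g (j x) = j x := ⟨_, h3, fun x => h2 _⟩
  obtain ⟨κ, hκ⟩ := a.2
  have h5 : ∀ x y, D.B (j x) (j y) = κ * s (D.B (j x) (j y)) := fun x y => by
    simpa only [h4, hs] using hκ.B (j x) (j y)
  obtain ⟨x₀, y₀, h6⟩ := h3.exists_B_ne hD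
  have h7 : ∀ x y, ∃ t, f t = (D.B (j x₀) (j y₀))⁻¹ * D.B (j x) (j y) := fun x y => (hf _).1 (by
    rw [map_mul, map_inv₀]
    conv_rhs => rw [h5, h5 x y, mul_inv, mul_mul_mul_comm, inv_mul_cancel₀ hκ.ne, one_mul])
  choose t ht using h7
  have h8 : ∀ c, (s : F →+* F) (f c) = f c := hf.map
  let b := LinearMap.mk₂ F₀ t (fun x x' y => f.injective (by simp [ht, mul_add]))
    (fun c x y => f.injective (by simp [ht, h3.smul, h8, mul_left_comm]))
    (fun x y y' => f.injective (by simp [ht, mul_add]))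
    (fun c x y => f.injective (by simp [ht, h3.smul, mul_left_comm]))
  refine ⟨j, _, b, ⟨fun x hx => h3.injective ((h3.eq_zero hD fun y => ?_).trans (map_zero j).symm),
    t y₀ x₀, fun x y => f.injective ?_⟩, h3, hs, h4, inv_ne_zero h6, ht⟩
  · simpa [show t x y = 0 from hx y, h6] using ht x y
  · have h9 : ∀ x y, D.B (j y) (j x) = κ⁻¹ * D.B (j x) (j y) := fun x y => by
      rw [eq_inv_mul_iff_mul_eq₀ hκ.ne, ← herm_symm]; exact (h5 x y).symm
    simp only [b, LinearMap.mk₂_apply, map_mul, ht, h9 x y, h9 x₀ y₀]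
    field_simp

omit hA [Finite F] [Nontrivial V] [FiniteDimensional F₀ V₀] in
theorem Rf.exists_RU [FiniteDimensional F V] {n : ℕ} [NeZero n] {b : LinearMap.BilinForm F₀ (Fin n → F₀)}
    (hb : Rf b) (hD : D.Nondeg) (hn : finrank F V = n) : ∃ (a : Gam D) (j : _ →+ V) (μ : F), RU f a j μ b := by
  obtain ⟨M, rfl⟩ := Matrix.toBilin'.surjective b
  obtain ⟨ε, hε⟩ := hb.sym
  have h8 : ∀ c, s (f c) = f c := hf.map
  have h9 : ∀ c, s (s c) = c := h.σσ
  obtain ⟨θ, h0, hθ⟩ := h.exists_div_eq (u := f ε) (by simp [h8, ← map_mul, hb.eps_sq hε])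
  rw [mul_inv_eq_iff_eq_mul₀ (by simpa), RingHom.coe_coe] at hθ
  have h1 : ∀ i k, f (M i k) = f ε * f (M k i) := fun i k => by
    simpa using congrArg f (hε (Pi.single k 1) (Pi.single i 1))
  have h2 : f ε * f ε = 1 := by rw [← map_mul, hb.eps_sq hε, map_one]
  let D' : Form h.kind (Fin n → F) := ofHerm h.σσ (Or.inl h.ne_id)
    ((stdHerm h _).B.compl₂ (Matrix.toLin' (θ • M.map f))) ⟨fun x y => by
      simp only [LinearMap.compl₂_apply, stdHerm_B, Matrix.toLin'_apply, Matrix.mulVec, dotProduct,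
        map_sum, map_mul, Finset.mul_sum, Matrix.smul_apply, Matrix.map_apply, smul_eq_mul,
        RingHom.coe_coe, h8, h9]
      rw [Finset.sum_comm]
      refine Finset.sum_congr rfl fun i _ => Finset.sum_congr rfl fun k _ => ?_
      rw [h1 i k]
      linear_combination (-(x k * s (y i) * f (M k i) * f ε)) * hθ - x k * s (y i) * f (M k i) * s θ * h2⟩
  have h3 : ∀ x y, D'.B x y = ∑ i, ∑ k, s (x i) * (θ * f (M i k) * y k) := fun x y => by
    simp [D', stdHerm_B, Matrix.mulVec, dotProduct, Finset.mul_sum, mul_assoc, mul_left_comm]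
  have h4 : D'.Nondeg := fun x hx => stdHerm_nondeg h _ x fun y => by
    obtain ⟨y, rfl⟩ := Matrix.mulVec_surjective_iff_isUnit.2 ((Matrix.isUnit_iff_isUnit_det
      (θ • M.map f)).2 (by
        simpa [h0, ← RingHom.mapMatrix_apply, ← RingHom.map_det] using
          (Matrix.nondegenerate_toBilin'_iff.1 hb.nondegenerate).det_ne_zero)) y
    exact hx y
  obtain ⟨e, he⟩ := Herm.iso h4 hD (by simp [hn])
  have h5 : IsSim D' (pi _ s) (f ε) := isSim_herm (left_ne_zero_of_mul_eq_one h2) fun x y => by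
    simp only [h3, pi_g, pi_s, map_sum, map_mul, Finset.mul_sum, h8, h9]
    refine Finset.sum_congr rfl fun i _ => Finset.sum_congr rfl fun k _ => ?_
    linear_combination x i * f (M i k) * s (y k) * hθ
  refine ⟨⟨_, _, isSim_congr he h5.ne h5.B h5.Q⟩, _, θ⁻¹, (ext_pi f _).comp (LinearEquiv.refl _ _) e, rfl,
    fun x => by simpa [congr_g] using hf.pi_comp x, inv_ne_zero h0, fun x y => ?_⟩
  refine Eq.trans ?_ (congrArg _ (he.B_map _ _).symm)
  simp only [h3, Matrix.toBilin'_apply, map_sum, map_mul, Finset.mul_sum]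
  refine Finset.sum_congr rfl fun i _ => Finset.sum_congr rfl fun k _ => ?_
  simp [h8]; field_simp

omit hf hA [Finite F] [Nontrivial V] in
/-- rational similarities -/
noncomputable def RU.hom (r : RU f a j μ b) : simB b →* Gam D :=
  (lin.comp (r.ext.hom.comp (Subgroup.subtype _))).codRestrict _ fun g =>
    let ⟨_, h⟩ := g.2; ⟨_, r.isSim_map r h⟩

theorem RU.commute_iff [Nontrivial V₀] (r : RU f a j μ b) (hb : Rf b) {k : Gam D} (hk : k.1.s = 1) :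
    Commute (act k) (act a) ↔ ∃ c g, k = gscal D c * r.hom g :=
  (mul_inv_eq_iff_eq_mul.symm.trans (r.key hf hA r hk)).trans (exists_congr fun c =>
    ⟨fun ⟨g, H⟩ => let ⟨κ, h1, _⟩ := r.sim_of r hb (isSim_mult k) hk H
      ⟨⟨g, κ, h1⟩, Subtype.ext (r.ext.sem_ext hk fun x => (H x).trans
        (congrArg _ (r.ext.hom_apply g x).symm))⟩,
    by rintro ⟨g, rfl⟩; exact ⟨g, fun x => congrArg _ (r.ext.hom_apply g x)⟩⟩)

theorem gra_herm [FiniteDimensional F V] (hD : D.Nondeg) {n : ℕ} (hn : finrank F V = n) {I : Subgroup A}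
    (hI : I ≤ (gfld D).ker.map act) (hI' : ∀ g : D.isom, (QuotientGroup.mk' (powMonoidHom n).range).comp
      D.det.rangeRestrict g = 1 ↔ act (glin D g) ∈ I) {G : A → Prop}
    (hG : ∀ γ, G γ ↔ (∃ a : Gam D, a.1.s ≠ 1 ∧ γ = act a) ∧ orderOf γ = 2) :
    Gra (V := Fin n → F₀) ((gfld D).ker.map act) I G (RepU f act)
      fun d κ (u : D.det.range) => ∃ c, c * s c = f κ ∧ (u.1 : F) * c ^ n = f d := by
  have hn' : 1 ≤ finrank F V := Module.finrank_pos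
  haveI : NeZero n := ⟨by omega⟩
  have h1 : s ≠ 1 := fun H => h.ne_id (H ▸ rfl)
  have h8 : ∀ c, s (f c) = f c := hf.map
  have h9 : ∀ c, s (s c) = c := h.σσ
  have hU : ∀ c : F, c * s c = 1 → ∃ v : D.det.range, (v.1 : F) = c := fun c hc =>
    ⟨⟨Units.mk0 c (left_ne_zero_of_mul_eq_one hc), (Herm.mem_range_det hD hn').2 hc⟩, rfl⟩
  have hU' : ∀ v : D.det.range, (v.1 : F) * s v.1 = 1 := fun v => (Herm.mem_range_det hD hn').1 v.2
  refine ⟨fun γ hγ => ?_, fun b hb => ?_, ?_, ?_, ?_, fun c u => ?_, ?_, fun {m} v hm => ?_,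
    fun h2 => ⟨⟨-1, (Herm.mem_range_det hD hn').2 (by simp)⟩, fun h => units_neg_one_ne
      (fun h => h2 (f.injective (by rw [map_ofNat, h, map_zero]))) (congrArg Subtype.val h), fun w => by
        simp only [Subtype.ext_iff, Subgroup.coe_pow, Subgroup.coe_one, units_sq_eq_one],
      fun d κ u ⟨c, h1, h2⟩ => ⟨c, h1, by simp [h2]⟩⟩⟩
  · obtain ⟨⟨a, h2, rfl⟩, h3⟩ := (hG γ).1 hγ
    obtain ⟨u, h4, h5, h6⟩ := hA.exists_scaled h2 Nat.prime_two h3
    obtain ⟨j, μ, b, hb, r⟩ := exists_RU hf (V₀ := Fin n → F₀) hD (by simp [hn]) (h5.trans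
      (eq_of_orderOf_two (hA.orderOf_s h2 Nat.prime_two h3) (orderOf_isConj h))) h6
    exact ⟨b, hb, _, j, μ, r, h4.symm⟩
  · obtain ⟨a, j, μ, r⟩ := hb.exists_RU hf hD hn
    exact ⟨_, (hG _).2 ⟨⟨a, r.s_eq.trans_ne h1, rfl⟩, orderOf_eq_prime (by
      rw [← map_pow, ← (congrArg orderOf r.s_eq).trans (orderOf_isConj h), r.sq, map_one]) fun H =>
        let ⟨_, hc⟩ := (hA.ker _).1 H; h1 (r.s_eq.symm.trans (congrArg Sem.s hc))⟩, a, j, μ, r, rfl⟩
  · rintro _ _ b b' hb ⟨a, j, μ, r, rfl⟩ ⟨a', j', μ', r', rfl⟩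
    refine ⟨?_, fun ⟨g, κ, hg⟩ => ⟨_, ⟨⟨_, _, r.isSim_map r' hg⟩, rfl, rfl⟩, ((r.key hf hA r' rfl).2
      ⟨1, g, fun x => (r.ext.map_apply r'.ext g x).trans (one_smul _ _).symm⟩).symm⟩⟩
    rintro ⟨_, ⟨k, hk, rfl⟩, H⟩
    obtain ⟨c, g, H⟩ := (r.key hf hA r' hk).1 H.symm
    exact ⟨g, (r.sim_of r' hb (isSim_mult k) hk H).imp fun _ h => h.1⟩
  · rintro _ b hb ⟨a, j, μ, r, rfl⟩
    refine ⟨(act.comp r.hom).codRestrict _ fun g => ⟨⟨_, rfl, rfl⟩,
      Subgroup.mem_centralizer_singleton_iff.2 ((r.commute_iff hf hA hb rfl).2 ⟨1, g, by simp⟩)⟩, ?_,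
      fun g => Subtype.ext_iff.trans ((hA.ker _).trans (isSc_iff.symm.trans r.ext.hom_eq_smul_iff))⟩
    rintro ⟨_, ⟨k, hk, rfl⟩, H⟩
    obtain ⟨c, g, rfl⟩ := (r.commute_iff hf hA hb hk).1 (Subgroup.mem_centralizer_singleton_iff.1 H)
    exact ⟨g, Subtype.ext (show act (r.hom g) = act _ by
      rw [map_mul, show act (gscal D c) = 1 from hA.scal c, one_mul])⟩
  · rintro _ b hb ⟨a, j, μ, r, rfl⟩
    obtain ⟨x₀, y₀, h2⟩ := r.ext.exists_B_ne hD
    have h3 : ∀ (k : D.isom) (c : Fˣ) (g : simB b), glin D k = gscal D c * r.hom g →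
        (D.det k : F) = c ^ n * f (LinearMap.det (g.1 : (Fin n → F₀) →ₗ[F₀] _)) := fun k c g H => by
      rw [show (D.det k : F) = LinearEquiv.det k.1 from rfl, show k.1 = smE V c * r.ext.hom g.1 from
        lin_injective (congrArg Subtype.val H), map_mul, Units.val_mul, LinearEquiv.coe_det,
        LinearEquiv.coe_det, det_smE, hn, r.ext.det_hom]
    refine ⟨((Subgroup.centralizer {act a}).comap (act.comp (glin D))).map D.det.rangeRestrict, ?_,
      fun u => ⟨?_, fun ⟨g, κ, h4, c, h5, h6⟩ => ?_⟩⟩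
    · rw [splitClassCount_eq (act.comp (glin D)) (map_ker_eq_glin hA (exists_scal_mul_herm' h ⟨_, _, h2⟩))
        hI ((QuotientGroup.mk' _).comp D.det.rangeRestrict)
        ((QuotientGroup.mk'_surjective _).comp D.det.rangeRestrict_surjective) hI',
        ← Subgroup.map_map, Subgroup.index_map_eq _ (QuotientGroup.mk'_surjective _)]
      rw [QuotientGroup.ker_mk']
      rintro _ ⟨v, rfl⟩
      exact ⟨D.scalar _ (hU' v), Subgroup.mem_centralizer_singleton_iff.2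
        ((r.commute_iff hf hA hb rfl).2 ⟨_, 1, (glin_scalar _).trans (by rw [map_one r.hom, mul_one])⟩),
        Subtype.ext (Units.ext ((det_of_smul fun _ => rfl).trans (by simp [hn])))⟩
    · rintro ⟨k, hk, rfl⟩
      obtain ⟨c, g, H⟩ := (r.commute_iff hf hA hb rfl).1 (Subgroup.mem_centralizer_singleton_iff.1 hk)
      obtain ⟨κ, h4, h5⟩ := r.sim_of r hb (isSim_lin k) rfl (c := c) (g := g.1) fun x =>
        (congrArg (fun t : Gam D => t.1.g (j x)) H).trans (congrArg ((c : F) • ·) (r.ext.hom_apply g.1 x))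
      refine ⟨g, κ, h4, (c⁻¹ : Fˣ), ?_, by simp [h3 k c g H, mul_right_comm, ← mul_pow]⟩
      have h6 : s c ≠ 0 := by simp
      simp only [Units.val_inv_eq_inv_val, map_inv₀]
      field_simp
      exact mul_left_cancel₀ r.ne (by linear_combination -h5)
    · have h7 : c ≠ 0 := left_ne_zero_of_mul (h5 ▸ (map_ne_zero f).2 h4.1)
      have h10 : s c ≠ 0 := by simpa
      have h11 := (isSim_scal (D := D) (Units.mk0 c h7)⁻¹).mul (r.isSim_map r h4)
      rw [show _ * _ * _ = (1 : F) by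
        simp only [← h5, Units.val_inv_eq_inv_val, Units.val_mk0, map_inv₀, scal_s, RingAut.one_apply,
          RingHom.coe_coe]
        field_simp [r.ne]] at h11
      have H : glin D ⟨_, h11.mem_isom rfl⟩ = gscal D (Units.mk0 c h7)⁻¹ * r.hom ⟨g, κ, h4⟩ :=
        Subtype.ext (lin_toLin _ rfl)
      exact ⟨_, Subgroup.mem_centralizer_singleton_iff.2 ((r.commute_iff hf hA hb rfl).2 ⟨_, _, H⟩),
        Subtype.ext (Units.ext ((h3 _ _ _ H).trans (by simp [← h6, h7, mul_comm _ (c ^ n)])))⟩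
  · rw [Module.finrank_fin_fun]
    refine ⟨fun ⟨c', h2, h3⟩ => ?_, ?_⟩
    · have h4 : c' ≠ 0 := left_ne_zero_of_mul (h2.trans_ne (by simp))
      have h5 : s c' ≠ 0 := by simpa
      obtain ⟨v, hv⟩ := hU (f c / c') (by
        rw [map_div₀, h8, div_mul_div_comm, h2, map_pow, sq, div_self (by simp)])
      exact ⟨v, Subtype.ext (Units.ext (by simp [hv, div_pow, div_eq_iff (pow_ne_zero n h4), h3]))⟩
    · rintro ⟨v, rfl⟩
      exact ⟨f c / v.1, by rw [map_div₀, h8, div_mul_div_comm, hU', div_one, map_pow, sq],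
        by simp [← mul_pow, mul_div_cancel₀]⟩
  · rintro m κ u hm h0 ⟨c, h2, h3⟩
    rw [Module.finrank_fin_fun] at hm
    have h4 : c ≠ 0 := left_ne_zero_of_mul (h2 ▸ (map_ne_zero f).2 h0)
    have h5 : s c ≠ 0 := by simpa
    obtain ⟨v, hv⟩ := hU (s c / c) (by rw [map_div₀, h9]; field_simp)
    refine ⟨v, Subtype.ext (Units.ext (mul_right_cancel₀ (pow_ne_zero n h4) ?_))⟩
    simp only [powMonoidHom_apply, Subgroup.coe_pow, Units.val_pow_eq_pow_val, hv, h3, map_pow, ← h2]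
    rw [hm, pow_mul, ← mul_pow]; congr 1; field_simp
  · rw [Module.finrank_fin_fun] at hm
    obtain ⟨c, h2, h3⟩ := h.exists_div_eq (hU' v)
    obtain ⟨κ, h4⟩ := (hf (c * s c)).1 (by rw [map_mul, h9, mul_comm])
    have h5 : s c ≠ 0 := by simpa
    refine ⟨κ, fun h => mul_ne_zero h2 h5 (by rw [← h4, h, map_zero]), s c, by rw [h9, h4, mul_comm], ?_⟩
    simp only [Subgroup.coe_pow, Units.val_pow_eq_pow_val, ← h3, map_pow, h4, RingHom.coe_coe]
    rw [hm, pow_mul, ← mul_pow]; congr 1; field_simp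

omit hA [Nontrivial V] in
theorem gra_psu {n : ℕ} (hn : 3 ≤ n) (h32 : ¬ (n = 3 ∧ q = 2)) :
    Gra (V := Fin n → F₀) (inndiagPSU n F q) (Inn _) (fun γ => IsGraphAutClassPSU γ ∧ orderOf γ = 2)
      (RepU f (suAct h hn h32)) fun d κ (u : (stdHerm h (Fin n)).det.range) =>
        ∃ c, c * s c = f κ ∧ (u.1 : F) * c ^ n = f d := by
  haveI := (stdSU h hn h32).nontrivial
  have hA : IsAct (suAct h hn h32) := isAct_gact _ _
  rw [inndiagPSU_eq h hn h32]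
  refine gra_herm hf hA (stdHerm_nondeg h _) (Module.finrank_fin_fun F) (Inn_le_map_ker _ _)
    (suAct_mem_Inn_iff h hn h32) fun γ => and_congr_left fun h2 => ⟨?_, ?_⟩
  · rintro ⟨-, δ, φ, t, h3, h4, h5, rfl⟩
    obtain ⟨d, h6, rfl⟩ := (isInnerDiagonalAutPSU_iff h hn h32).1 h4
    refine ⟨_, fun H => ?_, (congrArg _ ((isFieldAutPSUOf_iff h hn h32).1 h5)).trans (map_mul _ _ _).symm⟩
    obtain rfl : t = 1 := (one_mul t).symm.trans ((congrArg (· * t) (show d.1.s = 1 from h6)).symm.trans H)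
    simp at h3
  · rintro ⟨a, h3, rfl⟩
    exact ⟨hn, _, _, a.1.s, by simp [hA.orderOf_s h3 Nat.prime_two h2], (isInnerDiagonalAutPSU_iff h hn h32).2
      ⟨a * (⟨pi _ a.1.s, _, isSim_pi_herm h _⟩ : Gam _)⁻¹, mul_inv_cancel a.1.s, rfl⟩,
      (isFieldAutPSUOf_iff h hn h32).2 rfl, by rw [← map_mul, inv_mul_cancel_right]⟩

end psu

end Cfsg.Lib.Conj
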