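import Cfsg.Agent.Lib.Conj.Blk
import Cfsg.Agent.Lib.Clifford.Column

/-! Class numbers of subgroups with cyclic quotient. -/

set_option autoImplicit false

namespace Cfsg.Lib.Conj

open Module Cfsg.Lib.Forms Cfsg.Lib.Forms.Form Cfsg.Lib.Known Cfsg.Lib.Linear Polynomial Finset

section Grp

variable {G : Type*} [Group G] [Finite G]

/-- The number of classes whose centraliser is killed by the `d`-th power of `χ`. -/
noncomputable def nsp {M : Type*} [Monoid M] (χ : G →* M) (d : ℕ) : ℕ :=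
  Nat.card {C : ConjClasses G // ∃ g, ConjClasses.mk g = C ∧ ∀ h, Commute g h → χ h ^ d = 1}

theorem card_classes_ker (χ : G →* ℂ) (N : Subgroup G) (hN : ∀ g, g ∈ N ↔ χ g = 1) :
    N.index * Nat.card (ConjClasses N) = ∑ a ∈ range N.index, ∑ b ∈ range N.index, nsp χ (a.gcd b) := by
  classical
  have := Fintype.ofFinite G
  have hc : ∀ g c, χ (c * g * c⁻¹) = χ g := fun g c => by
    rw [map_mul, map_mul, mul_right_comm, ← map_mul, mul_inv_cancel, map_one, one_mul]
  have : N.Normal := ⟨fun g hg c => (hN _).2 ((hc g c).trans ((hN g).1 hg))⟩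
  let S : ℕ → ℕ → ℂ := fun a b => ∑ p : G × G with Commute p.1 p.2, χ p.1 ^ a * χ p.2 ^ b
  have h1 : ∀ a b, S a b = S b a := fun a b =>
    sum_equiv (Equiv.prodComm G G) (by simp [Commute.symm_iff]) fun _ _ => mul_comm _ _
  have h2 : ∀ a b, S a (b + a) = S a b := fun a b => sum_nbij' (fun p => (p.1 * p.2, p.2))
    (fun p => (p.1 * p.2⁻¹, p.2)) (by simp +contextual) (by simp +contextual) (by simp) (by simp)
    fun _ _ => by simp only [map_mul]; ring
  have h3 : ∀ a b, S a b = S 0 (a.gcd b) := fun a b => by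
    induction a, b using Nat.gcd.induction with
    | H0 => simp
    | H1 a b _ ih =>
      have : ∀ k c, S a (c + a * k) = S a c := fun k c => by
        induction k with
        | zero => rfl
        | succ k ih => rw [mul_add_one, ← add_assoc, h2, ih]
      rw [Nat.gcd_rec, ← ih, h1 _ a, ← this (b / a) (b % a), Nat.mod_add_div]
  have h4 : ∀ d, S 0 d = nsp χ d * Nat.card G := fun d => by
    rw [nsp, ← Nat.cast_mul, ← Clifford.sum_card_centralizer, Nat.cast_sum, sum_filter]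
    simp only [S, sum_filter, Fintype.sum_prod_type, pow_zero, one_mul]
    refine sum_congr (by ext; simp [Clifford.mem_elems]) fun g _ => ?_
    have := sum_hom_units ((powMonoidHom d).comp (χ.comp (Subgroup.centralizer {g}).subtype))
    rw [← sum_filter, sum_subtype (p := (· ∈ Subgroup.centralizer {g})) _
      (by simp [Subgroup.mem_centralizer_singleton_iff, commute_iff_eq, eq_comm])]
    refine this.trans ?_
    rw [Nat.card_eq_fintype_card, Nat.cast_ite, Nat.cast_zero]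
    congr 1
    refine propext ⟨fun h => ⟨g, rfl, fun k hk => DFunLike.congr_fun h
      ⟨k, Subgroup.mem_centralizer_singleton_iff.2 hk.symm⟩⟩, fun ⟨g', e, h⟩ => MonoidHom.ext fun k => ?_⟩
    obtain ⟨c, rfl⟩ := isConj_iff.1 (ConjClasses.mk_eq_mk_iff_isConj.1 e.symm)
    simpa [hc] using h _ (Commute.conj (Subgroup.mem_centralizer_singleton_iff.1 k.2).symm c)
  have h5 : ∀ g, ∑ a ∈ range N.index, χ g ^ a = if g ∈ N then (N.index : ℂ) else 0 := fun g => by
    split_ifs with h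
    · simp [(hN g).1 h]
    · rw [geom_sum_eq (mt (hN g).2 h), ← map_pow, (hN _).1 (N.pow_index_mem g), sub_self, zero_div]
  have h6 : ∑ a ∈ range N.index, ∑ b ∈ range N.index, S a b =
      N.index ^ 2 * (Nat.card (ConjClasses N) * Nat.card N : ℕ) := by
    rw [← card_comm_eq_card_conjClasses_mul_card, Nat.card_congr (β := {p : G × G // Commute p.1 p.2 ∧
      p.1 ∈ N ∧ p.2 ∈ N}) ⟨fun p => ⟨(p.1.1, p.1.2), p.2.map N.subtype, p.1.1.2, p.1.2.2⟩,
      fun p => ⟨(⟨_, p.2.2.1⟩, ⟨_, p.2.2.2⟩), Subtype.ext p.2.1⟩, fun _ => rfl, fun _ => rfl⟩,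
      Nat.card_eq_fintype_card, Fintype.card_subtype, ← filter_filter, card_filter, Nat.cast_sum, mul_sum]
    simp only [S]
    rw [sum_congr rfl fun _ _ => sum_comm, sum_comm]
    refine sum_congr rfl fun p _ => ?_
    rw [← sum_mul_sum, h5, h5]
    by_cases h : p.1 ∈ N <;> by_cases h' : p.2 ∈ N <;> simp [h, h', sq]
  simp only [fun a b => (h3 a b).trans (h4 _), ← sum_mul, ← N.index_mul_card] at h6
  have h7 : (N.index * Nat.card N : ℂ) ≠ 0 := by
    simp [Subgroup.index_ne_zero_of_finite, Nat.card_pos.ne']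
  exact Nat.cast_injective (R := ℂ) (mul_right_cancel₀ h7 (by push_cast at h6 ⊢; linear_combination -h6))

theorem card_classes_ker' {A : Type*} [Group A] [Finite A] [IsCyclic A] (φ : G →* A) :
    φ.ker.index * Nat.card (ConjClasses φ.ker) =
      ∑ a ∈ range φ.ker.index, ∑ b ∈ range φ.ker.index, nsp φ (a.gcd b) := by
  have : NeZero (Nat.card A) := ⟨Nat.card_pos.ne'⟩
  let ι := (Units.coeHom ℂ).comp ((rootsOfUnity (Nat.card A) ℂ).subtype.comp
    (mulEquivOfCyclicCardEq (Complex.card_rootsOfUnity (Nat.card A)).symm).toMonoidHom)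
  have h : ∀ a, ι a = 1 ↔ a = 1 := by simp [ι]
  simpa [nsp, ← map_pow, h] using card_classes_ker (ι.comp φ) φ.ker fun g => (h _).symm

theorem sum_gcd_le {m : ℕ} (hm : 0 < m) (f : ℕ → ℝ) (hf : ∀ e, 0 ≤ f e) :
    ∑ a ∈ range m, ∑ b ∈ range m, f (m / m.gcd (a.gcd b)) ≤ f 1 + ∑ e ∈ m.divisors, (e ^ 2 - 1) * f e := by
  rw [← sum_product', ← add_sum_erase _ _ (a := (0, 0)) (by simpa), ← sum_fiberwise_of_maps_to
    (g := fun p : ℕ × ℕ => m / m.gcd (p.1.gcd p.2)) (t := m.divisors) fun p _ =>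
      Nat.mem_divisors.2 ⟨Nat.div_dvd_of_dvd (Nat.gcd_dvd_left _ _), hm.ne'⟩]
  refine add_le_add (by simp [Nat.div_self hm]) (sum_le_sum fun e he => ?_)
  obtain ⟨k, rfl⟩ := Nat.dvd_of_mem_divisors he
  have h0 := Nat.pos_of_mul_pos_left hm
  have h1 := Nat.pos_of_mul_pos_right hm
  rw [sum_congr rfl fun p hp => by rw [(mem_filter.1 hp).2], sum_const, nsmul_eq_mul]
  refine mul_le_mul_of_nonneg_right ((Nat.cast_le.2 ((card_le_card (t := ((range e ×ˢ range e).erase (0, 0)).image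
    fun p => (k * p.1, k * p.2)) ?_).trans card_image_le)).trans_eq ?_) (hf e)
  · rintro ⟨a, b⟩ hp
    simp only [mem_filter, mem_erase, mem_product, mem_range] at hp
    have h2 : (e * k).gcd (a.gcd b) = k := Nat.eq_of_mul_eq_mul_left h1
      ((congrArg (· * _) hp.2).symm.trans (Nat.div_mul_cancel (Nat.gcd_dvd_left _ _)))
    obtain ⟨⟨a, rfl⟩, b, rfl⟩ := Nat.dvd_gcd_iff.1 (h2 ▸ Nat.gcd_dvd_right (e * k) (a.gcd b))
    refine mem_image.2 ⟨(a, b), ?_, rfl⟩
    simp only [mem_erase, mem_product, mem_range, mul_comm e, Nat.mul_lt_mul_left h0] at hp ⊢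
    exact ⟨fun h => hp.1.1 (by simp_all), hp.1.2⟩
  · rw [card_erase_of_mem (by simpa), Nat.cast_pred (by simp [h1])]
    simp [sq]

end Grp

section Herm

variable {F : Type*} [Field F] {σ : F →+* F} {V : Type*} [AddCommGroup V] [Module F V] [FiniteDimensional F V]
  {q : ℕ} {h : IsConj σ q} [Fintype F]

open Classical in
theorem card_selfDual_le (h : IsConj σ q) (k : ℕ) :
    #((finite_monS (F := F) (k + 1)).toFinset.filter fun u => pd σ u = u) ≤ q ^ k * (q + 1) := by
  rw [← h.card_norm_one, Nat.card_eq_fintype_card, Fintype.card_subtype]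
  refine card_le_mul_card_image_of_maps_to (f := fun u => σ (u.coeff 0)) (fun u hu => ?_) _ fun ε hε => ?_
  · simp only [mem_filter, Set.Finite.mem_toFinset, mem_univ, true_and, h.σσ] at hu ⊢
    exact norm_coeff_zero hu.1.1 hu.1.2.2 hu.2
  have hε := (mem_filter.1 hε).2
  have h1 : Nat.card {a : F // σ a = ε * a} ≤ q := by
    obtain ⟨μ, hμ, rfl⟩ := h.exists_div_eq hε
    refine (Nat.card_le_card_of_injective (fun a => (⟨a.1 * μ, ?_⟩ : {a // σ a = a})) fun a b e =>
      Subtype.ext (mul_right_cancel₀ hμ (congrArg Subtype.val e))).trans_eq h.card_fixed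
    have : σ μ ≠ 0 := by simpa
    rw [map_mul, a.2]; field_simp
  have h2 := card_palin h.σσ hε (N := k + 1) (by simp)
  have h3 : 0 < q := h.two_le.trans_lt' two_pos
  have : Finite {f : F[X] // f.Monic ∧ f.natDegree = k + 1 ∧ (f.map σ).reflect (k + 1) = C ε * f} := by
    refine Nat.finite_of_card_ne_zero (h2 ▸ mul_ne_zero (pow_ne_zero _ Nat.card_pos.ne') ?_)
    have : Nonempty {a : F // σ a = ε * a} := ⟨⟨0, by simp⟩⟩
    split_ifs <;> simp [Nat.card_pos.ne']
  rw [← Nat.card_eq_finsetCard]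
  refine (Finite.card_le_of_embedding (Subtype.impEmbedding _ _ fun u hu => ?_)).trans (h2.trans_le ?_)
  · simp only [mem_filter, Set.Finite.mem_toFinset] at hu
    obtain ⟨⟨⟨k1, k2, k3⟩, k4⟩, rfl⟩ := hu
    exact ⟨k1, k2, k2 ▸ (pd_eq_self_iff k1 k3).1 k4⟩
  rw [h.card, ← pow_mul]
  split_ifs with h4
  · refine (Nat.mul_le_mul_left _ h1).trans (pow_succ q _ ▸ Nat.pow_le_pow_right h3 ?_)
    have := Nat.even_iff.1 h4.1; omega
  · exact (mul_one _).trans_le (Nat.pow_le_pow_right h3 (by omega))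

/-- The constant in the bound for unitary groups. -/
noncomputable def cU (x : ℝ) (m : ℕ) : ℝ := (∏ i ∈ Icc 1 m, (1 + x ^ i)) * ∏ i ∈ Icc 1 (m - 1), (1 - x ^ i)⁻¹

theorem herm_count {D : Form h.kind V} (hD : D.Nondeg) (hn : finrank F V ≠ 0) {e : ℕ} (he : 0 < e) :
    (Nat.card {C : ConjClasses D.isom // ∃ g, ConjClasses.mk g = C ∧ ∀ a ∈ edOf (nat D g), e ∣ a.2} : ℝ) ≤
      if e ∣ finrank F V then cU (q : ℝ)⁻¹ (finrank F V / e) * q ^ (finrank F V / e) else 0 := by
  classical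
  have : Finite V := Module.finite_of_finite F
  have := D.finite_isom
  have := Fintype.ofFinite {C : ConjClasses D.isom // ∃ g, ConjClasses.mk g = C ∧ ∀ a ∈ edOf (nat D g), e ∣ a.2}
  choose r hr hr' using fun C : {C : ConjClasses D.isom // ∃ g, ConjClasses.mk g = C ∧
    ∀ a ∈ edOf (nat D g), e ∣ a.2} => C.2
  let s := fun C => (edOf (nat D (r C))).map fun a => (a.1, a.2 / e)
  have h1 : ∀ C, (s C).map (fun a => (a.1, e * a.2)) = edOf (nat D (r C)) := fun C => by
    rw [Multiset.map_map, Multiset.map_congr rfl (g := id) fun a ha => by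
      simp [Nat.mul_div_cancel' (hr' C a ha)], Multiset.map_id]
  have hu : ∀ C, IsUnit (nat D (r C)) := fun C => isUnit_of_isIsometry hD (r C).2.B_map
  have h2 : ∀ C, IsED (s C) ∧ (∀ a ∈ s C, a.1 ≠ X) ∧ e * edDeg (s C) = finrank F V := fun C => by
    refine ⟨Multiset.forall_mem_map_iff.2 fun a ha => ?_, Multiset.forall_mem_map_iff.2
      ((hasED_edOf _).isUnit_iff.1 (hu C)), ?_⟩
    · obtain ⟨k1, k2, k3⟩ := (hasED_edOf _).1 a ha
      exact ⟨k1, k2, Nat.div_pos (Nat.le_of_dvd k3 (hr' C a ha)) he⟩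
    · rw [(hasED_edOf (nat D (r C))).finrank, ← h1]
      simp [edDeg, ← Multiset.sum_map_mul_left, mul_assoc]
  have h3 : ∀ C, (s C).map (dd σ) = s C := fun C => by
    conv_rhs => simp only [s]; rw [← (selfDual_iff_dd h.σσ (hu C) (hasED_edOf _)).1
      (selfDual_of_isIsometry hD (r C).2)]
    simp only [s, Multiset.map_map]; rfl
  split_ifs with hd
  swap
  · have : IsEmpty _ := ⟨fun C => hd ⟨_, (h2 C).2.2.symm⟩⟩
    rw [Nat.card_of_isEmpty, Nat.cast_zero]
  obtain ⟨J, hJ⟩ : ∃ J, finrank F V / e = J + 1 :=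
    ⟨_, (Nat.succ_pred_eq_of_pos (Nat.div_pos (Nat.le_of_dvd (Nat.pos_of_ne_zero hn) hd) he)).symm⟩
  have h4 : ∀ C, edDeg (s C) = J + 1 := fun C => by rw [← hJ, ← (h2 C).2.2, Nat.mul_div_cancel_left _ he]
  have hq : (0 : ℝ) < q := by exact_mod_cast h.two_le.trans_lt' two_pos
  rw [Nat.card_eq_fintype_card, ← card_univ, hJ]
  refine (tup_le natDegree (fun k => (finite_monS (F := F) k).toFinset.filter fun u => pd σ u = u)
    (a := (q : ℝ)⁻¹) h.two_le (by positivity) ((card_filter_le _ _).trans (by simp [monS_zero])) (fun k => ?_)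
    (fun C i => edTup (s C) (i + 1)) univ J (J + 1) (fun C _ i => ?_) (fun k u hu => ?_)
    (fun C _ => h4 C ▸ sum_edTup (h2 C).1 (h2 C).2.1 (h4 C).le) fun C _ C' _ H => Subtype.ext ?_).trans_eq ?_
  · rcases k with _ | k
    · exact (Nat.cast_le.2 ((card_filter_le _ _).trans (c := 1) (by simp [monS_zero]))).trans (by simp)
    · refine (Nat.cast_le.2 (card_selfDual_le h k)).trans_eq ?_
      push_cast; field_simp; ring
  · have := ((adm_edTup (h2 C).1 (h2 C).2.1 le_rfl).1.1 (i + 1))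
    simp only [mem_filter, Set.Finite.mem_toFinset]
    exact ⟨⟨this.1, rfl, this.2⟩, by rw [edTup, map_multiset_prod, filter_map_pd (h3 C)]⟩
  · simp only [mem_filter, Set.Finite.mem_toFinset] at hu
    exact hu.1.2.1
  · rw [← hr C, ← hr C', ConjClasses.mk_eq_mk_iff_isConj, herm_isConj_iff hD]
    exact sim_iff_edOf.2 ((h1 C).symm.trans ((congrArg _ (eq_of_edTup' (h2 C).1 (h2 C).2.1 (h2 C').1
      (h2 C').2.1 (h4 C).le (h4 C').le H)).trans (h1 C')))
  · simp only [cU, prod_mul_distrib, ← pow_succ', Nat.add_sub_cancel, ← mul_assoc]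
    congr 2
    rw [← Ico_add_one_right_eq_Icc, ← Ico_add_one_right_eq_Icc, 
      prod_eq_prod_Ico_succ_bot (b := J + 1 + 1) (by omega), ← prod_Ico_add' _ 1 _ 1, pow_one]

theorem nsp_det_le {D : Form h.kind V} (hD : D.Nondeg) (d : ℕ) : nsp D.det d ≤ Nat.card
    {C : ConjClasses D.isom // ∃ g, ConjClasses.mk g = C ∧ ∀ a ∈ edOf (nat D g), (q + 1) / (q + 1).gcd d ∣ a.2} := by
  have : Finite V := Module.finite_of_finite F
  have := D.finite_isom
  refine Finite.card_le_of_embedding (Subtype.impEmbedding _ _ fun C ⟨g, h1, h2⟩ => ⟨g, h1, fun a ha => ?_⟩)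
  obtain ⟨c, hc⟩ := IsCyclic.exists_ofOrder_eq_natCard (α := Fˣ)
  have h3 := h.two_le
  have h4 : orderOf (c ^ (q - 1)) = q + 1 := by
    rw [orderOf_pow' _ (by omega), hc, Nat.card_units, h.card_sub_one, Nat.gcd_mul_left_left,
      Nat.mul_div_cancel _ (by omega)]
  obtain ⟨z, k1, k2⟩ := herm_comm_det_pow hD g ha (c := (c ^ (q - 1) : Fˣ)) (by
    rw [h.norm_eq, ← Units.val_pow_eq_pow_val, ← h4, pow_orderOf_eq_one, Units.val_one])
  have h5 := h2 z k1.symm
  rw [show D.det z = (c ^ (q - 1)) ^ a.2 from Units.ext k2, ← pow_mul, ← orderOf_dvd_iff_pow_eq_one, h4] at h5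
  have h6 := Nat.gcd_pos_of_pos_left d q.succ_pos
  refine (Nat.coprime_div_gcd_div_gcd h6).dvd_of_dvd_mul_right (Nat.dvd_of_mul_dvd_mul_right h6 ?_)
  rwa [mul_assoc, Nat.div_mul_cancel (Nat.gcd_dvd_left _ _), Nat.div_mul_cancel (Nat.gcd_dvd_right _ _)]

theorem sum_divisors_le {q : ℕ} (hq : 3 ≤ q) :
    ∑ e ∈ (q + 1).divisors, ((e : ℝ) ^ 2 - 1) * (q : ℝ)⁻¹ ^ (e - 1) ≤ 8 * (q : ℝ)⁻¹ := by
  rcases hq.eq_or_lt with rfl | hq
  · rw [show (3 + 1 : ℕ).divisors = {1, 2, 4} by decide]; norm_num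
  have h1 : (q : ℝ)⁻¹ ≤ 1 / 4 := by rw [one_div]; exact inv_anti₀ (by norm_num) (by exact_mod_cast hq)
  have h0 : (0 : ℝ) ≤ (q : ℝ)⁻¹ := by positivity
  generalize (q : ℝ)⁻¹ = x at *
  refine (sum_le_sum_of_subset_of_nonneg (t := Ico 1 (q + 2)) (filter_subset _ _) fun e he _ => mul_nonneg
    (sub_nonneg.2 (one_le_pow₀ (by exact_mod_cast (mem_Ico.1 he).1))) (by positivity)).trans ?_
  rw [sum_Ico_eq_sum_range, show q + 2 - 1 = q + 1 from rfl, sum_range_succ']
  refine (add_le_add (sum_le_sum (g := fun i => 4 * x * (1 / 2 : ℝ) ^ i) fun i _ => ?_) (d := 0) (by simp)).trans ?_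
  · have h2 : (1 + (i + 1)) ^ 2 ≤ 4 * 2 ^ i + 1 := by
      induction i with
      | zero => simp
      | succ i ih =>
        rcases i with _ | i
        · simp
        have := i.lt_two_pow_self
        have := ih (by simp_all; omega)
        simp only [pow_succ] at *; nlinarith
    have h3 : ((1 + (i + 1) : ℕ) : ℝ) ^ 2 - 1 ≤ 4 * 2 ^ i := sub_le_iff_le_add.2 (by exact_mod_cast h2)
    rw [Nat.add_sub_cancel_left, pow_succ' x]
    refine (mul_le_mul h3 (mul_le_mul_of_nonneg_left (pow_le_pow_left₀ h0 h1 i) h0) (by positivity)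
      (by positivity)).trans_eq ?_
    rw [show (1 / 2 : ℝ) = 2 * (1 / 4) by norm_num, mul_pow]; ring
  · rw [← mul_sum]; nlinarith [sum_geometric_two_le q]

theorem card_classes_SU_le {D : Form h.kind V} (hD : D.Nondeg) {n : ℕ} (hn : finrank F V = n + 1) :
    100 * Nat.card (ConjClasses D.det.ker) ≤ 826 * q ^ n := by
  have : Finite V := Module.finite_of_finite F
  have := D.finite_isom
  have h1 := Herm.index_ker_det hD (by omega)
  have h2 := congrArg (Nat.cast (R := ℝ)) (card_classes_ker' D.det)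
  have hq : (2 : ℝ) ≤ q := by exact_mod_cast h.two_le
  have hx : (q : ℝ)⁻¹ ≤ 1 / 2 := by rw [one_div]; exact inv_anti₀ two_pos hq
  let f : ℕ → ℝ := fun e => if e ∣ n + 1 then cU (q : ℝ)⁻¹ ((n + 1) / e) * q ^ ((n + 1) / e) else 0
  have hU : ∀ m, 0 ≤ ∏ i ∈ Icc 1 m, (1 - (q : ℝ)⁻¹ ^ i)⁻¹ := fun m => prod_nonneg fun i _ =>
    inv_nonneg.2 (sub_nonneg.2 (pow_le_one₀ (by positivity) (by linarith)))
  simp only [h1, Nat.cast_sum, Nat.cast_mul] at h2
  replace h2 := h2.trans_le ((sum_le_sum fun a _ => sum_le_sum fun b _ => (Nat.cast_le.2 (nsp_det_le hD _)).trans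
    ((herm_count hD (by omega) (Nat.div_pos (Nat.gcd_le_left _ q.succ_pos)
      (Nat.gcd_pos_of_pos_left _ q.succ_pos))).trans_eq (by rw [hn]))).trans (sum_gcd_le q.succ_pos f fun e => by
        simp only [f]; split_ifs; exacts [mul_nonneg (mul_nonneg (by positivity) (hU _)) (by positivity), le_rfl]))
  suffices 100 * (Nat.card (ConjClasses D.det.ker) : ℝ) ≤ 826 * q ^ n by exact_mod_cast this
  have hp : (0 : ℝ) < q ^ n := by positivity
  rcases h.two_le.eq_or_lt with rfl | h3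
  · have k : ∀ m, cU ((2 : ℕ) : ℝ)⁻¹ m ≤ 8.26 := fun m => by
      rw [Nat.cast_ofNat, ← one_div] at *
      exact (mul_le_mul (prod_add_half (by simp)) (prod_inv_half _) (hU _) (by norm_num)).trans (by norm_num)
    have k1 : f 1 ≤ 8.26 * (2 * 2 ^ n) := by
      simpa [f, pow_succ'] using k (n + 1)
    have k2 : f 3 * 8 ≤ 8.26 * 2 ^ n := by
      simp only [f]
      split_ifs with h4
      · obtain ⟨m, hm⟩ := h4
        rw [hm, Nat.mul_div_cancel_left _ three_pos]
        obtain rfl | h5 : m = 1 ∨ m + 3 ≤ n := by omega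
        · rw [show n = 2 by omega]; norm_num [cU]
        · rw [mul_assoc, show (8 : ℝ) = (2 : ℕ) ^ 3 by norm_num, ← pow_add]
          exact mul_le_mul (k m) (pow_le_pow_right₀ (by norm_num) h5) (by positivity) (by norm_num)
      · rw [zero_mul]; positivity
    rw [show (Nat.succ 2).divisors = {1, 3} by decide] at h2
    norm_num at h2 ⊢
    linarith
  have hx' : (q : ℝ)⁻¹ ≤ 1 / 3 := by rw [one_div]; exact inv_anti₀ three_pos (by exact_mod_cast h3)
  have k : ∀ e, 1 ≤ e → f e ≤ 2.8 * q ^ (n + 1) * (q : ℝ)⁻¹ ^ (e - 1) := fun e he => by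
    simp only [f]
    split_ifs with h4
    · obtain ⟨m, hm⟩ := h4
      rw [hm, Nat.mul_div_cancel_left _ he, mul_assoc, inv_pow, ← pow_sub₀ _ (by positivity)
        ((Nat.sub_le _ _).trans (Nat.le_mul_of_pos_right _ (Nat.pos_of_mul_pos_left (n.succ_pos.trans_eq hm))))]
      refine mul_le_mul ((mul_le_mul (prod_add_third (by positivity) hx' (by simp)) (prod_inv_third
        (by positivity) hx' _) (hU _) (by norm_num)).trans (by norm_num)) (pow_le_pow_right₀ (by linarith) ?_)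
        (by positivity) (by norm_num)
      obtain ⟨e, rfl⟩ := Nat.exists_eq_add_of_le' he
      have := Nat.le_mul_of_pos_right e (Nat.pos_of_mul_pos_left (n.succ_pos.trans_eq hm))
      rw [add_one_mul]; omega
    · positivity
  have k1 := k 1 le_rfl
  have k2 : ∑ e ∈ (q + 1).divisors, ((e : ℝ) ^ 2 - 1) * f e ≤ 2.8 * q ^ (n + 1) * (8 * (q : ℝ)⁻¹) :=
    (sum_le_sum fun e he => (mul_le_mul_of_nonneg_left (k e (Nat.pos_of_mem_divisors he)) (sub_nonneg.2
      (one_le_pow₀ (by exact_mod_cast Nat.pos_of_mem_divisors he)))).trans_eq (mul_left_comm _ _ _)).trans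
      ((mul_sum _ _ _).ge.trans (mul_le_mul_of_nonneg_left (sum_divisors_le h3) (by positivity)))
  have k3 : (3 : ℝ) ≤ q := by exact_mod_cast h3
  rw [pow_succ, mul_assoc, mul_assoc, mul_left_comm (q : ℝ), mul_inv_cancel₀ (by positivity)] at k2
  refine le_of_mul_le_mul_left ?_ (show (0 : ℝ) < q + 1 by positivity)
  simp only [Nat.succ_eq_add_one, Nat.cast_add, Nat.cast_one, pow_succ, Nat.sub_self, pow_zero] at h2 k1 k2
  nlinarith

end Herm

end Cfsg.Lib.Conj
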