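import Cfsg.Agent.Lib.Conj.LSCount
import Cfsg.Agent.Lib.Forms.Levi

/-!
Landazuri-Seitz bounds for symplectic and unitary groups.
-/

set_option autoImplicit false

namespace Cfsg.Lib.Conj

open Module Cfsg.Lib.Forms Cfsg.Lib.Forms.Form
open scoped commutatorElement

variable {F : Type*} [Field F] {σ : F →+* F} {Kd : Kind σ} {V : Type*} [AddCommGroup V]
  [Module F V] {D : Form Kd V} {U : Submodule F V} (hU : D.IsTS U) {G : Subgroup D.isom}
  (hG : ∀ e z d h, D.eich e z d h ∈ G)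

/-- The Eichler elements attached to a totally singular subspace. -/
def tt (i : U × U × Kd.tr.ker) : G :=
  ⟨D.eich i.1 i.2.1 i.2.2 ⟨hU.1 _ i.1.2, hU.2 _ i.1.2 _ i.2.1.2, i.2.2.2.trans (hU.1 _ i.2.1.2).symm⟩,
    hG _ _ _ _⟩

theorem tt_apply (i : U × U × Kd.tr.ker) (x : V) : (tt hU hG i).1.1 x =
    x + D.B i.2.1 x • (i.1 : V) - (Kd.ε * D.B i.1 x) • ((i.2.1 : V) + (i.2.2 : F) • (i.1 : V)) := rfl

theorem tt_fix (i : U × U × Kd.tr.ker) {x : V} (hx : x ∈ D.perp U) : (tt hU hG i).1.1 x = x := by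
  simp [tt_apply, hx _ i.1.2, hx _ i.2.1.2]

theorem tt_mul_apply (i j : U × U × Kd.tr.ker) (x : V) :
    (tt hU hG i * tt hU hG j).1.1 x = (tt hU hG i).1.1 x + (tt hU hG j).1.1 x - x := by
  have h1 : (tt hU hG j).1.1 x - x ∈ U := by
    rw [tt_apply, add_sub_assoc, add_sub_cancel_left]
    exact sub_mem (U.smul_mem _ j.1.2) (U.smul_mem _ (add_mem j.2.1.2 (U.smul_mem _ j.1.2)))
  have h2 := tt_fix hU hG i (hU.le_perp h1)
  rw [map_sub] at h2
  change (tt hU hG i).1.1 ((tt hU hG j).1.1 x) = _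
  rw [sub_eq_iff_eq_add.1 h2]; abel

theorem tt_comm (i j : U × U × Kd.tr.ker) : Commute (tt hU hG i) (tt hU hG j) :=
  Subtype.ext (isom_ext fun x => by rw [tt_mul_apply, tt_mul_apply, add_comm])

theorem tt_add (u v v' : U) (d d' : Kd.tr.ker) :
    tt hU hG (u, v, d) * tt hU hG (u, v', d') = tt hU hG (u, v + v', d + d') :=
  Subtype.ext (isom_ext fun x => by simp only [tt_mul_apply, tt_apply]; simp; module)

theorem tt_add_left (u u' v : U) :
    tt hU hG (u, v, 0) * tt hU hG (u', v, 0) = tt hU hG (u + u', v, 0) :=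
  Subtype.ext (isom_ext fun x => by simp only [tt_mul_apply, tt_apply]; simp; module)

theorem tt_zero (u : U) : tt hU hG (u, 0, 0) = 1 :=
  Subtype.ext (isom_ext fun x => by simp [tt_apply])

theorem tt_smul (c : F) (u v : U) : tt hU hG (c • u, v, 0) = tt hU hG (u, σ c • v, 0) :=
  Subtype.ext (isom_ext fun x => by simp only [tt_apply]; simp [Kd.σσ]; module)

theorem tt_swap (u v : U) : tt hU hG (v, u, 0) = tt hU hG (u, -Kd.ε • v, 0) :=
  Subtype.ext (isom_ext fun x => by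
    simp only [tt_apply]; simp [Kd.σ_ε]
    match_scalars
    · ring
    · linear_combination (-D.B u x) * Kd.ε_mul
    · ring)

theorem tt_pow (i : U × U × Kd.tr.ker) : tt hU hG i ^ ringChar F = 1 := by
  have h : ∀ n : ℕ, tt hU hG i ^ n = tt hU hG (i.1, n • i.2.1, n • i.2.2) := fun n => by
    induction n with
    | zero => simp [tt_zero]
    | succ n ih => rw [pow_succ, ih, succ_nsmul, succ_nsmul, ← tt_add]
  rw [h, ← Nat.cast_smul_eq_nsmul F, ringChar.Nat.cast_ringChar, zero_smul,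
    show ringChar F • i.2.2 = 0 from Subtype.ext (by simp), tt_zero]

variable (U G) in
/-- The action of the stabiliser of `U` in `G` on `U`. -/
def resG : (D.stab U).subgroupOf G →* (U ≃ₗ[F] U) :=
  (D.resLin U).comp ((G.subtype.comp (Subgroup.subtype _)).codRestrict _ fun g => g.2)

theorem resG_apply (g : (D.stab U).subgroupOf G) (x : U) : (resG U G g x : V) = g.1.1.1 x := rfl

theorem conj_tt (g : (D.stab U).subgroupOf G) (u v : U) (d : Kd.tr.ker) :
    g.1 * tt hU hG (u, v, d) * g.1⁻¹ = tt hU hG (resG U G g u, resG U G g v, d) :=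
  Subtype.ext (D.conj_eich g.1.1 (e := u) (z := v) (d := d)
    ⟨hU.1 _ u.2, hU.2 _ u.2 _ v.2, d.2.trans (hU.1 _ v.2).symm⟩)

theorem tt_not_mem_center [FiniteDimensional F V] (hD : D.Nondeg) (hR : D.Rich 3)
    {i : U × U × Kd.tr.ker} (h : tt hU hG i ≠ 1) : tt hU hG i ∉ Subgroup.center G := by
  have h0 : (i.1 : V) ≠ 0 := fun h0 => h (Subtype.ext (isom_ext fun x => by simp [tt_apply, h0]))
  obtain ⟨f, hf⟩ := hD.exists_isHyp (hU.1 _ i.1.2) h0
  intro hc
  obtain ⟨c, hc⟩ := (hf.mem_center_iff hD hR hG _).1 hc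
  have h1 := (hc i.1).symm.trans (tt_fix hU hG i (hU.le_perp i.1.2))
  have h2 : c = 1 := smul_left_injective F h0 (h1.trans (one_smul F _).symm)
  exact h (Subtype.ext (isom_ext fun x => by rw [hc, h2, one_smul]; rfl))

variable {K M : Type*} [Field K] [AddCommGroup M] [Module K M] (R : G →* End K M)

/-- The weight space of the Eichler elements attached to `U`. -/
abbrev wtt (χ : U × U × Kd.tr.ker → K) : Submodule K M := wt (fun i => R (tt hU hG i)) χ

variable {hU hG R} {χ : U × U × Kd.tr.ker → K} (hχ : wtt hU hG R χ ≠ ⊥)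
include hχ

theorem chi_mul {i j k : U × U × Kd.tr.ker} (h : tt hU hG i * tt hU hG j = tt hU hG k) :
    χ k = χ i * χ j := by
  obtain ⟨x, hx, h0⟩ := (Submodule.ne_bot_iff _).1 hχ
  have h1 := mem_wt.1 hx k
  rw [← h, map_mul, End.mul_apply, mem_wt.1 hx j, map_smul, mem_wt.1 hx i, smul_smul] at h1
  rw [← smul_left_injective K h0 h1, mul_comm]

theorem chi_congr {i j : U × U × Kd.tr.ker} (h : tt hU hG i = tt hU hG j) : χ i = χ j := by
  obtain ⟨x, hx, h0⟩ := (Submodule.ne_bot_iff _).1 hχ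
  have h1 := mem_wt.1 hx i
  rw [h, mem_wt.1 hx j] at h1
  exact (smul_left_injective K h0 h1).symm

theorem chi_zero (u : U) : χ (u, 0, 0) = 1 := by
  obtain ⟨x, hx, h0⟩ := (Submodule.ne_bot_iff _).1 hχ
  have h1 := mem_wt.1 hx (u, 0, 0)
  rw [tt_zero, map_one, End.one_apply] at h1
  exact (smul_left_injective K h0 ((one_smul K x).trans h1)).symm

/-- The additive character `s ↦ χ (u, s v, 0)`. -/
def chiChar (u v : U) : AddChar F K where
  toFun s := χ (u, s • v, 0)
  map_zero_eq_one' := by rw [zero_smul, chi_zero hχ]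
  map_add_eq_mul' s t := chi_mul hχ (by rw [tt_add, add_smul, add_zero])

theorem exists_form [Finite F] {u v : U} (h : χ (u, v, 0) ≠ 1) :
    ∃ (ψ : AddChar F K) (b : U →ₛₗ[σ] U →ₗ[F] F), ψ ≠ 1 ∧ (∀ x y, χ (x, y, 0) = ψ (b x y)) ∧
      ∀ x y, b y x = -Kd.ε * σ (b x y) := by
  obtain ⟨ψ, hψ, hσ⟩ := exists_symm_addChar (ψ := chiChar hχ u v)
    (AddChar.ne_one_iff.2 ⟨1, by simpa [chiChar] using h⟩) Kd.σσ
  choose b hb using fun x y => exists_mulShift hψ (chiChar hχ x y)
  replace hb : ∀ x y s, χ (x, s • y, 0) = ψ (s * b x y) := hb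
  refine ⟨ψ, LinearMap.mk₂'ₛₗ σ (RingHom.id F) b (fun x x' y => eq_of_addChar hψ fun s => ?_)
    (fun c x y => eq_of_addChar hψ fun s => ?_) (fun x y y' => eq_of_addChar hψ fun s => ?_)
    fun c x y => eq_of_addChar hψ fun s => ?_, hψ, fun x y => by simpa using hb x y 1,
    fun x y => eq_of_addChar hψ fun s => ?_⟩
  · rw [mul_add, AddChar.map_add_eq_mul, ← hb, ← hb, ← hb]
    exact chi_mul hχ (tt_add_left _ _ _ _ _)
  · rw [smul_eq_mul, ← mul_assoc, ← hb, ← hb, chi_congr hχ (tt_smul _ _ _ _ _), smul_smul, mul_comm]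
  · rw [mul_add, AddChar.map_add_eq_mul, ← hb, ← hb, ← hb, smul_add]
    exact chi_mul hχ (by rw [tt_add, add_zero])
  · rw [RingHom.id_apply, smul_eq_mul, ← mul_assoc, ← hb, ← hb, smul_smul]
  · change ψ (s * b y x) = ψ (s * (-Kd.ε * σ (b x y)))
    rw [← hb, chi_congr hχ (tt_swap hU hG (s • x) y), chi_congr hχ (tt_smul _ _ _ _ _), smul_smul,
      hb, ← hσ]
    simp [Kd.σσ, Kd.σ_ε, mul_assoc]

omit hχ in
theorem index_le [Finite V] [FiniteDimensional K M] (S : Subgroup ((D.stab U).subgroupOf G))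
    (hS : ∀ g : (D.stab U).subgroupOf G, (∀ u v d, χ (resG U G g u,
      resG U G g v, d) = χ (u, v, d)) → g ∈ S) :
    S.index * finrank K (wtt hU hG R χ) ≤ finrank K M := by
  have := finite_isom (D := D)
  let _ : MulAction ((D.stab U).subgroupOf G) (U × U × Kd.tr.ker) :=
    { smul := fun g i => (resG U G g i.1, resG U G g i.2.1, i.2.2)
      one_smul := fun _ => rfl
      mul_smul := fun _ _ _ => rfl }
  refine index_mul_le (R.comp (Subgroup.subtype _)) _ (fun g i => ?_) χ S fun g hg =>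
    hS g fun u v d => hg (u, v, d)
  change R g.1 * R (tt hU hG (i.1, i.2.1, i.2.2)) = R (tt hU hG (resG U G g _, resG U G g _, _)) * R g.1
  rw [← map_mul, ← map_mul, ← conj_tt, inv_mul_cancel_right]

omit hχ in
include hU hG in
theorem exists_resG_tv [FiniteDimensional F V] (hD : D.Nondeg) {u : U} (φ : U →ₗ[F] F)
    (h : φ u = 0) : ∃ g, ∀ x, resG U G g x = x + φ x • u := by
  obtain ⟨z, hz⟩ := hD.exists_rep_sub U φ
  obtain ⟨d, hd⟩ := exists_isEich (hU.1 _ u.2) (D.eq_zero_symm ((hz u).trans h))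
  have h1 : ∀ x : U, (D.eich u z d hd).1 x = x + φ x • u := fun x => by
    rw [D.eich_apply_of_perp hd (hU.2 _ u.2 _ x.2), hz]
  exact ⟨⟨⟨_, hG _ _ _ hd⟩, D.mem_stab_of_mapsTo fun x hx =>
    (h1 ⟨x, hx⟩).symm ▸ add_mem hx (U.smul_mem _ u.2)⟩, fun x => Subtype.ext (h1 x)⟩

omit hχ in
include hU hG in
theorem exists_resG_map [FiniteDimensional F V] (hD : D.Nondeg) (h2 : 2 ≤ finrank F U) {u v : U}
    (hu : u ≠ 0) (hv : v ≠ 0) : ∃ g, resG U G g u = v := by
  have h1 : ∀ x y : U, x ≠ 0 → y ∉ F ∙ x → ∃ g, resG U G g x = y := fun x y hx hy => by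
    obtain ⟨φ, h3, h4⟩ := LinearMap.exists_extend_of_notMem (0 : (F ∙ (y - x)) →ₗ[F] F)
      (v := x) (fun h => by
        obtain ⟨c, hc⟩ := Submodule.mem_span_singleton.1 h
        have hc0 : c ≠ 0 := by rintro rfl; exact hx (by simpa using hc.symm)
        refine hy (Submodule.mem_span_singleton.2 ⟨1 + c⁻¹, ?_⟩)
        rw [add_smul, one_smul]
        nth_rw 2 [← hc]
        rw [smul_smul, inv_mul_cancel₀ hc0, one_smul, add_sub_cancel]) 1
    obtain ⟨g, hg⟩ := exists_resG_tv (hU := hU) (hG := hG) hD φ (u := y - x)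
      (LinearMap.congr_fun h3 ⟨_, Submodule.mem_span_singleton_self _⟩)
    exact ⟨g, by rw [hg, h4, one_smul, add_sub_cancel]⟩
  by_cases h : v ∈ F ∙ u
  · obtain ⟨w, hw⟩ : ∃ w, w ∉ F ∙ u := by
      by_contra! H
      have := finrank_span_singleton (K := F) hu
      rw [Submodule.eq_top_iff'.2 H, finrank_top] at this
      omega
    obtain ⟨g, hg⟩ := h1 u w hu hw
    obtain ⟨k, hk⟩ := h1 w v (fun h0 => hw (h0 ▸ zero_mem _)) fun h0 => by
      obtain ⟨c, rfl⟩ := Submodule.mem_span_singleton.1 h0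
      exact hw ((Submodule.smul_mem_iff _ (left_ne_zero_of_smul hv)).1 h)
    exact ⟨k * g, by rw [map_mul, LinearEquiv.mul_apply, hg, hk]⟩
  · exact h1 u v hu h

omit hχ in
/-- The basic bound: a transvection acting non-trivially. -/
theorem exists_bound [Finite F] [FiniteDimensional F V] [IsAlgClosed K] [FiniteDimensional K M]
    (hD : D.Nondeg) (hK : (ringChar F : K) ≠ 0) {u : U} {c : F} (h : R (tt hU hG (u, c • u, 0)) ≠ 1)
    (h2 : ∀ v, v ≠ 0 → ∃ g, resG U G g u = v) {k : ℕ} (hk : ∀ c, {a | σ a * a = c}.ncard ≤ k) :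
    ∃ χ, wtt hU hG R χ ≠ ⊥ ∧ χ (u, c • u, 0) ≠ 1 ∧
      (Nat.card U - 1) * finrank K (wtt hU hG R χ) ≤ finrank K M * k := by
  have : Finite V := Module.finite_of_finite F
  have := finite_isom (D := D)
  obtain ⟨χ, hχ, h1⟩ := exists_wt (fun i => R (tt hU hG i)) (fun i j => (tt_comm hU hG i j).map R) hK
    (fun i => by rw [← map_pow, tt_pow, map_one]) h
  obtain ⟨ψ, b, hψ, hb, hs⟩ := exists_form hχ h1
  let S : Subgroup ((D.stab U).subgroupOf G) :=
    { carrier := {g | ∀ x y, b (resG U G g x) (resG U G g y) = b x y}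
      mul_mem' := fun ha hb x y => by
        rw [map_mul, LinearEquiv.mul_apply, LinearEquiv.mul_apply, ha, hb]
      one_mem' := fun _ _ => rfl
      inv_mem' := fun {g} ha x y => by
        rw [← ha, ← LinearEquiv.mul_apply, ← LinearEquiv.mul_apply, ← map_mul, mul_inv_cancel]
        rfl }
  have h3 := index_bound_one (resG U G) b (fun x y h => by rw [hs, h, map_zero, mul_zero])
    (u := u) (fun h0 => h1 (by rw [hb, map_smul, h0, smul_zero, AddChar.map_zero_eq_one])) S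
    (fun g hg => hg) (fun φ hφ => exists_resG_tv (hU := hU) (hG := hG) hD φ hφ) h2 hk
  have h4 := index_le (hU := hU) (hG := hG) (R := R) (χ := χ) S fun g hg x y =>
    eq_of_addChar hψ fun s => by
      have := hg x (s • y) 0
      rwa [hb, hb, map_smul (resG U G g), map_smul (b _), map_smul (b _)] at this
  refine ⟨χ, hχ, h1, (Nat.mul_le_mul_right _ h3).trans ?_⟩
  rw [mul_right_comm]
  exact Nat.mul_le_mul_right _ h4

theorem card_le_sq [Finite F] [FiniteDimensional K M] {u : U} {c : F} (h : χ (u, c • u, 0) ≠ 1)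
    {w : V} (hw : w ∈ D.perp U) (h1 : D.B w w = 1) (hε : Kd.ε = 1) :
    Nat.card F ≤ finrank K (wtt hU hG R χ) ^ 2 := by
  obtain ⟨ψ, b, hψ, hb, -⟩ := exists_form hχ h
  have hu : b u u ≠ 0 := fun h0 => h (by rw [hb, map_smul, h0, smul_zero, AddChar.map_zero_eq_one])
  let C := (D.fix U).subgroupOf G
  have hC : ∀ g : C, ∀ i, g.1 * tt hU hG i = tt hU hG i * g.1 := fun g i => by
    have h2 : ∀ x : U, resG U G ⟨g.1, D.fix_le_stab U g.2⟩ x = x := fun x =>
      Subtype.ext (g.2 _ x.2)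
    have h3 := conj_tt hU hG ⟨g.1, D.fix_le_stab U g.2⟩ i.1 i.2.1 i.2.2
    rwa [h2, h2, mul_inv_eq_iff_eq_mul] at h3
  let R' : C →* End K (wtt hU hG R χ) := Representation.subrepresentation (R.comp C.subtype) _
    fun g x hx => mem_wt.2 fun i => by
      change R _ (R g.1 x) = χ i • R g.1 x
      rw [← End.mul_apply, ← map_mul, ← hC, map_mul, End.mul_apply, mem_wt.1 hx i, map_smul]
  have : Nontrivial (wtt hU hG R χ) := Submodule.nontrivial_iff_ne_bot.2 hχ
  choose d hd using fun s : F => exists_isEich (D := D) (z := s • w) (hU.1 _ u.2)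
    (by rw [D.B_smul_right, hw _ u.2, mul_zero])
  let a : F → C := fun s => ⟨⟨_, hG _ _ _ (hd s)⟩, fun x hx => D.eich_apply_of_perp_perp (hd s)
    (hU.2 _ u.2 _ hx) (by rw [D.B_smul_left, D.eq_zero_symm (hw _ hx), mul_zero])⟩
  refine heis R' a (fun t s => ψ (σ s * t * b u u)) (fun s t => LinearMap.ext fun x => ?_)
    fun t t' htt => mul_right_cancel₀ hu (eq_of_addChar hψ fun s => ?_)
  · have h2 : (a s * a t * (a s)⁻¹).1 = tt hU hG (u, (σ s * t) • u, 0) * (a t).1 := by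
      rw [← mul_inv_eq_iff_eq_mul]
      have h3 : D.IsEich u 0 (D.B (s • w) (t • w) - D.B (t • w) (s • w)) := by
        have h4 := ((hd s).add (hd t)).tr_d
        have h5 := ((hd t).add (hd s)).tr_d
        refine ⟨hU.1 _ u.2, map_zero _, ?_⟩
        rw [map_add, map_add] at h4 h5
        rw [add_comm (t • w)] at h5
        rw [map_sub, D.Q_zero]
        linear_combination h4 - h5
      refine Subtype.ext ((commutator_eich (hd s) (hd t) h3).trans (isom_ext fun x => ?_))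
      rw [tt_apply, eich_apply]
      simp [h1, hε, Kd.σσ]
      module
    refine Subtype.ext ?_
    change R (a s * a t * (a s)⁻¹).1 x = _ • R (a t).1 x
    rw [h2, map_mul, End.mul_apply, show R (a t).1 x = R' (a t) x from rfl,
      mem_wt.1 (R' (a t) x).2, hb, map_smul, smul_eq_mul]
  · have := congrFun htt (σ s)
    simpa [Kd.σσ, mul_assoc] using this

omit hχ in
theorem card_of_finrank [Finite F] [FiniteDimensional F V] {m : ℕ} (h : finrank F U = m) :
    Nat.card U = Nat.card F ^ m := by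
  have : Finite V := Module.finite_of_finite F
  rw [natCard_eq_pow_finrank (K := F), h]

end Cfsg.Lib.Conj

namespace Cfsg.Lib.Conj

open Module Cfsg.Lib.Forms Cfsg.Lib.Forms.Form

variable {F : Type*} [Field F] [Finite F] {V : Type*} [AddCommGroup V] [Module F V]
  [FiniteDimensional F V] {K M : Type*} [Field K] [AddCommGroup M] [Module K M] [IsAlgClosed K]
  [FiniteDimensional K M]

section Sp
variable {D : Form (altKind F) V} (hD : D.Nondeg) {n : ℕ} (hn : finrank F V = 2 * n) (h2 : 2 ≤ n)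
  (hK : (ringChar F : K) ≠ 0)
include hD hn h2 hK

theorem sp_bound_odd' (hF : (2 : F) ≠ 0) (R : D.isom →* End K M) {e : V} (he : e ≠ 0) {c : F}
    (hR : R (Symp.tv D e c) ≠ 1) : Nat.card F ^ n - 1 ≤ finrank K M * 2 := by
  obtain ⟨U', hU1, hU'⟩ := Symp.hasTS hD hn.ge
  have : Nontrivial U' := nontrivial_of_finrank_pos (hU1 ▸ (by omega : 0 < n))
  obtain ⟨u', hu'⟩ := exists_ne (0 : U')
  obtain ⟨g, hg⟩ := Symp.exists_map hD (fun h => hu' (Subtype.ext h)) he
  have hU := hU'.map (f := g.1.toLinearMap) g.2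
  rw [← LinearEquiv.finrank_map_eq g.1] at hU1
  set U := U'.map g.1.toLinearMap
  let u : U := ⟨e, u', u'.2, hg⟩
  have hu : u ≠ 0 := fun h => he (congrArg Subtype.val h)
  obtain ⟨χ, hχ, -, h⟩ := exists_bound (hU := hU) (hG := fun _ _ _ _ => Subgroup.mem_top _)
    (R := R.comp (Subgroup.subtype _)) hD hK (u := u) (c := c / 2) (fun h => hR (by
      rw [← h]
      refine congrArg R (isom_ext fun x => ?_)
      refine Eq.trans ?_ (tt_apply hU (G := ⊤) (fun _ _ _ _ => Subgroup.mem_top _) _ x).symm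
      rw [Symp.tv_apply]
      simp [u]
      match_scalars
      · rfl
      · field_simp; ring))
    (fun v hv => exists_resG_map (hU := hU) (hG := fun _ _ _ _ => Subgroup.mem_top _) hD
      (hU1 ▸ h2) hu hv) (k := 2) fun c => by
        simpa [sq, ← sub_eq_add_neg, sub_eq_zero] using ncard_quad_le (b := 0) (c := -c) one_ne_zero
  rw [card_of_finrank hU1] at h
  exact (Nat.le_mul_of_pos_right _ (Nat.pos_of_ne_zero (mt Submodule.finrank_eq_zero.1 hχ))).trans h

theorem sp_bound_odd (hF : (2 : F) ≠ 0) (R : D.isom →* End K M)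
    (hR : R.ker ≤ Subgroup.center _) : Nat.card F ^ n - 1 ≤ finrank K M * 2 := by
  obtain ⟨e, f, h⟩ := Symp.exists_isHyp hD (by omega)
  refine sp_bound_odd' hD hn h2 hK hF R h.e_ne_zero (c := 1) fun h1 => ?_
  obtain ⟨c, hc⟩ := (h.mem_center_iff hD (Symp.rich D 3) (G := ⊤) (fun _ _ _ _ => Subgroup.mem_top _)
    ⟨Symp.tv D e 1, trivial⟩).1 (Subgroup.mem_center_iff.2 fun g =>
      Subtype.ext (Subgroup.mem_center_iff.1 (hR h1) g.1))
  have h3 := congrArg (D.B e) (hc f)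
  have h4 := congrArg (D.B f) (hc f)
  simp [Symp.tv_apply, h.B_ef, h.B_ee, h.B_ff, h.B_fe] at h3 h4

theorem sp_bound_even (hF : (2 : F) = 0) (R : D.isom →* End K M)
    (hR : R.ker ≤ Subgroup.center _) :
    (Nat.card F ^ n - 1) * (Nat.card F ^ n - Nat.card F) ≤ finrank K M * (2 * (Nat.card F + 1)) := by
  have : Finite V := Module.finite_of_finite F
  have := finite_isom (D := D)
  obtain ⟨U, hU1, hU⟩ := Symp.hasTS hD hn.ge
  have hG : ∀ e z d h, D.eich e z d h ∈ (⊤ : Subgroup D.isom) := fun _ _ _ _ => Subgroup.mem_top _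
  obtain ⟨w, hw⟩ := exists_linearIndependent_of_le_finrank (R := F) (M := U) (hU1 ▸ h2)
  have h3 : (w 0 : V) ∉ F ∙ (w 1 : V) := fun h => by
    obtain ⟨c, hc⟩ := Submodule.mem_span_singleton.1 h
    have := (LinearIndependent.pair_iff.1 (show LinearIndependent F ![w 0, w 1] by
      convert hw; ext i; fin_cases i <;> rfl) 1 (-c) (Subtype.ext (by simp [hc]))).1
    exact one_ne_zero this
  obtain ⟨f, hf, hf'⟩ := hD.exists_perp_B_eq' h3 1
  rw [mem_perp_span_singleton] at hf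
  have h4 : tt hU hG (w 0, w 1, 0) ≠ 1 := fun h => by
    have h5 := tt_apply hU hG (w 0, w 1, 0) f
    rw [h] at h5
    simp [hf, hf'] at h5
    exact hw.ne_zero 1 h5
  obtain ⟨χ, hχ, h1⟩ := exists_wt (fun i => (R.comp (Subgroup.subtype _)) (tt hU hG i))
    (fun i j => (tt_comm hU hG i j).map _) hK (fun i => by rw [← map_pow, tt_pow, map_one])
    (i := (w 0, w 1, 0)) fun h => tt_not_mem_center hU hG hD (Symp.rich D 3) h4
      (Subgroup.mem_center_iff.2 fun g => Subtype.ext (Subgroup.mem_center_iff.1 (hR h) g.1))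
  obtain ⟨ψ, b, hψ, hb, -⟩ := exists_form hχ h1
  choose Q hQ using fun x : U => exists_mulShift hψ
    { toFun := fun d => χ (x, 0, ⟨d, rfl⟩)
      map_zero_eq_one' := chi_zero hχ x
      map_add_eq_mul' := fun s t => chi_mul hχ (by rw [tt_add, add_zero]; rfl) }
  replace hQ : ∀ x d, χ (x, 0, ⟨d, rfl⟩) = ψ (d * Q x) := hQ
  have hQ1 : ∀ x y, Q (x + y) = Q x + Q y + b x y := fun x y => eq_of_addChar hψ fun s => by
    have h5 : tt hU hG (x, s • y, ⟨s, rfl⟩) * tt hU hG (y, 0, ⟨s, rfl⟩) =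
        tt hU hG (x + y, 0, ⟨s, rfl⟩) :=
      Subtype.ext (isom_ext fun x => by simp only [tt_mul_apply, tt_apply]; simp; module)
    have h6 := chi_mul hχ (tt_add hU hG x 0 (s • y) ⟨s, rfl⟩ 0)
    rw [zero_add, add_zero] at h6
    rw [← hQ, chi_mul hχ h5, h6, hQ, hQ, hb, map_smul, ← AddChar.map_add_eq_mul,
      ← AddChar.map_add_eq_mul, smul_eq_mul]
    congr 1; ring
  have hQ2 : ∀ (c : F) x, Q (c • x) = c ^ 2 * Q x := fun c x => eq_of_addChar hψ fun s => by
    rw [← mul_assoc, ← hQ, ← hQ]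
    exact chi_congr hχ (Subtype.ext (isom_ext fun x => by simp only [tt_apply]; simp; module))
  have h5 : b (w 0) (w 1) ≠ 0 := fun h => h1 (by rw [hb, h, AddChar.map_zero_eq_one])
  obtain ⟨u, v, huv, hu⟩ : ∃ u v, b u v ≠ 0 ∧ Q u ≠ 0 := by
    by_cases h6 : Q (w 0) = 0
    · by_cases h7 : Q (w 1) = 0
      · exact ⟨w 0 + w 1, w 1, by simpa [quad_self hF hQ1 hQ2] using h5, by simpa [hQ1, h6, h7]⟩
      · exact ⟨w 1, w 0, quad_symm hQ1 (w 0) (w 1) ▸ h5, h7⟩
    · exact ⟨w 0, w 1, h5, h6⟩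
  let S : Subgroup ((D.stab U).subgroupOf ⊤) :=
    { carrier := {g | ∀ x, Q (resG U ⊤ g x) = Q x}
      mul_mem' := fun ha hb x => by rw [map_mul, LinearEquiv.mul_apply, ha, hb]
      one_mem' := fun _ => rfl
      inv_mem' := fun {g} ha x => by
        rw [← ha, ← LinearEquiv.mul_apply, ← map_mul, mul_inv_cancel]
        rfl }
  have h6 := index_bound_two (resG U ⊤) hF hQ1 hQ2 huv hu S (fun g hg => hg) fun φ => by
    obtain ⟨g, hg⟩ := hU.resLin_surjective hD φ
    exact ⟨⟨⟨g.1, trivial⟩, g.2⟩, hg⟩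
  have h7 := index_le (hU := hU) (hG := hG) (R := R.comp (Subgroup.subtype _)) (χ := χ) S
    fun g hg x => eq_of_addChar hψ fun s => by rw [← hQ, ← hQ, ← hg x 0, map_zero]
  rw [card_of_finrank hU1] at h6
  refine h6.trans (Nat.mul_le_mul_right _ (le_trans ?_ h7))
  exact Nat.le_mul_of_pos_right _ (Nat.pos_of_ne_zero (mt Submodule.finrank_eq_zero.1 hχ))

end Sp

section SU
variable {σ : F →+* F} {q : ℕ} {h : IsConj σ q} {D : Form h.kind V} (hD : D.Nondeg)
  (hn : 3 ≤ finrank F V) (hK : (ringChar F : K) ≠ 0) (R : D.det.ker →* End K M)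
  (hR : R.ker ≤ Subgroup.center _)
include hD hn hK hR

theorem su_bound {U : Submodule F V} (hU : D.IsTS U) (h2 : finrank F V ≤ 2 * finrank F U + 1) :
    ∃ (χ : _) (u : U) (c : F), wtt hU (fun _ _ _ _ => E_le_ker_det (eich_mem_E _ _ _ _)) R χ ≠ ⊥ ∧
      χ (u, c • u, 0) ≠ 1 ∧ (Nat.card U - 1) *
        finrank K (wtt hU (fun _ _ _ _ => E_le_ker_det (eich_mem_E _ _ _ _)) R χ) ≤
          finrank K M * (q + 1) := by
  have hG : ∀ e z d h, D.eich e z d h ∈ D.det.ker := fun _ _ _ _ => E_le_ker_det (eich_mem_E _ _ _ _)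
  have : Nontrivial U := nontrivial_of_finrank_pos (R := F) (by omega)
  obtain ⟨u, hu⟩ := exists_ne (0 : U)
  obtain ⟨c, hc⟩ := h.exists_not_fixed
  have hu' : (u : V) ≠ 0 := fun h => hu (Subtype.ext h)
  obtain ⟨f, hf⟩ := hD.exists_isHyp (hU.1 _ u.2) hu'
  have h4 : tt hU hG (u, c • u, 0) ≠ 1 := fun h => by
    have h5 := tt_apply hU hG (u, c • u, 0) f
    rw [h] at h5
    simp [hf.B_ef, add_sub_assoc, ← sub_smul, hu', sub_eq_zero] at h5
    exact hc h5
  obtain ⟨χ, h5⟩ := exists_bound (hU := hU) (hG := hG) (R := R) hD hK (u := u) (c := c)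
    (fun h => tt_not_mem_center hU hG hD (Herm.rich D 3) h4 (hR h)) (fun v hv => by
      by_cases h3 : 2 ≤ finrank F U
      · exact exists_resG_map (hU := hU) (hG := hG) hD h3 hu hv
      obtain ⟨g, hg, hgu⟩ := Herm.exists_mem_E_map hD hn hu' (y := v)
        (fun h => hv (Subtype.ext h)) ((hU.1 _ u.2).trans (hU.1 _ v.2).symm)
      refine ⟨⟨⟨g, E_le_ker_det hg⟩, D.mem_stab_of_mapsTo fun x hx => ?_⟩, Subtype.ext hgu⟩
      obtain ⟨a, ha⟩ := (finrank_eq_one_iff_of_nonzero' (K := F) u hu).1 (by omega) ⟨x, hx⟩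
      change g.1 x ∈ U
      rw [← show a • (u : V) = x from congrArg Subtype.val ha, map_smul, hgu]
      exact U.smul_mem _ v.2) (k := q + 1) fun c => by
      by_cases h0 : c = 0
      · rw [show {a | σ a * a = c} = {0} by ext; simp [h0]]
        simp
      rcases Set.eq_empty_or_nonempty {a | σ a * a = c} with h1 | ⟨a, rfl⟩
      · rw [h1]; simp
      · rw [← h.card_norm_eq (a := σ a * a) (by simp [h.σσ, mul_comm]) h0]
        simp only [mul_comm (σ _)]
        rfl
  exact ⟨χ, u, c, h5⟩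

theorem su_bound_even (h2 : Even (finrank F V)) : q ^ finrank F V - 1 ≤ finrank K M * (q + 1) := by
  obtain ⟨m, hm⟩ := h2
  obtain ⟨U, hU1, hU⟩ := Herm.hasTS (m := m) hD (by omega)
  obtain ⟨χ, -, -, hχ, -, h1⟩ := su_bound hD hn hK R hR hU (by omega)
  rw [card_of_finrank hU1, h.card, ← pow_mul, two_mul, ← hm] at h1
  exact (Nat.le_mul_of_pos_right _ (Nat.pos_of_ne_zero (mt Submodule.finrank_eq_zero.1 hχ))).trans h1

theorem su_bound_odd (h2 : Odd (finrank F V)) : q ^ finrank F V - q ≤ finrank K M * (q + 1) := by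
  obtain ⟨m, hm⟩ := h2
  obtain ⟨U, hU1, hU⟩ := Herm.hasTS (m := m) hD (by omega)
  obtain ⟨χ, u, c, hχ, h0, h1⟩ := su_bound hD hn hK R hR hU (by omega)
  obtain ⟨U', hU'⟩ := hU.exists_isDual hD
  have h3 := hU'.finrank_perp hD
  have : Nontrivial (D.perp (U ⊔ U')) := nontrivial_of_finrank_pos (R := F) (by omega)
  obtain ⟨w, hw⟩ := Herm.exists_Q_eq (hU'.nondeg_perp hD) (map_one σ)
  have h4 := card_le_sq hχ h0 (D.perp_anti le_sup_left w.2) ((herm_Q D _).symm.trans hw) rfl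
  rw [h.card, Nat.pow_le_pow_iff_left two_ne_zero] at h4
  rw [card_of_finrank hU1, h.card, ← pow_mul] at h1
  rw [hm, pow_succ, ← Nat.sub_one_mul]
  exact (Nat.mul_le_mul_left _ h4).trans h1

end SU

end Cfsg.Lib.Conj
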