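import Cfsg.Agent.Lib.Conj.Wt

/-!
Index bounds for stabilisers of forms in linear groups.
-/

set_option autoImplicit false

namespace Cfsg.Lib.Conj

open Module

theorem ncard_le_mul {α β : Type*} [Finite α] [Finite β] (f : α → β) {s : Set α} {t : Set β}
    (hf : ∀ a ∈ s, f a ∈ t) {n : ℕ} (hn : ∀ b ∈ t, {a | a ∈ s ∧ f a = b}.ncard ≤ n) :
    s.ncard ≤ n * t.ncard := by
  classical
  rw [Set.ncard_eq_toFinset_card s, Set.ncard_eq_toFinset_card t]
  refine Finset.card_le_mul_card_image_of_maps_to (f := f) (by simpa using hf) n fun b hb => ?_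
  refine le_trans (le_of_eq ?_) (hn b (by simpa using hb))
  rw [← Set.ncard_coe_finset]
  congr 1
  ext; simp

variable {F U : Type*} [Field F] [Finite F] [AddCommGroup U] [Module F U] [Finite U]

theorem ncard_quad_le {a b c : F} (ha : a ≠ 0) : {x | a * x ^ 2 + b * x + c = 0}.ncard ≤ 2 := by
  classical
  let p : Polynomial F := Polynomial.C a * Polynomial.X ^ 2 + Polynomial.C b * Polynomial.X +
    Polynomial.C c
  have h1 : p.natDegree = 2 := Polynomial.natDegree_quadratic ha
  have h2 : p ≠ 0 := fun h => by rw [h] at h1; simp at h1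
  have h3 : {x | a * x ^ 2 + b * x + c = 0} = (p.roots.toFinset : Set F) := by
    ext x; simp [h2, p]
  rw [h3, Set.ncard_coe_finset, ← h1]
  exact (Multiset.toFinset_card_le _).trans (Polynomial.card_roots' p)

theorem card_dual : Nat.card (U →ₗ[F] F) = Nat.card U := by
  have : Finite (U →ₗ[F] F) := Module.finite_of_finite F
  rw [natCard_eq_pow_finrank (K := F) (V := U →ₗ[F] F), natCard_eq_pow_finrank (K := F) (V := U)]
  exact congrArg _ Subspace.dual_finrank_eq

variable {H : Type*} [Group H] [Finite H] (π : H →* (U ≃ₗ[F] U))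

theorem index_bound_one {σ : F →+* F} (b : U →ₛₗ[σ] U →ₗ[F] F) (hb : ∀ u v, b u v = 0 → b v u = 0)
    {u : U} (hu : b u u ≠ 0) (S : Subgroup H) (hS : ∀ g ∈ S, ∀ x y, b (π g x) (π g y) = b x y)
    (h1 : ∀ φ : U →ₗ[F] F, φ u = 0 → ∃ g, ∀ x, π g x = x + φ x • u)
    (h2 : ∀ v, v ≠ 0 → ∃ g, π g u = v) {k : ℕ} (hk : ∀ c, {a | σ a * a = c}.ncard ≤ k) :
    Nat.card U - 1 ≤ S.index * k := by
  let _ : MulAction H U := MulAction.compHom U π
  let W := LinearMap.ker (b u)
  let P : U →ₗ[F] W := (LinearMap.id - ((b u u)⁻¹ • b u).smulRight u).codRestrict W fun x => by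
    simp [W, mul_comm, ← mul_assoc, hu]
  have hP : ∀ x, (P x : U) = x - ((b u u)⁻¹ * b u x) • u := fun x => rfl
  have hPu : P u = 0 := Subtype.ext (by simp [hP, hu])
  have hPw : ∀ w : W, P w = w := fun w => Subtype.ext (by
    rw [hP, show b u w = 0 from w.2]; simp)
  choose g hg using fun φ : W →ₗ[F] F => h1 (φ ∘ₗ P) (by simp [hPu])
  have hgu : ∀ φ, π (g φ) u = u := fun φ => by simp [hg, hPu]
  have h := orbit_mul_le S u g hgu (fun i j hij => by
    refine LinearMap.ext fun w => ?_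
    have h3 := hS _ hij (π (g j) u) (π (g j) w)
    simp only [← LinearEquiv.mul_apply, ← map_mul, inv_mul_cancel_right] at h3
    simp only [hgu, hg, map_add, map_smul, LinearMap.comp_apply, hPw, add_right_inj,
      smul_eq_mul] at h3
    exact mul_right_cancel₀ hu h3) (L := {v | b v v = b u u}) (Set.toFinite _) fun s hs => hS s hs u u
  have h3 : MulAction.orbit H u = {0}ᶜ := by
    ext v
    refine ⟨?_, fun hv => h2 v hv⟩
    rintro ⟨g, rfl⟩ h0
    have : u = 0 := (π g).map_eq_zero_iff.1 h0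
    exact hu (by simp [this])
  have h4 : {v | b v v = b u u}.ncard ≤ k * Nat.card W := by
    rw [← Set.ncard_univ]
    refine ncard_le_mul P (fun _ _ => Set.mem_univ _) fun w _ => le_trans ?_
      (hk ((b u u - b w w) / b u u))
    refine Set.ncard_le_ncard_of_injOn (fun x => (b u u)⁻¹ * b u x) ?_ ?_
    · rintro x ⟨hx, rfl⟩
      obtain ⟨a, ha⟩ : ∃ a, a = (b u u)⁻¹ * b u x := ⟨_, rfl⟩
      have h5 : x = a • u + P x := by rw [hP, ← ha]; abel
      have h6 : b u (P x) = 0 := (P x).2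
      have h7 : b x x = σ a * a * b u u + b (P x) (P x) := by
        conv_lhs => rw [h5]
        simp [h6, hb _ _ h6]; ring
      change σ _ * _ = _
      rw [← ha, eq_div_iff hu, ← hx.trans rfl]
      have h8 : b x x = b u u := hx
      linear_combination σ a * a * h8 - h7
    · rintro x ⟨-, hx⟩ y ⟨-, hy⟩ hxy
      have h5 := congrArg Subtype.val (hx.trans hy.symm)
      rw [hP, hP, show (b u u)⁻¹ * b u x = _ from hxy] at h5
      exact sub_left_injective h5
  rw [h3, Set.ncard_compl, Set.ncard_singleton, card_dual] at h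
  have h5 : 0 < Nat.card W := Nat.card_pos
  refine Nat.le_of_mul_le_mul_right (h.trans ?_) h5
  rw [mul_assoc]
  exact Nat.mul_le_mul_left _ h4

omit [Finite F] [Finite U] in
theorem exists_equiv_of_li {ι : Type*} [Finite ι] {v w : ι → U} (hv : LinearIndependent F v)
    (hw : LinearIndependent F w) : ∃ g : U ≃ₗ[F] U, ∀ i, g (v i) = w i := by
  have : FiniteDimensional F (Submodule.span F (Set.range v)) :=
    FiniteDimensional.span_of_finite F (Set.finite_range _)
  obtain ⟨g, hg⟩ := Submodule.exists_linearEquiv_restrict_eq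
    (hv.linearCombinationEquiv.symm ≪≫ₗ hw.linearCombinationEquiv)
  refine ⟨g, fun i => ?_⟩
  have h1 : hv.linearCombinationEquiv (Finsupp.single i 1) = v i := by simp
  rw [← h1, ← hg]
  simp

section Quad
variable {Q : U → F} {b : U →ₗ[F] U →ₗ[F] F} (h2 : (2 : F) = 0)
  (hQ : ∀ x y, Q (x + y) = Q x + Q y + b x y) (hQ' : ∀ (c : F) x, Q (c • x) = c ^ 2 * Q x)
include h2 hQ hQ'

omit [Finite F] [Finite U] in
theorem quad_self (x : U) : b x x = 0 := by
  have h1 := hQ x x
  rw [← two_smul F x, hQ'] at h1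
  linear_combination (Q x) * h2 - h1

omit [Finite F] [Finite U] h2 hQ' in
theorem quad_symm (x y : U) : b x y = b y x := by
  have h1 := hQ x y
  rw [add_comm x, hQ] at h1
  linear_combination -h1

theorem card_ker_pair {u v : U} (h : b u v ≠ 0) :
    Nat.card ↥(LinearMap.ker (b u) ⊓ LinearMap.ker (b v)) * Nat.card F ^ 2 = Nat.card U := by
  have h3 : LinearMap.range ((b u).prod (b v)) = ⊤ := by
    rw [LinearMap.range_eq_top]
    rintro ⟨s, t⟩
    refine ⟨(t / b u v) • u + (s / b u v) • v, ?_⟩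
    simp [quad_self h2 hQ hQ', quad_symm hQ v u, h]
  have h4 := LinearMap.finrank_range_add_finrank_ker ((b u).prod (b v))
  rw [h3, LinearMap.ker_prod, finrank_top, finrank_prod, finrank_self] at h4
  rw [natCard_eq_pow_finrank (K := F) (V := U), natCard_eq_pow_finrank (K := F), ← pow_add, ← h4,
    add_comm]

theorem ncard_level_le {u v : U} (h : b u v ≠ 0) (hu : Q u ≠ 0) :
    {x | Q x = Q u}.ncard ≤
      (Nat.card F + 1) * Nat.card ↥(LinearMap.ker (b u) ⊓ LinearMap.ker (b v)) := by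
  have h1 := card_ker_pair h2 hQ hQ' h
  set W := LinearMap.ker (b u) ⊓ LinearMap.ker (b v)
  have hsq : Function.Injective fun a : F => a ^ 2 := fun a c (hac : a ^ 2 = c ^ 2) => by
    have : (a - c) ^ 2 = 0 := by linear_combination hac + (c ^ 2 - a * c) * h2
    exact sub_eq_zero.1 (pow_eq_zero_iff two_ne_zero |>.1 this)
  choose r hr using Finite.injective_iff_surjective.1 hsq
  replace hr : ∀ c, r c ^ 2 = c := hr
  have hr0 : ∀ w : W, Q (r (-Q w / Q u) • u + w) = 0 := fun w => by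
    rw [hQ, hQ', hr, LinearMap.map_smul₂, show b u w = 0 from w.2.1]
    simp [hu]
  let f : Fˣ × {x | Q x = Q u} ⊕ W → U := Sum.elim (fun t => t.1.1 • t.2.1)
    fun w => r (-Q w / Q u) • u + w
  have hf : Function.Injective f := by
    have h3 : ∀ (t : Fˣ × {x | Q x = Q u}), Q (t.1.1 • t.2.1) = t.1.1 ^ 2 * Q u := fun t => by
      rw [hQ', show Q t.2.1 = Q u from t.2.2]
    refine Function.Injective.sumElim (fun s t (hst : s.1.1 • s.2.1 = t.1.1 • t.2.1) => ?_)
      (fun w w' (hw : _ + w.1 = _ + w'.1) => ?_) fun t w (hw : t.1.1 • t.2.1 = _ + w.1) => ?_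
    · have h4 := h3 s
      rw [hst, h3] at h4
      have h5 : s.1 = t.1 := Units.ext (hsq (mul_right_cancel₀ hu h4)).symm
      rw [h5] at hst
      exact Prod.ext h5 (Subtype.ext (smul_right_injective U t.1.ne_zero hst))
    · have h4 := congrArg (b v) hw
      simp only [map_add, map_smul, show b v w = 0 from w.2.2, show b v w' = 0 from w'.2.2,
        add_zero, smul_eq_mul] at h4
      rw [mul_right_cancel₀ (quad_symm hQ u v ▸ h) h4] at hw
      exact Subtype.ext (add_left_cancel hw)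
    · have h4 := h3 t
      rw [hw, hr0] at h4
      exact mul_ne_zero (pow_ne_zero 2 t.1.ne_zero) hu h4.symm
  have h3 := Nat.card_le_card_of_injective f hf
  rw [Nat.card_sum, Nat.card_prod, Nat.card_units, Nat.card_coe_set_eq, ← h1] at h3
  obtain ⟨q, hq⟩ : ∃ q, Nat.card F = q + 2 := ⟨Nat.card F - 2, by
    have := Finite.one_lt_card (α := F); omega⟩
  rw [hq] at h3 ⊢
  refine Nat.le_of_mul_le_mul_left (?_ : (q + 1) * _ ≤ (q + 1) * _) q.succ_pos
  change (q + 1) * _ + _ ≤ _ at h3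
  nlinarith

theorem index_bound_two {u v : U} (h : b u v ≠ 0) (hu : Q u ≠ 0) (S : Subgroup H)
    (hS : ∀ g ∈ S, ∀ x, Q (π g x) = Q x) (hπ : Function.Surjective π) :
    (Nat.card U - 1) * (Nat.card U - Nat.card F) ≤ S.index * (2 * (Nat.card F + 1)) := by
  let _ : MulAction H U := MulAction.compHom U π
  let _ := Fintype.ofFinite F
  have hW := card_ker_pair h2 hQ hQ' h
  have hL := ncard_level_le h2 hQ hQ' h hu
  have hs := quad_self h2 hQ hQ'
  have hvu := quad_symm hQ v u
  set W := LinearMap.ker (b u) ⊓ LinearMap.ker (b v)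
  let P : U →ₗ[F] W := (LinearMap.id - ((b u v)⁻¹ • b v).smulRight u -
    ((b u v)⁻¹ • b u).smulRight v).codRestrict W fun x => by
      simp [W, hs, hvu, mul_comm, ← mul_assoc, h]
  have hP : ∀ x, (P x : U) = x - ((b u v)⁻¹ * b v x) • u - ((b u v)⁻¹ * b u x) • v := fun x => rfl
  have hPu : P u = 0 := Subtype.ext (by simp [hP, h, hs, hvu])
  have hPv : P v = 0 := Subtype.ext (by simp [hP, h, hs])
  have hPw : ∀ w : W, P w = w := fun w => Subtype.ext (by
    rw [hP, show b u w = 0 from w.2.1, show b v w = 0 from w.2.2]; simp)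
  have h1 : ∀ φ : (W →ₗ[F] F) × (W →ₗ[F] F), ∃ g, ∀ x,
      π g x = x + φ.1 (P x) • u + φ.2 (P x) • v := fun φ => by
    let N : U →ₗ[F] U := (φ.1 ∘ₗ P).smulRight u + (φ.2 ∘ₗ P).smulRight v
    have hN : ∀ x, N (N x) = 0 := fun x => by simp [N, hPu, hPv]
    obtain ⟨g, hg⟩ := hπ (LinearEquiv.ofLinear (LinearMap.id + N) (LinearMap.id - N)
      (by ext x; simp [hN]) (by ext x; simp [hN]))
    exact ⟨g, fun x => by rw [hg, add_assoc]; rfl⟩
  choose g hg using h1
  have hgu : ∀ φ, π (g φ) u = u := fun φ => by simp [hg, hPu]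
  have hgv : ∀ φ, π (g φ) v = v := fun φ => by simp [hg, hPv]
  have hli : LinearIndependent F ![u, v] := LinearIndependent.pair_iff.2 fun s t hst => by
    have h3 := congrArg (b u) hst
    have h4 := congrArg (b v) hst
    simp [hs, h, hvu] at h3 h4
    exact ⟨h4, h3⟩
  have hb : ∀ s ∈ S, ∀ x y, b (π s x) (π s y) = b x y := fun s hs x y => by
    have h3 := hS s hs (x + y)
    rw [map_add, hQ, hQ, hS s hs, hS s hs] at h3
    exact add_left_cancel h3
  have h0 := orbit_mul_le S ![u, v] g (fun φ => by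
    ext i; fin_cases i
    · exact hgu φ
    · exact hgv φ) (fun i j hij => by
    have h3 := fun x y => hb _ hij (π (g j) x) (π (g j) y)
    simp only [← LinearEquiv.mul_apply, ← map_mul, inv_mul_cancel_right] at h3
    refine Prod.ext (LinearMap.ext fun w => ?_) (LinearMap.ext fun w => ?_)
    · simpa [hgv, hg, hPw, hs, hvu, h] using h3 v w
    · simpa [hgu, hg, hPw, hs, h] using h3 u w)
    (L := {x | Q (x 0) = Q u ∧ Q (x 1) = Q v ∧ b (x 0) (x 1) = b u v}) (Set.toFinite _)
    fun s hs => ⟨hS s hs u, hS s hs v, hb s hs u v⟩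
  have h3 : (MulAction.orbit H ![u, v]).ncard = (Nat.card U - 1) * (Nat.card U - Nat.card F) := by
    have h4 : MulAction.orbit H ![u, v] = {s | LinearIndependent F s} := by
      ext s
      constructor
      · rintro ⟨k, rfl⟩
        exact hli.map' (π k).toLinearMap (π k).ker
      · intro hs
        obtain ⟨e, he⟩ := exists_equiv_of_li hli hs
        obtain ⟨k, rfl⟩ := hπ e
        exact ⟨k, funext he⟩
    rw [h4, ← Nat.card_coe_set_eq, natCard_eq_pow_finrank (K := F) (V := U),
      Nat.card_eq_fintype_card (α := F)]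
    refine (card_linearIndependent (K := F) (V := U) (k := 2)
      (by simpa using hli.fintype_card_le_finrank)).trans ?_
    simp
  have h4 : {x : Fin 2 → U | Q (x 0) = Q u ∧ Q (x 1) = Q v ∧ b (x 0) (x 1) = b u v}.ncard ≤
      (2 * Nat.card W) * {x | Q x = Q u}.ncard := by
    refine ncard_le_mul (fun x => x 0) (fun x hx => hx.1) fun y hy => ?_
    rcases Set.eq_empty_or_nonempty {a | a ∈ {x : Fin 2 → U | Q (x 0) = Q u ∧ Q (x 1) = Q v ∧
      b (x 0) (x 1) = b u v} ∧ a 0 = y} with h5 | ⟨z, ⟨-, hz1, hz2⟩, rfl⟩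
    · rw [h5]; simp
    have h5 := card_ker_pair h2 hQ hQ' (hz2 ▸ h)
    rw [← hW, Nat.mul_left_inj (pow_ne_zero 2 Nat.card_pos.ne')] at h5
    rw [← h5]
    refine ncard_le_mul (t := (↑(LinearMap.ker (b (z 0)) ⊓ LinearMap.ker (b (z 1))) : Set U)) (fun x => x 1 - z 1 - ((b u v)⁻¹ * b (z 1) (x 1)) • z 0) ?_ fun w hw => ?_
    · rintro x ⟨⟨-, -, hx⟩, hx0⟩
      rw [hx0] at hx
      simp [hs, hx, hz2, quad_symm hQ (z 1) (z 0), mul_comm, ← mul_assoc, h]
    refine le_trans (Set.ncard_le_ncard_of_injOn (fun x => (b u v)⁻¹ * b (z 1) (x 1)) ?_ ?_)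
      (ncard_quad_le (b := b u v) (c := Q w) hu)
    · rintro x ⟨⟨⟨-, hx, -⟩, -⟩, hxw⟩
      obtain ⟨a, ha⟩ : ∃ a, a = (b u v)⁻¹ * b (z 1) (x 1) := ⟨_, rfl⟩
      simp only [← ha] at hxw
      change _ * (_ * _) ^ 2 + _ * (_ * _) + _ = _
      rw [← ha]
      have h6 : x 1 = a • z 0 + (z 1 + w) := by rw [← hxw]; abel
      have h7 : b (z 0) w = 0 := hw.1
      have h8 : b (z 1) w = 0 := hw.2
      rw [h6, hQ, hQ, hQ', hz1, show Q (z 0) = Q u from hy] at hx
      simp only [map_smul, map_add, LinearMap.smul_apply, hz2, h7, h8, smul_eq_mul] at hx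
      linear_combination hx
    · rintro x ⟨⟨-, hx0⟩, hx⟩ x' ⟨⟨-, hx0'⟩, hx'⟩ hxx
      have h6 := hx.trans hx'.symm
      simp only [show (b u v)⁻¹ * b (z 1) (x 1) = _ from hxx, sub_left_inj] at h6
      ext i; fin_cases i
      · exact hx0.trans hx0'.symm
      · exact h6
  rw [h3, Nat.card_prod, card_dual] at h0
  have h5 : 0 < Nat.card W * Nat.card W := Nat.mul_pos Nat.card_pos Nat.card_pos
  refine Nat.le_of_mul_le_mul_right (h0.trans ?_) h5
  rw [mul_assoc]
  refine Nat.mul_le_mul_left _ (h4.trans ((Nat.mul_le_mul_left _ hL).trans (le_of_eq ?_)))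
  ring

end Quad

end Cfsg.Lib.Conj
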