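import Cfsg.Agent.Lib.Conj.BalO
import Cfsg.Agent.Lib.Conj.SpecO

/-! Splitting of classes in the even-dimensional orthogonal groups. -/

set_option autoImplicit false

namespace Cfsg.Lib.Conj

open Cfsg.Lib.Forms Cfsg.Lib.Forms.Form Cfsg.Lib.Known Cfsg.Lib.CAut Module

universe u

variable {F : Type*} [Field F] {V : Type u} [AddCommGroup V] [Module F V] {D : Form (quadKind F) V} {g : D.isom}

theorem isIsometry_of_B (h2 : (2 : F) ≠ 0) {z : V → V} (h : ∀ u v, D.B (z u) (z v) = D.B u v) : IsIsometry D D z :=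
  ⟨h, fun x => mul_left_cancel₀ h2 (by rw [← quad_B_self, ← quad_B_self, h])⟩

theorem isTS_of_le (h2 : (2 : F) ≠ 0) {T : Submodule F V} (h : T ≤ D.perp T) : D.IsTS T :=
  isTS_quad fun u hu => (mul_eq_zero.1 ((quad_B_self D u).symm.trans (h hu u hu))).resolve_left h2

variable [Finite F] [FiniteDimensional F V] {hD : D.Nondeg}

/-- The centraliser of `g` in `SO` is not contained in `Ω`. -/
def Spn (hD : D.Nondeg) (g : D.isom) : Prop := ∃ z, z * g = g * z ∧ dickson hD z = 1 ∧ spinor hD z = -1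

theorem Spn.ext {W W' : Submodule F V} (h : D.IsOrthCompl W W') (h1 : ∀ v ∈ W, g.1 v ∈ W) (h2 : ∀ v ∈ W', g.1 v ∈ W')
    (H : Spn (h.nondeg_left hD) (D.res W ⟨g, D.mem_stab_of_mapsTo h1⟩)) : Spn hD g := by
  obtain ⟨z, h3, h4, h5⟩ := H
  refine ⟨extend h z, ?_, (dickson_extend hD h z).trans h4, (spinor_extend hD h z).trans h5⟩
  rw [← glue_res h g (D.mem_stab_of_mapsTo h1) (D.mem_stab_of_mapsTo h2)]
  exact (map_mul (glue h) _ _).symm.trans ((congrArg _ (Prod.ext h3 (by simp))).trans (map_mul (glue h) _ _))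

theorem spn_irr [Nontrivial V] (h2 : (2 : F) ≠ 0) (hs : (nat D g).IsSemisimple) (hi : Irr (nat D g))
    (h1 : IsUnit (nat D g - 1)) (h1' : IsUnit (nat D g + 1)) : Spn hD g := by
  have hx := g.2.B_map
  have hu : ∀ a, Commute a (nat D g) → a ≠ 0 → IsUnit a := fun a ha h0 => isUnit_of_inj fun v hv => by
    rcases hi (LinearMap.ker a) fun v hv => by
      rw [LinearMap.mem_ker, ← End.mul_apply, ha.eq, End.mul_apply, LinearMap.mem_ker.1 hv, map_zero] with h | h
    · exact h.le hv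
    · exact (h0 (LinearMap.ker_eq_top.1 h)).elim
  have h3 : ∀ {a : End F V}, a + a = 0 → a = 0 := fun h => by simpa [h2] using (two_smul F _).trans h
  obtain ⟨b, hb, hc, hd, h0⟩ : ∃ b, IsUnit b ∧ Commute b (nat D g) ∧ ¬ IsSquare (LinearMap.det b) ∧ b + adj hD b ≠ 0 := by
    obtain ⟨ν, hν⟩ := exists_not_isSquare h2
    obtain ⟨b, hb, hc, rfl⟩ := exists_comm_det_of_ss hs (a := ν) (by rintro rfl; exact hν IsSquare.zero)
    by_cases h : b + adj hD b = 0
    · have h4 := (Commute.one_left _).add_left hc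
      have h5 : adj hD b = -b := eq_neg_of_add_eq_zero_right h
      have h6 := hu _ h4 fun h6 => one_ne_zero (h3 (a := 1) (by
        obtain rfl : b = -1 := eq_neg_of_add_eq_zero_right h6
        rw [(anti_adj hD).neg, adj_one, ← neg_add, neg_eq_zero] at h
        exact h))
      refine ⟨(1 + b) ^ 2 * b, (h6.pow 2).mul hb, (h4.pow_left 2).mul_left hc, ?_, fun h7 => ?_⟩
      · rw [map_mul, map_pow]
        exact not_isSquare_mul (IsSquare.sq _) (pow_ne_zero _ (h6.map LinearMap.det).ne_zero) hν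
      · rw [adj_mul, adj_pow, adj_add, adj_one, h5] at h7
        exact (hb.mul hb).ne_zero (h3 (h3 (by rw [← h7]; noncomm_ring)))
    · exact ⟨b, hb, hc, hν, h⟩
  have hc' := commute_adj hD hx hc
  obtain ⟨z, h4, h5, h6⟩ := exists_div_adj hD hb (hi.commute hc hc')
  have h7 : Commute ((2⁻¹ : F) • (b + adj hD b)) (nat D g) := (hc.add_left hc').smul_left _
  have h8 := commute_adj hD hx (Commute.refl (nat D g))
  haveI : Finite (End F V) := Module.finite_of_finite F
  obtain ⟨a, -, ha, h9⟩ := (anti_adj hD).exists_norm (S := {a | Commute a (nat D g)}) (fun _ h _ h' => hi.commute h h')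
    (fun a h => ⟨commute_adj hD hx h, adj_adj hD a⟩) (Commute.refl _)
    (isUnit_sub_inv ((adj_mul_self_eq_one_iff hD).2 hx) (mul_adj_self hD hx) h1 h1') h7
    (hu _ h7 (smul_ne_zero (inv_ne_zero h2) h0)) (by rw [adj_smul, adj_add, adj_adj, add_comm]; rfl)
  have h10 : (2⁻¹ : F) • (z + 1) * adj hD b = adj hD a * a := by rw [h9, smul_mul_assoc, add_mul, h4, one_mul]
  have h11 : ∀ {a : End F V}, IsUnit a → LinearMap.det a ≠ 0 := fun h => (h.map LinearMap.det).ne_zero
  have h12 := congrArg LinearMap.det h10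
  simp only [map_mul, det_adj, RingHom.id_apply] at h12
  refine ⟨D.mkIsom hD z (isIsometry_of_B h2 h5), nat_injective D (h6 _ hc.symm hc'.symm).symm,
    (dickson_eq_one_iff_det hD h2 _).2 (Units.ext (mul_right_cancel₀ (h11 hb) ?_)), ?_⟩
  · have := congrArg LinearMap.det h4
    simp only [map_mul, det_adj, RingHom.id_apply] at this
    rw [Units.val_one, one_mul, coe_det]
    exact this
  · rw [spinor_eq_chi_det hD h2 _ (isUnit_of_mul_isUnit_left (y := adj hD b) (by
      rw [add_mul, one_mul]; exact h4.symm ▸ hu _ (hc.add_left hc') h0)), chi_eq_neg_one_iff]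
    refine fun h => not_isSquare_mul h (fun h' => ?_) hd (h12.symm ▸ ⟨_, rfl⟩)
    rw [show LinearMap.det ((2⁻¹ : F) • (z + 1)) = 0 from h', zero_mul] at h12
    exact h11 ha (mul_self_eq_zero.1 h12.symm)

theorem spn_unit [Nontrivial V] (h2 : (2 : F) ≠ 0) (hs : (nat D g).IsSemisimple)
    (h1 : IsUnit (nat D g - 1)) (h1' : IsUnit (nat D g + 1)) : Spn hD g := by
  obtain ⟨T, T₁, h0, hT, hT₁, hc, hmin, H⟩ := exists_irr_pair hD hs g.2.B_map
  haveI : Nontrivial T := Submodule.nontrivial_iff_ne_bot.2 h0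
  have hs' := Module.End.IsSemisimple.restrict (p := T) hT hs
  rcases H with rfl | ⟨h3, h4⟩
  · exact Spn.ext ⟨hc, le_rfl⟩ hT hT₁ (spn_irr h2 hs' (irr_of_min hT hmin)
      (isUnit_of_inj fun v hv => Subtype.ext (inj_of_isUnit h1 (congrArg Subtype.val hv)))
      (isUnit_of_inj fun v hv => Subtype.ext (inj_of_isUnit h1' (congrArg Subtype.val hv))))
  have h5 : D.IsDual T (D.perp T₁) := ⟨isTS_of_le h2 h3, isTS_of_le h2 (by rwa [hD.perp_perp]),
    by rw [hD.perp_perp]; exact hc.disjoint, by rw [disjoint_iff, ← D.perp_sup, hc.symm.sup_eq_top, hD.perp_top]⟩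
  obtain ⟨ν, hν⟩ := exists_not_isSquare h2
  obtain ⟨b, hb, h6, rfl⟩ := exists_comm_det_of_ss hs' (a := ν) (by rintro rfl; exact hν IsSquare.zero)
  obtain ⟨z, hz⟩ := (leviEquiv hD h5).surjective (.ofBijective b ((End.isUnit_iff b).1 hb))
  have h7 := h5.dickson_spinor_levi hD (good_of_two_ne_zero h2) z
  have h8 : g ∈ D.stab T := D.mem_stab_of_mapsTo hT
  have h9 : g ∈ D.stab (D.perp T₁) := D.stab_le_stab_perp _ (D.mem_stab_of_mapsTo hT₁)
  have h10 : g ∈ D.stab (D.perp (T ⊔ D.perp T₁)) := by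
    rw [D.perp_sup]
    exact fun x => and_congr (D.stab_le_stab_perp _ h8 x) (D.stab_le_stab_perp _ h9 x)
  refine ⟨z, ?_, h7.1, by rw [h7.2, hz]; exact chi_of_not_isSquare hν⟩
  have h11 : g⁻¹ * z * g ∈ D.leviGL T (D.perp T₁) := ⟨mul_mem (mul_mem ((D.stab _).inv_mem h8) z.2.1) h8,
    mul_mem (mul_mem ((D.stab _).inv_mem h9) z.2.2.1) h9, fun x hx => by
      rw [isom_mul_apply, isom_mul_apply, z.2.2.2 _ ((h10 x).1 hx), isom_inv_apply]⟩
  have h12 : ∀ v : T, z.1.1 v = b v := fun v => (leviEquiv_apply hD h5 z v).symm.trans (by rw [hz]; rfl)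
  rw [← inv_mul_eq_iff_eq_mul, ← mul_assoc]
  refine congrArg Subtype.val ((leviEquiv hD h5).injective (a₁ := ⟨_, h11⟩) (LinearEquiv.ext fun v => Subtype.ext ?_))
  rw [leviEquiv_apply, leviEquiv_apply, h12, isom_mul_apply, isom_mul_apply, isom_inv_apply_eq]
  exact (congrArg Subtype.val (LinearMap.congr_fun h6.eq v)).symm.trans (h12 ⟨_, hT v v.2⟩).symm

theorem spn_odd (h2 : (2 : F) ≠ 0) (hs : (nat D g).IsSemisimple) (ho : Odd (orderOf g)) (h1 : g ≠ 1) : Spn hD g := by
  haveI : Nontrivial (rng (nat D g) 1) := Submodule.nontrivial_iff_ne_bot.2 fun h => h1 (isom_ext fun v =>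
    sub_eq_zero.1 (h.le (mem_rng.2 ⟨v, by simp [nat_apply]⟩)))
  exact Spn.ext (orth_eig_rng hs g.2 (c := 1) (by simp)).symm (rng_inv _ _) (eig_inv _ _)
    (spn_unit h2 (ss_off hs 1) (isUnit_off_one hs) (isUnit_off_one_add hs
      (fix_of_neg_of_odd ho (by rw [← map_pow, pow_orderOf_eq_one, map_one]))))

variable {m : ℕ} {τ : (gfld D).ker →* ℤˣ} (hn : 5 ≤ finrank F V)

include hD in
theorem exists_cjI_eq (hs : (nat D g).IsSemisimple) (ho : Odd (orderOf g)) (a : (gfld D).ker) :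
    ∃ k, cjI a.1 g = k * g * k⁻¹ :=
  (isConj_iff.1 ((odd_isConj_iff hD hs ho).2 ⟨a.1.1.toLin a.2, fun v => (cjI_apply_g a.1 g v).symm⟩)).imp fun _ => .symm

include hn in
theorem exists_cjI_eq_E (h2 : (2 : F) ≠ 0) (hm : finrank F V = 2 * m) (hτ : IsTau hD m τ) (hs : (nat D g).IsSemisimple)
    (ho : Odd (orderOf g)) {a : (gfld D).ker} (ha : τ a = 1) : ∃ k ∈ D.E, cjI a.1 g = k * g * k⁻¹ := by
  by_cases h1 : g = 1
  · exact ⟨1, one_mem _, by simp [h1]⟩
  obtain ⟨k, h3, hk⟩ : ∃ k, dickson hD k = 1 ∧ cjI a.1 g = k * g * k⁻¹ := by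
    obtain ⟨k, hk⟩ := exists_cjI_eq (hD := hD) hs ho a
    rcases Int.units_eq_one_or (dickson hD k) with h | h
    · exact ⟨k, h, hk⟩
    rcases subsingleton_or_nontrivial (eig (nat D g) 1) with h3 | h3
    · have h4 : IsUnit (nat D g - 1) := isUnit_sub_one_of fun v hv =>
        congrArg Subtype.val (Subsingleton.elim (⟨v, mem_eig.2 (by simpa using hv)⟩ : eig (nat D g) 1) 0)
      have h5 : IsUnit (nat D g + 1) := isUnit_add_one_of fun v hv => inj_of_isUnit h4 (sub_eq_zero.2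
        (fix_of_neg_of_odd ho (by rw [← map_pow, pow_orderOf_eq_one, map_one]) v hv))
      let z := (glinK D k)⁻¹ * a
      have h6 : cjI z.1 g = g := glin_injective (by
        have := congrArg (glin D) hk
        simp only [glin_cjI, map_mul, map_inv] at this
        rw [glin_cjI, show z.1 = (glin D k)⁻¹ * a.1 from rfl]
        calc _ = (glin D k)⁻¹ * (a.1 * glin D g * a.1⁻¹) * glin D k := by group
          _ = _ := by rw [this]; group)
      have h7 := det_of_skew hD h2 hm (s := nat D g - nat D g⁻¹) (fun x y => by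
        simp [nat_apply, B_isom_left g, B_isom_right g]) (fun _ => inj_of_isUnit (isUnit_sub_inv (by
          rw [← map_mul]; simp) (by rw [← map_mul]; simp) h4 h5)) (g := z.1.1.toLin z.2) (κ := mult z.1)
        ((congrArg (IsSim D · _) (Sem.lin_toLin z.1.1 z.2)).mpr (isSim_mult z.1)) fun x => by
          have h8 := cjI_apply_g z.1 g⁻¹ x
          rw [map_inv, h6] at h8
          change z.1.1.g (g.1 x - (g⁻¹).1 x) = g.1 (z.1.1.g x) - (g⁻¹).1 (z.1.1.g x)
          rw [map_sub, ← cjI_apply_g, h6, h8]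
      have h8 := hτ.det h2 z
      rw [sdet_apply, h7, show τ z = -1 by rw [τ.map_mul, τ.map_inv, ha, hτ.glinK, h]; rfl] at h8
      exact (h2 (mul_right_cancel₀ (pow_ne_zero m (mult z.1).ne_zero) (by simp at h8; linear_combination h8))).elim
    · obtain ⟨v, hv⟩ := (nondeg_eig hD hs g.2 (c := 1) (by simp)).quad_exists_Q_ne_zero
      have h4 : g * D.refl v * g⁻¹ = D.refl v := by rw [conj_refl, show g.1 v = v from (mem_eig.1 v.2).trans (one_smul _ _)]
      refine ⟨k * D.refl v, by rw [map_mul, h, dickson_refl hD (v := v.1) hv]; rfl, hk.trans ?_⟩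
      rw [mul_assoc k (D.refl v), ← mul_inv_eq_iff_eq_mul.1 h4]; group
  rcases Int.units_eq_one_or (spinor hD k) with h | h
  · exact ⟨k, (mem_E_iff hD hn).2 ⟨h3, h⟩, hk⟩
  obtain ⟨z, h4, h5, h6⟩ := spn_odd (hD := hD) h2 hs ho h1
  exact ⟨k * z, (mem_E_iff hD hn).2 ⟨by simp [h3, h5], by simp [h, h6]⟩, by rw [hk, mul_assoc k z, h4]; group⟩

variable {A : Type*} [Group A] {act : Gam D →* A} {I : Subgroup A}

omit [Finite F] [FiniteDimensional F V] in
theorem exists_glin_of_odd [Nontrivial V] (hD : D.Nondeg) (hA : IsAct act) {x : A} (hx : x ∈ (gfld D).ker.map act) {r : ℕ}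
    (hr : Odd r) (hxr : x ^ r = 1) : ∃ g : D.isom, g ^ r = 1 ∧ x = act (glin D g) := by
  obtain ⟨a, ha, rfl⟩ := hx
  obtain ⟨k, rfl⟩ := hr
  obtain ⟨c, g, h⟩ := exists_sq_eq ⟨a, ha⟩
  have h1 : act a = act (glin D (g ^ (k + 1))) := by
    rw [map_pow, map_pow, ← one_mul (act (glin D g)), ← hA.scal c, ← map_mul,
      show (⟨_, hA.mem c⟩ * glin D g : Gam D) = a ^ 2 from Subtype.ext h.symm, map_pow, ← pow_mul,
      show 2 * (k + 1) = 2 * k + 1 + 1 from rfl, pow_succ, hxr, one_mul]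
  obtain ⟨d, hd⟩ := (hA.ker (glin D ((g ^ (k + 1)) ^ (2 * k + 1)))).1 (by rw [map_pow, map_pow, ← h1, hxr])
  have h3 : ∀ x, ((g ^ (k + 1)) ^ (2 * k + 1)).1 x = (d : F) • x := fun x => congrArg (·.g x) hd
  have h4 : ((g ^ (k + 1)) ^ (2 * k + 1)) ^ 2 = 1 := isom_ext fun x => by
    rw [pow_two, isom_mul_apply, h3, h3, smul_smul, ← pow_two, sq_of_scal hD h3, one_smul, isom_one_apply]
  refine ⟨(g ^ (k + 1)) ^ (2 * (k + 1)), ?_, ?_⟩
  · rw [← pow_mul _ _ (2 * k + 1), mul_comm, ← mul_assoc, pow_mul, pow_mul, h4, one_pow]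
  · rw [map_pow, map_pow, ← h1, show 2 * (k + 1) = 2 * k + 1 + 1 from rfl, pow_succ, hxr, one_mul]

theorem isConjUnder_mono {H K : Subgroup A} (h : H ≤ K) {x y : A} (H : IsConjUnder H x y) : IsConjUnder K x y :=
  H.imp fun _ h' => ⟨h h'.1, h'.2⟩

include hn in
theorem fusion_even (hI : IsInn act I) (h2 : (2 : F) ≠ 0) (hm : finrank F V = 2 * m) (hτ : IsTau hD m τ) {x : A}
    (hx : x ∈ (gfld D).ker.map act) {r : ℕ} (hr : Odd r) (hr' : (r : F) ≠ 0) (hxr : orderOf x = r) :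
    (∀ y, (IsConjUnder I x y ↔ IsConjUnder (act.comp (tin τ)).range x y) ∧
      (IsConjUnder ((D.det.ker.map (glin D)).map act) x y ↔ IsConjUnder (act.comp (tin τ)).range x y)) ∧
    ∀ y, IsConjUnder ((glin D).range.map act) x y ↔ IsConjUnder ((gfld D).ker.map act) x y := by
  haveI := hI.std.nontrivial
  obtain ⟨g, hg, rfl⟩ := exists_glin_of_odd hD hI.isAct hx hr (hxr ▸ pow_orderOf_eq_one x)
  have hs : (nat D g).IsSemisimple := ss_of_pow' hr' (by rw [← map_pow, hg, map_one])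
  have ho : Odd (orderOf g) := hr.of_dvd_nat (orderOf_dvd_of_pow_eq_one hg)
  have h3 : ∀ (a : Gam D) k, cjI a g = k * g * k⁻¹ →
      act a * act (glin D g) * (act a)⁻¹ = act (glin D k) * act (glin D g) * (act (glin D k))⁻¹ := fun a k h => by
    simpa only [glin_cjI, map_mul, map_inv] using congrArg (fun g => act (glin D g)) h
  have h4 : I ≤ (D.det.ker.map (glin D)).map act := fun y hy => by
    obtain ⟨k, hk, rfl⟩ := hI.ex y hy
    exact ⟨_, ⟨k, E_le_ker_det hk, rfl⟩, rfl⟩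
  have h5 : (D.det.ker.map (glin D)).map act ≤ (act.comp (tin τ)).range := by
    rintro _ ⟨_, ⟨k, hk, rfl⟩, rfl⟩
    exact ⟨⟨glinK D k, (hτ.glinK k).trans ((dickson_eq_one_iff_det hD h2 k).2 hk)⟩, rfl⟩
  have h6 : ∀ y, IsConjUnder (act.comp (tin τ)).range (act (glin D g)) y → IsConjUnder I (act (glin D g)) y := by
    rintro _ ⟨_, ⟨a, rfl⟩, rfl⟩
    obtain ⟨k, hk, h⟩ := exists_cjI_eq_E hn h2 hm hτ hs ho a.2
    exact ⟨_, hI.mem k hk, h3 _ _ h⟩
  refine ⟨fun y => ⟨⟨isConjUnder_mono (h4.trans h5), h6 y⟩, isConjUnder_mono h5, fun h => isConjUnder_mono h4 (h6 y h)⟩,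
    fun y => ⟨isConjUnder_mono (Subgroup.map_mono ?_), ?_⟩⟩
  · rintro _ ⟨k, rfl⟩; rfl
  · rintro ⟨_, ⟨a, ha, rfl⟩, rfl⟩
    obtain ⟨k, h⟩ := exists_cjI_eq (hD := hD) hs ho ⟨a, ha⟩
    exact ⟨_, ⟨_, ⟨k, rfl⟩, rfl⟩, h3 _ _ h⟩

theorem spn_of_eig (h2 : (2 : F) ≠ 0) (hg : g ^ 2 = 1) {c : F} (hc : c = 1 ∨ c = -1) (h : 2 ≤ finrank F (eig (nat D g) c)) :
    Spn hD g := by
  have h1 := orth_eig_inv h2 hg hc
  obtain ⟨z, hz⟩ := (h1.nondeg_left hD).dickson_prod_spinor_surjective h2 h (1, -1)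
  have h3 : ∀ v, (D.res _ ⟨g, D.mem_stab_of_mapsTo (eig_inv (nat D g) c)⟩).1 v = c • v := fun v => Subtype.ext (mem_eig.1 v.2)
  exact Spn.ext h1 (eig_inv _ _) (eig_inv _ _) ⟨z, isom_ext fun v => by rw [isom_mul_apply, isom_mul_apply, h3, h3, map_smul],
    (Prod.ext_iff.1 hz).1, (Prod.ext_iff.1 hz).2⟩

include hn in
theorem cjI_eq_neg (hA : IsAct act) {b : Gam D} (hb : chi (mult b : F) = -1) (hg : dickson hD g = -1)
    (h : Commute (act b) (act (glin D g))) : cjI b g = D.negOne * g ∧ disc hD = -1 := by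
  haveI := (std_quad hD hn).nontrivial
  obtain ⟨c, hc⟩ := (hA.ker (glin D (cjI b g * g⁻¹))).1 (by
    simp only [map_mul, map_inv, glin_cjI]; rw [h.eq]; group)
  have h3 : ∀ x, (cjI b g * g⁻¹).1 x = (c : F) • x := fun x => congrArg (·.g x) hc
  have h4 := spinor_cjI hD hn b g
  rw [hg, if_neg (by decide), hb] at h4
  rcases mul_self_eq_one_iff.1 ((sq _).symm.trans (sq_of_scal hD h3)) with h5 | h5
  · rw [mul_inv_eq_one.1 (isom_ext fun x => by rw [h3, h5, one_smul, isom_one_apply] : cjI b g * g⁻¹ = 1),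
      left_eq_mul] at h4
    exact absurd h4 (by decide)
  · have h6 := mul_inv_eq_iff_eq_mul.1 (isom_ext fun x => by rw [h3, h5, neg_one_smul, negOne_apply] :
      cjI b g * g⁻¹ = D.negOne)
    rw [h6, map_mul, mul_comm, mul_right_inj] at h4
    exact ⟨h6, h4⟩

include hn in
theorem split_graph (hI : IsInn act I) (h2 : (2 : F) ≠ 0) (hm : finrank F V = 2 * m) (hτ : IsTau hD m τ)
    {a : (gfld D).ker} (h1 : τ a ≠ 1) (ho : act a ^ 2 = 1) :
    (splitClassCount (act.comp (tin τ)).range I (act a) = 1 ∨ splitClassCount (act.comp (tin τ)).range I (act a) = 2) ∧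
      (disc hD = 1 ∨ Even m → splitClassCount (act.comp (tin τ)).range I (act a) = 2) := by
  haveI := hI.normal
  have hA := hI.isAct
  have hS := hI.std
  let φ := act.comp (tin τ)
  let C := (Subgroup.centralizer {act a}).comap φ
  let S := ((cm hD hn).comp τ.ker.subtype).ker
  let ι : (dickson hD).ker →* τ.ker := ((glinK D).comp (dickson hD).ker.subtype).codRestrict _ fun k =>
    (hτ.glinK k.1).trans k.2
  have hC : ∀ {s}, s ∈ C ↔ Commute (act s.1.1) (act a) := Subgroup.mem_centralizer_singleton_iff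
  have h0 : ∀ c b, act (gscal D c * b) = act b := fun c b => by
    rw [map_mul, show act (gscal D c) = 1 from hA.scal c, one_mul]
  have h3 : splitClassCount φ.range I (act a) = (C ⊔ I.comap φ).index := by
    rw [splitClassCount_eq φ rfl (fun y hy => ?_) (QuotientGroup.mk' (I.comap φ)) (QuotientGroup.mk'_surjective _)
      (fun a => QuotientGroup.eq_one_iff a), Subgroup.index_map, QuotientGroup.ker_mk', QuotientGroup.range_mk',
      Subgroup.index_top, mul_one]
    obtain ⟨k, hk, rfl⟩ := hI.ex y hy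
    exact ⟨ι ⟨k, ((mem_E_iff hD hn).1 hk).1⟩, rfl⟩
  have h4 : S.index = 2 := by
    rw [Subgroup.index_ker, MonoidHom.range_eq_top.2 fun u => ?_]
    · simp
    obtain ⟨b, hb⟩ := hτ.prod_surjective hn h2 hm (1, u)
    exact ⟨⟨b, (Prod.ext_iff.1 hb).1⟩, (Prod.ext_iff.1 hb).2⟩
  obtain ⟨z, h5, h6, h7⟩ : ∃ z, Commute (act (glin D z)) (act a) ∧ dickson hD z = 1 ∧ spinor hD z = -1 := by
    rcases graph_cases hn hm hτ h2 hA h1 ho with ⟨g, h5, h6, h7⟩ | ⟨c, h5, h6, h7, -⟩
    · obtain ⟨z, h8, h9⟩ : Spn hD g := by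
        have := Submodule.finrank_add_eq_of_isCompl (orth_eig_inv h2 h6 (.inl rfl)).1
        by_cases h : 2 ≤ finrank F (eig (nat D g) 1)
        · exact spn_of_eig h2 h6 (.inl rfl) h
        · exact spn_of_eig h2 h6 (.inr rfl) (by omega)
      exact ⟨z, h5 ▸ ((show Commute z g from h8).map _).map _, h9⟩
    · obtain ⟨-, v, hv, h8⟩ := det_qa hD h2 a.2 h6 h7 h5 hm (by omega)
      have h9 := Q_g_ne_zero a.1 hv
      refine ⟨D.refl v * D.refl (a.1.1.g v), Commute.map (mul_inv_eq_iff_eq_mul.1 ?_).symm _, ?_, ?_⟩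
      · rw [← glin_cjI, map_mul (cjI _), cjI_refl, cjI_refl, show a.1.1.g (a.1.1.g v) = (c : F) • v from
          congrArg (·.g v) ((sq _).symm.trans h6), refl_smul _ c.ne_zero, refl_comm h8]
      · rw [map_mul, dickson_refl hD hv, dickson_refl hD h9]; rfl
      · rw [map_mul, spinor_refl hD hv, spinor_refl hD h9, h7.Q, show a.1.1.s = 1 from a.2, RingAut.one_apply,
          chi_mul c.ne_zero hv, chi_of_not_isSquare h5, mul_left_comm, Int.units_mul_self, mul_one]
  have h8 : S ≤ C ⊔ I.comap φ := fun s hs => by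
    obtain ⟨c, k, hk, h⟩ := hτ.exists_of_eq_one hn s.2 hs
    have h9 : φ s = act (glin D k) := (congrArg act h).trans (h0 _ _)
    rcases Int.units_eq_one_or (spinor hD k) with h' | h'
    · exact Subgroup.mem_sup_right (show φ s ∈ I from h9 ▸ hI.mem k ((mem_E_iff hD hn).2 ⟨hk, h'⟩))
    · rw [← mul_inv_cancel_left (ι ⟨z, h6⟩) s]
      refine Subgroup.mul_mem_sup (hC.2 h5) (show φ _ ∈ I from ?_)
      rw [map_mul, map_inv, h9, show φ (ι ⟨z, h6⟩) = act (glin D z) from rfl, ← map_inv, ← map_inv, ← map_mul, ← map_mul]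
      exact hI.mem _ ((mem_E_iff hD hn).2 ⟨by simp [hk, h6], by simp [h', h7]⟩)
  refine ⟨h3 ▸ (Nat.dvd_prime Nat.prime_two).1 (h4 ▸ Subgroup.index_dvd_of_le h8), fun h => ?_⟩
  rw [h3, le_antisymm (sup_le (fun b hb => by_contra fun hb' => ?_) fun s hs => ?_) h8, h4]
  · have h9 : cm hD hn b.1 = -1 := (Int.units_eq_one_or _).resolve_left hb'
    have h10 := (Int.units_eq_one_or _).resolve_left h1
    rw [hC] at hb
    rcases graph_cases hn hm hτ h2 hA h1 ho with ⟨g, h11, h12, h13⟩ | ⟨c, h11, -, h12, h13⟩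
    · obtain ⟨h14, h15⟩ := cjI_eq_neg hn hA h9 ((Int.units_eq_one_or _).resolve_left fun h' => by
        rw [(dickson_eq_one_iff_det hD h2 g).1 h'] at h13
        exact h2 (by simpa [eq_neg_iff_add_eq_zero, one_add_one_eq_two] using congrArg Units.val h13)) (h11 ▸ hb)
      have h16 : ∀ c : F, finrank F (eig (nat D g) c) ≤ finrank F (eig (nat D g) (-c)) := fun c => by
        rw [← (b.1.1.1.toLin b.1.2).finrank_map_eq]
        refine Submodule.finrank_mono ?_
        rintro _ ⟨v, hv, rfl⟩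
        have := cjI_apply_g b.1.1 g v
        rw [h14, isom_mul_apply, negOne_apply, show g.1 v = c • v from mem_eig.1 hv, neg_eq_iff_eq_neg] at this
        exact mem_eig.2 (this.trans (by rw [neg_smul, ← map_smul]; rfl))
      have h17 := Submodule.finrank_add_eq_of_isCompl (orth_eig_inv h2 h12 (.inl rfl)).1
      have h18 := h16 1
      have h19 := h16 (-1)
      have h20 := odd_eig h2 h12 h13 ⟨m, by omega⟩ (.inl rfl)
      rw [neg_neg] at h19
      exact h.elim (fun h => absurd (h.symm.trans h15) (by decide)) fun h => Nat.not_even_iff_odd.2 h20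
        (by rwa [show finrank F (eig (nat D g) 1) = m by omega])
    · have h14 : cm hD hn a = -1 := by rw [cm_apply, hS.mult_eq h12, chi_of_not_isSquare h11]
      obtain ⟨d, k, hk⟩ := exists_of_cm hD hn (a := a * b.1) (by rw [map_mul, h9, h14]; rfl)
      have h15 := (hτ.of_eq hn (congrArg Subtype.val hk)).1
      rw [map_mul, h10, show τ b.1 = 1 from b.2, mul_one] at h15
      have h16 : act (glin D k) = act a * act b.1.1 := (h0 d _).symm.trans
        ((congrArg (fun x => act x.1) hk).symm.trans (map_mul _ _ _))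
      exact h.elim (fun h => absurd (h.symm.trans (cjI_eq_neg hn hA h9 h15.symm
        (h16 ▸ hb.mul_right (.refl _))).2) (by decide)) (Nat.not_even_iff_odd.2 h13)
  · obtain ⟨k, -, h⟩ := hI.ex _ hs
    obtain ⟨c, hc⟩ := (hA.ker (s.1.1 * (glin D k)⁻¹)).1 (by rw [map_mul, map_inv, ← h]; exact mul_inv_cancel _)
    exact (hτ.of_eq hn (mul_inv_eq_iff_eq_mul.1 (Subtype.ext hc))).2

include hD hn in
theorem hasTS_of_field (hA : IsAct act) (h2 : (2 : F) ≠ 0) (hm : finrank F V = 2 * m) {a : Gam D} (hs : a.1.s ≠ 1)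
    (ho : orderOf (act a) = 2) : D.HasTS m := by
  haveI := (std_quad hD hn).nontrivial
  obtain ⟨u, -, h3, h4⟩ := hA.exists_scaled hs Nat.prime_two ho
  have hf := fix_subfield (gscal D u * a).1.s
  have h5 := (congrArg orderOf h3).trans (hA.orderOf_s hs Nat.prime_two ho)
  obtain ⟨j, μ, D₀, L, -⟩ := exists_lift_of_pow (kext_quad _) hD hf h4
  have h6 := L.spinor_isomHom hD hn (L.nondeg hD) 1 (fun x hx => hf.chi_two h5 hx) D₀.negOne
  rw [dickson_negOne_even _ ((finrank_fin_fun _).trans hm), if_pos rfl,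
    show L.isomHom D₀.negOne = D.negOne from Subtype.ext (LinearEquiv.toLinearMap_injective
      (L.ext.lin_ext fun x => (L.isomHom_apply _ x).trans ((congrArg j (negOne_apply x)).trans
        ((j.map_neg x).trans (negOne_apply _).symm))))] at h6
  have h7 := hf.chi_two h5 (neg_ne_zero.2 one_ne_zero)
  rw [map_neg, map_one] at h7
  rw [hasTS_iff_disc hD h2 hm, h7, one_pow]
  exact h6

end Cfsg.Lib.Conj
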