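import Cfsg.Agent.Lib.Conj.Ker
import Cfsg.Agent.Lib.Conj.SplO

/-! The class number of the odd-dimensional groups `Ω`. -/

set_option autoImplicit false

namespace Cfsg.Lib.Conj

open Module Cfsg.Lib.Forms Cfsg.Lib.Forms.Form Cfsg.Lib.Known Cfsg.Lib.Linear Polynomial Finset

variable {F : Type*} [Field F] {V V' W : Type*} [AddCommGroup V] [Module F V] [AddCommGroup V'] [Module F V']
  [AddCommGroup W] [Module F W] [FiniteDimensional F V] [FiniteDimensional F V'] [FiniteDimensional F W]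
  {D : Form (quadKind F) V} {D' : Form (quadKind F) V'} {E : Form (quadKind F) W}
  {x : End F V} {y : End F V'} {w : End F W} {s t : ℤˣ}

section Com

variable [Finite F]

/-- The centraliser of `x` has an element with the given invariants. -/
def Com (hD : D.Nondeg) (x : End F V) (s t : ℤˣ) : Prop :=
  ∃ z : D.isom, Commute (nat D z) x ∧ dickson hD z = s ∧ spinor hD z = t

theorem Com.left {hD : D.Nondeg} (H : Com hD x s t) (hD' : D'.Nondeg) (hE : E.Nondeg)
    (h : IsoC (D.prod D') (x.prodMap y) E w) : Com hE w s t := by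
  obtain ⟨z, h1, rfl, rfl⟩ := H
  obtain ⟨e, he, h⟩ := h
  refine ⟨isomCongr e he (D.prodHom D' (z, 1)), LinearMap.ext fun v => ?_,
    (dickson_isomCongr (hD.prod hD') he _).trans (by simp [dickson_prodHom hD hD']),
    (spinor_isomCongr (hD.prod hD') he _).trans (by simp [spinor_prodHom hD hD'])⟩
  obtain ⟨v, rfl⟩ := e.surjective v
  have := LinearMap.congr_fun h1.eq v.1
  simp only [nat_apply, End.mul_apply, LinearEquiv.coe_coe] at this
  simp [nat_apply, isomCongr_apply, ← h, prodHom_apply, this, isom_one_apply]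

theorem com_negOne (h2 : (2 : F) ≠ 0) (hD : D.Nondeg) : Com hD x ((-1) ^ finrank F V) (disc hD) :=
  ⟨D.negOne, LinearMap.ext fun v => by simp [nat_apply], dickson_negOne hD h2, rfl⟩

theorem com_neg {hD : D.Nondeg} : Com hD (-x) s t ↔ Com hD x s t := by simp [Com]

theorem com_local [Nontrivial V] (h2 : (2 : F) ≠ 0) (hD : D.Nondeg) (hx : ∀ u v, D.B (x u) (x v) = D.B u v)
    (hi : ∀ {a b}, Commute a x → Commute b x → Commute a b) (hl : ∀ {a}, Commute a x → IsUnit a ∨ IsNilpotent a)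
    (h1 : IsUnit (x - 1)) (h1' : IsUnit (x + 1)) {b : End F V} (hb : IsUnit b) (hc : Commute b x)
    (hd : ¬ IsSquare (LinearMap.det b)) : Com hD x 1 (-1) := by
  have hθ := isUnit_sub_inv ((adj_mul_self_eq_one_iff hD).2 hx) (mul_adj_self hD hx) h1 h1'
  have hA := fun {a} => commute_adj hD hx (a := a)
  have u2 : IsUnit (2 : End F V) := map_ofNat (algebraMap F (End F V)) 2 ▸ h2.isUnit.map _
  obtain ⟨b, hb, hc, hd, h0⟩ : ∃ b, IsUnit b ∧ Commute b x ∧ ¬ IsSquare (LinearMap.det b) ∧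
      IsUnit (b + adj hD b) := by
    rcases hl (hc.add_left (hA hc)) with h | h
    · exact ⟨b, hb, hc, hd, h⟩
    have h3 : Commute (x - adj hD x) x := (Commute.refl x).sub_left (hA (Commute.refl x))
    have h4 : adj hD (x - adj hD x) = -(x - adj hD x) := by rw [adj_sub, adj_adj, neg_sub]
    generalize x - adj hD x = θ at hθ h3 h4
    have h5 := (Commute.one_left _).add_left h3
    have h6 : adj hD (1 + θ) = 1 - θ := by rw [adj_add, adj_one, h4, sub_eq_add_neg]
    have h7 : IsUnit (1 + θ) := (hl h5).resolve_right fun ⟨k, hk⟩ => u2.not_isNilpotent (by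
      have := (hi h5 (hA h5)).isNilpotent_add ⟨k, hk⟩ ⟨k, by rw [← adj_pow, hk, (anti_adj hD).zero]⟩
      rwa [h6, add_add_sub_cancel, one_add_one_eq_two] at this)
    refine ⟨(1 + θ) ^ 2 * b, (h7.pow 2).mul hb, (h5.pow_left 2).mul_left hc, ?_, ?_⟩
    · rw [map_mul, map_pow]
      exact not_isSquare_mul (IsSquare.sq _) (pow_ne_zero _ (h7.map LinearMap.det).ne_zero) hd
    have h8 := (hA h5).pow_left 2
    rw [adj_mul, adj_pow, (hi (hA hc) h8).eq, show (1 + θ) ^ 2 * b + adj hD (1 + θ) ^ 2 * adj hD b =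
      2 * 2 * θ * b + adj hD (1 + θ) ^ 2 * (b + adj hD b) by rw [h6]; noncomm_ring]
    have h9 := hc.add_left (hA hc)
    exact ((hi h8 h9).isNilpotent_mul_left h).isUnit_add_left_of_commute (((u2.mul u2).mul hθ).mul hb)
      (hi (h8.mul_left h9) (((((Commute.ofNat_left 2 x).mul_left (Commute.ofNat_left 2 x)).mul_left h3).mul_left hc)))
  have hc' := hA hc
  obtain ⟨z, h4, h5, h6⟩ := exists_div_adj hD hb (hi hc hc')
  have h7 : Commute ((2⁻¹ : F) • (b + adj hD b)) x := (hc.add_left hc').smul_left _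
  haveI : Finite (End F V) := Module.finite_of_finite F
  obtain ⟨a, -, ha, h9⟩ := (anti_adj hD).exists_norm (S := {a | Commute a x}) (fun _ h _ h' => hi h h')
    (fun a h => ⟨hA h, adj_adj hD a⟩) (Commute.refl _) hθ h7
    (Algebra.smul_def (2⁻¹ : F) (b + adj hD b) ▸ ((inv_ne_zero h2).isUnit.map _).mul h0)
    (by rw [adj_smul, adj_add, adj_adj, add_comm]; rfl)
  have h10 : (2⁻¹ : F) • (z + 1) * adj hD b = adj hD a * a := by rw [h9, smul_mul_assoc, add_mul, h4, one_mul]
  have h11 : ∀ {a : End F V}, IsUnit a → LinearMap.det a ≠ 0 := fun h => (h.map LinearMap.det).ne_zero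
  have h12 := congrArg LinearMap.det h10
  simp only [map_mul, det_adj, RingHom.id_apply] at h12
  refine ⟨D.mkIsom hD z (isIsometry_of_B h2 h5), (h6 _ hc.symm hc'.symm).symm,
    (dickson_eq_one_iff_det hD h2 _).2 (Units.ext (mul_right_cancel₀ (h11 hb) ?_)), ?_⟩
  · have := congrArg LinearMap.det h4
    simp only [map_mul, det_adj, RingHom.id_apply] at this
    rw [Units.val_one, one_mul, coe_det]
    exact this
  · rw [spinor_eq_chi_det hD h2 _ (isUnit_of_mul_isUnit_left (y := adj hD b) (by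
      rw [add_mul, one_mul]; exact h4.symm ▸ h0)), chi_eq_neg_one_iff]
    refine fun h => not_isSquare_mul h (fun h' => ?_) hd (h12.symm ▸ ⟨_, rfl⟩)
    rw [show LinearMap.det ((2⁻¹ : F) • (z + 1)) = 0 from h', zero_mul] at h12
    exact h11 ha (mul_self_eq_zero.1 h12.symm)

theorem com_pair (h2 : (2 : F) ≠ 0) {B : V →ₗ[F] V →ₗ[F] F} (hB : Function.Bijective B) {z b : End F V}
    (hz : ∀ u v, B (z u) (x v) = B u v) (hx : IsUnit x) (hb : IsUnit b) (hc : Commute b x)
    (hd : ¬ IsSquare (LinearMap.det b)) : Com (dbl_nondeg_of_bij (K := quadKind F) hB) (z.prodMap x) 1 (-1) := by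
  obtain ⟨b', k3, k4, k5⟩ := exists_dual_comm hB hz hb hx hc
  refine ⟨mkIsom _ (dbl_nondeg_of_bij hB) _ (dbl_isIsometry k3), k4, (dickson_eq_one_iff_det _ h2 _).2
    (Units.ext ((coe_det _).trans ((LinearMap.det_prodMap _ _).trans k5))), ?_⟩
  rw [spinor_of_stab _ h2 (U := Submodule.snd F V V) (isTS_quad fun u hu => by
    simp [dbl_Q, show u.1 = 0 from hu]) (by rw [(Submodule.sndEquiv F V V).finrank_eq, finrank_prod, two_mul]) _
    fun v hv => by simpa [nat_apply, Submodule.snd] using congrArg b' hv,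
    Sim.det (g := b) ⟨Submodule.sndEquiv F V V, fun _ => rfl⟩]
  exact chi_of_not_isSquare hd

theorem com_unit (h2 : (2 : F) ≠ 0) (hD : D.Nondeg) (hx : IsIsometry D D x) (h1 : IsUnit (x - 1))
    (h1' : IsUnit (x + 1)) {a : F[X] × ℕ} (ha : a ∈ edOf x) (ho : Odd a.2) : Com hD x 1 (-1) := by
  obtain ⟨m, n, w, y, k1, k2, H⟩ := exists_block (fun _ => rfl) (selfDual_of_isIsometry hD hx) ha
  obtain ⟨ν, hν⟩ := exists_not_isSquare h2
  have ν0 : ν ≠ 0 := by rintro rfl; exact hν IsSquare.zero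
  obtain ⟨b, b1, b2, b3⟩ := single_det k1 ν0
  have b4 : ¬ IsSquare (LinearMap.det b) := by
    rw [b3, ← chi_eq_neg_one_iff, chi_pow ν0, chi_of_not_isSquare hν, ho.neg_one_pow]
  have key : ∀ {U : Type _} [AddCommGroup U] [Module F U] [FiniteDimensional F U] {z : End F U},
      Known.Sim (z.prodMap y) x → (IsUnit (z - 1) ∧ IsUnit (y - 1)) ∧ (IsUnit (z + 1) ∧ IsUnit (y + 1)) ∧
        ∀ (E : Form (quadKind F) U) (hE : E.Nondeg), IsIsometry E E z → Com hE z 1 (-1) → Com hD x 1 (-1) :=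
    fun {U _ _ _ z} h => by
      have e : ∀ p : F[X], IsUnit (aeval x p) → IsUnit (aeval (z.prodMap y) p) ∧ IsUnit (aeval z p) ∧
          IsUnit (aeval y p) := fun p hp => by
        have := (h.aeval p).isUnit_iff.2 hp
        simpa [this, (hasED_edOf z).isUnit_aeval_iff, (hasED_edOf y).isUnit_aeval_iff, or_imp, forall_and] using
          ((hasED_prod (hasED_edOf z) (hasED_edOf y)).isUnit_aeval_iff p).1 this
      have e1 := e (X - 1) (by simpa)
      have e2 := e (X + 1) (by simpa)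
      simp only [map_sub, map_add, aeval_X, map_one] at e1 e2
      obtain ⟨E', k3, k4⟩ := k2.exists_form (quadKind F) e1.2.2 e2.2.2
      exact ⟨e1.2, e2.2, fun E hE k5 k6 => k6.left k3 hD
        (isoC_of_unit (hE.prod k3) hD (isIsometry_prodMap k5 k4) hx h e1.1 e2.1)⟩
  rcases H with ⟨h3, h4⟩ | ⟨B, z, h3, h4, h5⟩
  · obtain ⟨k3, k4, k5⟩ := key h4
    obtain ⟨E, k6, k7⟩ := h3.exists_form (quadKind F) k3.1 k4.1
    have : Nontrivial (Fin m → F) := by
      by_contra h
      rw [not_nontrivial_iff_subsingleton] at h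
      exact b4 (by simp [LinearMap.det_eq_one_of_subsingleton])
    exact k5 E k6 k7 (com_local h2 k6 k7.B_map (single_comm k1) (single_local k1) k3.1 k4.1 b1 b2 b4)
  · exact (key h5).2.2 _ _ (dbl_isIsometry h4) (com_pair h2 h3 h4 (k1.isUnit_iff.2 (by
      simpa using (hasED_edOf _).isUnit_iff.1 (isUnit_of_isIsometry hD hx.B_map) a ha)) b1 b2 b4)

theorem com_block (h2 : (2 : F) ≠ 0) (hD : D.Nondeg) (hx : IsIsometry D D x) {a : F[X] × ℕ} (ha : a ∈ edOf x)
    (ho : Odd a.2) (h1 : a.1 ≠ X - 1) (h1' : a.1 ≠ X + 1) : Com hD x 1 (-1) := by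
  obtain ⟨n, hn⟩ := (eventually_fit hD (x := x * x) (hx.comp hx)).exists
  have hc : Commute x ((x * x - 1) ^ n) := (((Commute.refl x).mul_right (.refl x)).sub_right (.one_right x)).pow_right n
  have i1 : ∀ v ∈ LinearMap.ker ((x * x - 1) ^ n), x v ∈ LinearMap.ker ((x * x - 1) ^ n) := fun v hv => by
    rw [LinearMap.mem_ker, ← End.mul_apply, ← hc.eq, End.mul_apply, LinearMap.mem_ker.1 hv, map_zero]
  have i2 : ∀ v ∈ LinearMap.range ((x * x - 1) ^ n), x v ∈ LinearMap.range ((x * x - 1) ^ n) := by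
    rintro _ ⟨v, rfl⟩; exact ⟨x v, LinearMap.congr_fun hc.eq.symm v⟩
  have k := isoC_orthCompl hn.orth.symm i2 i1
  have e : ∀ {U : Submodule F V} (z : End F U), (z - 1) * (z + 1) = z * z - 1 := fun z => by
    rw [sub_mul, mul_add, mul_one, one_mul]; abel
  have k1 : IsUnit ((x.restrict i2 - 1) * (x.restrict i2 + 1)) := by rw [e]; exact hn.isUnit
  rw [((Commute.refl _).sub_left (.one_left _)).add_right (.one_right _) |>.isUnit_mul_iff] at k1
  rw [← sim_iff_edOf.1 k.sim, (hasED_prod (hasED_edOf _) (hasED_edOf _)).edOf_eq, Multiset.mem_add] at ha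
  refine (com_unit h2 (hn.orth.symm.nondeg_left hD) (isIsometry_restrict hx _) k1.1 k1.2 (ha.resolve_right fun h => ?_)
    ho).left (hn.orth.nondeg_left hD) hD k
  obtain ⟨p1, p2, p3⟩ := (hasED_edOf _).1 a h
  have := ((hasED_edOf _).aeval_eq_zero_iff (((X - C 1) * (X - C (-1))) ^ n)).1 (by
    rw [← fU_pow (x := x * x) n, map_pow]
    congr 1
    simp only [map_mul, map_sub, map_neg, aeval_X, map_one, sub_neg_eq_add, map_add]
    exact e _) a h
  rcases p2.prime.dvd_or_dvd (p2.prime.dvd_of_dvd_pow ((dvd_pow_self _ (by omega)).trans this)) with h | h <;>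
    have := eq_of_monic_of_associated p1 (monic_X_sub_C _) (p2.associated_of_dvd (irreducible_X_sub_C _) h)
  exacts [h1 (by simpa using this), h1' (by simpa using this)]

/-- The class of `x` splits in `Ω × ⟨-1⟩`. -/
def NS (hD : D.Nondeg) (x : End F V) : Prop := ¬ Com hD x 1 (-1) ∧ ¬ Com hD x (-1) (-disc hD)

theorem NS.neg {hD : D.Nondeg} (h : NS hD x) : NS hD (-x) := by simpa [NS, com_neg] using h

omit [Finite F] in
theorem cnt_prod (x : End F V) (y : End F V') (e : ℕ) : cnt (x.prodMap y) e = cnt x e + cnt y e := by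
  simp [cnt, (hasED_prod (hasED_edOf x) (hasED_edOf y)).edOf_eq]

variable {e : ℕ}

omit [Finite F] in
theorem cnt_sh' (h : (sh F F e + 1 - 1) ^ (e + 1) = 0) {i : ℕ} (hi : i ≠ e) : cnt (sh F F e + 1) i = 0 := by
  classical
  have h1 := (hasED_edOf (sh F F e + 1 :)).finrank
  obtain ⟨u, hu⟩ := Multiset.exists_cons_of_mem (Multiset.count_pos.1 ((cnt_sh h).symm ▸ one_pos :
    0 < cnt (sh F F e + 1) e))
  refine Multiset.count_eq_zero.2 fun h2 => ?_
  rw [hu] at h1 h2
  obtain ⟨v, rfl⟩ := Multiset.exists_cons_of_mem ((Multiset.mem_cons.1 h2).resolve_left (by simpa))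
  simp [edDeg, ← C_1, -map_one] at h1

theorem isoC_scl (h2 : (2 : F) ≠ 0) (he : Even e) {E : Form (quadKind F) (Fin (e + 1) → F)} (hE : E.Nondeg)
    (hx : IsIsometry E E (sh F F e + 1 :)) (h : (sh F F e + 1 - 1) ^ (e + 1) = 0) :
    ∃ (E' : Form (quadKind F) (Fin (e + 1) → F)) (hE' : E'.Nondeg), IsIsometry E' E' (sh F F e + 1 :) ∧
      disc hE' = -disc hE ∧ sgn E' (sh F F e + 1) e = -sgn E (sh F F e + 1) e := by
  have := Fintype.ofFinite F
  obtain ⟨c, hc⟩ := exists_not_isSquare h2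
  have c0 : c ≠ 0 := by rintro rfl; exact hc IsSquare.zero
  refine ⟨_, scl_nondeg h2 hE c0, scl_isIsometry h2 hx c, ?_, ?_⟩
  · simp [disc_scl h2 hE c0, chi_of_not_isSquare hc, he.add_one.neg_one_pow]
  · simp [sgn_scl h2 hE hx.B_map ((gd_quad h2 e).2 he) c0, cnt_sh h, chi_of_not_isSquare hc]

theorem sgn_sh_neg (h2 : (2 : F) ≠ 0) (E : Form (quadKind F) (Fin (e + 1) → F))
    (h : (sh F F e + 1 - 1) ^ (e + 1) = 0) (i : ℕ) : sgn E (-(sh F F e + 1)) i = 1 :=
  sgn_of_zero fun v w => by rw [lvB_apply, neg_inj_of_nil h2 h _ _ w.2, map_zero]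

theorem NS.exists_blk (h2 : (2 : F) ≠ 0) {hD : D.Nondeg} (H : NS hD x) (hx : IsIsometry D D x) (he : Even e)
    (hc : cnt x e ≠ 0) : cnt x e = 1 ∧ (sh F F e + 1 - 1) ^ (e + 1) = 0 ∧
      ∃ (E : Form (quadKind F) (Fin (e + 1) → F)) (hE : E.Nondeg), IsIsometry E E (sh F F e + 1 :) ∧
        disc hE = disc hD ∧ sgn D x e = sgn E (sh F F e + 1) e := by
  have hg := (gd_quad h2 e).2 he
  obtain ⟨u, hu⟩ := exists_lvB_ne h2 hD hx.B_map hg hc
  obtain ⟨U, a1, a2, -, a4, a5, a6, a7, -⟩ := exists_top (e := e) (ι := LinearMap.toSpanSingleton F V u)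
    hD hx (fun m => by simp [LinearMap.mem_ker.1 u.2]) fun m hm => by
      rw [lvB_apply] at hu
      simpa [hu] using hm 1
  generalize D.comap (fr (x - 1) e (LinearMap.toSpanSingleton F V u)) = E at a4 a5 a6
  have a8 := isIsometry_restrict hx a1
  have k : ∀ {E : Form (quadKind F) (Fin (e + 1) → F)} (hE : E.Nondeg) {R : Form (quadKind F) U}, R.Nondeg →
      IsoC (E.prod R) ((sh F F e + 1).prodMap (x.restrict a1)) D x → disc hE = disc hD := fun hE _ h1 h3 => by
    have := (com_negOne h2 hE).left h1 hD h3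
    rw [finrank_fin_fun, he.add_one.neg_one_pow] at this
    exact by_contra fun h => H.2 (Int.units_ne_iff_eq_neg.1 h ▸ this)
  have k1 : cnt (x.restrict a1) e = 0 := by
    by_contra h
    obtain ⟨R, r1, r2, r3, r4, r5, -⟩ := exists_flip h2 a2 a8 hg h
    obtain ⟨E', e1, e2, e3, e4⟩ := isoC_scl h2 he a5 a6 a7
    have := (k e1 r1 (isoC_wall h2 (e1.prod r1) hD (isIsometry_prodMap e2 r2) hx a4.sim (fun i => ?_)
      fun i => ?_)).trans (k a5 a2 a4).symm
    · rw [e3] at this; revert this; generalize disc a5 = a; revert a; decide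
    · rw [← a4.sgn_eq h2, sgn_prod h2, sgn_prod h2]
      by_cases hi : i = e
      · rw [hi, e4, r3, neg_mul_neg]
      · rw [r4 i hi, sgn_of_cnt h2 e1 e2.B_map (cnt_sh' a7 hi), sgn_of_cnt h2 a5 a6.B_map (cnt_sh' a7 hi)]
    · rw [← a4.neg.sgn_eq h2, neg_prodMap, sgn_prod h2, sgn_prod h2, r5, sgn_sh_neg h2 _ a7, sgn_sh_neg h2 _ a7]
  exact ⟨by rw [← cnt_congr a4.sim, cnt_prod, k1, cnt_sh a7], a7, E, a5, a6, k a5 a2 a4,
    by rw [← a4.sgn_eq h2, sgn_prod h2, sgn_of_cnt h2 a2 a8.B_map k1, mul_one]⟩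

theorem NS.sgn_eq (h2 : (2 : F) ≠ 0) {hD : D.Nondeg} {y : End F V} (H : NS hD x) (H' : NS hD y)
    (hx : IsIsometry D D x) (hy : IsIsometry D D y) (h : cnt x e = cnt y e) : sgn D x e = sgn D y e := by
  by_cases he : Even e
  swap
  · rw [sgn_bad hD hx.B_map (by rwa [gd_quad h2]), sgn_bad hD hy.B_map (by rwa [gd_quad h2])]
  by_cases hc : cnt x e = 0
  · rw [sgn_of_cnt h2 hD hx.B_map hc, sgn_of_cnt h2 hD hy.B_map (h ▸ hc)]
  obtain ⟨-, a, E, e1, e2, e3, e4⟩ := H.exists_blk h2 hx he hc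
  obtain ⟨-, -, E', f1, f2, f3, f4⟩ := H'.exists_blk h2 hy he (h ▸ hc)
  obtain ⟨R, r1, r2, r3, r4⟩ := isoC_scl h2 he e1 e2 a
  by_contra h1
  have := (isoC_wall h2 r1 f1 r2 f2 (.refl _) (fun i => ?_) fun i => by
    rw [sgn_sh_neg h2 _ a, sgn_sh_neg h2 _ a]).iso.disc_eq r1 f1
  · rw [r3, e3, f3] at this; revert this; generalize disc hD = a; revert a; decide
  by_cases hi : i = e
  · rw [hi, r4, ← e4, ← f4, Int.units_ne_iff_eq_neg.1 h1, neg_neg]
  · rw [sgn_of_cnt h2 r1 r2.B_map (cnt_sh' a hi), sgn_of_cnt h2 f1 f2.B_map (cnt_sh' a hi)]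

theorem NS.isoC (h2 : (2 : F) ≠ 0) {hD : D.Nondeg} {y : End F V} (H : NS hD x) (H' : NS hD y)
    (hx : IsIsometry D D x) (hy : IsIsometry D D y) (h : edOf x = edOf y) : IsoC D x D y :=
  isoC_wall h2 hD hD hx hy (sim_iff_edOf.2 h) (fun e => H.sgn_eq h2 H' hx hy (by rw [cnt, cnt, h])) fun e =>
    H.neg.sgn_eq h2 H'.neg (isIsometry_neg hx) (isIsometry_neg hy) (by rw [cnt_neg, cnt_neg, h])

open Classical in
theorem NS.odd (h2 : (2 : F) ≠ 0) {hD : D.Nondeg} (H : NS hD x) (hx : IsIsometry D D x) {a : F[X] × ℕ}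
    (ha : a ∈ edOf x) (ho : Odd a.2) : (a.1 = X - 1 ∨ a.1 = X + 1) ∧ (edOf x).count a ≤ 1 := by
  have h : a.1 = X - 1 ∨ a.1 = X + 1 := by
    by_contra! h; exact H.1 (com_block h2 hD hx ha ho h.1 h.2)
  obtain ⟨p, i⟩ := a
  obtain ⟨k, rfl⟩ : Odd i := ho
  refine ⟨h, ?_⟩
  have h1 := Multiset.count_ne_zero.2 ha
  rcases h with rfl | rfl
  · exact (H.exists_blk h2 hx (even_two_mul k) h1).1.le
  · exact ((cnt_neg _ _).symm.trans (H.neg.exists_blk h2 (isIsometry_neg hx) (even_two_mul k)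
      (cnt_neg x _ ▸ h1)).1).le

end Com

variable [Fintype F]

local notation "q" => Fintype.card F

open Classical in
theorem ns_le (h2 : (2 : F) ≠ 0) {n : ℕ} (T : Finset (Multiset (F[X] × ℕ)))
    (hT : ∀ s ∈ T, ∃ δ, Valid (quadKind F) (2 * n + 1) (s, δ))
    (hT' : ∀ s ∈ T, ∀ a ∈ s, Odd a.2 → (a.1 = X - 1 ∨ a.1 = X + 1) ∧ s.count a ≤ 1) : #T * rt3 ≤ 2.3 * q ^ n := by
  let P : Bool → F[X] := fun b => if b then X - 1 else X + 1
  have hP : Function.Injective P := fun a b h => by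
    have : (X - 1 : F[X]) ≠ X + 1 := fun h => h2 (by
      have := congrArg (eval 0) h; simp at this; linear_combination -this)
    cases a <;> cases b <;> simp_all [P, this.symm]
  let o := fun s : Multiset (F[X] × ℕ) => s.filter fun a => ¬ Even a.2
  let v := fun s : Multiset (F[X] × ℕ) => (s.filter fun a => Even a.2).map fun a => (a.1, a.2 / 2)
  let τ := fun s e => univ.filter fun b => (P b, e + 1) ∈ o s
  have h1 : ∀ s, (v s).map (fun a => (a.1, 2 * a.2)) + o s = s := fun s => by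
    rw [Multiset.map_map, Multiset.map_congr rfl (g := id) fun a ha => by
      simp [Nat.two_mul_div_two_of_even (Multiset.mem_filter.1 ha).2], Multiset.map_id, Multiset.filter_add_not]
  choose! δ hδ using hT
  have h3 : ∀ s ∈ T, IsED (o s) ∧ (∀ a ∈ o s, a.1 ≠ X) ∧ IsED (v s) ∧ (∀ a ∈ v s, a.1 ≠ X) ∧
      2 * edDeg (v s) + edDeg (o s) = 2 * n + 1 := fun s hs => by
    refine ⟨fun a ha => (hδ s hs).ed a (Multiset.mem_of_mem_filter ha), fun a ha => (hδ s hs).ne a
      (Multiset.mem_of_mem_filter ha), Multiset.forall_mem_map_iff.2 fun a ha => ?_, Multiset.forall_mem_map_iff.2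
      fun a ha => (hδ s hs).ne a (Multiset.mem_of_mem_filter ha), ?_⟩
    · obtain ⟨k1, k2, k3⟩ := (hδ s hs).ed a (Multiset.mem_of_mem_filter ha)
      exact ⟨k1, k2, Nat.div_pos (Nat.le_of_dvd k3 (Multiset.mem_filter.1 ha).2.two_dvd) two_pos⟩
    · rw [← (hδ s hs).deg]
      conv_rhs => rw [← h1 s]
      simp [edDeg, ← Multiset.sum_map_mul_left, mul_assoc, -Multiset.filter_add_not]
  have h4 : ∀ s ∈ T, ∀ e, edTup (o s) (e + 1) = ∏ b ∈ τ s e, P b := fun s hs e => by
    refine congrArg Multiset.prod ((Multiset.Nodup.ext (Multiset.nodup_iff_count_le_one.2 fun p => ?_)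
      ((τ s e).2.map hP)).2 fun p => ?_)
    · rw [count_filter_map, Multiset.count_filter]
      split_ifs with h
      · simp
      · by_cases h' : (p, e + 1) ∈ s
        exacts [(hT' s hs _ h' (Nat.not_even_iff_odd.1 h)).2, by simp [h']]
    · rw [← Multiset.count_ne_zero, count_filter_map, Multiset.count_ne_zero]
      refine ⟨fun h => ?_, by simp only [Multiset.mem_map, mem_val, τ, mem_filter]; rintro ⟨b, h, rfl⟩; exact h.2⟩
      have := Multiset.mem_filter.1 h
      rcases (hT' s hs _ this.1 (Nat.not_even_iff_odd.1 this.2)).1 with rfl | rfl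
      exacts [Multiset.mem_map.2 ⟨true, by simpa [τ, P] using h, rfl⟩,
        Multiset.mem_map.2 ⟨false, by simpa [τ, P] using h, rfl⟩]
  have h5 : ∀ s ∈ T, wgt (2 * n + 1) (τ s) = edDeg (o s) := fun s hs => by
    rw [← sum_edTup (h3 s hs).1 (h3 s hs).2.1 (J := 2 * n + 1) (by have := (h3 s hs).2.2.2.2; omega)]
    refine sum_congr rfl fun e _ => ?_
    rw [h4 s hs, natDegree_prod_of_monic _ _ fun b _ => by cases b; exacts [monic_X_add_C 1, monic_X_sub_C 1],
      sum_congr rfl (g := fun _ => 1) fun b _ => by cases b; exacts [natDegree_X_add_C 1, natDegree_X_sub_C 1]]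
    simp
  have h6 : ∀ s ∈ T, ∀ i, IsPal (edTup (v s) (i + 1)) := fun s hs i => by
    have k := hδ s hs
    have c : ∀ p, (((v s).filter (·.2 = i + 1)).map Prod.fst).count p = s.count (p, 2 * i + 1 + 1) := fun p => by
      rw [count_filter_map]
      conv_rhs => rw [← h1 s, Multiset.count_add, Multiset.count_eq_zero_of_notMem (s := o s) fun h =>
        (Multiset.mem_filter.1 h).2 ⟨i + 1, by ring⟩]
      exact (Multiset.count_map_eq_count' (fun a : F[X] × ℕ => (a.1, 2 * a.2)) _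
        (fun a b h => by simpa [Prod.ext_iff] using h) (p, i + 1)).symm
    obtain ⟨⟨⟨a, ha⟩, -⟩, ⟨b, hb⟩, -⟩ := k.bad (2 * i + 1) (by simp [gd_quad h2])
    obtain ⟨g, k1, k2⟩ := exists_pal h2 (M := ((v s).filter (·.2 = i + 1)).map Prod.fst) (a := 0) (b := 0)
      (k := a) (l := b) (Multiset.forall_mem_map_iff.2 fun a ha => by
        have := Multiset.mem_of_mem_filter ha
        exact ⟨((h3 s hs).2.2.1 a this).1, ((h3 s hs).2.2.1 a this).2.1, (h3 s hs).2.2.2.1 a this⟩)
      (filter_map_pd (by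
        conv_rhs => simp only [v]; rw [← show _ = s from k.dual, Multiset.filter_map]
        simp only [v, Multiset.map_map]; rfl) _) (by rw [c, ha]; ring) (by rw [c, hb]; ring)
    rw [edTup, k2]; simpa
  have h7 : ∀ s ∈ T, 2 * ∑ i ∈ range (n + 1), (i + 1) * ((edTup (v s) (i + 1)).natDegree / 2) = edDeg (v s) :=
    fun s hs => by
      rw [← sum_edTup (h3 s hs).2.2.1 (h3 s hs).2.2.2.1 (J := n) (by have := (h3 s hs).2.2.2.2; omega), mul_sum]
      exact sum_congr rfl fun i _ => by rw [mul_left_comm, Nat.two_mul_div_two_of_even (h6 s hs i).2.2.2]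
  have h8 := data_le T τ (fun s => edDeg (v s)) (wgt (2 * n + 1)) (three_le_q h2) (n := n) le_rfl zero_le_one
    (fun T' h b k H => ?_) fun s hs => by rw [h5 s hs, (h3 s hs).2.2.2.2]
  · rw [pow_one, one_mul] at h8
    refine h8.trans ((mul_le_mul_of_nonneg_left (tau_le_even _ (fun b hb e he => ?_) (r := 1) fun b hb => ?_)
      (by positivity)).trans ?_)
    · obtain ⟨s, hs, rfl⟩ := mem_image.1 hb
      refine filter_eq_empty_iff.2 fun b _ h => he.elim (fun he => ?_) fun he =>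
        (Multiset.mem_filter.1 h).2 (Nat.even_add_one.2 he)
      exact Multiset.count_eq_zero.1 ((hδ s hs).count_eq_zero he.le _) (Multiset.mem_of_mem_filter h)
    · obtain ⟨s, hs, rfl⟩ := mem_image.1 hb
      have := (h3 s hs).2.2.2.2
      rw [← h5 s hs, wgt] at this; omega
    · rw [mul_comm]; exact mul_le_mul_of_nonneg_right (by norm_num [rt3]) (by positivity)
  have inj : ∀ s ∈ T', ∀ s' ∈ T', v s = v s' → s = s' := fun s hs s' hs' e => by
    have a := h3 s (h hs)
    have a' := h3 s' (h hs')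
    rw [← h1 s, ← h1 s', e, eq_of_edTup' a.1 a.2.1 a'.1 a'.2.1 (J := 2 * n) (by omega) (by omega) fun e _ => by
      rw [h4 s (h hs), h4 s' (h hs'), (H s hs).1, (H s' hs').1]]
  have inj' : ∀ J, k ≤ J + 1 → ∀ s ∈ T', ∀ s' ∈ T', (∀ i ≤ J, edTup (v s) (i + 1) = edTup (v s') (i + 1)) →
      s = s' := fun J hJ s hs s' hs' e => inj s hs s' hs' (eq_of_edTup' (h3 s (h hs)).2.2.1 (h3 s (h hs)).2.2.2.1
        (h3 s' (h hs')).2.2.1 (h3 s' (h hs')).2.2.2.1 ((H s hs).2.trans_le hJ) ((H s' hs').2.trans_le hJ) e)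
  rcases T'.eq_empty_or_nonempty with rfl | ⟨s, hs⟩
  · simp
  have hq : (3 : ℝ) ≤ q := by exact_mod_cast three_le_q h2
  have k1 := (h7 s (h hs)).trans (H s hs).2
  have k2 := (h3 s (h hs)).2.2.2.2
  rcases k with _ | k
  · have : ∀ s ∈ T', v s = 0 := fun s hs => Multiset.eq_zero_of_forall_notMem fun a ha => by
      obtain ⟨-, b2, b3⟩ := (h3 s (h hs)).2.2.1 a ha
      exact (mul_pos b3 b2.natDegree_pos).ne' (Multiset.sum_eq_zero_iff.1 (H s hs).2 _ (Multiset.mem_map_of_mem _ ha))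
    simpa using card_le_one.2 fun a ha b hb => inj a ha b hb ((this a ha).trans (this b hb).symm)
  refine (pal_tup_le h2 _ T' n ((k + 1) / 2) (fun s hs => h6 s (h hs)) (fun s hs => ?_)
    (inj' n (by rw [(H s hs).2] at k2; omega))).trans ?_
  · have := (h7 s (h hs)).trans (H s hs).2; omega
  · rw [one_mul, pow_succ']
    exact mul_le_mul ((prod_inv_third (by positivity) (inv_q_le h2) _).trans (by linarith))
      (pow_le_pow_right₀ (by linarith) (by omega)) (by positivity) (by positivity)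

omit [Fintype F] in
theorem card_classes_two {G : Type*} [Group G] [Finite G] {φ : G →* ℤˣ} {g : G} (h : φ g = -1) :
    2 * Nat.card (ConjClasses φ.ker) = Nat.card (ConjClasses G) + 3 * nsp φ 1 := by
  have h1 : φ.ker.index = 2 := by
    rw [Subgroup.index_ker, MonoidHom.range_eq_top.2 fun s => (Int.units_eq_one_or s).elim
      (fun e => ⟨1, e ▸ map_one _⟩) fun e => ⟨g, e ▸ h⟩]; simp
  have h2 : nsp φ 0 = Nat.card (ConjClasses G) :=
    Nat.card_congr (Equiv.subtypeUnivEquiv fun C => by simpa using C.exists_rep)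
  have := card_classes_ker' φ
  simp only [h1, sum_range_succ, range_zero, sum_empty, Nat.gcd_zero_left, Nat.gcd_one_left, h2] at this
  omega

theorem card_classes_omega (h2 : (2 : F) ≠ 0) (hD : D.Nondeg) {n : ℕ} (hn : finrank F V = 2 * n + 1) (h1 : 1 ≤ n) :
    q ^ n ≤ 2 * Nat.card (ConjClasses (commutator D.isom)) ∧
      10 * Nat.card (ConjClasses (commutator D.isom)) ≤ 73 * q ^ n := by
  classical
  have : Finite V := Module.finite_of_finite F
  have := D.finite_isom
  let θ : D.isom →* ℤˣ := if disc hD = 1 then spinor hD else spinor hD * dickson hD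
  have k0 : ∀ g, θ g = spinor hD g * if dickson hD g = 1 then 1 else disc hD := fun g => by
    rcases Int.units_eq_one_or (disc hD) with h | h <;> rcases Int.units_eq_one_or (dickson hD g) with h' | h' <;>
      simp [θ, h, h']
  have k1 : dickson hD D.negOne = -1 := by rw [dickson_negOne hD h2, hn, pow_succ, pow_mul]; simp
  have k2 : D.negOne ∈ θ.ker := by simp [k0, k1, ← disc.eq_1]
  obtain ⟨g, hg⟩ := hD.dickson_prod_spinor_surjective h2 (by omega) (1, -1)
  have a1 := card_classes_two (φ := θ) (g := g) (by simp_all [Prod.ext_iff])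
  have a2 := card_classes_two (φ := (dickson hD).comp θ.ker.subtype) (g := ⟨_, k2⟩) k1
  have a3 : nsp ((dickson hD).comp θ.ker.subtype) 1 = 0 := Nat.card_eq_zero.2 (.inl ⟨fun ⟨_, g, _, h⟩ => by
    simpa [k1] using h ⟨_, k2⟩ (Subtype.ext (isom_ext fun v => by simp [isom_mul_apply]))⟩)
  rw [a3, card_conj_equiv ((Subgroup.equivMapOfInjective _ _ θ.ker.subtype_injective).trans
    (MulEquiv.subgroupCongr (show _ = commutator D.isom from Subgroup.ext fun g => by
      simp +contextual [hD.mem_commutator_iff (good_of_two_ne_zero h2), k0, and_comm])))] at a2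
  constructor
  · have := le_card_classes (nat D) (S := (fun p : ℤˣ × F[X] => (X - C ((p.1 : ℤ) : F)) * p.2) ''
      (Set.univ ×ˢ {f | IsPal f ∧ f.natDegree / 2 = n})) (by
        rintro _ ⟨⟨c, f⟩, ⟨-, hf⟩, rfl⟩
        refine exists_isom_charpoly h2 hD ((monic_X_sub_C _).mul hf.1.1) (by
          rw [(monic_X_sub_C _).natDegree_mul hf.1.1, natDegree_X_sub_C, (isPal_iff.1 hf).2.1, hn, add_comm])
          (by rcases Int.units_eq_one_or c with rfl | rfl <;> simp [hf.1.2.2.1]) ?_ ?_ <;>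
          rcases Int.units_eq_one_or c with rfl | rfl
        exacts [by simpa [hf.1.2.1] using congrArg (· * f) (pd_X_sub_one (σ := RingHom.id F)),
          by simpa [hf.1.2.1] using congrArg (· * f) (pd_X_sub_C (σ := RingHom.id F) (c := -1) (by simp)), by simp, by simp])
    rw [Set.ncard_image_of_injOn, Set.ncard_prod, ← Nat.card_coe_set_eq {f | IsPal f ∧ _}, Set.coe_setOf,
      card_pal, Set.ncard_univ, Nat.card_eq_fintype_card, Fintype.card_units_int] at this
    · omega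
    rintro ⟨c, f⟩ ⟨-, hf⟩ ⟨c', f'⟩ ⟨-, hf'⟩ h
    have e := congrArg (coeff · 0) h
    simp only [mul_coeff_zero, hf.1.2.2.1, hf'.1.2.2.1] at e
    obtain rfl : c = c' := by
      have : (1 : F) ≠ -1 := fun h => h2 (by linear_combination h)
      rcases Int.units_eq_one_or c with rfl | rfl <;> rcases Int.units_eq_one_or c' with rfl | rfl <;>
        simp_all [this.symm]
    exact Prod.ext rfl (mul_left_cancel₀ (X_sub_C_ne_zero _) h)
  have := Fintype.ofFinite {C // ∃ g, ConjClasses.mk g = C ∧ ∀ h, Commute g h → θ h ^ 1 = 1}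
  choose r hr hr' using fun C : {C // ∃ g, ConjClasses.mk g = C ∧ ∀ h, Commute g h → θ h ^ 1 = 1} => C.2
  have b1 : ∀ C, NS hD (nat D (r C)) := fun C => by
    constructor <;> rintro ⟨z, z1, z2, z3⟩ <;>
      simpa [k0, z2, z3] using hr' C z (nat_injective D (by rw [map_mul, map_mul, z1.eq]))
  have b2 := ns_le h2 (n := n) (univ.image fun C => edOf (nat D (r C)))
    (forall_mem_image.2 fun C _ => ⟨_, hn ▸ valid_raw h2 hD (r C).2⟩)
    (forall_mem_image.2 fun C _ a => (b1 C).odd h2 (r C).2)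
  rw [card_image_of_injective _ fun C C' h => Subtype.ext (by
    rw [← hr C, ← hr C', ConjClasses.mk_eq_mk_iff_isConj, isConj_iff_isoC]
    exact (b1 C).isoC h2 (b1 C') (r C).2 (r C').2 h), card_univ, ← Nat.card_eq_fintype_card, ← nsp] at b2
  have b3 := card_classes_quad_le h2 hD le_rfl hn
  have b4 : (4 * Nat.card (ConjClasses (commutator D.isom)) : ℝ) = Nat.card (ConjClasses D.isom) + 3 * nsp θ 1 := by
    exact_mod_cast (by omega : _ = Nat.card (ConjClasses D.isom) + 3 * nsp θ 1)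
  have : (0 : ℝ) ≤ q ^ n := by positivity
  suffices (10 * Nat.card (ConjClasses (commutator D.isom)) : ℝ) ≤ 73 * q ^ n by exact_mod_cast this
  norm_num [rt3] at b2 b3
  linarith

end Cfsg.Lib.Conj
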