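import Cfsg.Agent.Lib.Conj.SpecO
import Cfsg.Agent.Lib.Known.FExt
import Mathlib.RingTheory.Polynomial.Cyclotomic.Basic

/-!
Homocyclic Sylow subgroups of classical groups.
-/

set_option autoImplicit false

namespace Cfsg.Lib.Conj

open Function Finset Cfsg.Lib.Forms Cfsg.Lib.Forms.Form Cfsg.Lib.Linear Cfsg.Lib.Known Module Matrix

/-- `A` embeds in `G`. -/
def Emb (A G : Type*) [Group A] [Group G] : Prop := ∃ ψ : A →* G, Injective ψ

section Emb

variable {A B G H : Type*} [Group A] [Group B] [Group G] [Group H]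

theorem Emb.trans (h : Emb A B) (h' : Emb B G) : Emb A G :=
  let ⟨f, hf⟩ := h; let ⟨g, hg⟩ := h'; ⟨g.comp f, hg.comp hf⟩

theorem emb_equiv (e : A ≃* G) : Emb A G := ⟨e.toMonoidHom, e.injective⟩

theorem Emb.prod (h : Emb A G) (h' : Emb B H) : Emb (A × B) (G × H) :=
  let ⟨f, hf⟩ := h; let ⟨g, hg⟩ := h'; ⟨f.prodMap g, hf.prodMap hg⟩

theorem emb_of_subsingleton [Subsingleton A] : Emb A G := ⟨1, injective_of_subsingleton _⟩

theorem emb_succ (a : ℕ) : Emb (Fin (a + 1) → A) (A × (Fin a → A)) :=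
  ⟨(Pi.evalMonoidHom _ 0).prod (Pi.monoidHom fun i => Pi.evalMonoidHom _ i.succ), fun x y h =>
    funext (Fin.cases (congrArg Prod.fst h) fun i => congrFun (congrArg Prod.snd h) i)⟩

theorem emb_pi {G : ℕ → Type*} [∀ n, Group (G n)] (hG : ∀ a b, Emb (G a × G b) (G (a + b)))
    {d : ℕ} (h : Emb A (G d)) (a n : ℕ) (hn : d * a ≤ n) : Emb (Fin a → A) (G n) := by
  induction a generalizing n with
  | zero => exact emb_of_subsingleton
  | succ a ih =>
    obtain ⟨k, rfl⟩ := Nat.exists_eq_add_of_le ((Nat.le_mul_of_pos_right d a.succ_pos).trans hn)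
    exact (emb_succ a).trans ((h.prod (ih k (by rw [mul_add_one] at hn; omega))).trans (hG d k))

theorem emb_zmod [Finite G] {m : ℕ} {g : G} (h : orderOf g = m) :
    Emb (Multiplicative (ZMod m)) G := by
  rw [← h, ← Nat.card_zpowers]
  exact (emb_equiv (zmodCyclicMulEquiv inferInstance)).trans ⟨_, (Subgroup.zpowers g).subtype_injective⟩

theorem Emb.sylow [Finite G] {r v a : ℕ} [Fact r.Prime]
    (h : Emb (Fin a → Multiplicative (ZMod (r ^ v))) G) (hA : padicValNat r (Nat.card G) = v * a)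
    (P : Sylow r G) : Nonempty (P ≃* (Fin a → Multiplicative (ZMod (r ^ v)))) :=
  let ⟨ψ, h⟩ := h
  ⟨(P.equiv (Sylow.ofCard ψ.range (by
    rw [Nat.factorization_def _ Fact.out, hA, ← Nat.card_congr (MonoidHom.ofInjective h).toEquiv]
    simp [Nat.card_fun, pow_mul]))).trans (MonoidHom.ofInjective h).symm⟩

end Emb

section Val

variable {r q : ℕ} [hr : Fact r.Prime] (hq : 1 < q)
include hq

theorem dvd_pow_sub_one_iff' (e : ℕ) : r ∣ q ^ e - 1 ↔ orderOf (q : ZMod r) ∣ e := by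
  rw [orderOf_dvd_iff_pow_eq_one, ← ZMod.natCast_eq_zero_iff,
    Nat.cast_sub (Nat.one_le_pow _ _ (by omega)), sub_eq_zero]; simp

theorem val_pow_sub_one {e : ℕ} (he : ¬ r ∣ e) : padicValNat r (q ^ e - 1) =
    if orderOf (q : ZMod r) ∣ e then padicValNat r (q ^ orderOf (q : ZMod r) - 1) else 0 := by
  split_ifs with h
  · obtain ⟨k, rfl⟩ := h
    have h0 : orderOf (q : ZMod r) ≠ 0 := by rintro h; simp [h] at he
    have h1 := Nat.one_lt_pow h0 hq
    have h2 : ¬ r ∣ geomS (q ^ orderOf (q : ZMod r)) k := fun h => he (Dvd.dvd.mul_left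
      (((geomS_modEq h1.le k).of_dvd ((dvd_pow_sub_one_iff' hq _).2 dvd_rfl)).dvd_iff dvd_rfl |>.1 h) _)
    rw [pow_mul, ← geomS_mul h1.le, padicValNat.mul (by rintro h; simp [h] at h2) (by omega),
      padicValNat.eq_zero_of_not_dvd h2, zero_add]
  · exact padicValNat.eq_zero_of_not_dvd (by rwa [dvd_pow_sub_one_iff' hq])

theorem val_prod' (s : Finset ℕ) (f : ℕ → ℕ) (hf : ∀ i ∈ s, ¬ r ∣ f i) :
    ∏ i ∈ s, (q ^ f i - 1) ≠ 0 ∧ padicValNat r (∏ i ∈ s, (q ^ f i - 1)) =
      padicValNat r (q ^ orderOf (q : ZMod r) - 1) * #(s.filter fun i => orderOf (q : ZMod r) ∣ f i) := by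
  induction s using Finset.induction_on with
  | empty => simp
  | insert a s ha ih =>
    have h0 := hf a (mem_insert_self _ _)
    have h1 : q ^ f a - 1 ≠ 0 :=
      Nat.sub_ne_zero_of_lt (Nat.one_lt_pow (by rintro h; simp [h] at h0) hq)
    obtain ⟨h2, h3⟩ := ih fun i hi => hf i (mem_insert_of_mem hi)
    rw [prod_insert ha, padicValNat.mul h1 h2, h3, val_pow_sub_one hq h0, filter_insert]
    refine ⟨mul_ne_zero h1 h2, ?_⟩
    split_ifs
    · rw [card_insert_of_notMem (by simp [ha])]; ring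
    · rw [zero_add]

theorem val_cyclotomic' (hd : 0 < orderOf (q : ZMod r)) :
    padicValNat r ((Polynomial.cyclotomic (orderOf (q : ZMod r)) ℤ).eval (q : ℤ)).natAbs =
      padicValNat r (q ^ orderOf (q : ZMod r) - 1) := by
  have h0 : ∀ e, ((q : ℤ) ^ e - 1).natAbs = q ^ e - 1 := fun e => by
    rw [← Int.natAbs_natCast (q ^ e - 1), Nat.cast_sub (Nat.one_le_pow _ _ (by omega))]; simp
  have h1 := congrArg (fun f => (Polynomial.eval (q : ℤ) f).natAbs)
    (Polynomial.prod_cyclotomic_eq_X_pow_sub_one hd ℤ)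
  simp only [← Nat.cons_self_properDivisors hd.ne', prod_cons, Polynomial.eval_mul, Int.natAbs_mul,
    Polynomial.eval_sub, Polynomial.eval_pow, Polynomial.eval_X, Polynomial.eval_one, h0] at h1
  have h2 := Nat.sub_ne_zero_of_lt (Nat.one_lt_pow hd.ne' hq)
  rw [← h1] at h2 ⊢
  rw [padicValNat.mul (left_ne_zero_of_mul h2) (right_ne_zero_of_mul h2),
    padicValNat.eq_zero_of_not_dvd (n := Int.natAbs (Polynomial.eval _ (∏ _ ∈ _, _))), add_zero]
  rw [← Int.natCast_dvd, Polynomial.eval_prod, (Nat.prime_iff_prime_int.1 hr.out).dvd_finsetProd_iff]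
  rintro ⟨e, he, h⟩
  have := h.trans (Polynomial.eval_dvd (Polynomial.cyclotomic.dvd_X_pow_sub_one e ℤ))
  simp only [Polynomial.eval_sub, Polynomial.eval_pow, Polynomial.eval_X, Polynomial.eval_one,
    Int.natCast_dvd, h0, dvd_pow_sub_one_iff' hq] at this
  exact (Nat.mem_properDivisors.1 he).2.not_ge (Nat.le_of_dvd (Nat.pos_of_mem_properDivisors he) this)

omit hq in
theorem orderOf_cast_pos (h : ¬ r ∣ q) : 0 < orderOf (q : ZMod r) :=
  orderOf_zmod_pos hr.out (by rwa [Ne, ZMod.natCast_eq_zero_iff])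

omit hq in
theorem val_pow_mul (h : ¬ r ∣ q) (k : ℕ) {a : ℕ} (ha : a ≠ 0) :
    padicValNat r (q ^ k * a) = padicValNat r a := by
  rw [padicValNat.mul (pow_ne_zero _ (by rintro rfl; simp at h)) ha,
    padicValNat.eq_zero_of_not_dvd fun h' => h (hr.out.dvd_of_dvd_pow h'), zero_add]

omit hq hr in
theorem card_filter_succ (n d : ℕ) : #((range n).filter fun i => d ∣ i + 1) = n / d :=
  Nat.card_multiples n d

end Val

section Lin

variable {F : Type*} [Field F]

variable (F) in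
/-- Block diagonal matrices. -/
def glBlk (a b : ℕ) : GL (Fin a) F × GL (Fin b) F →* GL (Fin (a + b)) F :=
  (glReindex finSumFinEquiv).toMonoidHom.comp ((Units.map
    { toFun := fun x : Matrix (Fin a) (Fin a) F × Matrix (Fin b) (Fin b) F => fromBlocks x.1 0 0 x.2
      map_one' := fromBlocks_one
      map_mul' := fun x y => by simp [fromBlocks_multiply] }).comp MulEquiv.prodUnits.symm.toMonoidHom)

theorem coe_glBlk {a b : ℕ} (x : GL (Fin a) F × GL (Fin b) F) : (glBlk F a b x).1 =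
    reindex finSumFinEquiv finSumFinEquiv (fromBlocks x.1.1 0 0 x.2.1) := rfl

theorem glBlk_injective (a b : ℕ) : Injective (glBlk F a b) := fun x y h => by
  have := fromBlocks_inj.1 ((reindex _ _).injective (congrArg Units.val h))
  exact Prod.ext (Units.ext this.1) (Units.ext this.2.2.2)

theorem det_glBlk {a b : ℕ} (x : GL (Fin a) F × GL (Fin b) F) : GeneralLinearGroup.det (glBlk F a b x) =
    GeneralLinearGroup.det x.1 * GeneralLinearGroup.det x.2 :=
  Units.ext (by simp [coe_glBlk])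

theorem emb_gl_sl (k : ℕ) : Emb (GL (Fin k) F) (SpecialLinearGroup (Fin (k + 1)) F) := by
  refine Emb.trans ⟨((glBlk F k 1).comp ((MonoidHom.id _).prod ((GeneralLinearGroup.scalar _).comp
    (GeneralLinearGroup.det)⁻¹))).codRestrict GeneralLinearGroup.det.ker fun g => ?_, fun x y h =>
      congrArg Prod.fst (glBlk_injective k 1 (congrArg Subtype.val h))⟩ (emb_equiv slEquivKerDet.symm)
  rw [MonoidHom.mem_ker, MonoidHom.comp_apply, det_glBlk]
  ext
  simp

variable [Finite F] {r : ℕ} [hr : Fact r.Prime]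

theorem Emb.sl {A ι : Type*} [Group A] [Fintype ι] [DecidableEq ι] (h : Emb A (GL ι F)) {m : ℕ}
    (hA : ∀ a : A, a ^ m = 1) (hm : m.Coprime (Nat.card F - 1)) : Emb A (SpecialLinearGroup ι F) := by
  obtain ⟨ψ, h⟩ := h
  refine Emb.trans ⟨ψ.codRestrict GeneralLinearGroup.det.ker fun g => ?_, fun x y h' =>
      h (congrArg Subtype.val h')⟩ (emb_equiv slEquivKerDet.symm)
  rw [MonoidHom.mem_ker, ← orderOf_eq_one_iff]
  refine Nat.eq_one_of_dvd_coprimes hm (orderOf_dvd_of_pow_eq_one ?_) ((card_units_eq (F := F)) ▸ orderOf_dvd_natCard _)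
  rw [← map_pow, ← map_pow, hA, map_one, map_one]

theorem emb_gl {d m : ℕ} (hd : 0 < d) (hm : m ∣ Nat.card F ^ d - 1) (a n : ℕ) (hn : d * a ≤ n) :
    Emb (Fin a → Multiplicative (ZMod m)) (GL (Fin n) F) := by
  haveI : NeZero d := ⟨hd.ne'⟩
  obtain ⟨z, hz⟩ := IsCyclic.exists_ofOrder_eq_natCard (α := (FExt F d)ˣ)
  rw [card_units_eq, card_FExt] at hz
  obtain ⟨w, hw⟩ := exists_orderOf_of_dvd (hz ▸ hm)
  exact emb_pi (G := fun n => GL (Fin n) F) (fun a b => ⟨_, glBlk_injective a b⟩)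
    ((emb_zmod hw).trans ⟨_, singer_injective⟩) a n hn

theorem val_card_GL {n : ℕ} (hn : n < r) (hq : ¬ r ∣ Nat.card F) : padicValNat r (Nat.card (GL (Fin n) F)) =
    padicValNat r (Nat.card F ^ orderOf (Nat.card F : ZMod r) - 1) * (n / orderOf (Nat.card F : ZMod r)) := by
  obtain ⟨h1, h2⟩ := val_prod' (r := r) (two_le_card_field (F := F)) (range n) (· + 1) fun i hi =>
    Nat.not_dvd_of_pos_of_lt i.succ_pos (by have := mem_range.1 hi; omega)
  rw [card_GL', Fintype.card_fin, val_pow_mul hq _ h1, h2, card_filter_succ]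

theorem sylow_GL {n : ℕ} (hn : n < r) (hq : ¬ r ∣ Nat.card F) (P : Sylow r (GL (Fin n) F)) :
    Nonempty (P ≃* (Fin (n / orderOf (Nat.card F : ZMod r)) → Multiplicative (ZMod
      (r ^ padicValNat r (Nat.card F ^ orderOf (Nat.card F : ZMod r) - 1))))) :=
  (emb_gl (orderOf_cast_pos hq) pow_padicValNat_dvd _ _ (Nat.mul_div_le _ _)).sylow (val_card_GL hn hq) P

theorem sylow_SL {n : ℕ} (hn : n < r) (hq : ¬ r ∣ Nat.card F) (P : Sylow r (SpecialLinearGroup (Fin n) F)) :
    Nonempty (P ≃* (Fin #((Icc 2 n).filter (orderOf (Nat.card F : ZMod r) ∣ ·)) → Multiplicative (ZMod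
      (r ^ padicValNat r (Nat.card F ^ orderOf (Nat.card F : ZMod r) - 1))))) := by
  have h2 := two_le_card_field (F := F)
  cases n with
  | zero => exact (emb_of_subsingleton (A := Fin 0 → _)).sylow (by simp [Nat.card_unique]) P
  | succ n =>
    have h3 := val_card_GL hn hq
    have h4 := val_pow_sub_one (r := r) h2 (e := 1) hr.out.not_dvd_one
    rw [← card_SL_aux, padicValNat.mul (by omega) Nat.card_pos.ne', ← Nat.Ioc_filter_dvd_card_eq_div,
      show Ioc 0 (n + 1) = insert 1 (Icc 2 (n + 1)) by ext; simp; omega, filter_insert] at h3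
    rw [pow_one] at h4
    split_ifs at h3 h4 with h
    · rw [card_insert_of_notMem (by simp), mul_add_one, ← h4, add_comm, add_left_inj] at h3
      refine Emb.sylow (Emb.trans (emb_gl (orderOf_cast_pos hq) pow_padicValNat_dvd _ _ ?_)
        (emb_gl_sl n)) (by rw [h3, h4]) P
      rw [Nat.dvd_one.1 h, one_mul]
      exact (card_filter_le _ _).trans (by simp)
    · refine Emb.sylow (Emb.sl (m := r ^ padicValNat r (Nat.card F ^ orderOf (Nat.card F : ZMod r) - 1)) (emb_gl (orderOf_cast_pos hq) pow_padicValNat_dvd _ _ ?_)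
        (fun a => funext fun i => ?_) ?_) (by rw [← h3, h4, zero_add]) P
      · refine le_trans (Nat.mul_le_mul_left _ ?_) (Nat.mul_div_le _ _)
        rw [← Nat.Ioc_filter_dvd_card_eq_div]
        exact card_le_card (filter_subset_filter _ fun i => by simp; omega)
      · simpa using pow_card_eq_one' (x := a i)
      · refine Nat.Coprime.pow_left _ ((Nat.Prime.coprime_iff_not_dvd hr.out).2 fun h' => h ?_)
        rwa [← dvd_pow_sub_one_iff' h2, pow_one]

theorem sylow_Sp {n : ℕ} (h2 : r ≠ 2) (hn : n < r) (hq : ¬ r ∣ Nat.card F)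
    (P : Sylow r (symplecticGroup (Fin n) F)) :
    Nonempty (P ≃* (Fin #((Icc 1 n).filter fun i => orderOf (Nat.card F : ZMod r) ∣ 2 * i) →
      Multiplicative (ZMod (r ^ padicValNat r (Nat.card F ^ orderOf (Nat.card F : ZMod r) - 1))))) := by
  have hF := two_le_card_field (F := F)
  haveI := fact_prime_ringChar F
  obtain ⟨η, hη⟩ := exists_eta (orderOf (Nat.card F : ZMod r))
  have h0 := hη.pos (orderOf_cast_pos hq)
  obtain ⟨h1, h3⟩ := val_prod' (r := r) hF (range n) (fun i => 2 * (i + 1)) fun i hi h =>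
    (hr.out.dvd_mul.1 h).elim (fun h => h2 ((Nat.prime_dvd_prime_iff_eq hr.out Nat.prime_two).1 h))
      (Nat.not_dvd_of_pos_of_lt i.succ_pos (by have := mem_range.1 hi; omega))
  simp only [← hη.dvd_iff] at h3
  rw [show #((Icc 1 n).filter fun i => orderOf (Nat.card F : ZMod r) ∣ 2 * i) = n / η by
    simp only [← hη.dvd_iff]; exact Nat.Ioc_filter_dvd_card_eq_div n η]
  rw [card_filter_succ] at h3
  set v := padicValNat r (Nat.card F ^ orderOf (Nat.card F : ZMod r) - 1)
  obtain ⟨z, hz⟩ := exists_units_orderOf (F := F) (ringChar F) (N := r ^ v) fun h =>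
    hq ((Nat.prime_dvd_prime_iff_eq Fact.out hr.out).1 (Nat.Prime.dvd_of_dvd_pow Fact.out h) ▸
      spec_char_dvd (ringChar F))
  have hL : OVal Even [(z, η, 1)] := by
    refine oVal_cons.2 ⟨⟨⟨le_rfl, ?_⟩, fun h => by simp at h; omega⟩, oVal_nil⟩
    have h4 : r ^ v ∣ _ := pow_padicValNat_dvd
    simp only [← orderOf_dvd_iff_pow_eq_one, hz]
    rcases hη with ⟨-, h⟩ | ⟨-, h⟩
    · exact Or.inr ⟨h0, h ▸ h4⟩
    · rw [← h, mul_comm, pow_mul, show ∀ a, a ^ 2 - 1 = (a + 1) * (a - 1) from fun a => by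
        rw [← Nat.sq_sub_sq, one_pow]] at h4
      refine Or.inl (Nat.Coprime.dvd_of_dvd_mul_right (Nat.Coprime.pow_left _
        ((Nat.Prime.coprime_iff_not_dvd hr.out).2 fun h' => ?_)) h4)
      rw [dvd_pow_sub_one_iff' hF, ← h] at h'
      exact absurd (Nat.le_of_dvd h0 h') (by omega)
  obtain ⟨g, hg⟩ := sp_synthesis (fSymp_nondeg (F := F) η) hL (by
    simp [oDim_cons, oDim_nil, od_of_pos h0, two_mul])
  have hg' : orderOf g = r ^ v := by
    have := orderOf_dvd_oOne (ringChar F) g hL hg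
    refine Nat.dvd_antisymm ((this _).2 fun a ha => ?_) ?_
    · obtain rfl := List.mem_singleton.1 ha
      exact ⟨hz ▸ pow_orderOf_eq_one z, 0, by simp, by simp⟩
    · exact hz ▸ orderOf_dvd_of_pow_eq_one ((this _).1 dvd_rfl _ (List.mem_singleton_self _)).1
  haveI : Finite (fSymp F η).isom := finite_isom
  refine Emb.sylow (Emb.trans (emb_pi (G := fun n => (fSymp F n).isom) (fun a b => ?_) (emb_zmod hg') _ _
    (Nat.mul_div_le _ _)) (emb_equiv (spEquiv F n).symm))
    (by rw [card_symplecticGroup, spOrder, val_pow_mul hq _ h1, h3]) P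
  obtain ⟨e, he⟩ := Symp.iso_fSymp ((fSymp_nondeg (F := F) a).prod (fSymp_nondeg b)) (m := a + b)
    (by simp; ring)
  refine Emb.trans ⟨prodHom _ _, fun x y h => Prod.ext (isom_ext fun v => ?_) (isom_ext fun v => ?_)⟩
    (emb_equiv (isomCongr e he))
  · exact congrArg (fun g => (g.1 (v, 0)).1) h
  · exact congrArg (fun g => (g.1 (0, v)).2) h

end Lin

end Cfsg.Lib.Conj
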