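import Cfsg.Agent.Lib.Conj.SpecO

/-!
Wall's classification of the isometries of symplectic and orthogonal spaces in odd characteristic.
-/

set_option autoImplicit false

namespace Cfsg.Lib.Conj

open Module Cfsg.Lib.Forms Cfsg.Lib.Forms.Form Cfsg.Lib.Known Polynomial

universe u v

variable {F : Type*} [Field F] {K : Kind (RingHom.id F)} {V V' W W' : Type*}
  [AddCommGroup V] [Module F V] [AddCommGroup V'] [Module F V']
  [AddCommGroup W] [Module F W] [AddCommGroup W'] [Module F W']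

section LEmb

variable {D : Form K V} {D' : Form K V'} {E : Form K W} {E' : Form K W'} {x : End F V}
  {y : End F V'} {z : End F W} {w : End F W'} {e : ℕ}

theorem isIsometry_of_two {σ : F →+* F} {K : Kind σ} (h2 : (2 : F) ≠ 0) {D : Form K V}
    {D' : Form K V'} {f : V → V'} (h : ∀ u v, D'.B (f u) (f v) = D.B u v) : IsIsometry D D' f :=
  ⟨h, fun v => mul_left_cancel₀ h2 (by rw [← tr_B_self, ← tr_B_self, h])⟩

/-- The level `e` form of `x` embeds in that of `y`. -/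
def LEmb (e : ℕ) (D : Form K V) (x : End F V) (D' : Form K V') (y : End F V') : Prop :=
  ∃ f : V →ₗ[F] V', (∀ u, ((x - 1) ^ (e + 1)) u = 0 → ((y - 1) ^ (e + 1)) (f u) = 0) ∧
    ∀ u v, ((x - 1) ^ (e + 1)) u = 0 → ((x - 1) ^ (e + 1)) v = 0 →
      D'.B (((y - 1) ^ e) (f u)) (f v) = D.B (((x - 1) ^ e) u) v

theorem LEmb.trans (h : LEmb e D x D' y) (h' : LEmb e D' y E z) : LEmb e D x E z := by
  obtain ⟨f, f1, f2⟩ := h
  obtain ⟨g, g1, g2⟩ := h'
  exact ⟨g ∘ₗ f, fun u hu => g1 _ (f1 u hu), fun u v hu hv =>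
    (g2 _ _ (f1 u hu) (f1 v hv)).trans (f2 u v hu hv)⟩

theorem pow_intertwine {f : V →ₗ[F] V'} (h : ∀ v, f (x v) = y (f v)) (k : ℕ) (v : V) :
    f (((x - 1) ^ k) v) = ((y - 1) ^ k) (f v) := by
  induction k with
  | zero => rfl
  | succ k ih => simp [pow_succ', h, ih]

theorem coe_restrict_pow {U : Submodule F V} (h : ∀ v ∈ U, x v ∈ U) (k : ℕ) (v : U) :
    (((x.restrict h - 1 : End F U) ^ k) v : V) = ((x - 1) ^ k) v :=
  pow_intertwine (x := x.restrict h) (f := U.subtype) (fun _ => rfl) k v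

theorem emb_of_map {f : V →ₗ[F] V'} (h : ∀ v, f (x v) = y (f v))
    (hf : ∀ u v, D'.B (f u) (f v) = D.B u v) : LEmb e D x D' y :=
  ⟨f, fun u hu => by rw [← pow_intertwine h, hu, map_zero],
    fun u v _ _ => by rw [← pow_intertwine h, hf]⟩

theorem IsoC.emb (h : IsoC D x D' y) : LEmb e D x D' y :=
  let ⟨f, h1, h2⟩ := h
  emb_of_map (f := f.toLinearMap) h2 h1.B_map

theorem prodMap_pow_apply (k : ℕ) (v : V × W) :
    ((x.prodMap z - 1) ^ k) v = (((x - 1) ^ k) v.1, ((z - 1) ^ k) v.2) :=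
  Prod.ext (pow_intertwine (f := LinearMap.fst F V W) (fun _ => rfl) k v)
    (pow_intertwine (f := LinearMap.snd F V W) (fun _ => rfl) k v)

theorem emb_inr : LEmb e E z (D.prod E) (x.prodMap z) :=
  emb_of_map (f := LinearMap.inr F V W) (fun v => by simp) fun u v => by simp [prod_B]

theorem emb_snd (h : ∀ u v, ((x - 1) ^ (e + 1)) u = 0 → ((x - 1) ^ (e + 1)) v = 0 →
    D.B (((x - 1) ^ e) u) v = 0) : LEmb e (D.prod E) (x.prodMap z) E z :=
  ⟨LinearMap.snd F V W, fun u hu => by rw [prodMap_pow_apply] at hu; exact congrArg Prod.snd hu,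
    fun u v hu hv => by
      rw [prodMap_pow_apply] at hu hv
      rw [prod_B, prodMap_pow_apply, h _ _ (congrArg Prod.fst hu) (congrArg Prod.fst hv), zero_add]
      rfl⟩

theorem isoC_swap : IsoC (D.prod E) (x.prodMap z) (E.prod D) (z.prodMap x) :=
  ⟨LinearEquiv.prodComm F V W, ⟨fun _ _ => add_comm _ _, fun _ => add_comm _ _⟩, fun _ => rfl⟩

/-- Mutual embeddings pass to complements of summands with trivial level form. -/
theorem emb_cancel {U U' : Type*} [AddCommGroup U] [Module F U] [AddCommGroup U'] [Module F U']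
    {C : Form K U} {C' : Form K U'} {a : End F U} {b : End F U'}
    (h : IsoC (C.prod E) (a.prodMap z) D x) (h' : IsoC (C'.prod E') (b.prodMap w) D' y)
    (H : LEmb e D x D' y) (h0 : ∀ u v, ((b - 1) ^ (e + 1)) u = 0 → ((b - 1) ^ (e + 1)) v = 0 →
      C'.B (((b - 1) ^ e) u) v = 0) : LEmb e E z E' w :=
  ((emb_inr.trans h.emb).trans H).trans (h'.symm.emb.trans (emb_snd h0))

theorem IsoC.neg (h : IsoC D x D' y) : IsoC D (-x) D' (-y) :=
  let ⟨f, h1, h2⟩ := h
  ⟨f, h1, fun v => by simp [h2]⟩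

theorem isoC_split [FiniteDimensional F V] (hD : D.Nondeg) (hx : IsIsometry D D x) {f : W →ₗ[F] V}
    (hE : (D.comap f).Nondeg) (hz : ∀ m, f (z m) = x (f m)) :
    ∃ h : ∀ v ∈ D.perp (LinearMap.range f), x v ∈ D.perp (LinearMap.range f),
      (D.restrict (D.perp (LinearMap.range f))).Nondeg ∧
      IsoC ((D.comap f).prod (D.restrict (D.perp (LinearMap.range f))))
        (z.prodMap (x.restrict h)) D x := by
  have h1 : ∀ v ∈ LinearMap.range f, x v ∈ LinearMap.range f := by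
    rintro _ ⟨m, rfl⟩; exact ⟨_, hz m⟩
  have h2 : Disjoint (LinearMap.range f) (D.perp (LinearMap.range f)) := by
    rw [Submodule.disjoint_def]
    rintro _ ⟨m, rfl⟩ hm
    rw [hE m fun m' => D.mem_perp'.1 hm _ ⟨m', rfl⟩, map_zero]
  refine ⟨perp_inv (isUnit_of_isIsometry hD hx.B_map) hx.B_map h1, hD.restrict_perp h2,
    IsoC.trans (IsoC.prod ?_ (IsoC.refl _ _)) (isoC_orthCompl (hD.isOrthCompl h2) h1 _)⟩
  exact ⟨LinearEquiv.ofInjective f ((D.isIsometry_comap f).injective hE), ⟨fun _ _ => rfl, fun _ => rfl⟩,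
    fun m => Subtype.ext (hz m)⟩

end LEmb

section Free

variable {M : Type*} [AddCommGroup M] [Module F M] {e : ℕ}

/-- The map from the free module on `M`. -/
def fr (N : End F V) (e : ℕ) (ι : M →ₗ[F] V) : (Fin (e + 1) → M) →ₗ[F] V :=
  ∑ i : Fin (e + 1), (N ^ (i : ℕ)) ∘ₗ ι ∘ₗ LinearMap.proj i

variable (F M e) in
/-- The shift. -/
def sh : End F (Fin (e + 1) → M) :=
  LinearMap.pi (Fin.cases 0 fun i => LinearMap.proj i.castSucc)

variable {N : End F V} {ι : M →ₗ[F] V}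

theorem fr_apply (m : Fin (e + 1) → M) : fr N e ι m = ∑ i : Fin (e + 1), (N ^ (i : ℕ)) (ι (m i)) := by
  simp [fr]

theorem fr_sh (hN : ∀ m, (N ^ (e + 1)) (ι m) = 0) (m : Fin (e + 1) → M) :
    fr N e ι (sh F M e m) = N (fr N e ι m) := by
  rw [fr_apply, fr_apply, Fin.sum_univ_succ, Fin.sum_univ_castSucc, map_add, map_sum, Fin.val_last,
    ← End.mul_apply, ← pow_succ', hN]
  simp [sh, pow_succ']

theorem fr_single (m : M) : fr N e ι (Pi.single 0 m) = ι m := by
  rw [fr_apply, Fin.sum_univ_succ]; simp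

theorem pow_fr (hN : ∀ m, (N ^ (e + 1)) (ι m) = 0) {m : Fin (e + 1) → M} {i : Fin (e + 1)}
    (h : ∀ j < i, m j = 0) : (N ^ (e - i)) (fr N e ι m) = (N ^ e) (ι (m i)) := by
  rw [fr_apply, map_sum, Finset.sum_eq_single i, ← End.mul_apply, ← pow_add,
    Nat.sub_add_cancel (Nat.le_of_lt_succ i.2)]
  · intro j _ hj
    rcases hj.lt_or_gt with hj | hj
    · simp [h j hj]
    · rw [← End.mul_apply, ← pow_add, show e - i + j = j - i - 1 + (e + 1) by
        have := i.2; have : (i : ℕ) < j := hj; omega, pow_add, End.mul_apply, hN, map_zero]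
  · simp

theorem exists_sh {m : Fin (e + 1) → M} (h : m 0 = 0) : ∃ m', sh F M e m' = m :=
  ⟨Fin.snoc (fun i => m i.succ) 0, funext (Fin.cases (by simp [sh, h]) fun i => by simp [sh])⟩

end Free

section Top

variable [FiniteDimensional F V] {D : Form K V} {x : End F V} {e : ℕ}

theorem B_pow_eq_zero (hD : D.Nondeg) (hx : ∀ u v, D.B (x u) (x v) = D.B u v) {k : ℕ} (u : V) {v : V}
    (hv : ((x - 1) ^ k) v = 0) : D.B (((x - 1) ^ k) u) v = 0 :=
  D.mem_perp'.1 (perp_ker_pow hD hx k ▸ LinearMap.mem_range_self _ u) v hv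

/-- Two invariant forms on a free module with the same top form are conjugate. -/
theorem isoC_free [Finite F] (h2 : (2 : F) ≠ 0) {D' : Form K V} (hD : D.Nondeg) (hD' : D'.Nondeg)
    (hx : IsIsometry D D x) (hx' : IsIsometry D' D' x) (h0 : (x - 1) ^ (e + 1) = 0)
    (h1 : ∀ v, ((x - 1) ^ e) v = 0 → ∃ u, (x - 1) u = v)
    (H : ∀ u v, D.B (((x - 1) ^ e) u) v = D'.B (((x - 1) ^ e) u) v) : IsoC D x D' x := by
  obtain ⟨s, s1, s2, -, s4⟩ := exists_ratio hD hD'
  have cs := s4 x (adj_eq_adj hD hD' hx.B_map hx'.B_map)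
  have c1 : Commute (x - 1) (s - 1) :=
    (cs.sub_left (Commute.one_left s)).sub_right (Commute.one_right _)
  have h3 : ∀ (k : ℕ) v, ∃ u, ((x - 1) ^ k) u = ((s - 1) ^ k) v := fun k => by
    induction k with
    | zero => exact fun v => ⟨v, rfl⟩
    | succ k ih =>
      intro v
      obtain ⟨u, hu⟩ := ih v
      obtain ⟨u', hu'⟩ := h1 ((s - 1) u) (hD _ fun w => by
        rw [← End.mul_apply, (c1.pow_left e).eq]
        simp [s1, H])
      exact ⟨u', by rw [pow_succ, End.mul_apply, hu', ← End.mul_apply, (c1.pow_left k).eq,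
        End.mul_apply, hu, pow_succ', End.mul_apply]⟩
  obtain ⟨a, a1, a2, a3⟩ := exists_norm_of_nil h2 hD s2 (c := 1) one_ne_zero ⟨e + 1, by
    ext v
    obtain ⟨u, hu⟩ := h3 (e + 1) v
    simpa [h0] using hu.symm⟩
  refine IsoC.symm ⟨LinearEquiv.ofBijective a ((Module.End.isUnit_iff _).1 a1),
    isIsometry_of_two h2 fun u w => ?_, fun w => (LinearMap.congr_fun (a3 x cs).eq w).symm⟩
  change D.B (a u) (a w) = _
  rw [← adj_spec hD, ← End.mul_apply, a2, s1]

variable {M : Type*} [AddCommGroup M] [Module F M] {ι : M →ₗ[F] V}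

omit [FiniteDimensional F V] in
theorem fr_sh' (h0 : ∀ m, ((x - 1) ^ (e + 1)) (ι m) = 0) (m : Fin (e + 1) → M) :
    fr (x - 1) e ι ((sh F M e + 1) m) = x (fr (x - 1) e ι m) := by
  simp [fr_sh h0]

theorem fr_nondeg [FiniteDimensional F M] (hD : D.Nondeg) (hx : ∀ u v, D.B (x u) (x v) = D.B u v)
    (h0 : ∀ m, ((x - 1) ^ (e + 1)) (ι m) = 0)
    (h1 : ∀ m, (∀ m', D.B (((x - 1) ^ e) (ι m)) (ι m') = 0) → m = 0) :
    (D.comap (fr (x - 1) e ι)).Nondeg := by
  have hr := perp_inv (isUnit_of_isIsometry hD hx) hx (U := LinearMap.range (fr (x - 1) e ι))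
    (by rintro _ ⟨m, rfl⟩; exact ⟨_, fr_sh' h0 m⟩)
  have hp : ∀ k : ℕ, ∀ v ∈ D.perp (LinearMap.range (fr (x - 1) e ι)),
      ((x - 1) ^ k) v ∈ D.perp (LinearMap.range (fr (x - 1) e ι)) := fun k v hv => by
    induction k with
    | zero => exact hv
    | succ k ih => rw [pow_succ']; exact Submodule.sub_mem _ (hr _ ih) ih
  intro m hm
  funext i
  induction i using Fin.strong_induction_on with
  | _ i ih =>
  refine h1 _ fun m' => ?_
  rw [← pow_fr h0 ih]
  exact D.mem_perp'.1 (hp _ _ (D.mem_perp'.2 (by rintro _ ⟨k, rfl⟩; exact hm k))) _ ⟨_, fr_single m'⟩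

/-- Splitting off blocks of size `e + 1`. -/
theorem exists_top [FiniteDimensional F M] (hD : D.Nondeg) (hx : IsIsometry D D x)
    (h0 : ∀ m, ((x - 1) ^ (e + 1)) (ι m) = 0)
    (h1 : ∀ m, (∀ m', D.B (((x - 1) ^ e) (ι m)) (ι m') = 0) → m = 0) :
    ∃ (U : Submodule F V) (h : ∀ v ∈ U, x v ∈ U), (D.restrict U).Nondeg ∧
      ((∀ v, ∃ m, ((x - 1) ^ e) (ι m) = ((x - 1) ^ e) v) → (x.restrict h - 1) ^ e = 0) ∧
      IsoC ((D.comap (fr (x - 1) e ι)).prod (D.restrict U)) ((sh F M e + 1).prodMap (x.restrict h)) D x ∧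
      (D.comap (fr (x - 1) e ι)).Nondeg ∧
      IsIsometry (D.comap (fr (x - 1) e ι)) (D.comap (fr (x - 1) e ι)) (sh F M e + 1 :) ∧
      (sh F M e + 1 - 1) ^ (e + 1) = 0 ∧
      (∀ v, ((sh F M e + 1 - 1) ^ e) v = 0 → ∃ u, (sh F M e + 1 - 1) u = v) ∧
      ∀ u v, (D.comap (fr (x - 1) e ι)).B (((sh F M e + 1 - 1) ^ e) u) v =
        D.B (((x - 1) ^ e) (ι (u 0))) (ι (v 0)) := by
  have hE := fr_nondeg hD hx.B_map h0 h1
  obtain ⟨h, k1, k2⟩ := isoC_split hD hx hE (fr_sh' h0)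
  have k3 := pow_intertwine (fr_sh' (ι := ι) h0)
  have k4 : ∀ m, ((x - 1) ^ e) (fr (x - 1) e ι m) = ((x - 1) ^ e) (ι (m 0)) := fun m =>
    pow_fr h0 (i := 0) (by simp)
  refine ⟨_, h, k1, fun h2 => ?_, k2, hE, ⟨fun u v => ?_, fun u => ?_⟩, ?_, fun v hv => ?_, fun u v => ?_⟩
  · ext ⟨v, hv⟩
    rw [coe_restrict_pow]
    have : v ∈ D.perp (LinearMap.range ((x - 1) ^ e)) := D.mem_perp.2 <| by
      rintro _ ⟨u, rfl⟩
      obtain ⟨m, hm⟩ := h2 u
      rw [← hm, ← fr_single (N := x - 1) (e := e) (ι := ι) m, ← k3]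
      exact hv _ ⟨_, rfl⟩
    rwa [← perp_ker_pow hD hx.B_map, hD.perp_perp] at this
  · rw [comap_B, fr_sh' h0, fr_sh' h0, hx.B_map, comap_B]
  · rw [comap_Q, fr_sh' h0, hx.Q_map, comap_Q]
  · exact LinearMap.ext fun m => (D.isIsometry_comap _).injective hE (by
      rw [k3, pow_succ', End.mul_apply, k4, ← End.mul_apply, ← pow_succ', h0]; simp)
  · rw [add_sub_cancel_right]
    exact exists_sh (h1 _ fun m' => by rw [← k4, ← k3, hv]; simp)
  · rw [comap_B, k3, k4, ← sub_eq_zero, ← D.B_sub_right]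
    exact B_pow_eq_zero hD hx.B_map _ (by rw [map_sub, k4, sub_self])

theorem low_eq_zero (hD : D.Nondeg) (hx : ∀ u v, D.B (x u) (x v) = D.B u v)
    (h : ∀ v, ((x - 1) ^ e) v = 0 → ∃ u, (x - 1) u = v) {i : ℕ} (hi : i < e) (u v : V)
    (hu : ((x - 1) ^ (i + 1)) u = 0) (hv : ((x - 1) ^ (i + 1)) v = 0) :
    D.B (((x - 1) ^ i) u) v = 0 := by
  obtain ⟨w, rfl⟩ := h u (ker_pow_mono _ hi hu)
  rw [← End.mul_apply, ← pow_succ]
  exact B_pow_eq_zero hD hx _ hv

theorem exists_top_compl (hD : D.Nondeg) (hx : ∀ u v, D.B (x u) (x v) = D.B u v) (e : ℕ) :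
    ∃ M : Submodule F V, finrank F M = finrank F (LinearMap.range ((x - 1) ^ e)) ∧
      (∀ v, ∃ m : M, ((x - 1) ^ e) m = ((x - 1) ^ e) v) ∧
      ∀ m : M, (∀ m' : M, D.B (((x - 1) ^ e) m) m' = 0) → m = 0 := by
  obtain ⟨M, hM⟩ := Submodule.exists_isCompl (LinearMap.ker ((x - 1) ^ e))
  have h1 : ∀ v, ∃ m : M, ((x - 1) ^ e) (v - m) = 0 := fun v => by
    obtain ⟨a, ha, b, hb, rfl⟩ := Submodule.mem_sup.1 (hM.sup_eq_top ▸ Submodule.mem_top (x := v))
    exact ⟨⟨b, hb⟩, by simpa using ha⟩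
  refine ⟨M, ?_, fun v => (h1 v).imp fun m hm => by rw [map_sub, sub_eq_zero] at hm; exact hm.symm,
    fun m hm => Subtype.ext (Submodule.disjoint_def.1 hM.disjoint _ (hD _ fun v => ?_) m.2)⟩
  · have := Submodule.finrank_add_eq_of_isCompl hM
    have := LinearMap.finrank_range_add_finrank_ker ((x - 1) ^ e)
    omega
  · obtain ⟨k, hk⟩ := h1 v
    rw [← sub_add_cancel v k, D.B_add_right, hm, B_pow_eq_zero hD hx _ hk, add_zero]

theorem LEmb.rank_le [FiniteDimensional F V'] {D' : Form K V'} {y : End F V'} (h : LEmb e D x D' y)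
    (hD : D.Nondeg) (hx : ∀ u v, D.B (x u) (x v) = D.B u v) (h0 : (x - 1) ^ (e + 1) = 0) :
    finrank F (LinearMap.range ((x - 1) ^ e)) ≤ finrank F (LinearMap.range ((y - 1) ^ e)) := by
  obtain ⟨f, -, hf⟩ := h
  obtain ⟨M, h1, -, h2⟩ := exists_top_compl hD hx e
  rw [← h1]
  refine LinearMap.finrank_le_finrank_of_injective (f := ((y - 1) ^ e).rangeRestrict ∘ₗ f ∘ₗ M.subtype)
    ((injective_iff_map_eq_zero _).2 fun m hm => h2 m fun m' => ?_)
  rw [← hf _ _ (by simp [h0]) (by simp [h0]), show ((y - 1) ^ e) (f m) = 0 from congrArg Subtype.val hm]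
  simp

end Top

theorem isoC_unip [Finite F] (h2 : (2 : F) ≠ 0) (e : ℕ) : ∀ {V : Type u} {V' : Type v}
    [AddCommGroup V] [Module F V] [AddCommGroup V'] [Module F V'] [FiniteDimensional F V]
    [FiniteDimensional F V'] {D : Form K V} {D' : Form K V'} {x : End F V} {y : End F V'},
    D.Nondeg → D'.Nondeg → IsIsometry D D x → IsIsometry D' D' y → (x - 1) ^ e = 0 →
    (y - 1) ^ e = 0 → (∀ i < e, LEmb i D x D' y ∧ LEmb i D' y D x) → IsoC D x D' y := by
  induction e with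
  | zero =>
    intro V V' _ _ _ _ _ _ D D' x y _ _ _ _ h h' _
    have : Subsingleton V := ⟨fun a b => by
      simpa using (LinearMap.congr_fun h a).trans (LinearMap.congr_fun h b).symm⟩
    have : Subsingleton V' := ⟨fun a b => by
      simpa using (LinearMap.congr_fun h' a).trans (LinearMap.congr_fun h' b).symm⟩
    exact ⟨LinearEquiv.ofSubsingleton V V', isIsometry_of_two h2 fun u v => by
      rw [Subsingleton.elim u 0]; simp, fun _ => Subsingleton.elim _ _⟩
  | succ e ih =>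
    intro V V' _ _ _ _ _ _ D D' x y hD hD' hx hy h h' H
    obtain ⟨⟨f, -, hf⟩, hr⟩ := H e e.lt_succ_self
    obtain ⟨M, h1, h3, h4⟩ := exists_top_compl hD hx.B_map e
    have h5 : ∀ m m' : M, D'.B (((y - 1) ^ e) (f m)) (f m') = D.B (((x - 1) ^ e) m) m' :=
      fun m m' => hf _ _ (by simp [h]) (by simp [h])
    have h6 : Function.Surjective (((y - 1) ^ e).rangeRestrict ∘ₗ f ∘ₗ M.subtype) := by
      have : Function.Injective (((y - 1) ^ e).rangeRestrict ∘ₗ f ∘ₗ M.subtype) :=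
        (injective_iff_map_eq_zero _).2 fun m hm => h4 m fun m' => by
          rw [← h5, show ((y - 1) ^ e) (f m) = 0 from congrArg Subtype.val hm]; simp
      exact (LinearMap.injective_iff_surjective_of_finrank_eq_finrank
        ((LinearMap.finrank_le_finrank_of_injective this).antisymm
          (h1 ▸ hr.rank_le hD' hy.B_map h'))).1 this
    obtain ⟨U, a1, a2, a3, a4, a5, a6, a7, a8, a9⟩ := exists_top (ι := M.subtype) hD hx
      (fun _ => by simp [h]) h4
    obtain ⟨U', b1, b2, b3, b4, b5, b6, -, -, b9⟩ := exists_top (ι := f ∘ₗ M.subtype) hD' hy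
      (fun _ => by simp [h']) fun m hm => h4 m fun m' => (h5 _ _).symm.trans (hm m')
    refine a4.symm.trans (IsoC.trans (IsoC.prod (isoC_free h2 a5 b5 a6 b6 a7 a8 fun u v => ?_)
      (ih a2 b2 (isIsometry_restrict hx _) (isIsometry_restrict hy _) (a3 h3)
        (b3 fun v => (h6 ⟨_, v, rfl⟩).imp fun m hm => congrArg Subtype.val hm) fun i hi => ?_)) b4)
    · rw [a9, b9]; exact (h5 _ _).symm
    · exact ⟨emb_cancel a4 b4 (H i (by omega)).1 (low_eq_zero b5 b6.B_map a8 hi),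
        emb_cancel b4 a4 (H i (by omega)).2 (low_eq_zero a5 a6.B_map a8 hi)⟩

section Gen

variable [FiniteDimensional F V] [FiniteDimensional F V'] {D : Form K V} {D' : Form K V'}
  {x : End F V} {y : End F V'}

/-- A Fitting decomposition at the eigenvalue `1`. -/
structure Fit (D : Form K V) (x : End F V) (n : ℕ) : Prop where
  orth : D.IsOrthCompl (LinearMap.ker ((x - 1) ^ n)) (LinearMap.range ((x - 1) ^ n))
  pos : 1 ≤ n

omit [FiniteDimensional F V] in
theorem ker_inv (x : End F V) (n : ℕ) :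
    ∀ v ∈ LinearMap.ker ((x - 1) ^ n), x v ∈ LinearMap.ker ((x - 1) ^ n) := fun v hv => by
  rw [LinearMap.mem_ker, ← pow_intertwine (f := x) (fun _ => rfl), LinearMap.mem_ker.1 hv, map_zero]

omit [FiniteDimensional F V] in
theorem range_inv (x : End F V) (n : ℕ) :
    ∀ v ∈ LinearMap.range ((x - 1) ^ n), x v ∈ LinearMap.range ((x - 1) ^ n) := by
  rintro _ ⟨v, rfl⟩
  exact ⟨_, (pow_intertwine (f := x) (fun _ => rfl) n v).symm⟩

/-- The unipotent part. -/
abbrev fU (x : End F V) (n : ℕ) : End F (LinearMap.ker ((x - 1) ^ n)) := x.restrict (ker_inv x n)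

/-- The part without eigenvalue `1`. -/
abbrev fR (x : End F V) (n : ℕ) : End F (LinearMap.range ((x - 1) ^ n)) := x.restrict (range_inv x n)

theorem eventually_fit (hD : D.Nondeg) (hx : IsIsometry D D x) : ∀ᶠ n in Filter.atTop, Fit D x n :=
  ((LinearMap.eventually_isCompl_ker_pow_range_pow (x - 1)).and (Filter.eventually_ge_atTop 1)).mono
    fun n h => ⟨⟨h.1, (perp_ker_pow hD hx.B_map n).ge⟩, h.2⟩

omit [FiniteDimensional F V] in
theorem fU_pow (n : ℕ) : (fU x n - 1) ^ n = 0 := by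
  ext v; rw [coe_restrict_pow]; exact v.2

theorem Fit.inj {n : ℕ} (h : Fit D x n) (k : ℕ) (v) (hv : ((fR x n - 1) ^ k) v = 0) : v = 0 := by
  induction k generalizing v with
  | zero => exact hv
  | succ k ih =>
    have := congrArg Subtype.val (ih _ (by rwa [pow_succ] at hv))
    exact Subtype.ext (Submodule.disjoint_def.1 h.orth.compl.disjoint _
      (ker_pow_mono _ h.pos (by rw [pow_one]; exact this)) v.2)

theorem Fit.isUnit {n : ℕ} (h : Fit D x n) : IsUnit (fR x n - 1) :=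
  isUnit_of_inj fun v hv => h.inj 1 v (by rwa [pow_one])

omit [FiniteDimensional F V] in
theorem Fit.isoC {n : ℕ} (h : Fit D x n) : IsoC ((D.restrict _).prod (D.restrict _))
    ((fU x n).prodMap (fR x n)) D x := isoC_orthCompl h.orth _ _

omit [FiniteDimensional F V] [FiniteDimensional F V'] in
theorem sim_fR (h : Sim x y) (n : ℕ) : Sim (fR x n) (fR y n) := by
  obtain ⟨e, he⟩ := h
  have h1 := pow_intertwine (f := e.toLinearMap) he n
  refine ⟨e.ofSubmodules _ _ ?_, fun v => Subtype.ext (he v)⟩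
  ext v
  constructor
  · rintro ⟨_, ⟨u, rfl⟩, rfl⟩; exact ⟨_, (h1 u).symm⟩
  · rintro ⟨u, rfl⟩; exact ⟨_, ⟨e.symm u, rfl⟩, by simpa using h1 (e.symm u)⟩

omit [FiniteDimensional F V] in
theorem neg_inj_of_nil (h2 : (2 : F) ≠ 0) {n : ℕ} (h : (x - 1) ^ n = 0) (k : ℕ) (v : V)
    (hv : ((-x - 1) ^ k) v = 0) : v = 0 := by
  have := (IsNilpotent.isUnit_add_left_of_commute (⟨n, h⟩ : IsNilpotent (x - 1))
    ((IsUnit.mk0 _ h2).map (algebraMap F (End F V))) (Algebra.commutes _ _).symm).neg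
  rw [map_ofNat, show -(2 + (x - 1)) = -x - 1 by rw [← one_add_one_eq_two]; abel] at this
  exact ((Module.End.isUnit_iff _).1 (this.pow k)).1 (hv.trans (map_zero _).symm)

omit [FiniteDimensional F V] in
theorem neg_prodMap (a : End F V) (b : End F W) : -a.prodMap b = (-a).prodMap (-b) := by
  ext <;> simp

variable [Finite F]

theorem isoC_fit (h2 : (2 : F) ≠ 0) (hD : D.Nondeg) (hD' : D'.Nondeg) (hx : IsIsometry D D x)
    (hy : IsIsometry D' D' y) {n : ℕ} (h : Fit D x n) (h' : Fit D' y n)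
    (H : ∀ i, LEmb i D x D' y ∧ LEmb i D' y D x)
    (HR : IsoC (D.restrict _) (fR x n) (D'.restrict _) (fR y n)) : IsoC D x D' y :=
  IsoC.of_orthCompl h.orth h'.orth (isoC_unip h2 n (h.orth.nondeg_left hD) (h'.orth.nondeg_left hD')
    (isIsometry_restrict hx _) (isIsometry_restrict hy _) (fU_pow n) (fU_pow n) fun i _ =>
      ⟨emb_cancel (isoC_swap.trans h.isoC) (isoC_swap.trans h'.isoC) (H i).1 fun u v _ hv => by
        rw [h'.inj _ v hv, map_zero],
       emb_cancel (isoC_swap.trans h'.isoC) (isoC_swap.trans h.isoC) (H i).2 fun u v _ hv => by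
        rw [h.inj _ v hv, map_zero]⟩) HR

theorem isoC_of_emb (h2 : (2 : F) ≠ 0) (hD : D.Nondeg) (hD' : D'.Nondeg) (hx : IsIsometry D D x)
    (hy : IsIsometry D' D' y) (hs : Sim x y) (H : ∀ i, LEmb i D x D' y ∧ LEmb i D' y D x)
    (H' : ∀ i, LEmb i D (-x) D' (-y) ∧ LEmb i D' (-y) D (-x)) : IsoC D x D' y := by
  obtain ⟨n, h, h'⟩ := ((eventually_fit hD hx).and (eventually_fit hD' hy)).exists
  refine isoC_fit h2 hD hD' hx hy h h' H ?_
  have a1 := h.orth.symm.nondeg_left hD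
  have b1 := h'.orth.symm.nondeg_left hD'
  have a2 := isIsometry_neg (isIsometry_restrict hx (range_inv x n))
  have b2 := isIsometry_neg (isIsometry_restrict hy (range_inv y n))
  obtain ⟨m, k, k'⟩ := ((eventually_fit a1 a2).and (eventually_fit b1 b2)).exists
  have a3 := h.isoC.neg
  have b3 := h'.isoC.neg
  rw [neg_prodMap] at a3 b3
  have hs' : Sim (-fR x n) (-fR y n) := let ⟨e, he⟩ := sim_fR hs n; ⟨e, fun v => by simp [he]⟩
  simpa using (isoC_fit h2 a1 b1 a2 b2 k k' (fun i =>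
    ⟨emb_cancel a3 b3 (H' i).1 fun u v _ hv => by rw [neg_inj_of_nil h2 (fU_pow n) _ v hv, map_zero],
     emb_cancel b3 a3 (H' i).2 fun u v _ hv => by rw [neg_inj_of_nil h2 (fU_pow n) _ v hv, map_zero]⟩)
    (isoC_of_unit (k.orth.symm.nondeg_left a1) (k'.orth.symm.nondeg_left b1) (isIsometry_restrict a2 _)
      (isIsometry_restrict b2 _) (sim_fR hs' m) k.isUnit (isUnit_add_one_of fun v hv =>
        Subtype.ext (h.inj 1 _ (by simpa [sub_eq_zero] using congrArg Subtype.val hv))))).neg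

end Gen

section Dsc

variable {σ : F →+* F} {K : Kind σ} {D : Form K V} {D' : Form K V'} {E : Form K W} {E' : Form K W'}

/-- A form preserving linear map exists. -/
def Emb0 (D : Form K V) (D' : Form K V') : Prop :=
  ∃ f : V →ₗ[F] V', ∀ u v, D'.B (f u) (f v) = D.B u v

theorem Emb0.trans (h : Emb0 D D') (h' : Emb0 D' E) : Emb0 D E :=
  let ⟨f, hf⟩ := h; let ⟨g, hg⟩ := h'; ⟨g ∘ₗ f, fun u v => (hg _ _).trans (hf u v)⟩

theorem Emb0.prod (h : Emb0 D D') (h' : Emb0 E E') : Emb0 (D.prod E) (D'.prod E') :=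
  let ⟨f, hf⟩ := h; let ⟨g, hg⟩ := h'; ⟨f.prodMap g, fun u v => by simp [prod_B, hf, hg]⟩

theorem emb0_of_iso (h : D.Iso D') : Emb0 D D' := let ⟨e, he⟩ := h; ⟨e.toLinearMap, he.B_map⟩

variable (D) in
/-- A complement of the radical. -/
noncomputable def cor : Submodule F V := (Submodule.exists_isCompl (D.perp ⊤)).choose

variable (D) in
theorem isCompl_cor : IsCompl (D.perp ⊤) (cor D) := (Submodule.exists_isCompl (D.perp ⊤)).choose_spec

variable (D) in
theorem cor_emb : Emb0 (D.restrict (cor D)) D := ⟨(cor D).subtype, fun _ _ => rfl⟩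

variable (D) in
theorem emb_cor : Emb0 D (D.restrict (cor D)) := by
  refine ⟨(cor D).projectionOnto _ (isCompl_cor D).symm, fun u v => ?_⟩
  have h1 := D.mem_perp'.1 (Submodule.sub_projection_mem (isCompl_cor D).symm u) v trivial
  have h2 := D.mem_perp.1 (Submodule.sub_projection_mem (isCompl_cor D).symm v)
    ((cor D).projection _ (isCompl_cor D).symm u) trivial
  rw [D.B_sub_left, sub_eq_zero] at h1
  rw [D.B_sub_right, sub_eq_zero] at h2
  exact h2.symm.trans h1.symm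

variable (D) in
theorem nondeg_cor : (D.restrict (cor D)).Nondeg := fun x hx =>
  Subtype.ext (Submodule.disjoint_def.1 (isCompl_cor D).disjoint _ (D.mem_perp'.2 fun u _ => by
    obtain ⟨a, ha, b, hb, rfl⟩ := Submodule.mem_sup.1 ((isCompl_cor D).sup_eq_top ▸ Submodule.mem_top (x := u))
    rw [map_add, D.mem_perp.1 ha _ trivial, zero_add]
    exact hx ⟨b, hb⟩) x.2)

variable [FiniteDimensional F V] [FiniteDimensional F V']

theorem finrank_cor : finrank F (D.perp ⊤) + finrank F (cor D) = finrank F V :=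
  Submodule.finrank_add_eq_of_isCompl (isCompl_cor D)

omit [FiniteDimensional F V] in
theorem Emb0.le (h : Emb0 D D') (hD : D.Nondeg) : finrank F V ≤ finrank F V' :=
  let ⟨f, hf⟩ := h
  LinearMap.finrank_le_finrank_of_injective (f := f)
    ((injective_iff_map_eq_zero _).2 fun u hu => hD u fun v => by rw [← hf, hu]; simp)

theorem Emb0.iso (h2 : (2 : F) ≠ 0) (h : Emb0 D D') (hD : D.Nondeg) (hn : finrank F V' ≤ finrank F V) :
    D.Iso D' := by
  have h1 := h.le hD
  obtain ⟨f, hf⟩ := h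
  have h3 := isIsometry_of_two h2 hf
  exact ⟨LinearEquiv.ofBijective f ⟨h3.injective hD,
    (LinearMap.injective_iff_surjective_of_finrank_eq_finrank (h1.antisymm hn)).1 (h3.injective hD)⟩, h3⟩

theorem iso_cor (h2 : (2 : F) ≠ 0) (h : Emb0 D D') (h' : Emb0 D' D) :
    (D.restrict (cor D)).Iso (D'.restrict (cor D')) :=
  (((cor_emb D).trans h).trans (emb_cor D')).iso h2 (nondeg_cor D)
    ((((cor_emb D').trans h').trans (emb_cor D)).le (nondeg_cor D'))

omit [FiniteDimensional F V] [FiniteDimensional F V'] in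
theorem emb0_of_cor (h : (D.restrict (cor D)).Iso (D'.restrict (cor D'))) : Emb0 D D' :=
  ((emb_cor D).trans (emb0_of_iso h)).trans (cor_emb D')

variable [Finite F] {D : Form (quadKind F) V} {D' : Form (quadKind F) V'}

variable (D) in
/-- The discriminant of the non-degenerate part. -/
noncomputable def dsc : ℤˣ := disc (nondeg_cor D)

theorem dsc_congr (h2 : (2 : F) ≠ 0) (h : Emb0 D D') (h' : Emb0 D' D) : dsc D = dsc D' :=
  (iso_cor h2 h h').disc_eq _ _

theorem dsc_eq (h2 : (2 : F) ≠ 0) (hD : D.Nondeg) : dsc D = disc hD :=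
  ((cor_emb D).iso h2 (nondeg_cor D) ((emb_cor D).le hD)).disc_eq _ _

theorem dsc_prod (h2 : (2 : F) ≠ 0) : dsc (D.prod D') = dsc D * dsc D' := by
  rw [dsc_congr h2 ((emb_cor D).prod (emb_cor D')) ((cor_emb D).prod (cor_emb D')),
    dsc_eq h2 ((nondeg_cor D).prod (nondeg_cor D')), disc_prod, dsc, dsc]

omit [FiniteDimensional F V] [FiniteDimensional F V'] [Finite F] in
theorem Emb0.qsmul (h : Emb0 D D') (c : F) : Emb0 (D.qsmul c) (D'.qsmul c) :=
  let ⟨f, hf⟩ := h; ⟨f, fun u v => congrArg (c * ·) (hf u v)⟩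

theorem dsc_qsmul (h2 : (2 : F) ≠ 0) {c : F} (hc : c ≠ 0) :
    dsc (D.qsmul c) = chi c ^ finrank F (cor D) * dsc D := by
  rw [dsc_congr h2 ((emb_cor D).qsmul c) ((cor_emb D).qsmul c), dsc_eq h2 ((nondeg_cor D).qsmul hc),
    disc_qsmul _ h2 hc, dsc]

end Dsc

section Sgn

variable {D : Form K V} {D' : Form K V'} {x : End F V} {y : End F V'} {e : ℕ}

variable (D x e) in
/-- The bilinear form of level `e`. -/
def lvB : LinearMap.BilinForm F (LinearMap.ker ((x - 1) ^ (e + 1))) :=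
  (D.B.comp (((x - 1) ^ e) ∘ₗ Submodule.subtype _)).compl₂ (Submodule.subtype _)

theorem lvB_apply (u v) : lvB D x e u v = D.B (((x - 1) ^ e) u) v := rfl

variable (D x e) in
/-- The quadratic form of level `e`. -/
def lev : Form (quadKind F) (LinearMap.ker ((x - 1) ^ (e + 1))) := ofQuad (lvB D x e).toQuadraticMap

theorem lev_B (u v) : (lev D x e).B u v = lvB D x e u v + lvB D x e v u :=
  LinearMap.BilinMap.polar_toQuadraticMap _ _

theorem LEmb.emb0 (h : LEmb e D x D' y) : Emb0 (lev D x e) (lev D' y e) :=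
  let ⟨f, h1, h2⟩ := h
  ⟨f.restrict h1, fun u v => by
    rw [lev_B, lev_B]; exact congrArg₂ _ (h2 _ _ u.2 v.2) (h2 _ _ v.2 u.2)⟩

theorem emb_of_sub {f : LinearMap.ker ((x - 1) ^ (e + 1)) →ₗ[F] LinearMap.ker ((y - 1) ^ (e + 1))}
    (h : ∀ u v, lvB D' y e (f u) (f v) = lvB D x e u v) : LEmb e D x D' y := by
  obtain ⟨g, hg⟩ := LinearMap.exists_extend f
  have : ∀ u hu, g u = f ⟨u, hu⟩ := fun u hu => LinearMap.congr_fun hg ⟨u, hu⟩
  exact ⟨Submodule.subtype _ ∘ₗ g, fun u _ => (g u).2, fun u v hu hv => by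
    rw [LinearMap.comp_apply, LinearMap.comp_apply, this u hu, this v hv]; exact h _ _⟩

theorem lev_prod (E : Form K W) (z : End F W) :
    (lev (D.prod E) (x.prodMap z) e).Iso ((lev D x e).prod (lev E z e)) :=
  ⟨{ toFun u := (⟨u.1.1, congrArg Prod.fst ((prodMap_pow_apply _ _).symm.trans u.2)⟩,
        ⟨u.1.2, congrArg Prod.snd ((prodMap_pow_apply _ _).symm.trans u.2)⟩)
     invFun u := ⟨(u.1, u.2), (prodMap_pow_apply _ _).trans (Prod.ext u.1.2 u.2.2)⟩
     map_add' _ _ := rfl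
     map_smul' _ _ := rfl
     left_inv _ := rfl
     right_inv _ := rfl }, quad_isIsometry (map_add _) fun u => by
      change _ = (D.prod E).B _ _
      rw [LinearMap.comp_apply, prodMap_pow_apply]; rfl⟩

/-- The same form scaled. -/
noncomputable def scl (h2 : (2 : F) ≠ 0) (D : Form K V) (c : F) : Form K V :=
  mkForm K (c • D.B) (fun u v => by simp [D.symm u v]; ring) (algebraMap F _ 2⁻¹)
    fun u v => by simp [Module.algebraMap_end_apply]; field_simp; ring

theorem scl_B (h2 : (2 : F) ≠ 0) (c : F) (u v : V) : (scl h2 D c).B u v = c * D.B u v := rfl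

theorem scl_nondeg (h2 : (2 : F) ≠ 0) (hD : D.Nondeg) {c : F} (hc : c ≠ 0) : (scl h2 D c).Nondeg :=
  fun u hu => hD u fun v => (mul_eq_zero.1 (hu v)).resolve_left hc

theorem scl_isIsometry (h2 : (2 : F) ≠ 0) (hx : IsIsometry D D x) (c : F) :
    IsIsometry (scl h2 D c) (scl h2 D c) x :=
  isIsometry_of_two h2 fun u v => by rw [scl_B, scl_B, hx.B_map]

variable [FiniteDimensional F V] [FiniteDimensional F V']

open Classical in
/-- The number of unipotent blocks of size `e + 1`. -/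
noncomputable def cnt (x : End F V) (e : ℕ) : ℕ := (edOf x).count (X - 1, e + 1)

theorem cnt_spec (x : End F V) (e : ℕ) : 2 * finrank F (LinearMap.ker ((x - 1) ^ (e + 1))) =
    finrank F (LinearMap.ker ((x - 1) ^ (e + 2))) + finrank F (LinearMap.ker ((x - 1) ^ e)) + cnt x e := by
  have h : ∀ k, finrank F (LinearMap.ker ((x - 1) ^ k)) = edCnt (edOf x) (X - 1) k := fun k => by
    have := (hasED_edOf x).kd_pow monic_X_sub_one irreducible_X_sub_one k
    rwa [natDegree_X_sub_one', mul_one, kd, map_pow, aeval_X_sub_one] at this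
  rw [h, h, h, edCnt_second_diff]
  congr

theorem cnt_congr (h : Sim x y) (e : ℕ) : cnt x e = cnt y e := by rw [cnt, cnt, sim_iff_edOf.1 h]

open Classical in
theorem cnt_neg (x : End F V) (e : ℕ) : cnt (-x) e = (edOf x).count (X + 1, e + 1) := by
  have h : ∀ k, finrank F (LinearMap.ker ((-x - 1) ^ k)) = edCnt (edOf x) (X + 1) k := fun k => by
    have := (hasED_edOf x).kd_pow (monic_X_add_C 1) (by simpa using irreducible_X_sub_C (-1 : F)) k
    rw [natDegree_X_add_C, mul_one, C_1] at this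
    rw [← this, ← ng_X_sub_one, ← map_pow, ← kd_neg, kd, map_pow, aeval_X_sub_one]
  have h1 := cnt_spec (-x) e
  rw [h, h, h, edCnt_second_diff] at h1
  convert (Nat.add_left_cancel h1).symm

theorem lvB_swap (hD : D.Nondeg) (hx : ∀ u v, D.B (x u) (x v) = D.B u v) (u v) :
    lvB D x e v u = K.ε * (-1) ^ e * lvB D x e u v := by
  rw [lvB_apply, B_pow_swap hD hx _ u.2, D.symm, lvB_apply]
  simp [mul_left_comm, mul_assoc]

theorem finrank_cor_lev (hD : D.Nondeg) (hx : ∀ u v, D.B (x u) (x v) = D.B u v)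
    {K' : Kind (RingHom.id F)} {E : Form K' (LinearMap.ker ((x - 1) ^ (e + 1)))} {c : F} (hc : c ≠ 0)
    (hE : ∀ u v, E.B u v = c * lvB D x e u v) : finrank F (cor E) = cnt x e := by
  have h5 := cnt_spec x e
  have h1 := finrank_cor (D := E)
  have h2 : (E.perp ⊤).map (Submodule.subtype _) =
      (LinearMap.ker (x - 1) ⊓ LinearMap.range ((x - 1) ^ (e + 1))).comap ((x - 1) ^ e) := by
    ext v
    rw [← perp_ker_pow hD hx, Submodule.mem_comap, Submodule.mem_inf, LinearMap.mem_ker,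
      ← End.mul_apply, ← pow_succ', D.mem_perp']
    constructor
    · rintro ⟨v, hv, rfl⟩
      exact ⟨v.2, fun w hw => (mul_eq_zero.1 ((hE _ _).symm.trans
        (E.mem_perp'.1 hv ⟨w, hw⟩ trivial))).resolve_left hc⟩
    · rintro ⟨h1, h2⟩
      exact ⟨⟨v, h1⟩, E.mem_perp'.2 fun w _ => by rw [hE, lvB_apply, h2 w w.2, mul_zero], rfl⟩
  have h3 := finrank_comap ((x - 1) ^ e) (LinearMap.ker (x - 1) ⊓ LinearMap.range ((x - 1) ^ (e + 1)))
  rw [← h2, Submodule.finrank_map_subtype_eq, inf_assoc, inf_eq_left.2 (show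
    LinearMap.range ((x - 1) ^ (e + 1)) ≤ LinearMap.range ((x - 1) ^ e) by
      rw [pow_succ]; exact LinearMap.range_comp_le_range _ _)] at h3
  have h4 := finrank_comap ((x - 1) ^ (e + 1)) (LinearMap.ker (x - 1))
  rw [← LinearMap.ker_comp, ← End.mul_eq_comp, ← pow_succ', show e + 1 + 1 = e + 2 from rfl] at h4
  omega

variable (K e) in
/-- Levels with a symmetric form. -/
def Gd : Prop := K.ε * (-1) ^ e = 1

theorem not_gd (h : ¬ Gd K e) : K.ε * (-1) ^ e = -1 :=
  (mul_self_eq_one_iff.1 (by rw [mul_mul_mul_comm, K.ε_mul, ← mul_pow]; simp)).resolve_left h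

theorem lev_B_gd (hD : D.Nondeg) (hx : ∀ u v, D.B (x u) (x v) = D.B u v) (h : Gd K e) (u v) :
    (lev D x e).B u v = 2 * lvB D x e u v := by
  rw [lev_B, lvB_swap hD hx u, h]; ring

theorem lvB_alt (h2 : (2 : F) ≠ 0) (hD : D.Nondeg) (hx : ∀ u v, D.B (x u) (x v) = D.B u v)
    (h : ¬ Gd K e) : (lvB D x e).IsAlt := fun u => mul_left_cancel₀ h2 <| by
  linear_combination lvB_swap hD hx u u + lvB D x e u u * not_gd h

theorem even_cnt (h2 : (2 : F) ≠ 0) (hD : D.Nondeg) (hx : ∀ u v, D.B (x u) (x v) = D.B u v)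
    (h : ¬ Gd K e) : Even (cnt x e) :=
  even_second_diff hD hx e (fun u hu => lvB_alt h2 hD hx h ⟨u, hu⟩) (cnt_spec x e)

variable [Finite F]

variable (D x e) in
/-- The sign of level `e`. -/
noncomputable def sgn : ℤˣ := dsc (lev D x e)

theorem IsoC.sgn_eq (h2 : (2 : F) ≠ 0) (h : IsoC D x D' y) (e : ℕ) : sgn D x e = sgn D' y e :=
  dsc_congr h2 h.emb.emb0 h.symm.emb.emb0

theorem sgn_prod (h2 : (2 : F) ≠ 0) : sgn (D.prod D') (x.prodMap y) e = sgn D x e * sgn D' y e :=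
  (dsc_congr h2 (emb0_of_iso (lev_prod _ _)) (emb0_of_iso (lev_prod _ _).symm)).trans (dsc_prod h2)

theorem sgn_bad (hD : D.Nondeg) (hx : ∀ u v, D.B (x u) (x v) = D.B u v) (h : ¬ Gd K e) :
    sgn D x e = 1 :=
  disc_of_finrank_zero _ (finrank_zero_iff_forall_zero.2 fun u => nondeg_cor _ u fun v => by
    rw [restrict_B, lev_B, lvB_swap hD hx u.1 v.1, not_gd h]; ring)

theorem sgn_of_cnt (h2 : (2 : F) ≠ 0) (hD : D.Nondeg) (hx : ∀ u v, D.B (x u) (x v) = D.B u v)
    (h : cnt x e = 0) : sgn D x e = 1 := by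
  by_cases hg : Gd K e
  · exact disc_of_finrank_zero _ ((finrank_cor_lev hD hx h2 (lev_B_gd hD hx hg)).trans h)
  · exact sgn_bad hD hx hg

theorem sgn_scl (h2 : (2 : F) ≠ 0) (hD : D.Nondeg) (hx : ∀ u v, D.B (x u) (x v) = D.B u v)
    (h : Gd K e) {c : F} (hc : c ≠ 0) : sgn (scl h2 D c) x e = chi c ^ cnt x e * sgn D x e := by
  have : ∀ u v, (lev (scl h2 D c) x e).B u v = ((lev D x e).qsmul c).B u v := fun u v => by
    change _ = c * _
    rw [lev_B, lev_B, mul_add]; rfl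
  rw [sgn, dsc_congr h2 ⟨LinearMap.id, fun u v => (this u v).symm⟩ ⟨LinearMap.id, this⟩,
    dsc_qsmul h2 hc, finrank_cor_lev hD hx h2 (lev_B_gd hD hx h), sgn]

theorem emb_of_sgn (h2 : (2 : F) ≠ 0) (hD : D.Nondeg) (hD' : D'.Nondeg) (hx : IsIsometry D D x)
    (hy : IsIsometry D' D' y) (hc : cnt x e = cnt y e) (h : sgn D x e = sgn D' y e) :
    LEmb e D x D' y := by
  by_cases hg : Gd K e
  · obtain ⟨f, hf⟩ := emb0_of_cor (iso_of_disc _ _ h2 (by
      rw [finrank_cor_lev hD hx.B_map h2 (lev_B_gd hD hx.B_map hg), hc,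
        finrank_cor_lev hD' hy.B_map h2 (lev_B_gd hD' hy.B_map hg)]) h)
    exact emb_of_sub (f := f) fun u v => mul_left_cancel₀ h2 (by
      rw [← lev_B_gd hD hx.B_map hg, ← lev_B_gd hD' hy.B_map hg, hf])
  · obtain ⟨f, hf⟩ := emb0_of_cor (D := ofAlt _ (lvB_alt h2 hD hx.B_map hg))
      (D' := ofAlt _ (lvB_alt h2 hD' hy.B_map hg)) (Symp.iso (nondeg_cor _) (nondeg_cor _) (by
      rw [finrank_cor_lev hD hx.B_map one_ne_zero fun _ _ => (one_mul _).symm, hc,
        finrank_cor_lev hD' hy.B_map one_ne_zero fun _ _ => (one_mul _).symm]))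
    exact emb_of_sub hf

/-- Wall's theorem. -/
theorem isoC_wall (h2 : (2 : F) ≠ 0) (hD : D.Nondeg) (hD' : D'.Nondeg) (hx : IsIsometry D D x)
    (hy : IsIsometry D' D' y) (hs : Sim x y) (h : ∀ e, sgn D x e = sgn D' y e)
    (h' : ∀ e, sgn D (-x) e = sgn D' (-y) e) : IsoC D x D' y := by
  have hs' : Sim (-x) (-y) := let ⟨e, he⟩ := hs; ⟨e, fun v => by simp [he]⟩
  exact isoC_of_emb h2 hD hD' hx hy hs (fun e => ⟨emb_of_sgn h2 hD hD' hx hy (cnt_congr hs e) (h e),
    emb_of_sgn h2 hD' hD hy hx (cnt_congr hs.symm e) (h e).symm⟩) fun e =>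
    ⟨emb_of_sgn h2 hD hD' (isIsometry_neg hx) (isIsometry_neg hy) (cnt_congr hs' e) (h' e),
      emb_of_sgn h2 hD' hD (isIsometry_neg hy) (isIsometry_neg hx) (cnt_congr hs'.symm e) (h' e).symm⟩

theorem sgn_of_zero (h : ∀ u v, lvB D x e u v = 0) : sgn D x e = 1 :=
  disc_of_finrank_zero _ (finrank_zero_iff_forall_zero.2 fun u => nondeg_cor _ u fun v => by
    rw [restrict_B, lev_B, h, h, add_zero])

omit [Finite F] in
theorem cnt_lt (h : cnt x e ≠ 0) : e < finrank F V := by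
  classical
  have h1 : (X - 1, e + 1) ∈ edOf x := Multiset.count_ne_zero.1 h
  have := Multiset.single_le_sum (fun _ _ => Nat.zero_le _) _
    (Multiset.mem_map_of_mem (fun x : F[X] × ℕ => x.2 * x.1.natDegree) h1)
  rw [natDegree_X_sub_one', mul_one] at this
  rwa [(hasED_edOf x).finrank]

omit [Finite F] in
theorem exists_lvB_ne (h2 : (2 : F) ≠ 0) (hD : D.Nondeg) (hx : ∀ u v, D.B (x u) (x v) = D.B u v)
    (hg : Gd K e) (hc : cnt x e ≠ 0) : ∃ u, lvB D x e u u ≠ 0 := by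
  have := Module.nontrivial_of_finrank_pos (Nat.pos_of_ne_zero
    ((finrank_cor_lev hD hx h2 (lev_B_gd hD hx hg)).trans_ne hc))
  exact (nondeg_cor (lev D x e)).quad_exists_Q_ne_zero.elim fun u hu => ⟨u.1, hu⟩

omit [Finite F] in
theorem cnt_unip {t : Multiset ℕ} (h : HasED x (unipOf F t)) (e : ℕ) : cnt x e = t.count (e + 1) :=
  Nat.add_left_cancel ((cnt_spec x e).symm.trans (second_diff_of_hasED h e))

omit [Finite F] in
theorem cnt_sh (h : (sh F F e + 1 - 1) ^ (e + 1) = 0) : cnt (sh F F e + 1) e = 1 := by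
  rw [cnt_unip (Reg.hasED ⟨⟨_, h⟩, ?_⟩)]
  · simp
  refine (LinearMap.finrank_le_finrank_of_injective (f := LinearMap.proj (Fin.last e) ∘ₗ
    Submodule.subtype _) ((injective_iff_map_eq_zero _).2 fun v hv => Subtype.ext (funext
      (Fin.lastCases hv fun i => ?_)))).trans (finrank_self F).le
  simpa [sh] using congrFun (LinearMap.mem_ker.1 v.2) i.succ

/-- Changing one sign. -/
theorem exists_flip (h2 : (2 : F) ≠ 0) (hD : D.Nondeg) (hx : IsIsometry D D x) (hg : Gd K e)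
    (hc : cnt x e ≠ 0) : ∃ D' : Form K V, D'.Nondeg ∧ IsIsometry D' D' x ∧
      sgn D' x e = -sgn D x e ∧ (∀ i, i ≠ e → sgn D' x i = sgn D x i) ∧
      (∀ i, sgn D' (-x) i = sgn D (-x) i) ∧ ∃ (U : Submodule F V) (E : Form K (Fin (e + 1) → F)) (c : F),
        chi c = -1 ∧ E.Nondeg ∧ (D.restrict U).Nondeg ∧ (E.prod (D.restrict U)).Iso D ∧
        ((scl h2 E c).prod (D.restrict U)).Iso D' := by
  obtain ⟨u, hu⟩ := exists_lvB_ne h2 hD hx.B_map hg hc
  obtain ⟨U, a1, a2, -, a4, a5, a6, a7, a8, -⟩ := exists_top (e := e) (ι := LinearMap.toSpanSingleton F V u)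
    hD hx (fun m => by simp [LinearMap.mem_ker.1 u.2]) fun m hm => by
      rw [lvB_apply] at hu
      simpa [hu] using hm 1
  obtain ⟨c, hc⟩ := FiniteField.exists_nonsquare (F := F) (by
    intro h; exact h2 (by simpa [h] using (ringChar.spec F 2).2))
  have c0 : c ≠ 0 := by rintro rfl; simp at hc
  generalize D.comap (fr (x - 1) e (LinearMap.toSpanSingleton F V u)) = E at a4 a5 a6
  obtain ⟨φ, φ1, φ2⟩ := a4.symm
  have b := isoC_comap (D' := (scl h2 E c).prod (D.restrict U)) φ2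
  have b5 := scl_nondeg h2 a5 c0
  have b6 := scl_isIsometry h2 a6 c
  have k : ∀ E : Form K (Fin (e + 1) → F), E.Nondeg → IsIsometry E E (sh F F e + 1 :) → ∀ i, i ≠ e →
      sgn E (sh F F e + 1) i = 1 := fun E h1 h3 i hi => sgn_of_zero fun v w => by
    rcases hi.lt_or_gt with hi | hi
    · exact low_eq_zero h1 h3.B_map a8 hi _ _ v.2 w.2
    · rw [lvB_apply, pow_eq_zero_of_le hi a7]; simp
  have k' : ∀ (E : Form K (Fin (e + 1) → F)) i, sgn E (-(sh F F e + 1)) i = 1 := fun E i =>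
    sgn_of_zero fun v w => by rw [lvB_apply, neg_inj_of_nil h2 a7 _ _ w.2, map_zero]
  refine ⟨_, b.iso.symm.nondeg (b5.prod a2), b.symm.isIsometry (isIsometry_prodMap b6
    (isIsometry_restrict hx _)), ?_, fun i hi => ?_, fun i => ?_, U, E, c, chi_of_not_isSquare hc,
    a5, a2, a4.iso, b.iso.symm⟩
  · rw [b.sgn_eq h2, ← a4.sgn_eq h2, sgn_prod h2, sgn_prod h2, sgn_scl h2 a5 a6.B_map hg c0, cnt_sh a7,
      chi_of_not_isSquare hc]
    simp
  · rw [b.sgn_eq h2, ← a4.sgn_eq h2, sgn_prod h2, sgn_prod h2, k _ a5 a6 i hi, k _ b5 b6 i hi]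
  · rw [b.neg.sgn_eq h2, ← a4.neg.sgn_eq h2, neg_prodMap, sgn_prod h2, sgn_prod h2, k', k']

/-- All sign patterns occur. -/
theorem exists_sgn (h2 : (2 : F) ≠ 0) (hD : D.Nondeg) (hx : IsIsometry D D x) {δ : ℕ → ℤˣ}
    (h : ∀ e, δ e ≠ 1 → Gd K e ∧ cnt x e ≠ 0) :
    ∃ D' : Form K V, D'.Nondeg ∧ IsIsometry D' D' x ∧ ∀ e, sgn D' x e = δ e := by
  have key : ∀ N, ∃ D' : Form K V, D'.Nondeg ∧ IsIsometry D' D' x ∧ ∀ e < N, sgn D' x e = δ e := by
    intro N
    induction N with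
    | zero => exact ⟨D, hD, hx, by simp⟩
    | succ N ih =>
      obtain ⟨E, h1, h3, h4⟩ := ih
      by_cases h5 : sgn E x N = δ N
      · exact ⟨E, h1, h3, fun e he => (Nat.lt_succ_iff_lt_or_eq.1 he).elim (h4 e) fun h => h ▸ h5⟩
      have h6 : Gd K N ∧ cnt x N ≠ 0 := by
        by_cases h7 : δ N = 1
        · exact ⟨by_contra fun h8 => h5 ((sgn_bad h1 h3.B_map h8).trans h7.symm),
            fun h8 => h5 ((sgn_of_cnt h2 h1 h3.B_map h8).trans h7.symm)⟩
        · exact h N h7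
      obtain ⟨E', k1, k2, k3, k4, -⟩ := exists_flip h2 h1 h3 h6.1 h6.2
      exact ⟨E', k1, k2, fun e he => (Nat.lt_succ_iff_lt_or_eq.1 he).elim
        (fun h => (k4 e h.ne).trans (h4 e h)) fun h => by
          rw [h, k3, eq_comm]; exact Int.units_ne_iff_eq_neg.1 (Ne.symm h5)⟩
  obtain ⟨E, h1, h3, h4⟩ := key (finrank F V)
  refine ⟨E, h1, h3, fun e => (lt_or_ge e _).elim (h4 e) fun he => ?_⟩
  rw [sgn_of_cnt h2 h1 h3.B_map (by_contra fun h => (cnt_lt h).not_ge he), eq_comm]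
  exact by_contra fun h5 => (cnt_lt (h e h5).2).not_ge he

end Sgn

end Cfsg.Lib.Conj
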