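import Cfsg.Agent.Lib.Conj.LS

/-!
The Weil representation of `Sp_{2n}(q)`, `q` odd.
-/

set_option autoImplicit false

namespace Cfsg.Lib.Conj

open Module Cfsg.Lib.Forms Cfsg.Lib.Forms.Form Matrix

section Abstract
variable {F : Type*} [Field F] {V : Type*} [AddCommGroup V] [Module F V]
  {W : Type*} [AddCommGroup W] [Module ℂ W]

/-- A Schrödinger type model of the Heisenberg group of a symplectic space. -/
structure Heis (D : Form (altKind F) V) (ψ : AddChar F ℂ) (π : V → End ℂ W) (P : End ℂ W) :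
    Prop where
  two : (2 : F) ≠ 0
  ne_one : ψ ≠ 1
  mul : ∀ v w, π v * π w = ψ (-(2⁻¹ * D.B v w)) • π (v + w)
  zero : π 0 = 1
  comm : ∀ X : End ℂ W, (∀ v, X * π v = π v * X) → ∃ c : ℂ, X = c • 1
  P_mul : ∀ v, P * π v = π (-v) * P
  P_sq : P * P = 1
  trace_P : LinearMap.trace ℂ W P = 1

variable {D : Form (altKind F) V} {ψ : AddChar F ℂ} {π : V → End ℂ W} {P : End ℂ W}

variable (D π) in
/-- Pairs `(g, T)` with `T` intertwining `π` and `π ∘ g`. -/
def mp : Subgroup (D.isom × (End ℂ W)ˣ) where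
  carrier := {x | ∀ v, x.2.1 * π v = π (x.1.1 v) * x.2.1}
  mul_mem' {a b} ha hb v := by
    change a.2.1 * b.2.1 * _ = π (a.1.1 (b.1.1 v)) * (a.2.1 * b.2.1)
    rw [mul_assoc, hb, ← mul_assoc, ha, mul_assoc]
  one_mem' v := by simp
  inv_mem' {a} ha v := by
    have := ha ((a.1⁻¹).1 v)
    rw [isom_apply_inv] at this
    change (a.2⁻¹).1 * _ = π ((a.1⁻¹).1 v) * (a.2⁻¹).1
    rw [Units.inv_mul_eq_iff_eq_mul, ← mul_assoc, this, mul_assoc, Units.mul_inv, mul_one]

variable [Fintype F] (ψ π) in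
/-- The Gauss sum operator attached to a transvection. -/
noncomputable def gs (p : V) (c : F) : End ℂ W := ∑ s : F, ψ (s ^ 2 / (2 * c)) • π (s • p)

namespace Heis
variable (h : Heis D ψ π P)
include h

theorem gs_mul [Fintype F] (p : V) {c : F} (hc : c ≠ 0) (v : V) :
    gs ψ π p c * π v = π ((Symp.tv D p c).1 v) * gs ψ π p c := by
  simp only [gs, Finset.sum_mul, Finset.mul_sum, smul_mul_assoc, mul_smul_comm, h.mul, smul_smul,
    ← AddChar.map_add_eq_mul, Symp.tv_apply]
  refine Fintype.sum_equiv (Equiv.subRight (c * D.B p v)) _ _ fun s => ?_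
  have := h.two
  congr 2
  · simp [Symp.B_self, Symp.B_symm D p v]; field_simp; ring
  · simp only [Equiv.subRight_apply]; module

theorem gs_mul_gs [Fintype F] (p : V) {c : F} (hc : c ≠ 0) :
    gs ψ π p c * gs ψ π p (-c) = (Fintype.card F : ℂ) • 1 := by
  classical
  have h2 := h.two
  have h1 : ∀ s : F, ∑ t : F, ψ (s ^ 2 / (2 * c) + t ^ 2 / (2 * -c)) • π ((s + t) • p) =
      ∑ u : F, (ψ (-u ^ 2 / (2 * c)) * ψ (s * (u / c))) • π (u • p) := fun s => by
    refine Fintype.sum_equiv (Equiv.addLeft s) _ _ fun t => ?_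
    rw [← AddChar.map_add_eq_mul]
    congr 2
    simp; field_simp; ring
  simp only [gs, Finset.sum_mul, Finset.mul_sum, smul_mul_assoc, mul_smul_comm, h.mul, smul_smul,
    ← AddChar.map_add_eq_mul, Form.B_smul_left, Form.B_smul_right, Symp.B_self, mul_zero, neg_zero,
    add_zero, ← add_smul, AddChar.map_zero_eq_one, one_smul, Finset.smul_sum]
  rw [Finset.sum_comm]
  simp only [add_comm (_ / (2 * -c)), h1]
  rw [Finset.sum_comm]
  simp only [← Finset.sum_smul, ← Finset.mul_sum,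
    AddChar.sum_mulShift _ (AddChar.IsPrimitive.of_ne_one h.ne_one)]
  rw [Finset.sum_eq_single 0 (fun b _ hb => by simp [hb, hc]) (by simp)]
  simp [h.zero]

theorem mp_surjective [Finite F] [FiniteDimensional F V] [FiniteDimensional ℂ W] (hD : D.Nondeg) :
    Function.Surjective ((MonoidHom.fst _ _).comp (mp D π).subtype) := by
  let _ := Fintype.ofFinite F
  rw [← MonoidHom.range_eq_top]
  refine Symp.eq_top_of_tv hD _ fun p c => ?_
  by_cases hc : c = 0
  · rw [hc, Symp.tv_zero]; exact one_mem _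
  have h1 : gs ψ π p c * ((Fintype.card F : ℂ)⁻¹ • gs ψ π p (-c)) = 1 := by
    rw [mul_smul_comm, h.gs_mul_gs p hc, smul_smul, inv_mul_cancel₀ (by simp), one_smul]
  exact ⟨⟨(Symp.tv D p c, ⟨_, _, h1, mul_eq_one_comm.1 h1⟩), h.gs_mul p hc⟩, rfl⟩

theorem eq_smul {g : D.isom} {S : End ℂ W} {T : (End ℂ W)ˣ} (hS : ∀ v, S * π v = π (g.1 v) * S)
    (hT : ∀ v, T.1 * π v = π (g.1 v) * T.1) : ∃ c : ℂ, S = c • T.1 := by
  obtain ⟨c, hc⟩ := h.comm ((T⁻¹).1 * S) fun v => by
    rw [mul_assoc, hS, Units.inv_mul_eq_iff_eq_mul, ← mul_assoc, ← mul_assoc, hT,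
      Units.mul_inv_cancel_right]
  exact ⟨c, by rw [Units.inv_mul_eq_iff_eq_mul] at hc; simpa using hc⟩

theorem comm_P {g : D.isom} {T : (End ℂ W)ˣ} (hT : ∀ v, T.1 * π v = π (g.1 v) * T.1) :
    T.1 * P = P * T.1 := by
  obtain ⟨c, hc⟩ := h.eq_smul (S := P * T.1 * P) (fun v => by
    rw [mul_assoc, h.P_mul, ← mul_assoc, mul_assoc P, hT, ← mul_assoc, h.P_mul, map_neg, neg_neg]
    simp only [mul_assoc]) hT
  have h1 : P * T.1 = c • (T.1 * P) := by
    rw [← smul_mul_assoc, ← hc, mul_assoc, h.P_sq, mul_one]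
  have h2 := congrArg (fun X => LinearMap.trace ℂ W (X * (T⁻¹).1)) h1
  simp only [Units.mul_inv_cancel_right, smul_mul_assoc, map_smul, LinearMap.trace_conj,
    h.trace_P, smul_eq_mul, mul_one] at h2
  rw [h1, ← h2, one_smul]

theorem isProj {ε : ℂ} (hε : ε * ε = 1) :
    LinearMap.IsProj (P.eigenspace ε) ((2 : ℂ)⁻¹ • (1 + ε • P)) where
  map_mem x := by
    have := LinearMap.congr_fun h.P_sq x
    simp only [End.mul_apply, End.one_apply] at this
    simp only [End.mem_eigenspace_iff, LinearMap.smul_apply, LinearMap.add_apply, End.one_apply,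
      map_smul, map_add, this]
    match_scalars
    · linear_combination (-1 / 2) * hε
    · ring
  map_id x hx := by
    simp only [LinearMap.smul_apply, LinearMap.add_apply, End.one_apply,
      End.mem_eigenspace_iff.1 hx]
    match_scalars
    linear_combination (1 / 2) * hε

theorem two_mul_finrank [FiniteDimensional ℂ W] :
    2 * finrank ℂ (P.eigenspace 1) = finrank ℂ W + 1 ∧
      2 * finrank ℂ (P.eigenspace (-1)) + 1 = finrank ℂ W := by
  have h1 := (h.isProj (ε := 1) (by simp)).trace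
  have h2 := (h.isProj (ε := -1) (by simp)).trace
  simp only [map_smul, map_add, LinearMap.trace_one, h.trace_P, smul_eq_mul] at h1 h2
  constructor <;> refine Nat.cast_injective (R := ℂ) ?_ <;> push_cast
  · linear_combination -2 * h1
  · linear_combination -2 * h2

theorem exists_weil [Finite F] [FiniteDimensional F V] [FiniteDimensional ℂ W] (hD : D.Nondeg) :
    ∃ ω : D.isom →* End ℂ W, ∀ g v, ω g * π v = π (g.1 v) * ω g := by
  let T : mp D π →* End ℂ W := (Units.coeHom _).comp ((MonoidHom.snd _ _).comp (mp D π).subtype)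
  let ρ : ∀ ε : ℂ, mp D π →* End ℂ (P.eigenspace ε) := fun ε =>
    Representation.subrepresentation T _ fun x w hw => End.mem_eigenspace_iff.2 (by
      change P (x.1.2.1 w) = ε • x.1.2.1 w
      rw [← End.mul_apply, ← h.comm_P x.2, End.mul_apply, End.mem_eigenspace_iff.1 hw, map_smul])
  let δ : ∀ ε : ℂ, mp D π →* ℂˣ := fun ε => (LinearMap.det.comp (ρ ε)).toHomUnits
  let T' : mp D π →* End ℂ W :=
    { toFun := fun x => ((δ (-1) x / δ 1 x : ℂˣ) : ℂ) • T x
      map_one' := by simp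
      map_mul' := fun x y => by
        rw [map_mul, map_mul, map_mul, mul_div_mul_comm, Units.val_mul, smul_mul_smul_comm] }
  have h1 : ((MonoidHom.fst _ _).comp (mp D π).subtype).ker ≤ T'.toHomUnits.ker := fun x hx => by
    obtain ⟨c, hc⟩ := h.comm (T x) fun v => by
      have := x.2 v
      rwa [show x.1.1 = 1 from hx] at this
    have h2 : ∀ ε, (δ ε x : ℂ) = c ^ finrank ℂ (P.eigenspace ε) := fun ε => by
      have : ρ ε x = c • 1 := LinearMap.ext fun w => Subtype.ext (LinearMap.congr_fun hc w)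
      change LinearMap.det (ρ ε x) = _
      rw [this, LinearMap.det_smul, map_one, mul_one]
    have h3 := h.two_mul_finrank
    have h4 : finrank ℂ (P.eigenspace 1) = finrank ℂ (P.eigenspace (-1)) + 1 := by omega
    have h5 := (δ 1 x).ne_zero
    refine Units.ext ?_
    change ((δ (-1) x / δ 1 x : ℂˣ) : ℂ) • T x = 1
    rw [Units.val_div_eq_div_val, hc, smul_smul, div_mul_eq_mul_div, h2 (-1), ← pow_succ, ← h4,
      ← h2, div_self h5, one_smul]
  refine ⟨(Units.coeHom _).comp (MonoidHom.liftOfSurjective _ (h.mp_surjective hD) ⟨_, h1⟩),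
    fun g v => ?_⟩
  obtain ⟨x, rfl⟩ := h.mp_surjective hD g
  rw [MonoidHom.comp_apply, MonoidHom.liftOfRightInverse_comp_apply]
  change ((_ : ℂ) • x.1.2.1) * _ = _ * ((_ : ℂ) • x.1.2.1)
  rw [smul_mul_assoc, mul_smul_comm, x.2 v]
  rfl

end Heis
end Abstract

section Model
variable {F : Type*} [Field F] {n : ℕ} (ψ : AddChar F ℂ)

/-- The Schrödinger model. -/
def schr (v : Fin n ⊕ Fin n → F) : End ℂ ((Fin n → F) → ℂ) where
  toFun f x := ψ (x ⬝ᵥ (v ∘ .inr) + 2⁻¹ * ((v ∘ .inl) ⬝ᵥ (v ∘ .inr))) * f (x + v ∘ .inl)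
  map_add' f g := by ext; simp [mul_add]
  map_smul' c f := by ext; simp [mul_left_comm]

theorem schr_apply (v : Fin n ⊕ Fin n → F) (f : (Fin n → F) → ℂ) (x : Fin n → F) : schr ψ v f x =
    ψ (x ⬝ᵥ (v ∘ .inr) + 2⁻¹ * ((v ∘ .inl) ⬝ᵥ (v ∘ .inr))) * f (x + v ∘ .inl) := rfl

variable (F n) in
/-- The parity operator. -/
def par : End ℂ ((Fin n → F) → ℂ) := LinearMap.funLeft ℂ ℂ Neg.neg

theorem par_apply (f : (Fin n → F) → ℂ) (x : Fin n → F) : par F n f x = f (-x) := rfl

theorem fSymp_B_eq (u v : Fin n ⊕ Fin n → F) :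
    (fSymp F n).B u v = (u ∘ .inr) ⬝ᵥ (v ∘ .inl) - (u ∘ .inl) ⬝ᵥ (v ∘ .inr) := by
  simp [fSymp_B', dotProduct]

theorem heis_schr [Finite F] (h2 : (2 : F) ≠ 0) (hψ : ψ ≠ 1) :
    Heis (fSymp F n) ψ (schr ψ) (par F n) where
  two := h2
  ne_one := hψ
  mul v w := by
    ext1 f; ext x
    simp only [End.mul_apply, schr_apply, LinearMap.smul_apply, Pi.smul_apply, smul_eq_mul,
      ← mul_assoc, ← AddChar.map_add_eq_mul, fSymp_B_eq, Pi.add_comp, add_assoc x]
    congr 2
    simp only [add_dotProduct, dotProduct_add, dotProduct_comm (v ∘ Sum.inr)]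
    field_simp; ring
  zero := by ext1 f; ext x; simp [schr_apply]
  comm X hX := by
    classical
    let _ := Fintype.ofFinite F
    have h1 : ∀ x y, x ≠ y → X (Pi.single y 1) x = 0 := fun x y hxy => by
      obtain ⟨i, hi⟩ := Function.ne_iff.1 hxy
      obtain ⟨t, ht⟩ := AddChar.ne_one_iff.1 hψ
      let b : Fin n → F := Pi.single i (t / (x i - y i))
      have h3 := congrFun (LinearMap.congr_fun (hX (Sum.elim 0 b)) (Pi.single y 1)) x
      have h4 : schr ψ (Sum.elim 0 b) (Pi.single y 1) = ψ (y ⬝ᵥ b) • Pi.single y 1 := by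
        ext z
        by_cases hz : z = y <;> simp [schr_apply, hz]
      rw [End.mul_apply, h4, map_smul, End.mul_apply, schr_apply] at h3
      simp only [Pi.smul_apply, smul_eq_mul, Sum.elim_comp_inr, Sum.elim_comp_inl, zero_dotProduct,
        mul_zero, add_zero] at h3
      by_contra h5
      have h6 : x ⬝ᵥ b = t + y ⬝ᵥ b := by
        have := sub_ne_zero.2 hi
        simp [b]; field_simp; ring
      rw [h6, AddChar.map_add_eq_mul] at h3
      have h7 := mul_right_cancel₀ h5 h3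
      exact ht (mul_right_cancel₀ (ψ.val_isUnit _).ne_zero (h7.symm.trans (one_mul _).symm))
    have h3 : ∀ y, X (Pi.single y 1) y = X (Pi.single 0 1) 0 := fun y => by
      have h3 := congrFun (LinearMap.congr_fun (hX (Sum.elim y 0)) (Pi.single y 1)) 0
      have h4 : schr ψ (Sum.elim y 0) (Pi.single y 1) = Pi.single 0 1 := by
        ext z
        by_cases hz : z = 0 <;> simp [schr_apply, hz]
      rw [End.mul_apply, h4, End.mul_apply, schr_apply] at h3
      simpa using h3.symm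
    refine ⟨X (Pi.single 0 1) 0, (Pi.basisFun ℂ _).ext fun y => funext fun x => ?_⟩
    by_cases hxy : x = y
    · simp [hxy, h3]
    · simp [hxy, h1]
  P_mul v := by
    ext1 f; ext x
    simp [End.mul_apply, schr_apply, par_apply, Pi.neg_comp, add_comm]
  P_sq := by ext1 f; ext x; simp [par_apply]
  trace_P := by
    classical
    let _ := Fintype.ofFinite F
    rw [LinearMap.trace_eq_matrix_trace ℂ (Pi.basisFun ℂ _), Matrix.trace,
      Finset.sum_eq_single 0 (fun x _ hx => ?_) (by simp)]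
    · simp [LinearMap.toMatrix_apply, par_apply]
    · have : -x ≠ x := fun h => hx (by
        rw [neg_eq_iff_add_eq_zero, ← two_smul F, smul_eq_zero] at h
        exact h.resolve_left h2)
      simp [LinearMap.toMatrix_apply, par_apply, this]

/-- Multiplication by `ψ (a x_i²)`. -/
def mulSq (i : Fin n) (a : F) : End ℂ ((Fin n → F) → ℂ) where
  toFun f x := ψ (a * x i ^ 2) * f x
  map_add' f g := by ext; simp [mul_add]
  map_smul' c f := by ext; simp [mul_left_comm]

theorem mulSq_apply (i : Fin n) (a : F) (f : (Fin n → F) → ℂ) (x : Fin n → F) :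
    mulSq ψ i a f x = ψ (a * x i ^ 2) * f x := rfl

theorem mulSq_mul (h2 : (2 : F) ≠ 0) (i : Fin n) (c : F) (v : Fin n ⊕ Fin n → F) :
    mulSq ψ i (-(2⁻¹ * c)) * schr ψ v =
      schr ψ ((Symp.tv (fSymp F n) (Pi.single (.inr i) 1) c).1 v) * mulSq ψ i (-(2⁻¹ * c)) := by
  ext1 f; ext x
  have h1 : (Pi.single (.inr i) 1 : Fin n ⊕ Fin n → F) ∘ .inl = 0 := by ext; simp
  have h3 : (Pi.single (.inr i) 1 : Fin n ⊕ Fin n → F) ∘ .inr = Pi.single i 1 := by
    ext j; simp [Pi.single_apply]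
  simp only [End.mul_apply, schr_apply, mulSq_apply, Symp.tv_apply, fSymp_B_inr, Pi.add_comp,
    Pi.smul_comp, h1, h3, smul_zero, add_zero, ← mul_assoc, ← AddChar.map_add_eq_mul]
  congr 2
  simp
  field_simp; ring

theorem finrank_schr [Finite F] : finrank ℂ ((Fin n → F) → ℂ) = Nat.card F ^ n := by
  let _ := Fintype.ofFinite F
  simp

/-- The transvections do not act as scalars on the eigenspaces of the parity operator. -/
theorem weil_tv_ne [Finite F] (h2 : (2 : F) ≠ 0) (hψ : ψ ≠ 1) (hn : 2 ≤ n)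
    {ω : (fSymp F n).isom →* End ℂ ((Fin n → F) → ℂ)}
    (hω : ∀ g v, ω g * schr ψ v = schr ψ (g.1 v) * ω g) {ε : ℂ} (hε : ε * ε = 1) :
    ∃ e c, e ≠ 0 ∧ ∀ a : ℂ, ¬ ∀ f ∈ (par F n).eigenspace ε, ω (Symp.tv _ e c) f = a • f := by
  classical
  obtain ⟨t, ht⟩ := AddChar.ne_one_iff.1 hψ
  let i : Fin n := ⟨0, by omega⟩
  let j : Fin n := ⟨1, by omega⟩
  refine ⟨Pi.single (.inr i) 1, -2 * t, by simp, fun a ha => ?_⟩
  obtain ⟨c, hc⟩ := (heis_schr ψ h2 hψ).eq_smul (mulSq_mul ψ h2 i (-2 * t))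
    (T := ω.toHomUnits _) (hω _)
  have h1 : ∀ x : Fin n → F, x ≠ 0 → ψ (t * x i ^ 2) = c * a := fun x hx => by
    have h3 : -x ≠ x := fun h => hx (by
      rw [neg_eq_iff_add_eq_zero, ← two_smul F, smul_eq_zero] at h
      exact h.resolve_left h2)
    have h4 := ha (Pi.single x 1 + ε • Pi.single (-x) 1) (End.mem_eigenspace_iff.2 (by
      ext y
      simp only [par_apply, Pi.add_apply, Pi.smul_apply, Pi.single_apply, neg_inj,
        neg_eq_iff_eq_neg (a := y), neg_neg, smul_eq_mul]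
      split_ifs <;> simp [mul_add, hε, add_comm]))
    have h5 := congrFun (LinearMap.congr_fun hc (Pi.single x 1 + ε • Pi.single (-x) 1)) x
    rw [LinearMap.smul_apply, MonoidHom.coe_toHomUnits, h4, mulSq_apply] at h5
    simpa [h3.symm, ← mul_assoc, h2] using h5
  have h3 := (h1 (Pi.single i 1) (by simp)).trans (h1 (Pi.single j 1) (by simp)).symm
  exact ht (by simpa [i, j] using h3)

end Model

theorem eq_one_of_sq_zero {A : Type*} [Ring A] [Algebra ℂ A] {x : A} (h : (x - 1) * (x - 1) = 0)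
    {p : ℕ} (hp : p ≠ 0) (hx : x ^ p = 1) : x = 1 := by
  have h1 : ∀ m : ℕ, x ^ m = 1 + (m : ℂ) • (x - 1) := fun m => by
    induction m with
    | zero => simp
    | succ m ih =>
      have : (x - 1) * x = x - 1 := by rw [← sub_eq_zero, ← mul_sub_one, h]
      rw [pow_succ, ih, add_mul, smul_mul_assoc, this, Nat.cast_succ, add_smul]
      simp; abel
  rw [h1, add_eq_left, smul_eq_zero, sub_eq_zero] at hx
  exact hx.resolve_left (by exact_mod_cast hp)

/-- A representation of minimal degree among those non-trivial on `t` is irreducible. -/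
theorem isIrreducible_of_min {G M : Type*} [Group G] [AddCommGroup M] [Module ℂ M]
    [FiniteDimensional ℂ M] (ρ : Representation ℂ G M) {t : G} {p : ℕ} (hp : p ≠ 0)
    (ht : t ^ p = 1) (h : ρ t ≠ 1)
    (h1 : ∀ (S : Submodule ℂ M) (R : G →* End ℂ S), R t ≠ 1 → finrank ℂ M ≤ finrank ℂ S)
    (h2 : ∀ (S : Submodule ℂ M) (R : G →* End ℂ (M ⧸ S)), R t ≠ 1 →
      finrank ℂ M ≤ finrank ℂ (M ⧸ S)) : ρ.IsIrreducible := by
  have : Nontrivial (Subrepresentation ρ) := ⟨⊥, ⊤, fun h0 => h (LinearMap.ext fun x => by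
    have h3 : ∀ y : M, y = 0 := fun y =>
      (show (⊥ : Submodule ℂ M) = ⊤ from congrArg Subrepresentation.toSubmodule h0).ge trivial
    exact (h3 _).trans (h3 _).symm)⟩
  refine ⟨fun S => ?_⟩
  by_contra! H
  have h3 := S.toSubmodule.finrank_quotient_add_finrank
  have h4 : finrank ℂ S.toSubmodule ≠ 0 := fun h0 =>
    H.1 (Subrepresentation.toSubmodule_injective (Submodule.finrank_eq_zero.1 h0))
  have h5 := Submodule.finrank_lt (s := S.toSubmodule) fun h0 =>
    H.2 (Subrepresentation.toSubmodule_injective h0)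
  have h6 : ρ.subrepresentation _ (fun g _ hx => S.apply_mem_toSubmodule g hx) t = 1 := by
    by_contra h6; exact (h1 _ _ h6).not_gt h5
  have h7 : ρ.quotient _ (fun g _ hx => S.apply_mem_toSubmodule g hx) t = 1 := by
    by_contra h7; have := h2 _ _ h7; omega
  refine h (eq_one_of_sq_zero (LinearMap.ext fun x => ?_) hp (by rw [← map_pow, ht, map_one]))
  have h8 : ρ t x - x ∈ S.toSubmodule :=
    (Submodule.Quotient.eq _).1 (LinearMap.congr_fun h7 (Submodule.Quotient.mk x))
  exact sub_eq_zero.2 (congrArg Subtype.val (LinearMap.congr_fun h6 ⟨_, h8⟩))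

end Cfsg.Lib.Conj
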