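import Cfsg.Agent.Lib.Forms.Herm
import Cfsg.Agent.Lib.Hall.Pron
import Cfsg.Agent.Lib.Stein.Over

/-! Sylow `2`-subgroups of linear and unitary groups of `2`-power dimension. -/

set_option autoImplicit false

namespace Cfsg.Lib.Conj.Wr2

open Module

variable {F : Type*} [Field F] {V W : Type*} [AddCommGroup V] [Module F V] [AddCommGroup W] [Module F W]

/-- Scalar maps. -/
def Scal (g : V → V) : Prop := ∃ c : F, ∀ v, g v = c • v

/-- `g` normalizes `P` up to scalars. -/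
def NormS (P : Subgroup (V ≃ₗ[F] V)) (g : V ≃ₗ[F] V) : Prop :=
  ∀ t ∈ P, ∃ c : F, ∃ t' ∈ P, ∀ v, g (t v) = c • t' (g v)

theorem NormS.inv {P : Subgroup (V ≃ₗ[F] V)} {g : V ≃ₗ[F] V} (h : NormS P g) (ho : Odd (orderOf g)) :
    NormS P g⁻¹ := by
  have key : ∀ n, NormS P (g ^ n) := fun n => by
    induction n with
    | zero => exact fun t ht => ⟨1, t, ht, by simp⟩
    | succ n ih =>
      intro t ht
      obtain ⟨c, t', h1, h2⟩ := h t ht
      obtain ⟨c', t'', h3, h4⟩ := ih t' h1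
      exact ⟨c * c', t'', h3, fun v => by simp [pow_succ, h2, h4, mul_smul]⟩
  obtain ⟨k, hk⟩ := ho
  rw [inv_eq_of_mul_eq_one_left (pow_succ g _ ▸ hk ▸ pow_orderOf_eq_one g)]
  exact key _

/-- The monomial group over a group of pairs. -/
def mon (A : Subgroup ((W ≃ₗ[F] W) × (W ≃ₗ[F] W))) (hA : ∀ a ∈ A, a.swap ∈ A) :
    Subgroup ((W × W) ≃ₗ[F] (W × W)) where
  carrier := {g | ∃ a ∈ A, (∀ v, g v = (a.1 v.1, a.2 v.2)) ∨ ∀ v, g v = (a.1 v.2, a.2 v.1)}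
  one_mem' := ⟨1, one_mem _, .inl fun _ => rfl⟩
  mul_mem' := by
    rintro g k ⟨a, ha, h | h⟩ ⟨b, hb, h' | h'⟩
    exacts [⟨_, mul_mem ha hb, .inl (by simp [h, h'])⟩, ⟨_, mul_mem ha hb, .inr (by simp [h, h'])⟩,
      ⟨_, mul_mem ha (hA b hb), .inr (by simp [h, h'])⟩, ⟨_, mul_mem ha (hA b hb), .inl (by simp [h, h'])⟩]
  inv_mem' := by
    rintro g ⟨a, ha, h | h⟩
    exacts [⟨_, inv_mem ha, .inl fun v => g.symm_apply_eq.2 (by simp [h])⟩,
      ⟨_, inv_mem (hA a ha), .inr fun v => g.symm_apply_eq.2 (by simp [h])⟩]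

variable {A : Subgroup ((W ≃ₗ[F] W) × (W ≃ₗ[F] W))} {hA : ∀ a ∈ A, a.swap ∈ A}

theorem card_mon [Nontrivial W] : Nat.card (mon A hA) = 2 * Nat.card A := by
  obtain ⟨w, hw⟩ := exists_ne (0 : W)
  rw [show 2 = Nat.card Bool by simp, ← Nat.card_prod]
  refine (Nat.card_eq_of_bijective (fun p : Bool × A => ⟨if p.1 then p.2.1.1.prodCongr p.2.1.2 else
    (LinearEquiv.prodComm F W W).trans (p.2.1.1.prodCongr p.2.1.2), p.2, p.2.2, by cases p.1 <;> simp⟩)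
    ⟨?_, ?_⟩).symm
  · rintro ⟨b, a⟩ ⟨b', a'⟩ h
    have h1 := fun v => LinearEquiv.congr_fun (congrArg Subtype.val h) v
    have h2 := h1 (w, 0)
    cases b <;> cases b' <;> simp [hw, eq_comm (a := (0 : W))] at h1 h2 ⊢ <;>
      exact Subtype.ext (Prod.ext (LinearEquiv.ext fun v => (h1 v v).1) (LinearEquiv.ext fun v => (h1 v v).2))
  · rintro ⟨g, a, ha, h | h⟩
    exacts [⟨(true, ⟨a, ha⟩), Subtype.ext (LinearEquiv.ext fun v => (h v).symm)⟩,
      ⟨(false, ⟨a, ha⟩), Subtype.ext (LinearEquiv.ext fun v => (h v).symm)⟩]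

theorem pow_eq_one_of_eig {g : V ≃ₗ[F] V} {c : F} {v : V} (hv : v ≠ 0) (h : g v = c • v) {n : ℕ}
    (hn : g ^ n = 1) : c ^ n = 1 := by
  have h1 : ∀ n, (g ^ n) v = c ^ n • v := fun n => by
    induction n with
    | zero => simp
    | succ n ih => rw [pow_succ, LinearEquiv.mul_apply, h, map_smul, ih, smul_smul, pow_succ']
  exact smul_left_injective F hv (by simp [← h1, hn])

theorem eq_one_of_odd {g : V ≃ₗ[F] V} (ho : Odd (orderOf g)) {J : End F V} {v : V} (hv : J v ≠ 0) {c : F}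
    (h : ∀ v, g (J v) = c • J (g v)) {k : ℕ} (hc : c ^ 2 ^ k = 1) : c = 1 := by
  have h1 : ∀ n v, (g ^ n) (J v) = c ^ n • J ((g ^ n) v) := fun n => by
    induction n with
    | zero => simp
    | succ n ih => simp [pow_succ, h, ih, smul_smul, mul_comm]
  have h2 : c ^ orderOf g = 1 := smul_left_injective F hv (by simpa [pow_orderOf_eq_one] using (h1 (orderOf g) v).symm)
  simpa [(ho.coprime_two_right.pow_right k).gcd_eq_one] using pow_gcd_eq_one.2 ⟨h2, hc⟩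

/-- Block diagonal maps. -/
def blk : (W ≃ₗ[F] W) × (W ≃ₗ[F] W) →* ((W × W) ≃ₗ[F] (W × W)) where
  toFun a := a.1.prodCongr a.2
  map_one' := rfl
  map_mul' _ _ := rfl

@[simp] theorem blk_apply (a : (W ≃ₗ[F] W) × (W ≃ₗ[F] W)) (v : W × W) : blk a v = (a.1 v.1, a.2 v.2) := rfl

theorem exists_diag (h2 : (2 : F) ≠ 0) {g : (W × W) ≃ₗ[F] (W × W)} (h : ∀ v : W × W, g (v.1, -v.2) = ((g v).1, -(g v).2)) :
    ∃ x y : W ≃ₗ[F] W, (∀ v, g v = (x v.1, y v.2)) ∧ (Odd (orderOf g) → Odd (orderOf x) ∧ Odd (orderOf y)) := by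
  have h0 : ∀ u : W, u = -u → u = 0 := fun u hu => by
    simpa [h2] using (two_smul F u).trans (eq_neg_iff_add_eq_zero.1 hu)
  have h1 : ∀ v, g v = ((LinearMap.fst F W W ∘ₗ g.toLinearMap ∘ₗ LinearMap.inl F W W) v.1,
      (LinearMap.snd F W W ∘ₗ g.toLinearMap ∘ₗ LinearMap.inr F W W) v.2) := fun v => by
    have a := h0 _ (by simpa using congrArg Prod.snd (h (v.1, 0)))
    have b := h0 (g (0, v.2)).1 (by
      simpa [show ((0 : W), -v.2) = -(0, v.2) by simp, neg_eq_iff_eq_neg, -Prod.neg_mk] using congrArg Prod.fst (h (0, v.2)).symm)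
    conv_lhs => rw [show v = (v.1, 0) + (0, v.2) by simp, map_add]
    exact Prod.ext (by simp [b]) (by simp [a])
  generalize LinearMap.fst F W W ∘ₗ g.toLinearMap ∘ₗ LinearMap.inl F W W = x,
    LinearMap.snd F W W ∘ₗ g.toLinearMap ∘ₗ LinearMap.inr F W W = y at h1
  have h3 : Function.Bijective (Prod.map x y) := (funext h1 : ⇑g = Prod.map x y) ▸ g.bijective
  rw [Prod.map_bijective] at h3
  have h4 : g = blk (.ofBijective x h3.1, .ofBijective y h3.2) := LinearEquiv.ext h1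
  refine ⟨.ofBijective x h3.1, .ofBijective y h3.2, h1, fun ho => ?_⟩
  rw [h4, orderOf_injective blk fun a b e => Prod.ext
    (LinearEquiv.ext fun v => congrArg Prod.fst (LinearEquiv.congr_fun e (v, 0)))
    (LinearEquiv.ext fun v => congrArg Prod.snd (LinearEquiv.congr_fun e (0, v)))] at ho
  exact ⟨ho.of_dvd_nat orderOf_fst_dvd_orderOf, ho.of_dvd_nat orderOf_snd_dvd_orderOf⟩

theorem key [Nontrivial W] (h2 : (2 : F) ≠ 0) {P : Subgroup ((W × W) ≃ₗ[F] (W × W))} (hP : P ≤ mon A hA)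
    (pg : IsPGroup 2 P) {z : (W × W) ≃ₗ[F] (W × W)} (hz : z ∈ P) {c : F} (hz' : ∀ v, z v = c • (v.1, -v.2))
    {s : (W × W) ≃ₗ[F] (W × W)} (hs : s ∈ P) {s1 s2 : W ≃ₗ[F] W} (hs' : ∀ v, s v = (s1 v.2, s2 v.1))
    (HA : ∀ x : W ≃ₗ[F] W, ∃ t ∈ P, ∃ a b : W ≃ₗ[F] W, (∀ v, t v = (a v.1, b v.2)) ∧
      ∀ ε : F, ε ^ 2 = 1 → ¬ ∀ w, x (b w) = ε • a (x w))
    (HB : ∀ x y : W ≃ₗ[F] W, (∀ t ∈ P, ∀ a b : W ≃ₗ[F] W, (∀ v, t v = (a v.1, b v.2)) →
      ∃ ε : F, (∀ w, x (a w) = ε • a (x w)) ∧ ∀ w, y (b w) = ε • b (y w)) → Scal (F := F) x ∧ Scal (F := F) y)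
    (HC : ∀ x y : W ≃ₗ[F] W, Odd (orderOf x) → Odd (orderOf y) → (∀ t ∈ P, ∀ a b : W ≃ₗ[F] W,
      (∀ v, t v = (a v.1, b v.2)) → ∃ c : F, ∃ a' ∈ A, (∀ w, x (a w) = c • a'.1 (x w)) ∧
        ∀ w, y (b w) = c • a'.2 (y w)) → Scal (F := F) x ∧ Scal (F := F) y)
    {g : (W × W) ≃ₗ[F] (W × W)} (ho : Odd (orderOf g)) (hg : NormS P g) : Scal (F := F) g := by
  obtain ⟨w, hw⟩ := exists_ne (0 : W)
  have inj := smul_left_injective F hw
  have c0 : c ≠ 0 := by rintro rfl; simpa [hw] using hz' (w, 0)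
  obtain ⟨d, z', h1, h3⟩ := hg z hz
  have d0 : d ≠ 0 := by rintro rfl; simpa [hw] using h3 (w, 0)
  have h4 : ∀ t ∈ P, ∃ ε : F, ε ^ 2 = 1 ∧ ∀ v, z' (t v) = ε • t (z' v) := fun t ht => by
    obtain ⟨e, t', k1, k2⟩ := hg.inv ho t ht
    have k3 : ∀ v, t (g v) = e • g (t' v) := fun v => g⁻¹.injective (by rw [k2]; simp)
    have k4 : ∃ ε : F, ε ^ 2 = 1 ∧ ∀ v, z (t' v) = ε • t' (z v) := by
      obtain ⟨a, -, h | h⟩ := hP k1
      exacts [⟨1, by simp, by simp [h, hz']⟩, ⟨-1, by simp, by simp [h, hz']⟩]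
    refine k4.imp fun ε h => ⟨h.1, fun v => smul_right_injective _ d0 ?_⟩
    obtain ⟨v, rfl⟩ := g.surjective v
    simp only []
    rw [k3, map_smul, smul_comm d e, ← h3, h.2, map_smul, smul_comm d ε, ← map_smul t d, ← h3, k3, smul_comm]
  obtain ⟨a, -, h5 | h5⟩ := hP h1
  swap
  · obtain ⟨t, ht, a', b', k1, k2⟩ := HA a.1
    obtain ⟨ε, k3, k4⟩ := h4 t ht
    exact (k2 ε k3 fun u => by simpa [h5, k1] using congrArg Prod.fst (k4 (0, u))).elim
  obtain ⟨⟨l, hl⟩, m, hm⟩ := HB a.1 a.2 fun t ht a' b' k => (h4 t ht).imp fun ε h =>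
    ⟨fun u => by simpa [h5, k] using congrArg Prod.fst (h.2 (u, 0)),
      fun u => by simpa [h5, k] using congrArg Prod.snd (h.2 (0, u))⟩
  obtain ⟨ε, k1, k2⟩ := h4 s hs
  have k3 : l = ε * m := inj (s1.injective (by simpa [h5, hs', hl, hm, smul_smul] using congrArg Prod.fst (k2 (0, w))))
  have k4 : ∀ v : W × W, g (v.1, -v.2) = (c⁻¹ * d) • (l • (g v).1, m • (g v).2) := fun v => by
    rw [mul_smul, eq_inv_smul_iff₀ c0, ← map_smul, ← hz', h3, h5, hl, hm]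
  obtain rfl | rfl := sq_eq_one_iff.1 k1
  · have a1 := g.injective ((k4 (w, 0)).trans (by rw [k3, one_mul, ← Prod.smul_mk, smul_smul, ← map_smul]))
    have a2 := g.injective ((k4 (0, w)).trans (by rw [k3, one_mul, ← Prod.smul_mk, smul_smul, ← map_smul]))
    simp only [Prod.smul_mk, Prod.mk.injEq] at a1 a2
    exact (h2 (inj (by simp [two_smul, ← eq_neg_iff_add_eq_zero, a2.2, ← a1.1]))).elim
  let J : End F (W × W) := LinearMap.prodMap 1 (-1)
  have k5 : ∀ v, g (J v) = (c⁻¹ * d * l) • J (g v) := fun v => (k4 v).trans (by simp [J, k3, smul_smul])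
  have k6 := eq_one_of_odd ho (v := (w, 0)) (by simpa [J]) k5 (k := 1) (smul_left_injective F
    (g.map_ne_zero_iff.2 (show (w, (0 : W)) ≠ 0 by simpa)) (by
      have := k5 (J (w, 0))
      rw [k5 (w, 0), map_smul, smul_smul] at this
      simpa [J, sq] using this.symm))
  obtain ⟨x, y, k7, o⟩ := exists_diag h2 (fun v => by simpa [J, k6] using k5 v)
  obtain ⟨⟨l, hl⟩, m, hm⟩ := HC x y (o ho).1 (o ho).2 fun t ht a b k => by
    obtain ⟨e, t', k8, k9⟩ := hg t ht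
    obtain ⟨a', ha', h | h⟩ := hP k8
    · exact ⟨e, a', ha', fun u => by simpa [k, k7, h] using congrArg Prod.fst (k9 (u, 0)),
        fun u => by simpa [k, k7, h] using congrArg Prod.snd (k9 (0, u))⟩
    · exact (hw (by simpa [k, k7, h] using congrArg Prod.fst (k9 (w, 0)))).elim
  obtain ⟨e, t, k8, k9⟩ := hg s hs
  obtain ⟨k, hk⟩ := pg ⟨_, mul_mem (inv_mem k8) hs⟩
  have l0 : l ≠ 0 := by rintro rfl; simpa [hw] using hl w
  have m0 : m ≠ 0 := by rintro rfl; simpa [hw] using hm w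
  have b1 := pow_eq_one_of_eig (g := t⁻¹ * s) (v := (0, w)) (c := l⁻¹ * e * m) (by simpa) (t.symm_apply_eq.2 (by
    rw [mul_smul, mul_smul, map_smul, map_smul, eq_inv_smul_iff₀ l0]
    simpa [k7, hl, hm, hs'] using k9 (0, w))) (congrArg Subtype.val hk)
  have b2 := pow_eq_one_of_eig (g := t⁻¹ * s) (v := (w, 0)) (c := m⁻¹ * e * l) (by simpa) (t.symm_apply_eq.2 (by
    rw [mul_smul, mul_smul, map_smul, map_smul, eq_inv_smul_iff₀ m0]
    simpa [k7, hl, hm, hs'] using k9 (w, 0))) (congrArg Subtype.val hk)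
  have b3 := eq_one_of_odd ho (J := LinearMap.inl F W W ∘ₗ LinearMap.snd F W W) (v := (0, w)) (c := l / m)
    (k := k + 1) (by simpa) (fun v => by simp [k7, hl, hm, smul_smul, m0]) (by
      rw [pow_succ', pow_mul, show (l / m) ^ 2 = m⁻¹ * e * l / (l⁻¹ * e * m) by
        have : e ≠ 0 := by rintro rfl; simp at b1
        field_simp, div_pow, b1, b2, div_one])
  exact ⟨l, fun v => by rw [k7, hl, hm, eq_of_div_eq_one b3]; rfl⟩

theorem scal_of_comm (h2 : (2 : F) ≠ 0) {z s g : (W × W) ≃ₗ[F] (W × W)} {c : F} (hc : c ≠ 0)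
    (hz : ∀ v, z v = c • (v.1, -v.2)) {s1 s2 : W ≃ₗ[F] W} (hs : ∀ v, s v = (s1 v.2, s2 v.1))
    (h1 : ∀ v, g (z v) = z (g v)) (h3 : ∀ v, g (s v) = s (g v))
    (H : ∀ x y : W ≃ₗ[F] W, (∀ v, g v = (x v.1, y v.2)) → Scal (F := F) x ∧ Scal (F := F) y) : Scal (F := F) g := by
  obtain ⟨x, y, h, -⟩ := exists_diag h2 (g := g) fun v => smul_right_injective _ hc (by
    simp only [← map_smul, ← hz, h1])
  obtain ⟨⟨l, hl⟩, m, hm⟩ := H x y h
  refine ⟨l, fun v => (h v).trans (Prod.ext (hl _) (s1.injective ?_))⟩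
  simpa [h, hs, hl, hm] using congrArg Prod.fst (h3 v).symm

/-- Rigid `2`-groups. -/
structure Rig (T : Subgroup (V ≃ₗ[F] V)) : Prop where
  pg : IsPGroup 2 T
  neg : LinearEquiv.neg F ∈ T
  nsc : ∃ t ∈ T, LinearEquiv.det t = 1 ∧ ¬ Scal (F := F) t
  cen : ∀ x : V ≃ₗ[F] V, (∀ t ∈ T, LinearEquiv.det t = 1 → ∀ v, x (t v) = t (x v)) → Scal (F := F) x
  rig : ∀ g, Odd (orderOf g) → NormS T g → Scal (F := F) g

theorem pg_mon (h : IsPGroup 2 A) : IsPGroup 2 (mon A hA) := by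
  have key : ∀ a ∈ A, ∃ k, blk a ^ 2 ^ k = 1 := fun a ha => (h ⟨a, ha⟩).imp fun k hk => by
    rw [← map_pow, show a ^ 2 ^ k = 1 from congrArg Subtype.val hk, map_one]
  rintro ⟨g, a, ha, h | h⟩
  · obtain rfl : g = blk a := LinearEquiv.ext h
    exact (key a ha).imp fun k hk => Subtype.ext hk
  · obtain ⟨k, hk⟩ := key _ (mul_mem ha (hA a ha))
    refine ⟨k + 1, Subtype.ext ?_⟩
    rw [Subgroup.coe_pow, pow_succ', pow_mul, show g ^ 2 = blk (a * a.swap) from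
      LinearEquiv.ext fun v => by rw [sq, LinearEquiv.mul_apply, h, h]; rfl]
    exact hk

theorem not_scal [Nontrivial W] (h2 : (2 : F) ≠ 0) {z : W × W → W × W} {c : F} (hc : c ≠ 0)
    (hz : ∀ v, z v = c • (v.1, -v.2)) : ¬ Scal (F := F) z := fun ⟨d, h⟩ => by
  obtain ⟨w, hw⟩ := exists_ne (0 : W)
  have := (hz (w, w)).symm.trans (h _)
  simp only [Prod.smul_mk, Prod.mk.injEq, smul_neg] at this
  simpa [h2, hc, hw] using (two_smul F (c • w)).trans (eq_neg_iff_add_eq_zero.1 (this.1.trans this.2.symm))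

variable [FiniteDimensional F W]

theorem det_blk (a b : W ≃ₗ[F] W) : LinearEquiv.det (blk (a, b)) = LinearEquiv.det a * LinearEquiv.det b :=
  Units.ext ((LinearEquiv.coe_det _).trans ((LinearMap.det_prodMap a.toLinearMap b.toLinearMap).trans (by simp)))

theorem det_neg : (LinearEquiv.det (LinearEquiv.neg F : W ≃ₗ[F] W) : F) = (-1) ^ finrank F W := by
  rw [LinearEquiv.coe_det, show (LinearEquiv.neg F : W ≃ₗ[F] W).toLinearMap = (-1 : F) • (1 : End F W) from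
    LinearMap.ext fun v => (neg_one_smul F v).symm, LinearMap.det_smul, map_one, mul_one]

theorem det_swap (h2 : (2 : F) ≠ 0) : (LinearEquiv.det (LinearEquiv.prodComm F W W) : F) = (-1) ^ finrank F W := by
  let P : End F (W × W) := (LinearMap.fst F W W + LinearMap.snd F W W).prod (LinearMap.fst F W W - LinearMap.snd F W W)
  have h1 : LinearMap.det P ≠ 0 := fun h => by
    have := congrArg LinearMap.det (show P * P = (2 : F) • (1 : End F (W × W)) from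
      LinearMap.ext fun v => by ext <;> simp [P, two_smul])
    rw [map_mul, h, mul_zero, LinearMap.det_smul, map_one, mul_one] at this
    exact pow_ne_zero _ h2 this.symm
  have := congrArg LinearMap.det (show (LinearEquiv.prodComm F W W).toLinearMap * P =
    P * (blk (1, LinearEquiv.neg F)).toLinearMap from LinearMap.ext fun v => by ext <;> simp [P, sub_eq_add_neg, add_comm])
  rw [map_mul, map_mul, mul_comm, mul_right_inj' h1, ← LinearEquiv.coe_det, ← LinearEquiv.coe_det, det_blk] at this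
  simp [this, det_neg, -LinearEquiv.coe_det]

theorem Rig.step [Nontrivial W] (h2 : (2 : F) ≠ 0) {T : Subgroup (W ≃ₗ[F] W)} (h : Rig T) (he : Even (finrank F W)) :
    Rig (mon (T.prod T) fun _ h => ⟨h.2, h.1⟩) ∧ ∀ g, Odd (orderOf g) →
      NormS (mon (T.prod T) (fun _ h => ⟨h.2, h.1⟩) ⊓ LinearEquiv.det.ker) g → Scal (F := F) g := by
  obtain ⟨w, hw⟩ := exists_ne (0 : W)
  set M := mon (T.prod T) fun _ h => ⟨h.2, h.1⟩
  have h1 : ∀ {a b}, a ∈ T → b ∈ T → LinearEquiv.det a * LinearEquiv.det b = 1 →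
      blk (a, b) ∈ M ⊓ LinearEquiv.det.ker := fun ha hb h => ⟨⟨_, ⟨ha, hb⟩, .inl fun _ => rfl⟩, (det_blk _ _).trans h⟩
  have hz := h1 (one_mem _) h.neg (Units.ext (by simp [det_neg, he.neg_one_pow, -LinearEquiv.coe_det]))
  have hz' : ∀ v : W × W, blk (1, LinearEquiv.neg F) v = (1 : F) • (v.1, -v.2) := fun v => (one_smul _ _).symm
  have hs : LinearEquiv.prodComm F W W ∈ M ⊓ LinearEquiv.det.ker :=
    ⟨⟨1, one_mem _, .inr fun _ => rfl⟩, Units.ext ((det_swap h2).trans he.neg_one_pow)⟩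
  have pg : IsPGroup 2 M := pg_mon fun ⟨a, ha⟩ => by
    obtain ⟨k, hk⟩ := h.pg ⟨_, ha.1⟩
    obtain ⟨l, hl⟩ := h.pg ⟨_, ha.2⟩
    exact ⟨k + l, Subtype.ext (Prod.ext
      (by simp [pow_add, pow_mul, show a.1 ^ 2 ^ k = 1 from congrArg Subtype.val hk])
      (by simp [pow_add, pow_mul', show a.2 ^ 2 ^ l = 1 from congrArg Subtype.val hl]))⟩
  have H : ∀ P, M ⊓ LinearEquiv.det.ker ≤ P → P ≤ M → ∀ g, Odd (orderOf g) → NormS P g → Scal (F := F) g :=
    fun P k1 k2 g => key h2 k2 (pg.to_le k2) (k1 hz) hz' (k1 hs) (s1 := 1) (s2 := 1) (fun _ => rfl)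
      (fun x => by
        obtain ⟨t, h3, h4, h5⟩ := h.nsc
        refine ⟨_, k1 (h1 h3 (one_mem _) (by simp [h4])), t, 1, fun _ => rfl, fun ε h6 h7 => h5 ⟨ε, fun v => ?_⟩⟩
        obtain ⟨v, rfl⟩ := x.surjective v
        conv_rhs => rw [show x v = _ from h7 v, smul_smul, ← sq, h6, one_smul])
      (fun x y H => ⟨h.cen x fun t ht hd v => by
          obtain ⟨ε, h3, h4⟩ := H _ (k1 (h1 ht (one_mem _) (by simp [hd]))) t 1 fun _ => rfl
          rw [h3, smul_left_injective F (y.map_ne_zero_iff.2 hw) ((h4 w).symm.trans (one_smul _ _).symm), one_smul],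
        h.cen y fun t ht hd v => by
          obtain ⟨ε, h3, h4⟩ := H _ (k1 (h1 (one_mem _) ht (by simp [hd]))) 1 t fun _ => rfl
          rw [h4, smul_left_injective F (x.map_ne_zero_iff.2 hw) ((h3 w).symm.trans (one_smul _ _).symm), one_smul]⟩)
      fun x y o1 o2 H => ⟨h.rig x o1 fun t ht => by
          obtain ⟨c, a, ha, h3, -⟩ := H _ (k1 (h1 ht (inv_mem ht) (by simp))) t t⁻¹ fun _ => rfl
          exact ⟨c, _, ha.1, h3⟩, h.rig y o2 fun t ht => by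
          obtain ⟨c, a, ha, -, h3⟩ := H _ (k1 (h1 (inv_mem ht) ht (by simp))) t⁻¹ t fun _ => rfl
          exact ⟨c, _, ha.2, h3⟩⟩
  refine ⟨⟨pg, ⟨(.neg F, .neg F), ⟨h.neg, h.neg⟩, .inl fun _ => rfl⟩, ⟨_, hz.1, hz.2, not_scal h2 one_ne_zero hz'⟩,
    fun g hg => scal_of_comm h2 one_ne_zero hz' (s1 := 1) (s2 := 1) (fun _ => rfl) (hg _ hz.1 hz.2) (hg _ hs.1 hs.2)
      fun x y k => ⟨h.cen x fun t ht hd v => ?_, h.cen y fun t ht hd v => ?_⟩, H _ inf_le_left le_rfl⟩,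
    H _ le_rfl inf_le_left⟩
  · have := h1 ht (one_mem _) (by simp [hd])
    simpa [k] using congrArg Prod.fst (hg _ this.1 this.2 (v, 0))
  · have := h1 (one_mem _) ht (by simp [hd])
    simpa [k] using congrArg Prod.snd (hg _ this.1 this.2 (0, v))

/-- Scalars acting on the field. -/
abbrev sc : Fˣ × Fˣ →* (F ≃ₗ[F] F) × (F ≃ₗ[F] F) :=
  (DistribMulAction.toModuleAut F F).prodMap (DistribMulAction.toModuleAut F F)

theorem swap_map {A : Subgroup (Fˣ × Fˣ)} (hA : ∀ a ∈ A, a.swap ∈ A) : ∀ a ∈ A.map sc, a.swap ∈ A.map sc := by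
  rintro _ ⟨a, ha, rfl⟩; exact ⟨_, hA a ha, rfl⟩

theorem rig_base (h2 : (2 : F) ≠ 0) {A : Subgroup (Fˣ × Fˣ)} (hA : ∀ a ∈ A, a.swap ∈ A) (pg : IsPGroup 2 A)
    {i : Fˣ} (hi : i * i = -1) (hi' : (i, -i) ∈ A) {a : Fˣ × Fˣ} (ha : a ∈ A) (ha' : a.1 * a.2 = -1)
    {b : Fˣ × Fˣ} (hb : b ∈ A) (hb' : b.1 ^ 2 ≠ b.2 ^ 2) : Rig (mon (A.map sc) (swap_map hA)) := by
  have h0 : ∀ x : F ≃ₗ[F] F, Scal (F := F) x := fun x => ⟨x 1, fun v => by rw [smul_eq_mul, mul_comm, ← smul_eq_mul, ← map_smul]; simp⟩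
  have h1 : ∀ a : Fˣ, LinearEquiv.det (DistribMulAction.toModuleAut F F a) = a := fun a => Units.ext (by simp [Units.smul_def])
  have hz : blk (sc (i, -i)) ∈ mon (A.map sc) (swap_map hA) := ⟨_, ⟨_, hi', rfl⟩, .inl fun _ => rfl⟩
  have hz' : ∀ v : F × F, blk (sc (i, -i)) v = (i : F) • (v.1, -v.2) := fun v => by simp [Units.smul_def]
  have hd : LinearEquiv.det (blk (sc (i, -i))) = 1 := (det_blk _ _).trans ((congrArg₂ (· * ·) (h1 _) (h1 _)).trans (by simp [hi]))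
  have hs : blk (sc a) * LinearEquiv.prodComm F F F ∈ mon (A.map sc) (swap_map hA) :=
    ⟨_, ⟨_, ha, rfl⟩, .inr fun _ => rfl⟩
  have hs' : ∀ v, (blk (sc a) * LinearEquiv.prodComm F F F) v = ((sc a).1 v.2, (sc a).2 v.1) := fun _ => rfl
  have pg' := pg_mon (hA := swap_map hA) (pg.map sc)
  refine ⟨pg', ⟨_, ⟨_, mul_mem hi' hi', rfl⟩, .inl fun v => Prod.ext (by simp [hi, Units.smul_def]) (by simp [hi, Units.smul_def])⟩,
    ⟨_, hz, hd, not_scal h2 i.ne_zero hz'⟩, fun g hg => scal_of_comm h2 i.ne_zero hz' hs' (hg _ hz hd)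
      (hg _ hs ?_) fun x y _ => ⟨h0 x, h0 y⟩, fun g => key h2 le_rfl pg' hz hz' hs hs'
      (fun x => ⟨blk (sc b), ⟨_, ⟨_, hb, rfl⟩, .inl fun _ => rfl⟩, (sc b).1, (sc b).2, fun _ => rfl, fun ε h3 h4 => hb' (Units.ext ?_)⟩)
      (fun x y _ => ⟨h0 x, h0 y⟩) fun x y _ _ _ => ⟨h0 x, h0 y⟩⟩
  · rw [map_mul, show LinearEquiv.det (blk (sc a)) = -1 from
      (det_blk _ _).trans ((congrArg₂ (· * ·) (h1 _) (h1 _)).trans ha')]
    exact Units.ext (by simp [det_swap h2, -LinearEquiv.coe_det])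
  · obtain ⟨c, hc⟩ := h0 x
    have h5 : c ≠ 0 := by rintro rfl; simpa using hc 1
    have : (b.2 : F) = ε * b.1 := mul_left_cancel₀ h5 (by simpa [hc, Units.smul_def, mul_comm, mul_left_comm] using h4 1)
    simp [this, mul_pow, h3]

end Cfsg.Lib.Conj.Wr2
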