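import Cfsg.Agent.Lib.Conj.Wr2
import Cfsg.Agent.Lib.Stein.Classical

/-! Overgroups of Sylow subgroups normalized by the Sylow normalizer. -/

set_option autoImplicit false

namespace Cfsg.Lib.Conj.Wr2

open Module Subgroup Cfsg.Lib.Hall Cfsg.Lib.Transfer Cfsg.Lib.Stein Cfsg.Lib.BN Cfsg.Lib.Forms

universe u

section
variable {G G' : Type*} [Group G] [Group G'] [Finite G] {p : ℕ} [Fact p.Prime]

theorem yp_of_norm {S : Subgroup G} (hS : SylowIn p S ⊤)
    (h : ∀ K, S ≤ K → normalizer (S : Set G) ≤ normalizer (K : Set G)) : Yp p G := by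
  obtain ⟨S, rfl⟩ := hS.exists_sylow_top
  rintro K ⟨P, hP⟩
  obtain ⟨g, rfl⟩ := MulAction.exists_smul_eq G S P
  have h1 := cj_le_iff_le_cj_inv.1 (coe_sylow_smul g S ▸ hP)
  rw [← cj_cj_inv g K]
  exact isPronormal_cj (isPronormal_of_normalizer h1 (isPronormal_sylow S) fun x hx =>
    ⟨1, one_mem _, by rw [cj_one, cj_eq_of_mem_normalizer (h _ h1 hx)]⟩) g

theorem yp_map (f : G →* G') (hf : Function.Surjective f) (h : Yp p G) : Yp p G' := by
  have := Finite.of_surjective f hf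
  refine yp_iff.2 fun K hK => ?_
  rw [← map_comap_eq_self_of_surjective hf K]
  exact isPronormal_map hf (yp_iff.1 h _ (by rwa [index_comap_of_surjective _ hf]))

theorem yp_of_split {P : BNPair G} {U : Subgroup G} (h : Split p P U)
    (ab : ∀ t ∈ P.B, t ∈ P.N → ∀ t' ∈ P.B, t' ∈ P.N → t * t' = t' * t) : Yp p G := by
  refine yp_of_norm h.sylow fun M hM g hg => ?_
  let M0 : Subgroup G := ⨅ b : P.B, cj b M
  have h0 : ∀ {x}, x ∈ M0 ↔ ∀ b ∈ P.B, b⁻¹ * x * b ∈ M := by simp [M0, mem_iInf, mem_cj]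
  have h1 : U ≤ M0 := fun u hu => h0.2 fun b hb => hM (h.norm b hb u hu)
  have h2 : ∀ {x}, (∀ t ∈ P.B, t ∈ P.N → t * x * t⁻¹ ∈ M) → x ∈ M0 := fun H => h0.2 fun b hb => by
    obtain ⟨u, hu, t, h3, h4, e⟩ := h.fac' (inv_mem hb)
    rw [← inv_inv b, e]
    simpa [mul_assoc] using mul_mem (mul_mem (hM hu) (H t h3 h4)) (inv_mem (hM hu))
  have h3 : M ≤ cellSubgroup P {s | ∃ y ∈ M, cell P y = sim P s} :=
    h.le_par (fun s u hu => ⟨u, ⟨hu, hM hu⟩, by simp⟩) fun m hm h2 => by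
      obtain ⟨t, -, ht⟩ := exists_descent (WJ_univ (P := P) ▸ mem_top (cell P m)) (mt cell_eq_one.1 h2)
      obtain ⟨x, h3⟩ := h.exists_root t
      obtain ⟨u, hu, n, u', hu', e, rfl⟩ := h.exists_UN m
      have h4 := h.conj_mem_U h3.1 (h3.2.2 ((⟨t, P.subset t.2⟩ : P.N)⁻¹ * n) (by
        rwa [map_mul, map_inv, e, ← sim, sim_inv, sim_mul_cancel_left]))
      refine ⟨t, ht, u * (t * x * (t : G)⁻¹) * u⁻¹, ?_, by
        rw [cell_mul_B _ (inv_mem (h.le hu)), cell_B_mul (h.le hu), h.cell_conj h3]⟩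
      simpa [mul_assoc] using mul_mem (mul_mem hm (hM (h.norm _ (h.le hu') _ h4))) (inv_mem hm)
  refine mem_normalizer_of_cj_le (cj_le_iff.2 fun m hm => ?_)
  obtain ⟨m', h4, h5⟩ := h.exists_mem (M := M0) (fun s u hu => ⟨u, ⟨hu, h1 hu⟩, by simp⟩) (J := {s | ∃ y ∈ M, cell P y = sim P s})
    (fun s ⟨y, hy, e⟩ => by
    obtain ⟨x, h3⟩ := h.exists_root s
    obtain ⟨u, hu, n, u', hu', e', rfl⟩ := h.exists_UN y
    have hn : (n : G) ∈ M := (mul_mem_cancel_left (hM hu)).1 ((mul_mem_cancel_right (hM hu')).1 hy)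
    refine ⟨_, h2 fun t h4 h5 => ?_, h.cell_conj h3⟩
    have h6 := mul_mem (P.conj_mem _ (inv_mem n.2) t ⟨h4, h5⟩) ((toW_eq_iff P).1 (e'.trans e))
    simpa [mul_assoc] using mul_mem (mul_mem hn (hM (h.norm' h6 h3.1))) (inv_mem hn)) (h3 hm)
  obtain ⟨u, hu, t, h6, h7, e⟩ := h.fac' h5
  have h8 : t ∈ M := (mul_mem_cancel_left (hM hu)).1 (e ▸ mul_mem (inv_mem (by simpa using h0.1 h4 1 (one_mem _))) hm)
  have h9 := mul_mem h4 (e ▸ mul_mem (h1 hu) (h2 fun t' a b => by rwa [ab t' a b t h6 h7, mul_inv_cancel_right]))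
  simpa using h0.1 h9 _ (inv_mem (h.mem_B_of_norm fun u hu => conj_mem_of_mem_normalizer hg hu))

end

variable {F : Type u} [Field F] {V W : Type u} [AddCommGroup V] [Module F V] [AddCommGroup W] [Module F W]

theorem yp_of_rig [Finite V] {N : Type*} [Group N] (φ : N →* (V ≃ₗ[F] V)) (hφ : Function.Injective φ)
    {G T : Subgroup (V ≃ₗ[F] V)} (hr : φ.range = G ⊓ LinearEquiv.det.ker) (hT : SylowIn 2 T G)
    (h : ∀ g, Odd (orderOf g) → NormS (T ⊓ LinearEquiv.det.ker) g → Scal (F := F) g) : Yp 2 N := by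
  have : Finite (V ≃ₗ[F] V) := DFunLike.finite _
  have := Finite.of_injective φ hφ
  have h1 := hT.inf (N := LinearEquiv.det.ker) le_normalizer_of_normal
  have h2 : SylowIn 2 ((T ⊓ LinearEquiv.det.ker).comap φ) ⊤ :=
    ⟨le_top, h1.2.comap_of_injective φ hφ, by rw [relIndex_top_right, index_comap, hr]; exact h1.3⟩
  refine yp_of_norm h2 fun K hK => le_of_forall_prime_pow fun r hp x hx ⟨k, hk⟩ => ?_
  obtain rfl | h3 := hp.eq_two_or_odd'
  · exact le_normalizer (hK (h2.le_of_normalizes (PE.isPGroup ⟨k, hk⟩) le_top (zpowers_le.2 hx) (mem_zpowers x)))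
  obtain ⟨c, hc⟩ := h (φ x) (orderOf_injective φ hφ x ▸ h3.pow.of_dvd_nat (orderOf_dvd_of_pow_eq_one hk)) fun t ht => by
    obtain ⟨y, rfl⟩ : t ∈ φ.range := hr ▸ h1.1 ht
    exact ⟨1, φ _, (conj_mem_of_mem_normalizer hx ht :), by simp⟩
  exact center_le_normalizer _ (mem_center_iff.2 fun y => hφ (LinearEquiv.ext fun v => by simp [hc]))

theorem tower {σ : F →+* F} {K : Kind σ} [FiniteDimensional F W] [Nontrivial W] (h2 : (2 : F) ≠ 0) (D : Form K W)
    {T : Subgroup (W ≃ₗ[F] W)} (h : Rig T) (hT : T ≤ D.isom) (hn : finrank F W = 2) (j : ℕ) :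
    ∃ (V : Type u) (_ : AddCommGroup V) (_ : Module F V) (_ : FiniteDimensional F V) (_ : Nontrivial V) (D' : Form K V)
      (T' : Subgroup (V ≃ₗ[F] V)), finrank F V = 2 * 2 ^ j ∧ (D.Nondeg → D'.Nondeg) ∧ Rig T' ∧ T' ≤ D'.isom ∧
        2 * Nat.card T' = (2 * Nat.card T) ^ 2 ^ j ∧
          (j ≠ 0 → ∀ g, Odd (orderOf g) → NormS (T' ⊓ LinearEquiv.det.ker) g → Scal (F := F) g) := by
  induction j with
  | zero => exact ⟨W, _, _, ‹_›, ‹_›, D, T, hn, id, h, hT, by simp, by simp⟩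
  | succ j ih =>
    obtain ⟨V, _, _, _, _, D', T', h1, h3, h4, h5, h6, -⟩ := ih
    have h7 := h4.step h2 (h1 ▸ even_two_mul _)
    refine ⟨V × V, _, _, inferInstance, inferInstance, D'.prod D', _, by rw [finrank_prod, h1]; ring,
      fun h => (h3 h).prod (h3 h), h7.1, ?_, ?_, fun _ => h7.2⟩
    · rintro g ⟨a, ⟨a1, a2⟩, h | h⟩
      · exact ⟨by simp [h, (h5 a1).B_map, (h5 a2).B_map], by simp [h, (h5 a1).Q_map, (h5 a2).Q_map]⟩
      · exact ⟨by simp [h, (h5 a1).B_map, (h5 a2).B_map, add_comm], by simp [h, (h5 a1).Q_map, (h5 a2).Q_map, add_comm]⟩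
    · refine (congrArg (2 * ·) card_mon).trans ?_
      rw [Nat.card_congr (prodEquiv T' T').toEquiv, Nat.card_prod, pow_succ, pow_mul, ← h6]; ring

theorem emult_prod {x : ℤ} (hx : Odd x) (m : ℕ) : emultiplicity 2 (∏ i ∈ Finset.range (2 * m), (x ^ (i + 1) - 1)) =
    m * emultiplicity 2 ((x - 1) * (x ^ 2 - 1)) + emultiplicity 2 m.factorial := by
  have h0 : ¬ 2 ∣ x := by rwa [← even_iff_two_dvd, Int.not_even_iff_odd]
  induction m with
  | zero => simp [Nat.prime_two.emultiplicity_one, emultiplicity_eq_zero]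
  | succ m ih =>
    have h1 := emultiplicity_pow_sub_pow_of_prime Int.prime_two (hx.sub_odd odd_one).two_dvd h0
      (n := 2 * m + 1) (by omega)
    have h2 := Int.two_pow_sub_pow' (x := x ^ 2) (y := 1) (m + 1)
      (dvd_trans (by decide) (Int.eight_dvd_sq_sub_one_of_odd hx)) fun h => h0 (Int.prime_two.dvd_of_dvd_pow h)
    rw [one_pow] at h1 h2
    rw [mul_add, mul_one, Finset.prod_range_succ, Finset.prod_range_succ, emultiplicity_mul Int.prime_two,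
      emultiplicity_mul Int.prime_two, ih, h1, show 2 * m + 1 + 1 = 2 * (m + 1) by ring, pow_mul, h2,
      emultiplicity_mul Int.prime_two, Nat.factorial_succ, emultiplicity_mul Nat.prime_two.prime,
      ← Int.natCast_emultiplicity 2 (m + 1)]
    push_cast; ring

theorem emult_fact (j : ℕ) : emultiplicity 2 (2 ^ j).factorial + 1 = (2 ^ j : ℕ) := by
  induction j with
  | zero => simp [Nat.prime_two.emultiplicity_one]
  | succ j ih => rw [pow_succ', Nat.prime_two.emultiplicity_factorial_mul, add_right_comm, ih, two_mul, Nat.cast_add]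

theorem sylowIn_of_card {Γ : Type*} [Group Γ] [Finite Γ] {G T : Subgroup Γ} (h : T ≤ G) (hT : IsPGroup 2 T) {x : ℤ}
    (hx : Odd x) {j t : ℕ} (h1 : 2 * Nat.card T = (2 * t) ^ 2 ^ j)
    (h2 : emultiplicity 2 (t : ℤ) = emultiplicity 2 ((x - 1) * (x ^ 2 - 1)))
    (h3 : emultiplicity 2 (Nat.card G : ℤ) = emultiplicity 2 (∏ i ∈ Finset.range (2 * 2 ^ j), (x ^ (i + 1) - 1))) :
    SylowIn 2 T G := by
  refine ⟨h, hT, emultiplicity_eq_zero.1 ?_⟩
  have h4 := congrArg (emultiplicity 2) h1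
  have h5 := Nat.prime_two.emultiplicity_self
  rw [← Transfer.card_mul_relIndex h, emult_prod hx, ← h2] at h3
  erw [Int.natCast_emultiplicity 2] at h3
  erw [Int.natCast_emultiplicity 2] at h3
  simp only [emultiplicity_pow Nat.prime_two.prime, emultiplicity_mul Nat.prime_two.prime, h5] at h3 h4
  refine ENat.add_right_injective_of_ne_top (n := 1 + emultiplicity 2 (Nat.card T)) (by
    simpa using finiteMultiplicity_iff_emultiplicity_ne_top.1 (Nat.finiteMultiplicity_iff.2 ⟨by decide, Nat.card_pos⟩)) ?_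
  simp only []
  rw [add_zero, add_assoc, h3, h4, mul_add, mul_one, ← emult_fact]
  ring

theorem emult_odd {a b : ℤ} (h : ¬ 2 ∣ b) : emultiplicity 2 (a * b) = emultiplicity 2 a := by
  rw [emultiplicity_mul Int.prime_two, emultiplicity_eq_zero.2 h, add_zero]

theorem exists_base [Finite F] (h2 : (2 : F) ≠ 0) {A : Subgroup (Fˣ × Fˣ)} (hA : ∀ a ∈ A, a.swap ∈ A)
    {i : Fˣ} (hi : i * i = -1) (hi' : (i, -i) ∈ A) {a : Fˣ × Fˣ} (ha : a ∈ A) (ha' : a.1 * a.2 = -1) (ha2 : PE 2 a)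
    {b : Fˣ × Fˣ} (hb : b ∈ A) (hb' : b.1 ^ 2 ≠ b.2 ^ 2) (hb2 : PE 2 b) : ∃ B ≤ A, ∃ hB : ∀ a ∈ B, a.swap ∈ B,
      Rig (mon (B.map sc) (swap_map hB)) ∧
      emultiplicity 2 (Nat.card (mon (B.map sc) (swap_map hB)) : ℤ) = emultiplicity 2 (2 * Nat.card A : ℤ) := by
  obtain ⟨B, h⟩ := exists_sylowIn 2 A
  have h1 : ∀ a ∈ A, PE 2 a → a ∈ B := fun a ha h1 =>
    h.le_of_normalizes h1.isPGroup (zpowers_le.2 ha) le_normalizer_of_normal (mem_zpowers a)
  have hB : ∀ a ∈ B, a.swap ∈ B := fun a ha => h1 _ (hA a (h.1 ha)) ((PE.of_mem h.2 ha).imp fun k hk => by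
    rw [← Prod.pow_swap, hk]; rfl)
  refine ⟨B, h.1, hB, rig_base h2 hB h.2 hi (h1 _ hi' ⟨2, ?_⟩) (h1 _ ha ha2) ha' (h1 _ hb hb2) hb', ?_⟩
  · rw [sq, pow_mul, sq (i, -i)]; simp [hi]
  have h3 : Function.Injective (DistribMulAction.toModuleAut F F : Fˣ →* _) := fun a b e =>
    Units.ext (by simpa [Units.smul_def] using LinearEquiv.congr_fun e 1)
  rw [card_mon, card_map_of_injective (h3.prodMap h3), ← Transfer.card_mul_relIndex h.1]
  push_cast
  rw [← mul_assoc, emult_odd (b := B.relIndex A) (mt Int.natCast_dvd_natCast.1 h.3)]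

theorem exists_root [Finite F] {m : ℕ} (hm : 2 * m ∣ Nat.card Fˣ) : ∃ z : Fˣ, orderOf z = 2 * m ∧ z ^ m = -1 := by
  obtain ⟨g, hg⟩ := IsCyclic.exists_ofOrder_eq_natCard (α := Fˣ)
  have h := orderOf_pow_orderOf_div (orderOf_pos g).ne' (hg ▸ hm)
  have h0 : 0 < m := Nat.pos_of_mul_pos_left (h ▸ orderOf_pos _)
  refine ⟨_, h, (Units.inv_eq_self_iff _).1 (inv_eq_of_mul_eq_one_left ?_) |>.resolve_left
    (pow_ne_one_of_lt_orderOf h0.ne' (by omega))⟩
  rw [← sq, ← pow_mul']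
  exact orderOf_dvd_iff_pow_eq_one.1 h.dvd

theorem two_ne [Finite F] (h : Odd (Nat.card F)) : (2 : F) ≠ 0 := fun e => by
  have := Fintype.ofFinite F
  have := CharP.ringChar_of_prime_eq_zero Nat.prime_two (show ((2 : ℕ) : F) = 0 from e)
  have := FiniteField.even_card_iff_char_two.1 this
  rw [Nat.odd_iff, Nat.card_eq_fintype_card] at h
  omega

theorem neg_pow_four (u : Fˣ) : (-u) ^ 4 = u ^ 4 := Even.neg_pow ⟨2, rfl⟩ u

theorem base1 [Finite F] {n : ℕ} (hn : n ∣ Nat.card Fˣ) {x : ℤ} (hx : x % 4 = 1) (hx' : n = (x - 1).natAbs) :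
    ∃ B ≤ (powMonoidHom n : Fˣ →* Fˣ).ker.prod (powMonoidHom n).ker, ∃ hB : ∀ a ∈ B, a.swap ∈ B,
      Rig (mon (B.map sc) (swap_map hB)) ∧ emultiplicity 2 (Nat.card (mon (B.map sc) (swap_map hB)) : ℤ) =
        emultiplicity 2 ((x - 1) * (x ^ 2 - 1)) := by
  obtain ⟨k, rfl⟩ : 4 ∣ n := by omega
  have h4 := (dvd_mul_right 4 k).trans hn
  obtain ⟨i, h1, h2⟩ := exists_root (F := F) (m := 2) h4
  have h3 : i ^ 4 = 1 := orderOf_dvd_iff_pow_eq_one.1 h1.dvd
  have h5 : (2 : F) ≠ 0 := two_ne (by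
    rw [Nat.card_units] at h4
    have := Finite.one_lt_card (α := F)
    exact Nat.odd_iff.2 (by omega))
  obtain ⟨B, h6, hB, h7, h8⟩ := exists_base h5 (A := (powMonoidHom (4 * k)).ker.prod (powMonoidHom (4 * k)).ker)
    (fun _ h => ⟨h.2, h.1⟩) (sq i ▸ h2) ⟨by simp [pow_mul, h3], by simp [pow_mul, h3, neg_pow_four]⟩ (a := (1, -1))
    ⟨one_mem _, by simp [pow_mul, neg_pow_four]⟩ (by simp) ⟨1, by simp⟩ (b := (i, 1)) ⟨by simp [pow_mul, h3], one_mem _⟩
    (by simpa [h2, Units.ext_iff, neg_eq_iff_add_eq_zero, one_add_one_eq_two]) ⟨2, by simpa⟩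
  refine ⟨B, h6, hB, h7, h8.trans ?_⟩
  rw [Nat.card_congr (prodEquiv _ _).toEquiv, Nat.card_prod, IsCyclic.card_powMonoidHom_ker, Nat.gcd_eq_right hn, hx',
    show (x - 1) * (x ^ 2 - 1) = 2 * ((x - 1) * (x - 1)) * (2 * (x / 4) + 1) by
      rw [show 2 * (x / 4) + 1 = 2 * (x / 4) + 1 from rfl]
      have : x + 1 = 2 * (2 * (x / 4) + 1) := by omega
      linear_combination (x - 1) ^ 2 * this, emult_odd (b := _ + 1) (by omega), Nat.cast_mul, Int.natAbs_mul_self']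

theorem base2 [Finite F] {x : ℤ} (hx : x % 4 = 3) (hF : (Nat.card F : ℤ) = x ^ 2) :
    ∃ B ≤ ((MonoidHom.id Fˣ).prod (zpowGroupHom x)).range, ∃ hB : ∀ a ∈ B, a.swap ∈ B,
      Rig (mon (B.map sc) (swap_map hB)) ∧ emultiplicity 2 (Nat.card (mon (B.map sc) (swap_map hB)) : ℤ) =
        emultiplicity 2 ((x - 1) * (x ^ 2 - 1)) := by
  have h0 : (Nat.card Fˣ : ℤ) = x ^ 2 - 1 := by rw [Nat.card_units, Nat.cast_pred Nat.card_pos, hF]
  obtain ⟨n, hn⟩ : ∃ n, x = 4 * n + 3 := ⟨x / 4, by omega⟩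
  have h5 : (2 : F) ≠ 0 := two_ne (by
    rw [← Int.odd_coe_nat, hF]; exact Odd.pow (Int.odd_iff.2 (by omega)))
  obtain ⟨i, h1, h2⟩ := exists_root (F := F) (m := 2) (Int.natCast_dvd_natCast.1 ⟨4 * n ^ 2 + 6 * n + 2, by
    rw [h0, hn]; push_cast; ring⟩)
  obtain ⟨s, r, hr, e⟩ := Nat.exists_eq_two_pow_mul_odd (n := (x + 1).natAbs) (by
    have := Nat.card_pos (α := Fˣ)
    intro h; rw [show x = -1 by omega] at h0; omega)
  obtain ⟨z, h3, h4⟩ := exists_root (F := F) (m := 2 ^ s) (Int.natCast_dvd_natCast.1 (by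
    rw [h0, show x ^ 2 - 1 = 2 * ((x + 1) * (2 * n + 1)) by rw [hn]; ring, Nat.cast_mul]
    exact mul_dvd_mul_left _ (dvd_mul_of_dvd_left (Int.natCast_dvd.2 ⟨r, e⟩) _)))
  have h6 : z * z ^ x = -1 := by
    have : z ^ (x + 1).natAbs = -1 := by rw [e, pow_mul, h4, hr.neg_one_pow]
    rw [← zpow_one_add, add_comm]
    obtain h | h := Int.natAbs_eq (x + 1) <;> rw [h] <;> simp only [zpow_neg, zpow_natCast, this, inv_neg_one]
  have h7 : PE 2 ((z, z ^ x) : Fˣ × Fˣ) := ⟨s + 1, Prod.ext (by simp [pow_succ, pow_mul, h4]) (by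
    rw [Prod.pow_snd, ← zpow_natCast, zpow_comm, zpow_natCast, pow_succ, pow_mul, h4]; simp)⟩
  obtain ⟨B, h6, hB, h7, h8⟩ := exists_base h5 (A := ((MonoidHom.id Fˣ).prod (zpowGroupHom x)).range)
    (by
      rintro _ ⟨u, rfl⟩
      exact ⟨u ^ x, Prod.ext rfl (by simp [← zpow_mul, ← sq, eq_add_of_sub_eq h0.symm, zpow_add])⟩)
    (sq i ▸ h2) ⟨i, Prod.ext rfl (by
      simp [hn, zpow_add, zpow_mul, zpow_ofNat, pow_succ _ 2, show i ^ 4 = 1 from orderOf_dvd_iff_pow_eq_one.1 h1.dvd, h2])⟩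
    ⟨z, rfl⟩ h6 h7 ⟨z, rfl⟩ (fun e => by
      have : z ^ 4 = 1 := by rw [show 4 = 2 + 2 from rfl, pow_add]; nth_rw 2 [show z ^ 2 = (z ^ x) ^ 2 from e]; simp [← mul_pow, h6]
      rw [← zpow_one_add, show 1 + x = 4 * (n + 1) by omega, zpow_mul, zpow_ofNat, this, one_zpow] at h6
      exact h5 (by simpa [Units.ext_iff, eq_neg_iff_add_eq_zero, one_add_one_eq_two] using h6)) h7
  refine ⟨B, h6, hB, h7, h8.trans ?_⟩
  rw [← Nat.card_congr (MonoidHom.ofInjective fun a b e => congrArg Prod.fst e).toEquiv, h0,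
    show (x - 1) * (x ^ 2 - 1) = 2 * (x ^ 2 - 1) * (2 * n + 1) by rw [hn]; ring, emult_odd (b := _ + 1) (by omega)]

theorem base_herm {σ : F →+* F} {q : ℕ} (h : IsConj σ q) (hq : Odd q) : ∃ D : Form h.kind (F × F), D.Nondeg ∧
    ∃ T ≤ D.isom, Rig T ∧ emultiplicity 2 (Nat.card T : ℤ) = emultiplicity 2 ((-q - 1) * ((-q) ^ 2 - 1) : ℤ) := by
  have := h.finite
  obtain h1 | h1 : (-q : ℤ) % 4 = 1 ∨ (-q : ℤ) % 4 = 3 := by have := Nat.odd_iff.1 hq; omega
  · obtain ⟨B, h2, hB, h3⟩ := base1 (F := F) (n := q + 1) ⟨_, (Nat.card_units F).trans h.card_sub_one⟩ h1 (by omega)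
    let D : Form h.kind F := ofHerm h.σσ (.inl h.ne_id) (LinearMap.mk₂'ₛₗ σ (RingHom.id F) (fun x y => σ x * y)
      (by simp [add_mul]) (by simp [mul_assoc]) (by simp [mul_add]) (by simp [mul_left_comm])) ⟨by simp [h.σσ, mul_comm]⟩
    have hD : D.Nondeg := fun x hx => by simpa [D] using hx 1
    refine ⟨D.prod D, hD.prod hD, _, ?_, h3⟩
    rintro g ⟨_, ⟨a, ha, rfl⟩, e⟩
    have k : ∀ u ∈ (powMonoidHom (q + 1) : Fˣ →* Fˣ).ker, ∀ x y, σ (u * x) * (u * y) = σ x * y := fun u hu x y => by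
      linear_combination σ x * y * ((h.norm_eq u).trans (congrArg Units.val hu) : _ = (1 : F)) +
        (u * y) * map_mul σ (u : F) x
    refine herm_isIsometry fun x y => ?_
    obtain e | e := e <;> simp [e, D, Units.smul_def, k _ (h2 ha).1, k _ (h2 ha).2, add_comm, -map_mul]
  · obtain ⟨B, h2, hB, h3⟩ := base2 (F := F) h1 (by simp [h.card])
    let D : Form h.kind (F × F) := ofHerm h.σσ (.inl h.ne_id) (LinearMap.mk₂'ₛₗ σ (RingHom.id F)
      (fun x y => σ x.1 * y.2 + σ x.2 * y.1) (by simp; intros; ring) (by simp; intros; ring) (by simp; intros; ring)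
      (by simp; intros; ring)) ⟨by simp [h.σσ, mul_comm, add_comm]⟩
    refine ⟨D, fun x hx => Prod.ext (by simpa [D] using hx (0, 1)) (by simpa [D] using hx (1, 0)), _, ?_, h3⟩
    rintro g ⟨_, ⟨a, ha, rfl⟩, e⟩
    obtain ⟨u, rfl⟩ := h2 ha
    refine herm_isIsometry fun x y => ?_
    have : σ u ≠ 0 := by simp
    obtain e | e := e <;> simp [e, D, Units.smul_def, ← h.apply, h.σσ] <;> field_simp <;> ring

theorem yp_SU {σ : F →+* F} {q : ℕ} (h : IsConj σ q) [FiniteDimensional F V] {D : Form h.kind V} (hD : D.Nondeg)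
    {j : ℕ} (hn : finrank F V = 2 * 2 ^ (j + 1)) : Yp 2 D.det.ker := by
  have := h.finite
  have : Finite V := Module.finite_of_finite F
  have := D.finite_isom
  obtain ⟨p, k, hp, _, hk, rfl⟩ := exists_prime_pow_of_card_eq_sq h.card
  obtain rfl | ho := hp.eq_two_or_odd'
  · obtain ⟨R, hR, -⟩ := exists_cl_herm (p := 2) hD
    exact yp_of_split hR.split (hR.adm.ab hR.ab)
  obtain ⟨D0, h0, T0, h1, h2, h3⟩ := base_herm h ho.pow
  obtain ⟨V', _, _, _, _, D', T, h4, h5, h6, h7, h8, h9⟩ := tower (two_ne (h.card ▸ ho.pow.pow)) D0 h2 h1 (by simp) (j + 1)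
  have : Finite V' := Module.finite_of_finite F
  have : Finite (V' ≃ₗ[F] V') := DFunLike.finite _
  obtain ⟨e, he⟩ := Herm.iso hD (h5 h0) (hn.trans h4.symm)
  refine yp_of_rig ((D'.isom.subtype.comp (Form.isomCongr e he).toMonoidHom).comp D.det.ker.subtype)
    ((subtype_injective _).comp ((Form.isomCongr e he).injective.comp (subtype_injective _))) (G := D'.isom)
    (le_antisymm ?_ fun g hg => ?_) (sylowIn_of_card h7 h6.pg (x := -(p ^ k : ℕ)) ((Int.odd_coe_nat _).2 ho.pow).neg h8 h3 ?_) (h9 (by simp))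
  · rintro _ ⟨g, rfl⟩
    exact ⟨Subtype.prop _, (Form.det_isomCongr e he g.1).trans g.2⟩
  · obtain ⟨g', e'⟩ := (Form.isomCongr e he).surjective ⟨g, hg.1⟩
    exact ⟨⟨g', (Form.det_isomCongr e he g').symm.trans (by rw [e']; exact hg.2)⟩, congrArg Subtype.val e'⟩
  rw [Herm.card_isom (h5 h0), h4, guOrder, Nat.cast_mul, mul_comm, emult_odd (mt Int.natCast_dvd_natCast.1 ho.pow.pow.not_two_dvd_nat), Nat.cast_prod,
    Finset.emultiplicity_prod Int.prime_two, Finset.emultiplicity_prod Int.prime_two]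
  refine Finset.sum_congr rfl fun i _ => ?_
  split_ifs with hi
  · rw [hi.add_one.neg_pow, ← emultiplicity_neg]; congr 1; push_cast; ring
  · rw [(Nat.not_even_iff_odd.1 hi).add_one.neg_pow, Nat.cast_pred (pow_pos ho.pow.pos _), Nat.cast_pow]

end Cfsg.Lib.Conj.Wr2
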