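import Cfsg.Agent.Lib.Conj.Wr3
import Cfsg.Agent.Lib.Linear.PGL2Inv
import Cfsg.Agent.Lib.Linear.PSL2Sub
import Cfsg.Agent.Lib.PGrp.Cyclic
import Cfsg.Agent.Lib.Stein.SL
import Cfsg.Agent.Lib.BN.ZassCount
import Cfsg.Agent.Lib.Transfer.Apps

/-! Subgroups of odd index in linear groups of `2`-power dimension. -/

set_option autoImplicit false

namespace Cfsg.Lib.Conj.Wr2

open Module Subgroup Cfsg.Lib.Hall Cfsg.Lib.Transfer Cfsg.Lib.Stein Cfsg.Lib.Forms Cfsg.Lib.Linear Cfsg.Lib.Known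
open Matrix.ProjectiveSpecialLinearGroup (toPGL toPGL_injective)

theorem Rig.descend {F K W W' : Type*} [Field F] [Field K] [Algebra F K] [AddCommGroup W] [Module F W]
    [FiniteDimensional F W] [AddCommGroup W'] [Module F W'] [Module K W'] [IsScalarTower F K W'] {ι : W →ₗ[F] W'}
    (j : IsBaseChange K ι) {T : Subgroup (W' ≃ₗ[K] W')} (h : Rig T)
    (hT : ∀ t ∈ T, ∃ g : W ≃ₗ[F] W, ∀ w, t (ι w) = ι (g w)) :
    ∃ T' : Subgroup (W ≃ₗ[F] W), Rig T' ∧ Nat.card T' = Nat.card T := by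
  have ext : ∀ {a b : W' →ₗ[K] W'}, (∀ w, a (ι w) = b (ι w)) → ∀ v, a v = b v := fun h =>
    LinearMap.congr_fun (j.algHom_ext _ _ h)
  let ψ : (W ≃ₗ[F] W) →* (W' ≃ₗ[K] W') := MonoidHom.mk' (fun g => .ofLinearMap (j.endHom g) (j.endHom g.symm)
    (j.algHom_ext _ _ (by simp [j.endHom_comp_apply])) (j.algHom_ext _ _ (by simp [j.endHom_comp_apply])))
    fun a b => LinearEquiv.ext (ext (by simp [j.endHom_comp_apply]))
  have h1 : ∀ g w, ψ g (ι w) = ι (g w) := fun g w => j.endHom_comp_apply g.toLinearMap w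
  have h2 : ∀ g, LinearEquiv.det (ψ g) = 1 ↔ LinearEquiv.det g = 1 := fun g => by
    rw [Units.ext_iff, Units.ext_iff, LinearEquiv.coe_det, LinearEquiv.coe_det]
    exact (congrArg (· = _) (j.det_endHom K W g.toLinearMap)).to_iff.trans (map_eq_one_iff _ (algebraMap F K).injective)
  let b := finBasis F W
  have h3 : Function.Injective ι := fun v w e => b.ext_elem fun i => (algebraMap F K).injective (by
    rw [← j.basis_repr_comp_apply, e, j.basis_repr_comp_apply])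
  have h4 : Function.Injective ψ := fun a b e => LinearEquiv.ext fun w => h3 (by rw [← h1, e, h1])
  have h5 : ∀ {a b : W ≃ₗ[F] W} {c : F}, (∀ w, a w = c • b w) → ∀ w, ψ a w = algebraMap F K c • ψ b w := fun {a b c} h =>
    ext (a := ψ a) (b := algebraMap F K c • (ψ b).toLinearMap) (by simp [h1, h])
  have h6 : ∀ g, Scal (F := K) (ψ g) → Scal (F := F) g := fun g ⟨c, hc⟩ => by
    obtain h | ⟨⟨i⟩⟩ := isEmpty_or_nonempty (Fin (finrank F W))
    · exact ⟨1, fun v => b.ext_elem h.elim⟩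
    have := congrArg ((j.basis b).repr · i) (hc (ι (b i)))
    simp only [h1, map_smul, Finsupp.smul_apply, j.basis_repr_comp_apply, b.repr_self, Finsupp.single_eq_same, map_one,
      smul_eq_mul, mul_one] at this
    exact ⟨b.repr (g (b i)) i, fun v => h3 (by rw [← h1, hc, ← this, algebraMap_smul, map_smul])⟩
  have h7 : ∀ t ∈ T, ∃ g, ψ g = t := fun t ht => (hT t ht).imp fun g hg =>
    LinearEquiv.ext (ext fun w => (h1 g w).trans (hg w).symm)
  refine ⟨T.comap ψ, ⟨h.pg.comap_of_injective ψ h4, ?_, ?_, fun x hx => h6 x (h.cen _ fun t ht hd => ?_),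
    fun g ho hg => h6 g (h.rig _ (by rwa [orderOf_injective ψ h4]) fun t ht => ?_)⟩, ?_⟩
  · exact mem_comap.2 (by convert h.neg using 1; exact LinearEquiv.ext (ext (by simp [h1])))
  · obtain ⟨t, ht, hd, hs⟩ := h.nsc
    obtain ⟨g, rfl⟩ := h7 t ht
    exact ⟨g, ht, (h2 g).1 hd, fun ⟨c, hc⟩ => hs ⟨algebraMap F K c, fun v => (h5 (b := 1) hc v).trans (by rw [map_one]; rfl)⟩⟩
  · obtain ⟨g, rfl⟩ := h7 t ht
    simpa using h5 (a := x * g) (b := g * x) (c := 1) (by simpa using hx g ht ((h2 g).1 hd))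
  · obtain ⟨t, rfl⟩ := h7 t ht
    obtain ⟨c, t', k1, k2⟩ := hg t ht
    exact ⟨algebraMap F K c, ψ t', k1, by simpa using h5 (a := g * t) (b := t' * g) k2⟩
  · rw [← card_map_of_injective h4, map_comap_eq_self h7]

theorem yp_of_tor {G : Type*} [Group G] [Finite G] (he : 2 ∣ Nat.card G) (T : G → Subgroup G) (t1 : ∀ z, z ∈ T z)
    (t2 : ∀ z, orderOf z = 2 → ∀ x, x * z = z * x → x ∉ T z → orderOf x = 2 ∧ ∀ y ∈ T z, x * y * x⁻¹ = y⁻¹)
    (t3 : ∀ z, orderOf z = 2 → ∀ y ∈ T z, y * y = 1 → y = 1 ∨ y = z)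
    (t4 : ∀ z, orderOf z = 2 → ∃ s, s * z = z * s ∧ s ∉ T z)
    (t5 : ∀ z x y, x * z = z * x → x ∉ T z → y * z = z * y → y ∉ T z → x * y ∈ T z)
    (t6 : ∀ O : Subgroup G, ¬ 2 ∣ Nat.card O → ∀ {s t : G}, orderOf s = 2 → orderOf t = 2 → orderOf (s * t) = 2 →
      s ∈ normalizer (O : Set G) → t ∈ normalizer (O : Set G) → IsCyclic O) : Yp 2 G := by
  obtain ⟨S, hS⟩ := exists_sylowIn 2 (⊤ : Subgroup G)
  have h1 : ∀ x ∈ normalizer (S : Set G), x * x ∈ S → x ∈ S := fun x hx h => by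
    obtain ⟨k, hk⟩ := PE.of_mem hS.2 h
    exact hS.le_of_normalizes (PE.isPGroup ⟨k + 1, by rwa [pow_succ', pow_mul, sq]⟩) le_top (zpowers_le.2 hx) (mem_zpowers x)
  obtain ⟨z, hz, h3, h4⟩ := BN.exists_central_invol hS.2.isNilpotent (K := S) (even_iff_two_dvd.2 (by
    rw [← card_top, ← Transfer.card_mul_relIndex hS.1] at he
    exact (Nat.prime_two.dvd_mul.1 he).resolve_right hS.3))
  have sq1 : ∀ {x : G}, orderOf x = 2 → x * x = 1 := fun h => by rw [← sq, ← h, pow_orderOf_eq_one]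
  have h6 := t2 z h3
  have h7 := t3 z h3
  obtain ⟨s, hs, h8⟩ : ∃ s ∈ S, s ∉ T z := by
    obtain ⟨s, a, b⟩ := t4 z h3
    by_contra! H
    exact b (H s (h1 s (mem_normalizer_of_cj_le (cj_le_iff.2 fun y hy => by
      rw [(h6 s a b).2 y (H y hy)]; exact inv_mem hy)) (by rw [sq1 (h6 s a b).1]; exact one_mem _)))
  have h9 : ∀ g ∈ normalizer (S : Set G), g * z * g⁻¹ = z → g ∈ S := fun g hg e => h1 g hg (by
    by_cases h : g ∈ T z
    · have := mul_mem (conj_mem_of_mem_normalizer hg (inv_mem hs)) hs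
      rw [← (h6 s (h4 s hs) h8).2 g h] at this
      simpa [mul_assoc] using this
    · rw [sq1 (h6 g (mul_inv_eq_iff_eq_mul.1 e) h).1]; exact one_mem _)
  obtain ⟨S', e⟩ := hS.exists_sylow_top
  have hp : IsPronormal S := e ▸ isPronormal_sylow S'
  suffices H : ∀ K, S ≤ K → IsPronormal K by
    rintro K ⟨P, hP⟩
    obtain ⟨g, rfl⟩ := MulAction.exists_smul_eq G S' P
    rw [← cj_cj_inv g K]
    exact isPronormal_cj (H _ (cj_le_iff_le_cj_inv.1 (e ▸ coe_sylow_smul g S' ▸ hP))) g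
  refine fun K hK => isPronormal_of_normalizer hK hp fun g hg => ?_
  by_cases h10 : g ∈ K ⊔ cj g K
  · exact ⟨g, h10, rfl⟩
  have hL : S ≤ K ⊔ cj g K := hK.trans le_sup_left
  have h11 : ∀ k ∈ normalizer (S : Set G), k ∉ S → k * z * k⁻¹ ∈ S ∧ orderOf (k * z * k⁻¹) = 2 ∧ k * z * k⁻¹ ∉ T z :=
    fun k hk a => have b : orderOf (k * z * k⁻¹) = 2 := ((MulAut.conj k).orderOf_eq z).trans h3
    ⟨conj_mem_of_mem_normalizer hk hz, b, fun c => (h7 _ c (sq1 b)).elim (fun e => by simp [e] at b) (mt (h9 k hk) a)⟩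
  obtain ⟨a1, a2, a3⟩ := h11 g hg (mt (@hL g) h10)
  have h12 : ∀ x ∈ S, x ∈ T z → x * x = 1 := fun x a b => by
    rw [← eq_inv_iff_mul_eq_one, ← (h6 _ (h4 _ a1) a3).2 x b]
    simpa [mul_assoc] using congrArg (fun y => g * y * z⁻¹ * g⁻¹) (h4 _ (conj_mem_of_mem_normalizer (inv_mem hg) a))
  have h13 : ∀ x ∈ S, x * x = 1 := fun x a => (em _).elim (h12 x a) fun b => sq1 (h6 x (h4 x a) b).1
  have h14 : ∀ k ∈ normalizer (S : Set G), k ∈ K ⊔ cj g K → k ∉ S → g * z * g⁻¹ * (k * z * k⁻¹) = z := fun k a b c => by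
    obtain ⟨b1, b2, b3⟩ := h11 k a c
    refine (h7 _ (t5 z _ _ (h4 _ a1) a3 (h4 _ b1) b3) (h13 _ (mul_mem a1 b1))).resolve_left fun e =>
      h10 ((mul_mem_cancel_left (inv_mem b)).1 (hL (h9 _ (mul_mem (inv_mem a) hg) ?_)))
    simpa [mul_assoc] using congrArg (fun y => k⁻¹ * y * k) (mul_right_cancel (e.trans (sq1 b2).symm))
  have hc : IsMulCommutative S := ⟨⟨fun a b => Subtype.ext ((eq_inv_of_mul_eq_one_left (h13 _ (a * b).2)).trans (by
    rw [coe_mul, mul_inv_rev, inv_eq_of_mul_eq_one_left (h13 _ a.2), inv_eq_of_mul_eq_one_left (h13 _ b.2)]; rfl))⟩⟩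
  have hS' := hS.mono hL le_top
  have h16 : PNil 2 (K ⊔ cj g K) := hS'.pnil_iff.2 (by
    rw [hS'.inf_resOf_of_comm hc, eq_bot_iff, ← commutator_self_eq_bot hc]
    refine commutator_mono le_rfl fun k hk => by_contra fun a => a (h9 k hk.2 ?_)
    have := mul_left_cancel ((h14 k hk.2 hk.1 a).trans (h14 _ (mul_mem hk.2 hk.2) (mul_mem hk.1 hk.1)
      (mt (h1 k hk.2) a)).symm)
    simpa [mul_assoc] using congrArg (fun y => k⁻¹ * y * k) this.symm)
  have h17 := t6 _ h16 h3 a2 (orderOf_eq_prime (by rw [sq, h13 _ (mul_mem hz a1)]) fun e => a3 (by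
    rw [mul_left_cancel (e.trans (sq1 h3).symm)]; exact t1 z)) (le_normalizer_resOf _ (hL hz))
    (le_normalizer_resOf _ (hL a1))
  have h18 : cj g (resOf 2 K) = resOf 2 K := PGrp.eq_of_card_eq_of_isCyclic h17
    ((cj_resOf g K).trans_le (resOf_mono le_sup_right)) (resOf_mono le_sup_left) (card_cj _ _)
  exact ⟨1, one_mem _, by rw [cj_one, ← (hS.mono hK le_top).resOf_sup, cj_sup, cj_eq_of_mem_normalizer hg, h18]⟩

variable {F : Type} [Field F] [Finite F]

theorem base_lin (hq : Odd (Nat.card F)) : ∃ (W : Type) (_ : AddCommGroup W) (_ : Module F W), finrank F W = 2 ∧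
    ∃ T : Subgroup (W ≃ₗ[F] W), Rig T ∧ emultiplicity 2 (Nat.card T : ℤ) =
      emultiplicity 2 ((Nat.card F - 1) * (Nat.card F ^ 2 - 1) : ℤ) := by
  have h0 := Nat.card_pos (α := F)
  obtain h1 | h1 : (Nat.card F : ℤ) % 4 = 1 ∨ (Nat.card F : ℤ) % 4 = 3 := by have := Nat.odd_iff.1 hq; omega
  · obtain ⟨B, -, hB, h3⟩ := base1 (F := F) dvd_rfl h1 (by rw [Nat.card_units]; omega)
    exact ⟨F × F, _, _, by simp, _, h3⟩
  obtain ⟨B, h2, hB, h3, h4⟩ := base2 (F := K2 F) h1 (by simp [card_FExt])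
  let σ := frobHom F (K2 F)
  have hσ : ∀ x, σ (σ x) = x := by simp [σ, frobHom_apply, bar_bar]
  let ι : K2 F →ₗ[F] K2 F × K2 F := LinearMap.id.prod σ.toLinearMap
  obtain ⟨θ, hθ⟩ : ∃ θ, σ θ ≠ θ := (IsConj.mk (σ := σ.toRingHom) inferInstance (card_FExt F 2)
    frobHom_apply).exists_not_fixed
  have h5 : Function.Surjective (ι.liftBaseChange (K2 F)) := fun v => ⟨((v.1 - v.2) / (θ - σ θ)) ⊗ₜ θ +
    (v.1 - (v.1 - v.2) / (θ - σ θ) * θ) ⊗ₜ 1, by
      have := sub_ne_zero.2 hθ.symm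
      ext <;> simp [ι]
      field_simp; ring⟩
  obtain ⟨T, h6, h7⟩ := h3.descend (ι := ι) (.of_equiv (.ofBijective _ ⟨(LinearMap.injective_iff_surjective_of_finrank_eq_finrank
    (by simp [finrank_FExt])).2 h5, h5⟩) fun x =>
    (ι.liftBaseChange_tmul _ 1 x).trans (one_smul _ _)) (by
    rintro t ⟨_, ⟨a, ha, rfl⟩, h⟩
    obtain ⟨u, rfl⟩ := h2 ha
    obtain h | h := h
    · exact ⟨DistribMulAction.toModuleAut F _ u, by simp [h, ι, Units.smul_def, σ, frobHom_apply, mul_pow]⟩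
    · exact ⟨DistribMulAction.toModuleAut F _ u * .ofInvolutive σ.toLinearMap hσ, fun w => by
        rw [h]; exact Prod.ext rfl (by simp [ι, Units.smul_def, hσ, LinearEquiv.ofInvolutive]; simp [σ, frobHom_apply])⟩)
  exact ⟨K2 F, _, _, finrank_FExt F 2, T, h6, h7 ▸ h4⟩

theorem yp_SL (hq : Odd (Nat.card F)) (j : ℕ) : Yp 2 (Matrix.SpecialLinearGroup (Fin (2 ^ (j + 2))) F) := by
  obtain ⟨W, _, _, h0, T0, h2, h3⟩ := base_lin hq
  have := finite_of_finrank_eq_succ h0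
  have := nontrivial_of_finrank_eq_succ h0
  obtain ⟨V, _, _, _, _, D', T, h4, -, h6, -, h8, h9⟩ := tower (two_ne hq) (ofAlt (0 : LinearMap.BilinForm F W)
    fun _ => rfl) h2 (fun _ _ => alt_isIsometry fun _ _ => rfl) h0 (j + 1)
  have : Finite V := Module.finite_of_finite F
  have : Finite (V ≃ₗ[F] V) := DFunLike.finite _
  let b : Basis (Fin (2 ^ (j + 2))) F V := finBasisOfFinrankEq F V (by rw [h4, ← pow_succ'])
  let e := (Matrix.GeneralLinearGroup.toLin' b).trans (LinearMap.GeneralLinearGroup.generalLinearEquiv F V)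
  have he : ∀ g, LinearEquiv.det (e g) = Matrix.GeneralLinearGroup.det g := fun g =>
    Units.ext ((LinearEquiv.coe_det _).trans (LinearMap.det_toLin b g.1))
  refine yp_of_rig (e.toMonoidHom.comp Matrix.SpecialLinearGroup.toGL) (e.injective.comp
    Matrix.SpecialLinearGroup.toGL_injective) (G := ⊤) ?_ (sylowIn_of_card le_top h6.pg ((Int.odd_coe_nat _).2 hq)
      h8 h3 ?_) (h9 (by simp))
  · rw [MonoidHom.range_comp, range_toGL, top_inf_eq]
    exact (map_equiv_eq_comap_symm e _).trans (ext fun g => by simp [← he])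
  rw [card_top, ← Nat.card_congr e.toEquiv, card_GL', Nat.cast_mul, mul_comm,
    emult_odd (mt Int.natCast_dvd_natCast.1 hq.pow.not_two_dvd_nat), Nat.cast_prod, Fintype.card_fin, pow_succ']
  simp only [Nat.cast_pred (pow_pos hq.pos _), Nat.cast_pow]

theorem isCyclic_odd (hq : Odd (Nat.card F)) {O : Subgroup (PSL2 F)} (hO : ¬ 2 ∣ Nat.card O) {s t : PSL2 F}
    (hs : orderOf s = 2) (ht : orderOf t = 2) (hst : orderOf (s * t) = 2) (h1 : s ∈ normalizer (O : Set (PSL2 F)))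
    (h2 : t ∈ normalizer (O : Set (PSL2 F))) : IsCyclic O := by
  obtain ⟨p, _⟩ := CharP.exists F
  have : Fact p.Prime := ⟨CharP.char_is_prime F p⟩
  have h0 : ∀ {H : Type} [Group H], 2 ∣ Nat.card H → ¬ Nonempty (O ≃* H) := fun h ⟨e⟩ =>
    hO (Nat.card_congr e.toEquiv ▸ h)
  have a5 := h0 (H := alternatingGroup (Fin 5)) (by rw [nat_card_alternatingGroup]; simp [Nat.factorial])
  obtain ⟨k, -, h | h⟩ | ⟨P, h⟩ | ⟨-, h | h | h⟩ | h | ⟨R, h | h⟩ := dickson_psl2 p O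
  · exact h.1
  · exact (h0 (by simp [DihedralGroup.nat_card]) h).elim
  · obtain ⟨x, hx⟩ := exists_fix_of_le_normalizer P
    have : Finite (PGL2 F) := finite_PGL
    have h3 : O.map toPGL ≤ MulAction.stabilizer _ x := map_le_iff_le_comap.2 fun g hg => (hx g).1 (h hg)
    have h4 : ∀ s ∈ normalizer (O : Set (PSL2 F)), ∀ r ∈ O.map toPGL ⊓ unip x,
        toPGL s * r * (toPGL s)⁻¹ ∈ O.map toPGL ⊓ unip x := fun s hs r hr => by
      have := conj_mem_of_mem_normalizer (le_normalizer_map toPGL (mem_map_of_mem _ hs)) hr.1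
      exact ⟨this, mem_unip_of_pow_char_pow p (h3 this) (n := 1) (by
        rw [pow_one, conj_pow, pow_char_eq_one_of_mem_unip p hr.2, mul_one, mul_inv_cancel])⟩
    have := isCyclic_of_le_stabilizer h3 (eq_bot_of_klein_normalizes (two_ne hq) p ((isPGroup_unip p x).to_le inf_le_right)
      ((orderOf_injective _ toPGL_injective s).trans hs) ((orderOf_injective _ toPGL_injective t).trans ht)
      (map_mul toPGL s t ▸ (orderOf_injective _ toPGL_injective _).trans hst) (h4 s h1) (h4 t h2))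
    exact isCyclic_of_surjective _ (O.equivMapOfInjective _ toPGL_injective).symm.surjective
  · exact (h0 (by rw [nat_card_alternatingGroup]; simp [Nat.factorial]) h).elim
  · exact (h0 (by simp [Fintype.card_perm, Nat.factorial]) h).elim
  · exact (a5 h).elim
  · exact (a5 h.2).elim
  · exact (h0 (card_PGL_two (F := R) ▸ (Nat.two_dvd_mul_sub_one _).mul_right _) h).elim
  · refine (h0 ?_ h.2).elim
    have := card_PSL_two_of_odd h.1
    obtain ⟨m, hm⟩ := h.1
    rw [hm] at this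
    exact ⟨(2 * m + 1) * m * (m + 1), Nat.eq_of_mul_eq_mul_left two_pos (this.trans (by simp; ring))⟩

theorem yp_PSL2 (hq : Odd (Nat.card F)) : Yp 2 (PSL2 F) := by
  have h2 := two_ne hq
  have ho := orderOf_injective (toPGL (n := Fin 2) (R := F)) toPGL_injective
  have hc : ∀ {a b : PSL2 F}, Commute (toPGL a) (toPGL b) ↔ a * b = b * a := by
    simp [commute_iff_eq, ← map_mul, toPGL_injective.eq_iff]
  refine yp_of_tor ?_ (fun z => (tor (toPGL z)).comap toPGL) (fun z => self_mem_tor _) (fun z hz x a b =>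
    ⟨(ho x).symm.trans (orderOf_of_not_mem_tor h2 (hc.2 a) b), fun y c => toPGL_injective (by
      simpa using conj_eq_inv_of_not_mem_tor h2 ((ho z).trans hz) (hc.2 a) b c)⟩) (fun z hz y a b =>
    (eq_of_mem_tor h2 ((ho z).trans hz) a (by rw [← map_mul, b, map_one])).imp (fun e => toPGL_injective (by simpa))
      fun e => toPGL_injective e) (fun z hz => ?_) (fun z x y a b c d => ?_) fun O => isCyclic_odd hq
  · have := card_PSL_two_of_odd hq
    obtain ⟨m, hm⟩ := hq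
    rw [hm] at this
    exact ⟨(2 * m + 1) * m * (m + 1), Nat.eq_of_mul_eq_mul_left two_pos (this.trans (by simp; ring))⟩
  · obtain ⟨_, ⟨s, rfl⟩, a, b⟩ := exists_not_mem_tor_LL h2 ((ho z).trans hz)
    exact ⟨s, hc.1 a, b⟩
  · exact mem_comap.2 (map_mul toPGL x y ▸ mul_mem_tor (hc.2 a) b (hc.2 c) d)

end Cfsg.Lib.Conj.Wr2
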